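import Cfsg.Agent.Lib.Core.Basic
import Mathlib.GroupTheory.Sylow

/-!
Small general lemmas used by the signalizer and technique statements.
-/

set_option autoImplicit false

namespace Cfsg.Lib.Sig

open Subgroup

variable {G : Type*} [Group G]

theorem mem_map_conj_iff {H : Subgroup G} {g x : G} :
    x ∈ H.map (MulAut.conj g).toMonoidHom ↔ g⁻¹ * x * g ∈ H := by
  constructor
  · rintro ⟨y, hy, rfl⟩
    have : g⁻¹ * ((MulAut.conj g).toMonoidHom y) * g = y := by simp [mul_assoc]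
    rwa [this]
  · intro h
    exact ⟨_, h, by simp [mul_assoc]⟩

theorem conj_mem_map_conj {H : Subgroup G} {g x : G} (hx : x ∈ H) :
    g * x * g⁻¹ ∈ H.map (MulAut.conj g).toMonoidHom :=
  ⟨x, hx, by simp [mul_assoc]⟩

theorem map_conj_map_conj (H : Subgroup G) (a b : G) :
    (H.map (MulAut.conj a).toMonoidHom).map (MulAut.conj b).toMonoidHom =
      H.map (MulAut.conj (b * a)).toMonoidHom := by
  rw [Subgroup.map_map]; congr 1; ext; simp [mul_assoc]

theorem map_conj_one (H : Subgroup G) : H.map (MulAut.conj (1 : G)).toMonoidHom = H := by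
  ext x; simp [mem_map_conj_iff]

theorem map_conj_normalizer (H : Subgroup G) (g : G) :
    (normalizer (H : Set G)).map (MulAut.conj g).toMonoidHom =
      normalizer ((H.map (MulAut.conj g).toMonoidHom : Subgroup G) : Set G) :=
  map_equiv_normalizer_eq H (MulAut.conj g)

theorem mem_normalizer_of_map_conj {H : Subgroup G} {g : G}
    (h : H.map (MulAut.conj g).toMonoidHom = H) : g ∈ normalizer (H : Set G) := by
  refine mem_normalizer_iff.2 fun x => ?_
  conv_rhs => rw [← h, mem_map_conj_iff]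
  simp [mul_assoc]

theorem map_conj_eq_of_mem_normalizer {H : Subgroup G} {g : G}
    (h : g ∈ normalizer (H : Set G)) : H.map (MulAut.conj g).toMonoidHom = H := by
  ext x
  rw [mem_map_conj_iff]
  have := mem_normalizer_iff.1 h (g⁻¹ * x * g)
  simpa [mul_assoc] using this

theorem card_map_conj (H : Subgroup G) (g : G) :
    Nat.card ↥(H.map (MulAut.conj g).toMonoidHom) = Nat.card ↥H :=
  (Nat.card_congr (H.equivMapOfInjective _ (MulAut.conj g).injective).toEquiv).symm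

/-- Every p-subgroup is conjugate into a given Sylow p-subgroup. -/
theorem exists_conj_le_sylow [Finite G] {p : ℕ} [Fact p.Prime] (S : Sylow p G) {R : Subgroup G}
    (hR : IsPGroup p ↥R) : ∃ x : G, R.map (MulAut.conj x).toMonoidHom ≤ (S : Subgroup G) := by
  obtain ⟨T, hT⟩ := hR.exists_le_sylow
  obtain ⟨x, rfl⟩ := MulAction.exists_smul_eq G T S
  refine ⟨x, ?_⟩
  rintro _ ⟨y, hy, rfl⟩
  exact ⟨y, hT hy, rfl⟩

/-- Sylow's theorem relative to a subgroup `H`, in ambient form. -/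
theorem exists_conj_le_of_relIndex [Finite G] {p : ℕ} [Fact p.Prime] {H P R : Subgroup G}
    (hPH : P ≤ H) (hP : IsPGroup p ↥P) (hidx : ¬ p ∣ P.relIndex H) (hRH : R ≤ H)
    (hR : IsPGroup p ↥R) : ∃ c ∈ H, R.map (MulAut.conj c).toMonoidHom ≤ P := by
  have hP' : IsPGroup p ↥(P.subgroupOf H) := hP.of_equiv (subgroupOfEquivOfLe hPH).symm
  obtain ⟨c, hc⟩ := exists_conj_le_sylow (hP'.toSylow hidx)
    (hR.of_equiv (subgroupOfEquivOfLe hRH).symm : IsPGroup p ↥(R.subgroupOf H))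
  refine ⟨c, c.2, ?_⟩
  rintro _ ⟨y, hy, rfl⟩
  exact hc (mem_map_of_mem _ (mem_subgroupOf.2 hy : (⟨y, hRH hy⟩ : ↥H) ∈ R.subgroupOf H))

/-- An involution with no nontrivial fixed point on a subgroup it normalizes inverts that subgroup. -/
theorem conj_eq_inv_of_fixedPointFree [Finite G] {N : Subgroup G} {t : G} (ht : t * t = 1)
    (hn : ∀ n ∈ N, t * n * t⁻¹ ∈ N) (hfpf : N ⊓ centralizer ({t} : Set G) = ⊥) {m : G} (hm : m ∈ N) :
    t * m * t⁻¹ = m⁻¹ := by
  let f : ↥N → ↥N := fun n => ⟨(n : G)⁻¹ * (t * n * t⁻¹), mul_mem (inv_mem n.2) (hn n n.2)⟩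
  have hf : Function.Injective f := by
    intro a b h
    have h1 : (a : G)⁻¹ * (t * a * t⁻¹) = (b : G)⁻¹ * (t * b * t⁻¹) := congrArg Subtype.val h
    have h2 : t * ((b : G) * (a : G)⁻¹) * t⁻¹ = (b : G) * (a : G)⁻¹ := by
      calc t * ((b : G) * (a : G)⁻¹) * t⁻¹ = t * b * t⁻¹ * (t * a * t⁻¹)⁻¹ := by group
        _ = b * ((b : G)⁻¹ * (t * b * t⁻¹)) * ((a : G)⁻¹ * (t * a * t⁻¹))⁻¹ * (a : G)⁻¹ := by group
        _ = b * (a : G)⁻¹ := by rw [h1]; group
    have h3 : (b : G) * (a : G)⁻¹ ∈ N ⊓ centralizer ({t} : Set G) := by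
      refine ⟨N.mul_mem b.2 (N.inv_mem a.2), mem_centralizer_singleton_iff.2 ?_⟩
      calc ((b : G) * (a : G)⁻¹) * t = t * ((b : G) * (a : G)⁻¹) * t⁻¹ * t := by rw [h2]
        _ = t * ((b : G) * (a : G)⁻¹) := by group
    rw [hfpf, mem_bot, mul_inv_eq_one] at h3
    exact Subtype.ext h3.symm
  obtain ⟨n, hn'⟩ := (Finite.injective_iff_surjective.1 hf) ⟨m, hm⟩
  have h : (n : G)⁻¹ * (t * n * t⁻¹) = m := congrArg Subtype.val hn'
  have hti : t⁻¹ = t := inv_eq_of_mul_eq_one_right ht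
  rw [← h, hti]
  calc t * ((n : G)⁻¹ * (t * n * t)) * t = (t * (n : G)⁻¹ * t) * n * (t * t) := by group
    _ = (t * n * t⁻¹)⁻¹ * n := by rw [ht, hti, mul_one, mul_inv_rev, mul_inv_rev, hti, mul_assoc t _ t]
    _ = ((n : G)⁻¹ * (t * n * t))⁻¹ := by rw [hti]; group

end Cfsg.Lib.Sig
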