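import Cfsg.Prelude.Def_Local
import Cfsg.Agent.Lib.Core.PSolvable
import Cfsg.Agent.Lib.Coprime.PGroupAction
import Cfsg.Agent.Lib.Sig.Small

/-!
p-constrained groups: the quotient form, and the p'-cores of p-local subgroups.
-/

set_option autoImplicit false

namespace Cfsg.Lib.Sig

open Subgroup
open scoped commutatorElement

variable {G : Type*} [Group G] [Finite G] {p : ℕ} [hp : Fact p.Prime]

omit [Finite G] hp in
theorem disjoint_of_isPGroup_coprime {P N : Subgroup G} [Finite ↥P] [Fact p.Prime]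
    (hP : IsPGroup p ↥P) (hN : (Nat.card ↥N).Coprime p) : P ⊓ N = ⊥ := by
  obtain ⟨k, hk⟩ := IsPGroup.iff_card.mp hP
  refine inf_eq_bot_of_coprime ?_
  rw [hk]
  exact (hN.symm).pow_left k

theorem card_sup_coprime (N : Subgroup G) [N.Normal] (P : Subgroup G) (h : P ⊓ N = ⊥) :
    Nat.card ↥(P ⊔ N) = Nat.card ↥N * Nat.card ↥P := by
  rw [← Cfsg.Lib.Core.card_mul_relIndex (le_sup_right : N ≤ P ⊔ N)]
  congr 1
  rw [sup_comm, relIndex_sup_left, ← relIndex_bot_left, ← h, inf_comm, inf_relIndex_right]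

/-- Modulo a normal p'-subgroup the centralizer of a p-subgroup is the image of its centralizer. -/
theorem exists_mul_centralizer_pGroup (N : Subgroup G) [N.Normal] (hN : (Nat.card ↥N).Coprime p)
    {P : Subgroup G} (hP : IsPGroup p ↥P) {x : G} (hx : ∀ a ∈ P, x * a * x⁻¹ * a⁻¹ ∈ N) :
    ∃ n ∈ N, n * x ∈ centralizer (P : Set G) := by
  have hPH : P ≤ P ⊔ N := le_sup_left
  have hidx : ¬ p ∣ P.relIndex (P ⊔ N) := by
    have h := Cfsg.Lib.Core.card_mul_relIndex hPH
    rw [card_sup_coprime N P (disjoint_of_isPGroup_coprime hP hN), mul_comm (Nat.card ↥N)] at h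
    rw [Nat.eq_of_mul_eq_mul_left Nat.card_pos h]
    exact hp.out.coprime_iff_not_dvd.1 hN.symm
  have hR : P.map (MulAut.conj x).toMonoidHom ≤ P ⊔ N := by
    rintro _ ⟨a, ha, rfl⟩
    have e : (MulAut.conj x).toMonoidHom a = (x * a * x⁻¹ * a⁻¹) * a := by simp
    rw [e]
    exact mul_mem (mem_sup_right (hx a ha)) (mem_sup_left ha)
  obtain ⟨c, hc, hle⟩ := exists_conj_le_of_relIndex hPH hP hidx hR (hP.map _)
  rw [map_conj_map_conj] at hle
  have hcx := mem_normalizer_of_map_conj
    (eq_of_le_of_card_ge hle (le_of_eq (card_map_conj _ _).symm))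
  obtain ⟨b, hb, n, hn, rfl⟩ := mem_sup_of_normal_right.1 hc
  have hnx : n * x ∈ normalizer (P : Set G) := by
    have := mul_mem (le_normalizer (inv_mem hb)) hcx
    simpa [← mul_assoc] using this
  refine ⟨n, hn, mem_centralizer_iff.2 fun a ha => ?_⟩
  have h1 : (n * x) * a * (n * x)⁻¹ * a⁻¹ ∈ P :=
    mul_mem ((mem_normalizer_iff.1 hnx a).1 ha) (inv_mem ha)
  have h2 : (n * x) * a * (n * x)⁻¹ * a⁻¹ ∈ N := by
    have : (n * x) * a * (n * x)⁻¹ * a⁻¹ = n * (x * a * x⁻¹ * a⁻¹) * (a * n⁻¹ * a⁻¹) := by group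
    rw [this]
    exact mul_mem (mul_mem hn (hx a ha)) (Normal.conj_mem ‹_› _ (inv_mem hn) a)
  have h3 : (n * x) * a * (n * x)⁻¹ * a⁻¹ = 1 := by
    have := disjoint_of_isPGroup_coprime hP hN
    exact mem_bot.1 (this ▸ mem_inf.2 ⟨h1, h2⟩)
  calc a * (n * x) = ((n * x) * a * (n * x)⁻¹ * a⁻¹) * a * (n * x) := by rw [h3, one_mul]
    _ = n * x * a := by group

theorem centralizer_map_mk' (N : Subgroup G) [N.Normal] (hN : (Nat.card ↥N).Coprime p)
    {P : Subgroup G} (hP : IsPGroup p ↥P) :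
    centralizer ((P.map (QuotientGroup.mk' N) : Subgroup (G ⧸ N)) : Set (G ⧸ N)) =
      (centralizer (P : Set G)).map (QuotientGroup.mk' N) := by
  refine le_antisymm (fun y hy => ?_) (map_centralizer_le_centralizer_image _ _)
  obtain ⟨x, rfl⟩ := QuotientGroup.mk'_surjective N y
  obtain ⟨n, hn, hnx⟩ := exists_mul_centralizer_pGroup N hN hP (x := x) (fun a ha => by
    rw [← QuotientGroup.eq_one_iff, QuotientGroup.mk_mul, QuotientGroup.mk_mul, QuotientGroup.mk_mul,
      QuotientGroup.mk_inv, QuotientGroup.mk_inv]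
    have h := mem_centralizer_iff.1 hy _ (mem_map_of_mem _ ha)
    simp only [QuotientGroup.mk'_apply] at h
    rw [← h]; group)
  exact ⟨n * x, hnx, by simp [(QuotientGroup.eq_one_iff n).2 hn]⟩

/-- The quotient form of p-constraint. -/
theorem isPConstrained_iff : Cfsg.IsPConstrained p G ↔
    centralizer ((Cfsg.pCore p (G ⧸ Cfsg.pPrimeCore p G) : Subgroup (G ⧸ Cfsg.pPrimeCore p G)) :
        Set (G ⧸ Cfsg.pPrimeCore p G)) ≤ Cfsg.pCore p (G ⧸ Cfsg.pPrimeCore p G) := by
  set N := Cfsg.pPrimeCore p G with hNdef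
  set f := QuotientGroup.mk' N with hf
  set O := Cfsg.pCore p (G ⧸ N) with hO
  have hPC : Cfsg.pPrimePCore p G = O.comap f := rfl
  have hNcop := Cfsg.Lib.Core.pPrimeCore_coprime p G
  have himg : ∀ P : Sylow p ↥(Cfsg.pPrimePCore p G),
      ((P : Subgroup _).map (Cfsg.pPrimePCore p G).subtype).map f = O := by
    intro P
    let H := Cfsg.pPrimePCore p G
    let P' := (P : Subgroup ↥H).map H.subtype
    show P'.map f = O
    have hle : P'.map f ≤ O := by
      exact (map_mono (map_subtype_le _)).trans (map_comap_le f O)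
    refine eq_of_le_of_card_ge hle ?_
    obtain ⟨k, hk⟩ := IsPGroup.iff_card.mp (Cfsg.Lib.Core.pCore_isPGroup p (G ⧸ N))
    have hinf : P' ⊓ f.ker = ⊥ := by
      rw [hf, QuotientGroup.ker_mk']
      exact disjoint_of_isPGroup_coprime (P.2.map _) hNcop
    have hcardP : Nat.card ↥(P'.map f) = Nat.card ↥P' := by
      have h := Cfsg.Lib.Core.card_mul_relIndex (inf_le_left : P' ⊓ f.ker ≤ P')
      rw [hinf, card_bot, one_mul, ← hinf, inf_relIndex_left, relIndex_ker] at h
      exact h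
    rw [hcardP, card_map_of_injective H.subtype_injective, P.card_eq_multiplicity,
      show Nat.card ↥(Cfsg.pPrimePCore p G) = Nat.card ↥(O.comap f) from rfl,
      Cfsg.Lib.Core.card_comap_eq f (QuotientGroup.mk'_surjective N), hk, hf, QuotientGroup.ker_mk']
    rw [Nat.factorization_mul Nat.card_pos.ne' (pow_ne_zero _ hp.out.ne_zero)]
    simp [hp.out.factorization_self]
    exact Nat.pow_le_pow_right hp.out.pos (Nat.le_add_left k _)
  constructor
  · intro h
    obtain ⟨P⟩ : Nonempty (Sylow p ↥(Cfsg.pPrimePCore p G)) := inferInstance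
    rw [← himg P, centralizer_map_mk' N hNcop (P.2.map _)]
    refine (map_mono (h P)).trans ?_
    rw [himg P, hPC]
    exact map_comap_le f O
  · intro h P
    refine le_trans (map_le_iff_le_comap.1 ?_) (le_of_eq hPC.symm)
    refine le_trans (le_of_eq (centralizer_map_mk' N hNcop (P.2.map _)).symm) ?_
    rw [himg P]
    exact h

theorem isPConstrained_of_isPSolvable (h : Cfsg.IsPSolvable p G) : Cfsg.IsPConstrained p G :=
  isPConstrained_iff.2 (Cfsg.Lib.Core.centralizer_pCore_le_of_isPSolvable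
    (Cfsg.Lib.Core.isPSolvable_quotient h _) Cfsg.Lib.Core.pPrimeCore_quotient_eq_bot)

theorem eq_bot_of_centralizer_pCore_le
    (hC : centralizer (Cfsg.pCore p G : Set G) ≤ Cfsg.pCore p G)
    {P Q : Subgroup G} (hP : IsPGroup p ↥P) (hQ : (Nat.card ↥Q).Coprime p)
    (hQP : Q ≤ centralizer (P : Set G))
    (hn : Cfsg.pCore p G ⊓ centralizer (P : Set G) ≤ normalizer (Q : Set G)) : Q = ⊥ := by
  have hRn : ∀ (H : Subgroup G), H ≤ normalizer (Cfsg.pCore p G : Set G) := fun H => by
    rw [normalizer_eq_top_iff.2 inferInstance]; exact le_top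
  have hR := Cfsg.Lib.Core.pCore_isPGroup p G
  have hbot : ∀ K : Subgroup G, IsPGroup p ↥K → K ⊓ Q = ⊥ := fun K hK =>
    disjoint_of_isPGroup_coprime hK hQ
  have h := Cfsg.Lib.Coprime.commutator_eq_bot_of_AxB (Cfsg.pCore p G) P Q hR hP hQ (hRn P) (hRn Q) hQP ?_
  · have hQC : Q ≤ centralizer (Cfsg.pCore p G : Set G) :=
      commutator_eq_bot_iff_le_centralizer.1 ((commutator_comm _ _).trans h)
    rw [← hbot _ hR, inf_eq_right.2 (hQC.trans hC)]
  · intro v hv
    refine mem_centralizer_iff.2 fun q hq => ?_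
    have h1 : q * v * q⁻¹ * v⁻¹ ∈ Cfsg.pCore p G :=
      mul_mem (Normal.conj_mem inferInstance v hv.1 q) (inv_mem hv.1)
    have h2 : q * v * q⁻¹ * v⁻¹ ∈ Q := by
      have : q * v * q⁻¹ * v⁻¹ = q * (v * q⁻¹ * v⁻¹) := by group
      rw [this]
      exact mul_mem hq ((mem_normalizer_iff.1 (hn hv) _).1 (inv_mem hq))
    have h3 : q * v * q⁻¹ * v⁻¹ = 1 := mem_bot.1 (hbot _ hR ▸ mem_inf.2 ⟨h1, h2⟩)
    calc q * v = (q * v * q⁻¹ * v⁻¹) * v * q := by group
      _ = v * q := by rw [h3, one_mul]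

/-- A p'-subgroup centralizing a p-subgroup `P` and normalized by `C(P)` lies in the p'-core of a
p-constrained group. -/
theorem le_pPrimeCore_of_centralizes (hG : Cfsg.IsPConstrained p G) {P Q : Subgroup G}
    (hP : IsPGroup p ↥P) (hQ : (Nat.card ↥Q).Coprime p) (hQP : Q ≤ centralizer (P : Set G))
    (hn : centralizer (P : Set G) ≤ normalizer (Q : Set G)) : Q ≤ Cfsg.pPrimeCore p G := by
  set N := Cfsg.pPrimeCore p G with hN
  set f := QuotientGroup.mk' N with hf
  have hNcop := Cfsg.Lib.Core.pPrimeCore_coprime p G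
  have h := eq_bot_of_centralizer_pCore_le (isPConstrained_iff.1 hG) (hP.map f)
    (Nat.Coprime.coprime_dvd_left (card_map_dvd Q f) hQ) ((map_mono hQP).trans (map_centralizer_le_centralizer_image _ _))
    (inf_le_right.trans (by
      rw [hf, centralizer_map_mk' N hNcop hP]
      exact (map_mono hn).trans (le_normalizer_map _)))
  rwa [Subgroup.map_eq_bot_iff, hf, QuotientGroup.ker_mk'] at h

/-- Balance of p'-cores of centralizers in the presence of p-constraint. -/
theorem centralizerPPrimeCore_inf_le {a b : G} (ha : IsPGroup p ↥(zpowers a)) (hab : a * b = b * a)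
    (hC : Cfsg.IsPConstrained p ↥(centralizer ({b} : Set G))) :
    Cfsg.centralizerPPrimeCore p a ⊓ centralizer {b} ≤ Cfsg.centralizerPPrimeCore p b := by
  set Y := centralizer ({b} : Set G) with hY
  set X := centralizer ({a} : Set G) with hX
  set Q := Cfsg.centralizerPPrimeCore p a ⊓ Y with hQ
  have haY : zpowers a ≤ Y := zpowers_le.2 (mem_centralizer_singleton_iff.2 hab)
  have hcop : (Nat.card ↥Q).Coprime p :=
    Nat.Coprime.coprime_dvd_left ((card_dvd_of_le inf_le_left).trans (card_map_dvd _ _))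
      (Cfsg.Lib.Core.pPrimeCore_coprime p ↥X)
  have h := le_pPrimeCore_of_centralizes hC (P := (zpowers a).subgroupOf Y) (Q := Q.subgroupOf Y)
    (ha.of_equiv (subgroupOfEquivOfLe haY).symm)
    (by rwa [Nat.card_congr (subgroupOfEquivOfLe (inf_le_right : Q ≤ Y)).toEquiv]) ?_ ?_
  · have h2 := map_mono (f := Y.subtype) h
    rwa [map_subgroupOf_eq_of_le (inf_le_right : Q ≤ Y)] at h2
  · intro y hy
    refine mem_centralizer_iff.2 fun z hz => Subtype.ext ?_
    have h1 : (y : G) ∈ X := map_subtype_le _ (mem_subgroupOf.1 hy).1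
    obtain ⟨k, hk⟩ := mem_zpowers_iff.1 (mem_subgroupOf.1 hz)
    show (z : G) * y = y * z
    rw [← hk]
    exact (Commute.zpow_left (mem_centralizer_singleton_iff.1 h1).symm k).eq
  · intro y hy
    have hyX : (y : G) ∈ X := mem_centralizer_singleton_iff.2
      (congrArg Subtype.val (mem_centralizer_iff.1 hy ⟨a, haY (mem_zpowers a)⟩
        (mem_subgroupOf.2 (mem_zpowers a)))).symm
    have hn1 : (y : G) ∈ normalizer (Cfsg.centralizerPPrimeCore p a : Set G) := by
      have h0 : (⟨(y : G), hyX⟩ : ↥X) ∈ normalizer (Cfsg.pPrimeCore p ↥X : Set ↥X) := by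
        rw [normalizer_eq_top_iff.2 inferInstance]; trivial
      exact le_normalizer_map X.subtype (mem_map_of_mem X.subtype h0)
    refine mem_normalizer_iff.2 fun q => ?_
    simp only [mem_subgroupOf, hQ, mem_inf, q.2, (y * q * y⁻¹).2, and_true]
    exact mem_normalizer_iff.1 hn1 (q : G)

end Cfsg.Lib.Sig
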