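import Cfsg.Agent.Lib.Sig.CentralPair
import Cfsg.Agent.Lib.Sig.PConstrained
import Cfsg.Agent.Lib.Core.Cores
import Mathlib.GroupTheory.SchurZassenhaus
import Mathlib.GroupTheory.Transfer

/-!
Control of strong fusion and of transfer by sets of isomorphism-invariant p-group functors, deduced
from control in the sections `H` with `C_H(O_p(H)) ≤ O_p(H)`.
-/

set_option autoImplicit false
set_option linter.style.haveILetI false

namespace Cfsg.Lib.Sig

open Subgroup

universe u

variable {p : ℕ} (𝓦 : Set (∀ (Q : Type u) [Group Q], Subgroup Q))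

/-- The conjugacy functors induced on `X` by the functors in `𝓦`. -/
def inducedFamily (X : Type u) [Group X] : Set (Subgroup X → Subgroup X) :=
  (fun W => Cfsg.inducedFunctor (G := X) W) '' 𝓦

theorem inducedFunctor_map {X Y : Type u} [Group X] [Group Y] [Finite X]
    {W : ∀ (Q : Type u) [Group Q], Subgroup Q} (hW : Cfsg.IsCharPFunctor.{u} p W) (φ : X →* Y)
    {P : Subgroup X} (hP : IsPGroup p ↥P) (hinj : P ⊓ φ.ker = ⊥) :
    Cfsg.inducedFunctor W (P.map φ) = (Cfsg.inducedFunctor W P).map φ := by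
  let e : ↥P →* ↥(P.map φ) := (φ.comp P.subtype).codRestrict _ fun x => mem_map_of_mem φ x.2
  have he : Function.Bijective e := by
    refine ⟨(injective_iff_map_eq_one e).2 fun x hx => ?_, ?_⟩
    · have : (x : X) ∈ P ⊓ φ.ker := ⟨x.2, MonoidHom.mem_ker.2 (congrArg Subtype.val hx)⟩
      rw [hinj, mem_bot] at this
      exact Subtype.ext this
    · rintro ⟨y, x, hx, rfl⟩
      exact ⟨⟨x, hx⟩, rfl⟩
  have h := hW.2 ↥P ↥(P.map φ) hP (MulEquiv.ofBijective e he)
  unfold Cfsg.inducedFunctor
  rw [← h, map_map, map_map]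
  rfl

theorem isConjugacyFunctor_inducedFamily (h𝓦 : ∀ W ∈ 𝓦, Cfsg.IsCharPFunctor.{u} p W) (X : Type u)
    [Group X] [Finite X] : ∀ W ∈ inducedFamily 𝓦 X, Cfsg.IsConjugacyFunctor p W := by
  rintro _ ⟨W, hW, rfl⟩ P hP
  refine ⟨map_subtype_le _, fun hne h => ?_, fun g => ?_⟩
  · have : Nontrivial ↥P := (nontrivial_iff_ne_bot P).2 hne
    exact (h𝓦 W hW).1 ↥P hP this
      ((map_eq_bot_iff_of_injective _ P.subtype_injective).1 h)
  · refine inducedFunctor_map (h𝓦 W hW) _ hP ?_
    rw [(MonoidHom.ker_eq_bot_iff _).2 (MulAut.conj g).injective, inf_bot_eq]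

/-! ### General helpers -/

variable {X : Type u} [Group X] [Finite X] [Fact p.Prime]

/-- A Sylow subgroup of `H` meets a normal subgroup of `H` in a Sylow subgroup of it. -/
theorem not_dvd_relIndex_inf {S H N : Subgroup X} (hSH : S ≤ H) (hS : IsPGroup p ↥S)
    (hidx : ¬ p ∣ S.relIndex H) (hNH : N ≤ H) (hn : ∀ h ∈ H, ∀ n ∈ N, h * n * h⁻¹ ∈ N) :
    ¬ p ∣ (S ⊓ N).relIndex N := by
  obtain ⟨R, hR⟩ := ((hS.to_le inf_le_left : IsPGroup p ↥(S ⊓ N)).of_equiv
    (subgroupOfEquivOfLe (inf_le_right : S ⊓ N ≤ N)).symm).exists_le_sylow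
  have hle : S ⊓ N ≤ (R : Subgroup ↥N).map N.subtype := fun z hz =>
    ⟨⟨z, hz.2⟩, hR (mem_subgroupOf.2 hz), rfl⟩
  obtain ⟨k, hk, hkle⟩ := exists_conj_le_of_relIndex hSH hS hidx
    ((map_subtype_le (R : Subgroup ↥N)).trans hNH) (R.2.map _)
  have heq : (R : Subgroup ↥N).map N.subtype = S ⊓ N := by
    refine (eq_of_le_of_card_ge hle ?_).symm
    rw [← card_map_conj _ k]
    refine card_le_of_le (le_inf hkle ?_)
    rintro _ ⟨r, hr, rfl⟩
    exact hn k hk r (map_subtype_le _ hr)
  rw [← heq, relIndex, subgroupOf, comap_map_eq_self_of_injective (subtype_injective _)]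
  exact R.not_dvd_index

theorem relIndex_map_dvd_of_le {Y : Type*} [Group Y] (f : X →* Y) {A N : Subgroup X} (hAN : A ≤ N) :
    (A.map f).relIndex (N.map f) ∣ A.relIndex N := by
  have e : (A.subgroupOf N).map (f.subgroupMap N) = (A.map f).subgroupOf (N.map f) := by
    ext ⟨z, hz⟩
    constructor
    · rintro ⟨⟨a, ha⟩, ha', h⟩
      exact ⟨a, ha', congrArg Subtype.val h⟩
    · rintro ⟨a, ha, h⟩
      exact ⟨⟨a, hAN ha⟩, ha, Subtype.ext h⟩
  rw [relIndex, relIndex, ← e]
  exact index_map_dvd _ (MonoidHom.subgroupMap_surjective f N)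

/-- The image of a Sylow intersection is the intersection of the image. -/
theorem map_inf_map_le {Y : Type*} [Group Y] (f : X →* Y) {S H N : Subgroup X} (hSH : S ≤ H)
    (hS : IsPGroup p ↥S) (hidx : ¬ p ∣ S.relIndex H) (hNH : N ≤ H)
    (hn : ∀ h ∈ H, ∀ n ∈ N, h * n * h⁻¹ ∈ N) :
    S.map f ⊓ N.map f ≤ (S ⊓ N).map f := by
  have h1 := not_dvd_relIndex_inf hSH hS hidx hNH hn
  have h2 : ¬ p ∣ ((S ⊓ N).map f).relIndex (N.map f) := fun h =>
    h1 (h.trans (relIndex_map_dvd_of_le f inf_le_right))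
  have hle : (S ⊓ N).map f ≤ S.map f ⊓ N.map f := map_inf_le S N f
  have h3 : IsPGroup p ↥(S.map f ⊓ N.map f) := (hS.map f).to_le inf_le_left
  haveI : Finite ↥(N.map f) := Finite.of_surjective (fun x : ↥N => (⟨f x, mem_map_of_mem f x.2⟩ : ↥(N.map f)))
    (by rintro ⟨y, x, hx, rfl⟩; exact ⟨⟨x, hx⟩, rfl⟩)
  haveI : Finite ↥(S.map f ⊓ N.map f) :=
    Finite.of_injective (inclusion inf_le_right) (inclusion_injective _)
  haveI : Finite ↥(((S ⊓ N).map f).subgroupOf (S.map f ⊓ N.map f)) := Subtype.finite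
  obtain ⟨k, hk⟩ := IsPGroup.iff_card.mp h3
  have h4 : ((S ⊓ N).map f).relIndex (S.map f ⊓ N.map f) ∣ p ^ k := hk ▸ index_dvd_card _
  obtain ⟨j, _, hj⟩ := (Nat.dvd_prime_pow (Fact.out : p.Prime)).1 h4
  rcases Nat.eq_zero_or_pos j with rfl | hjpos
  · exact relIndex_eq_one.1 (by rw [hj, pow_zero])
  · refine absurd ?_ h2
    rw [← relIndex_mul_relIndex _ _ _ hle inf_le_right, hj]
    exact (dvd_pow_self p hjpos.ne').mul_right _

theorem mem_normalizer_map_subgroup {Y : Type*} [Group Y] (f : X →* Y) {H : Subgroup X} {x : X}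
    (hx : x ∈ normalizer (H : Set X)) : f x ∈ normalizer ((H.map f : Subgroup Y) : Set Y) :=
  le_normalizer_map f (mem_map_of_mem f hx)

/-- Modulo a normal p'-subgroup, normalizers of p-subgroups are images of normalizers. -/
theorem exists_mul_mem_normalizer (M : Subgroup X) [M.Normal] (hM : (Nat.card ↥M).Coprime p)
    {P : Subgroup X} (hP : IsPGroup p ↥P) {x : X}
    (hx : QuotientGroup.mk' M x ∈ normalizer ((P.map (QuotientGroup.mk' M) : Subgroup (X ⧸ M)) : Set (X ⧸ M))) :
    ∃ m ∈ M, m * x ∈ normalizer (P : Set X) := by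
  have hidx : ¬ p ∣ P.relIndex (P ⊔ M) := by
    have h := Cfsg.Lib.Core.card_mul_relIndex (le_sup_left : P ≤ P ⊔ M)
    rw [card_sup_coprime M P (disjoint_of_isPGroup_coprime hP hM), mul_comm (Nat.card ↥M)] at h
    rw [Nat.eq_of_mul_eq_mul_left Nat.card_pos h]
    exact (Fact.out : p.Prime).coprime_iff_not_dvd.1 hM.symm
  have hR : P.map (MulAut.conj x).toMonoidHom ≤ P ⊔ M := by
    rintro _ ⟨a, ha, rfl⟩
    have h1 := (mem_normalizer_iff.1 hx _).1 (mem_map_of_mem (QuotientGroup.mk' M) ha)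
    obtain ⟨b, hb, hb'⟩ := h1
    have h2 : b⁻¹ * (x * a * x⁻¹) ∈ M := by
      rw [← QuotientGroup.eq]
      simpa using hb'
    have : (MulAut.conj x).toMonoidHom a = b * (b⁻¹ * (x * a * x⁻¹)) := by simp
    rw [this]
    exact mul_mem (mem_sup_left hb) (mem_sup_right h2)
  obtain ⟨c, hc, hle⟩ := exists_conj_le_of_relIndex le_sup_left hP hidx hR (hP.map _)
  rw [map_conj_map_conj] at hle
  have hcx := mem_normalizer_of_map_conj
    (eq_of_le_of_card_ge hle (le_of_eq (card_map_conj _ _).symm))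
  obtain ⟨b, hb, n, hn, rfl⟩ := mem_sup_of_normal_right.1 hc
  refine ⟨n, hn, ?_⟩
  have := mul_mem (le_normalizer (inv_mem hb)) hcx
  simpa [← mul_assoc] using this

theorem conj_cancel {Y : Type*} [Group Y] (a b z : Y) :
    a * b⁻¹ * (b * z * b⁻¹) * (a * b⁻¹)⁻¹ = a * z * a⁻¹ := by group

/-! ### Sections -/

/-- Every section of `X` with `C(O_p) ≤ O_p` satisfies `Ctl`. -/
def SectionHyp (p : ℕ) (Ctl : ∀ (Y : Type u) [Group Y], Prop) (X : Type u) [Group X] : Prop :=
  ∀ (Y : Type u) [Group Y] [Finite Y] (L : Subgroup X) (f : ↥L →* Y), Function.Surjective f →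
    centralizer (Cfsg.pCore p Y : Set Y) ≤ Cfsg.pCore p Y → Ctl Y

theorem sectionHyp_of_sections {Ctl : ∀ (Y : Type u) [Group Y], Prop}
    (htrans : ∀ (Y Z : Type u) [Group Y] [Group Z] [Finite Y] [Finite Z], (Y ≃* Z) → Ctl Y → Ctl Z)
    (hloc : ∀ (K R : Subgroup X) [(R.subgroupOf K).Normal],
      centralizer (Cfsg.pCore p (↥K ⧸ R.subgroupOf K) : Set (↥K ⧸ R.subgroupOf K)) ≤
        Cfsg.pCore p (↥K ⧸ R.subgroupOf K) → Ctl (↥K ⧸ R.subgroupOf K)) :
    SectionHyp p Ctl X := by
  intro Y _ _ L f hf hY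
  set R := f.ker.map L.subtype with hR
  have hRL : R.subgroupOf L = f.ker := comap_map_eq_self_of_injective L.subtype_injective _
  haveI : (R.subgroupOf L).Normal := hRL ▸ inferInstance
  let e : (↥L ⧸ R.subgroupOf L) ≃* Y :=
    (QuotientGroup.quotientMulEquivOfEq hRL).trans (QuotientGroup.quotientKerEquivOfSurjective f hf)
  refine htrans _ _ e (hloc L R ?_)
  intro z hz
  have h1 : e z ∈ centralizer (Cfsg.pCore p Y : Set Y) := by
    refine mem_centralizer_iff.2 fun w hw => ?_
    rw [← Cfsg.Lib.Core.map_pCore_equiv (p := p) e] at hw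
    obtain ⟨v, hv, rfl⟩ := hw
    show e v * e z = e z * e v
    rw [← map_mul, mem_centralizer_iff.1 hz v hv, map_mul]
  have h2 := hY h1
  rw [← Cfsg.Lib.Core.map_pCore_equiv (p := p) e] at h2
  exact (mem_map_iff_mem e.injective).1 h2

omit [Finite X] [Fact p.Prime] in
theorem SectionHyp.subgroup {Ctl : ∀ (Y : Type u) [Group Y], Prop} (h : SectionHyp p Ctl X)
    (H : Subgroup X) : SectionHyp p Ctl ↥H := fun Y _ _ L f hf hY =>
  h Y (L.map H.subtype) (f.comp (L.equivMapOfInjective H.subtype H.subtype_injective).symm.toMonoidHom)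
    (hf.comp (MulEquiv.surjective _)) hY

omit [Finite X] [Fact p.Prime] in
theorem SectionHyp.quotient {Ctl : ∀ (Y : Type u) [Group Y], Prop} (h : SectionHyp p Ctl X)
    (N : Subgroup X) [N.Normal] : SectionHyp p Ctl (X ⧸ N) := fun Y _ _ L f hf hY => by
  let g : ↥(L.comap (QuotientGroup.mk' N)) →* ↥L :=
    ((QuotientGroup.mk' N).comp (L.comap (QuotientGroup.mk' N)).subtype).codRestrict L fun x => x.2
  have hg : Function.Surjective g := by
    rintro ⟨y, hy⟩
    obtain ⟨x, rfl⟩ := QuotientGroup.mk'_surjective N y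
    exact ⟨⟨x, hy⟩, rfl⟩
  exact h Y _ (f.comp g) (hf.comp hg) hY

omit [Finite X] [Fact p.Prime] in
theorem SectionHyp.self {Ctl : ∀ (Y : Type u) [Group Y], Prop} [Finite X] (h : SectionHyp p Ctl X)
    (hX : centralizer (Cfsg.pCore p X : Set X) ≤ Cfsg.pCore p X) : Ctl X :=
  h X ⊤ topEquiv.toMonoidHom (MulEquiv.surjective _) hX

/-! ### The case analysis -/

/-- If `C(O_p) ≰ O_p` and `O_{p'} = 1`, a Sylow p-subgroup of `C(O_p)` is not contained in `O_p`. -/
theorem sylow_centralizer_pCore_not_le (hM : Cfsg.pPrimeCore p X = ⊥) (S : Sylow p X)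
    (hC : ¬ centralizer (Cfsg.pCore p X : Set X) ≤ Cfsg.pCore p X) :
    ¬ (S : Subgroup X) ⊓ centralizer (Cfsg.pCore p X : Set X) ≤ Cfsg.pCore p X := by
  intro hD
  set Q := Cfsg.pCore p X with hQ
  set C := centralizer (Q : Set X) with hCdef
  set D := (S : Subgroup X) ⊓ C with hDdef
  have hidx : ¬ p ∣ D.relIndex C :=
    not_dvd_relIndex_inf (le_top (a := (S : Subgroup X))) S.2 (by simpa using S.not_dvd_index)
      le_top fun h _ n hn => Subgroup.Normal.conj_mem inferInstance n hn h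
  have hDc : ∀ d ∈ D, ∀ c ∈ C, c * d = d * c := fun d hd c hc =>
    (mem_centralizer_iff.1 hc d (hD hd)).symm
  haveI hDn : (D.subgroupOf C).Normal := ⟨fun d hd c => by
    rw [mem_subgroupOf] at hd ⊢
    show (c : X) * (d : X) * (c : X)⁻¹ ∈ D
    rw [hDc _ hd _ c.2, mul_inv_cancel_right]
    exact hd⟩
  have hcop : (Nat.card ↥(D.subgroupOf C)).Coprime (D.subgroupOf C).index := by
    obtain ⟨k, hk⟩ := IsPGroup.iff_card.mp ((S.2.to_le inf_le_left : IsPGroup p ↥D).of_equiv
      (subgroupOfEquivOfLe (inf_le_right : D ≤ C)).symm)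
    rw [hk]
    exact ((Fact.out : p.Prime).coprime_iff_not_dvd.2 hidx).pow_left k
  obtain ⟨H, hH⟩ := exists_right_complement'_of_coprime hcop
  have hHn : H.Normal := ⟨fun h hh c => by
    have hc : c ∈ D.subgroupOf C ⊔ H := hH.sup_eq_top ▸ mem_top c
    obtain ⟨d, hd, k, hk, rfl⟩ := mem_sup_of_normal_left.1 hc
    have : d * k * h * (d * k)⁻¹ = k * h * k⁻¹ := by
      have h1 : d * (k * h * k⁻¹) = k * h * k⁻¹ * d :=
        Subtype.ext (hDc _ hd _ (k * h * k⁻¹ : ↥C).2).symm
      calc d * k * h * (d * k)⁻¹ = d * (k * h * k⁻¹) * d⁻¹ := by group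
        _ = k * h * k⁻¹ := by rw [h1, mul_inv_cancel_right]
    rw [this]
    exact mul_mem (mul_mem hk hh) (inv_mem hk)⟩
  have hHcop : (Nat.card ↥H).Coprime p := by
    rw [← hH.symm.index_eq_card]
    exact Nat.Coprime.symm ((Fact.out : p.Prime).coprime_iff_not_dvd.2 hidx)
  have hHbot : H = ⊥ := by
    have h1 : H ≤ Cfsg.pPrimeCore p ↥C := Cfsg.Lib.Core.le_pPrimeCore' hHn hHcop
    have h2 := map_mono (f := C.subtype) h1
    rw [← le_bot_iff, ← map_le_map_iff_of_injective C.subtype_injective, Subgroup.map_bot]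
    refine h2.trans (le_of_le_of_eq ?_ hM)
    haveI : ((Cfsg.pPrimeCore p ↥C).map C.subtype).Normal :=
      ConjAct.normal_of_characteristic_of_normal
    exact Cfsg.Lib.Core.le_pPrimeCore' inferInstance
      (Nat.Coprime.coprime_dvd_left (card_map_dvd _ _) (Cfsg.Lib.Core.pPrimeCore_coprime p _))
  have hCD : C ≤ D := by
    have := hH.sup_eq_top
    rw [hHbot, sup_bot_eq, subgroupOf_eq_top] at this
    exact this
  exact hC (hCD.trans hD)

/-- If `X = S C(Q)` and `U ⊇ Q` has Sylow normalizer, an element of `N(U)` centralizing `U` modulo `Q`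
agrees on `U` with an element of `S`. -/
theorem exists_mem_sylow_agree (S : Sylow p X) (Q : Subgroup X) [Q.Normal] (hQ : IsPGroup p ↥Q)
    (hgen : (S : Subgroup X) ⊔ centralizer (Q : Set X) = ⊤) {U : Subgroup X}
    (hidx : ¬ p ∣ ((S : Subgroup X) ⊓ normalizer (U : Set X)).relIndex (normalizer (U : Set X)))
    {e : X} (he : e ∈ normalizer (U : Set X))
    (hmod : ∀ a ∈ U, QuotientGroup.mk' Q (e * a * e⁻¹) = QuotientGroup.mk' Q a) :
    ∃ s ∈ (S : Subgroup X), ∀ a ∈ U, s * a * s⁻¹ = e * a * e⁻¹ := by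
  set C := centralizer (Q : Set X) with hC
  set f := QuotientGroup.mk' Q with hf
  set E := normalizer (U : Set X) ⊓ (centralizer ((U.map f : Subgroup (X ⧸ Q)) : Set (X ⧸ Q))).comap f
    with hE
  have hmemE : ∀ x, x ∈ normalizer (U : Set X) → (∀ a ∈ U, f (x * a * x⁻¹) = f a) → x ∈ E := by
    intro x hx hx'
    refine mem_inf.2 ⟨hx, mem_comap.2 (mem_centralizer_iff.2 ?_)⟩
    rintro _ ⟨a, ha, rfl⟩
    have h1 := hx' a ha
    rw [map_mul, map_mul, map_inv, mul_inv_eq_iff_eq_mul] at h1
    exact h1.symm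
  have hEmod : ∀ x ∈ E, ∀ a ∈ U, f (x * a * x⁻¹) = f a := fun x hx a ha => by
    rw [map_mul, map_mul, map_inv, mul_inv_eq_iff_eq_mul,
      mem_centralizer_iff.1 (mem_comap.1 (mem_inf.1 hx).2) _ (mem_map_of_mem f ha)]
  have hEn : ∀ n ∈ normalizer (U : Set X), ∀ x ∈ E, n * x * n⁻¹ ∈ E := by
    intro n hn x hx
    refine hmemE _ (mul_mem (mul_mem hn (mem_inf.1 hx).1) (inv_mem hn)) fun a ha => ?_
    have h1 := hEmod x hx _ ((mem_normalizer_iff''.1 hn a).1 ha)
    calc f (n * x * n⁻¹ * a * (n * x * n⁻¹)⁻¹) = f n * f (x * (n⁻¹ * a * n) * x⁻¹) * (f n)⁻¹ := by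
          rw [← map_inv, ← map_mul, ← map_mul]; congr 1; group
      _ = f a := by rw [h1, ← map_inv, ← map_mul, ← map_mul]; congr 1; group
  -- elements of order prime to p in X centralize Q
  have hpC : ∀ x : X, (orderOf x).Coprime p → x ∈ C := by
    intro x hx
    have hp : IsPGroup p (X ⧸ C) := by
      have := S.2.map (QuotientGroup.mk' C)
      have htop : (S : Subgroup X).map (QuotientGroup.mk' C) = ⊤ := by
        have h1 := congrArg (Subgroup.map (QuotientGroup.mk' C)) hgen
        rw [Subgroup.map_sup, QuotientGroup.map_mk'_self, sup_bot_eq,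
          Subgroup.map_top_of_surjective _ (QuotientGroup.mk'_surjective C)] at h1
        exact h1
      rw [htop] at this
      exact this.of_equiv topEquiv
    obtain ⟨k, hk⟩ := IsPGroup.iff_card.mp hp
    rw [← QuotientGroup.eq_one_iff, ← orderOf_eq_one_iff]
    exact Nat.Coprime.eq_one_of_dvd ((hx.pow_right k).coprime_dvd_left
      (orderOf_map_dvd (QuotientGroup.mk' C) x)) (hk ▸ orderOf_dvd_natCard _)
  -- elements of order prime to p in E centralize U
  have hpU : ∀ x ∈ E, (orderOf x).Coprime p → x ∈ centralizer (U : Set X) := by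
    intro x hx hxo
    refine mem_centralizer_iff.2 fun a ha => ?_
    set q := x * a * x⁻¹ * a⁻¹ with hq
    have hqQ : q ∈ Q := by
      rw [← QuotientGroup.eq_one_iff]
      show f (x * a * x⁻¹ * a⁻¹) = 1
      rw [map_mul, hEmod x hx a ha, map_inv, mul_inv_cancel]
    have hxq : x * q = q * x := (mem_centralizer_iff.1 (hpC x hxo) q hqQ).symm
    have hpow : ∀ n : ℕ, x ^ n * a * (x ^ n)⁻¹ = q ^ n * a := by
      intro n
      induction n with
      | zero => simp
      | succ n ih =>
        have hc : x * q ^ n = q ^ n * x := (Commute.pow_right hxq n).eq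
        calc x ^ (n + 1) * a * (x ^ (n + 1))⁻¹ = x * (x ^ n * a * (x ^ n)⁻¹) * x⁻¹ := by
              rw [pow_succ' x n]; group
          _ = x * q ^ n * (a * x⁻¹) := by rw [ih]; group
          _ = q ^ n * (x * a * x⁻¹) := by rw [hc]; group
          _ = q ^ (n + 1) * a := by rw [pow_succ, hq]; group
    have h1 := hpow (orderOf x)
    rw [pow_orderOf_eq_one, one_mul, inv_one, mul_one, eq_comm, mul_eq_right] at h1
    obtain ⟨k, hk⟩ := IsPGroup.iff_card.mp hQ
    have hq1 : q = 1 := orderOf_eq_one_iff.1 (Nat.Coprime.eq_one_of_dvd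
      ((hxo.pow_right k).coprime_dvd_left (orderOf_dvd_of_pow_eq_one h1))
      (hk ▸ (by rw [← Subgroup.orderOf_mk q hqQ]; exact orderOf_dvd_natCard _)))
    calc a * x = q * a * x := by rw [hq1, one_mul]
      _ = x * a := by rw [hq]; group
  have hCE : centralizer (U : Set X) ≤ E := fun c hc => by
    have hca : ∀ a ∈ U, c * a * c⁻¹ = a := fun a ha => by
      rw [← mem_centralizer_iff.1 hc a ha, mul_inv_cancel_right]
    refine hmemE c (centralizer_le_normalizer _ hc) fun a ha => by rw [hca a ha]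
  set P₀ := (S : Subgroup X) ⊓ normalizer (U : Set X)
  have hSE : ¬ p ∣ (P₀ ⊓ E).relIndex E :=
    not_dvd_relIndex_inf inf_le_right (S.2.to_le inf_le_left) hidx inf_le_left hEn
  set J := P₀ ⊓ E ⊔ centralizer (U : Set X) with hJ
  have hJE : J ≤ E := sup_le inf_le_right hCE
  have hrel : J.relIndex E = 1 := by
    by_contra hne
    obtain ⟨q, hqp, hqd⟩ := Nat.exists_prime_and_dvd hne
    haveI := Fact.mk hqp
    by_cases hqp' : q = p
    · subst hqp'
      exact hSE (hqd.trans (relIndex_dvd_of_le_left E le_sup_left))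
    · obtain ⟨R⟩ : Nonempty (Sylow q ↥E) := inferInstance
      have hRJ : (R : Subgroup ↥E) ≤ J.subgroupOf E := by
        intro r hr
        refine mem_sup_right (hpU r r.2 ?_)
        obtain ⟨k, hk⟩ := R.2.exists_orderOf_eq_pow ⟨r, hr⟩
        rw [Subgroup.orderOf_coe, ← Subgroup.orderOf_mk r hr, hk]
        exact ((Nat.coprime_primes hqp Fact.out).2 hqp').pow_left k
      exact R.not_dvd_index (hqd.trans (index_dvd_of_le hRJ))
  have heE : e ∈ J := relIndex_eq_one.1 hrel (hmemE e he hmod)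
  have hJn : P₀ ⊓ E ≤ normalizer (centralizer (U : Set X) : Set X) := by
    intro z hz
    refine mem_normalizer_of_map_conj ?_
    rw [map_conj_centralizer, map_conj_eq_of_mem_normalizer (mem_inf.1 hz.1).2]
  rw [← SetLike.mem_coe, hJ, coe_mul_of_left_le_normalizer_right _ _ hJn] at heE
  obtain ⟨s, hs, c, hc, rfl⟩ := heE
  refine ⟨s, (mem_inf.1 hs.1).1, fun a ha => ?_⟩
  have hca : c * a * c⁻¹ = a := by
    rw [← mem_centralizer_iff.1 hc a ha, mul_inv_cancel_right]
  calc s * a * s⁻¹ = s * (c * a * c⁻¹) * s⁻¹ := by rw [hca]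
    _ = _ := by group

/-- If `X = S C(Q)` then `Q ∩ X' ≤ S'`. -/
theorem inf_commutator_le_of_centralizer (S : Sylow p X) (Q : Subgroup X) [hQn : Q.Normal]
    (hQS : Q ≤ (S : Subgroup X)) (hgen : (S : Subgroup X) ⊔ centralizer (Q : Set X) = ⊤) :
    Q ⊓ commutator X ≤ ⁅(S : Subgroup X), (S : Subgroup X)⁆ := by
  set S' := ⁅(S : Subgroup X), (S : Subgroup X)⁆ with hS'
  set N₀ := Q ⊓ S' with hN₀
  haveI : N₀.Normal := by
    rw [← normalizer_eq_top_iff, eq_top_iff, ← hgen]
    refine sup_le (fun s hs => mem_normalizer_of_map_conj ?_) fun c hc => mem_normalizer_of_map_conj ?_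
    · rw [hN₀, map_inf _ _ _ (MulAut.conj s).injective, hS', map_commutator,
        map_conj_eq_of_mem_normalizer (le_normalizer hs),
        map_conj_eq_of_mem_normalizer (by rw [normalizer_eq_top_iff.2 hQn]; exact mem_top s)]
    · have : ∀ z ∈ N₀, c * z * c⁻¹ = z := fun z hz => by
        rw [← mem_centralizer_iff.1 hc z hz.1, mul_inv_cancel_right]
      ext z
      constructor
      · rintro ⟨w, hw, rfl⟩
        show c * w * c⁻¹ ∈ N₀
        rw [this w hw]
        exact hw
      · exact fun hz => ⟨z, hz, this z hz⟩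
  set f := QuotientGroup.mk' N₀ with hf
  rintro q ⟨hq, hq'⟩
  have hcent : f q ∈ center (X ⧸ N₀) := by
    have hle : ⊤ ≤ (centralizer ({f q} : Set (X ⧸ N₀))).comap f := by
      rw [← hgen]
      refine sup_le (fun s hs => ?_) fun c hc => ?_
      · refine mem_comap.2 (mem_centralizer_singleton_iff.2 ?_)
        rw [← map_mul, ← map_mul, hf, QuotientGroup.mk'_eq_mk']
        refine ⟨(s * q)⁻¹ * (q * s), mem_inf.2 ⟨?_, ?_⟩, by group⟩
        · rw [show (s * q)⁻¹ * (q * s) = q⁻¹ * (s⁻¹ * q * s) by group]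
          exact mul_mem (inv_mem hq) (Subgroup.Normal.conj_mem' hQn q hq s)
        · have := commutator_mem_commutator (inv_mem (hQS hq) : q⁻¹ ∈ (S : Subgroup X))
            (inv_mem hs : s⁻¹ ∈ (S : Subgroup X))
          rw [show (s * q)⁻¹ * (q * s) = q⁻¹ * s⁻¹ * q⁻¹⁻¹ * s⁻¹⁻¹ by group]
          exact this
      · refine mem_comap.2 (mem_centralizer_singleton_iff.2 ?_)
        rw [← map_mul, ← map_mul, mem_centralizer_iff.1 hc q hq]
    refine mem_center_iff.2 fun y => ?_
    obtain ⟨x, rfl⟩ := QuotientGroup.mk'_surjective N₀ y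
    exact mem_centralizer_singleton_iff.1 (hle (mem_top x))
  set S₁ := (S : Subgroup X).map f with hS₁
  haveI : S₁.FiniteIndex := inferInstance
  let τ := MonoidHom.transfer (H := S₁) (Abelianization.of (G := ↥S₁))
  have hmem : f q ∈ S₁ := mem_map_of_mem f (hQS hq)
  have key : ∀ (k : ℕ) (g₀ : X ⧸ N₀), g₀⁻¹ * f q ^ k * g₀ ∈ S₁ → g₀⁻¹ * f q ^ k * g₀ = f q ^ k :=
    fun k g₀ _ => by
      rw [mul_assoc, ← mem_center_iff.1 (pow_mem hcent k) g₀, inv_mul_cancel_left]
  have h1 := MonoidHom.transfer_eq_pow (Abelianization.of (G := ↥S₁)) (f q) key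
  have h2 : τ (f q) = 1 := by
    refine MonoidHom.mem_ker.1 (Abelianization.commutator_subset_ker τ ?_)
    have := mem_map_of_mem f hq'
    rw [_root_.commutator_def, map_commutator, map_top_of_surjective _ (QuotientGroup.mk'_surjective N₀)]
      at this
    exact this
  rw [h2] at h1
  have hidx : ¬ p ∣ S₁.index := by
    intro h
    refine S.not_dvd_index (h.trans ?_)
    exact index_map_dvd (S : Subgroup X) (f := f) (QuotientGroup.mk'_surjective N₀)
  set z : ↥S₁ := ⟨f q, hmem⟩
  have hz : z ^ S₁.index ∈ commutator ↥S₁ := by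
    rw [← Abelianization.ker_of, MonoidHom.mem_ker]
    rw [h1]
    congr 1
  have hcop : (orderOf z).Coprime S₁.index := by
    obtain ⟨k, hk⟩ := (S.2.map f).exists_orderOf_eq_pow z
    rw [hk]
    exact ((Fact.out : p.Prime).coprime_iff_not_dvd.2 hidx).pow_left k
  have hz' : z ∈ commutator ↥S₁ := by
    obtain ⟨m, hm⟩ := exists_pow_eq_self_of_coprime hcop.symm
    exact hm ▸ pow_mem hz m
  have h3 := mem_map_of_mem S₁.subtype hz'
  rw [_root_.commutator_def, map_commutator, ← MonoidHom.range_eq_map, range_subtype] at h3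
  have h3' : f q ∈ ⁅(S : Subgroup X).map f, (S : Subgroup X).map f⁆ := h3
  rw [← map_commutator] at h3'
  obtain ⟨w, hw, hwq⟩ := h3'
  have hwq' : w⁻¹ * q ∈ N₀ := by
    rw [← QuotientGroup.eq]
    exact hwq
  simpa using mul_mem hw (mem_inf.1 hwq').2

/-! ### Strong fusion -/

/-- The subgroup `L ⊇ S` controls fusion, hence its fusion is reached by the generators of `X`. -/
theorem fusionReach_of_subgroup {𝓕 : Set (Subgroup X → Subgroup X)}
    (h𝓕 : ∀ W ∈ 𝓕, Cfsg.IsConjugacyFunctor p W) (S : Sylow p X) {L : Subgroup X}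
    (hSL : (S : Subgroup X) ≤ L) (hc : Cfsg.FamilyControlsStrongFusionIn p 𝓕 L) {A : Set X} {x : X}
    (hA : A ⊆ ((S : Subgroup X) : Set X))
    (hA' : (fun a => x * a * x⁻¹) '' A ⊆ ((S : Subgroup X) : Set X)) (hx : x ∈ L) :
    FusionReach {y | ∃ W ∈ 𝓕, y ∈ normalizer ((W (S : Subgroup X) : Subgroup X) : Set X)}
      ((S : Subgroup X) : Set X) A x := by
  obtain ⟨n, c, h0, hs, hsub, hl⟩ := familyControlsStrongFusionIn_at h𝓕 hc hSL S.2
    (fun h => S.not_dvd_index (h.trans (relIndex_dvd_index_of_le hSL))) A x hx hA hA'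
  have hall : ∀ i : Fin (n + 1),
      FusionReach {y | ∃ W ∈ 𝓕, y ∈ normalizer ((W (S : Subgroup X) : Subgroup X) : Set X)}
        ((S : Subgroup X) : Set X) A (c i) := by
    intro i
    induction i using Fin.induction with
    | zero => rw [h0]; exact ⟨1, .refl hA, fun _ _ => rfl⟩
    | succ i ih =>
      obtain ⟨W, hW, hmem⟩ := hs i
      have r := FusionReach.of_gen
        (gens := {y | ∃ W ∈ 𝓕, y ∈ normalizer ((W (S : Subgroup X) : Subgroup X) : Set X)})
        (S := ((S : Subgroup X) : Set X))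
        (A := (fun a => c i.castSucc * a * (c i.castSucc)⁻¹) '' A)
        (x := c i.succ * (c i.castSucc)⁻¹) ⟨W, hW, (mem_inf.1 hmem).2⟩ (hsub _) (by
          rintro _ ⟨_, ⟨a, ha, rfl⟩, rfl⟩
          have := hsub i.succ ⟨a, ha, rfl⟩
          simpa [mul_assoc] using this)
      simpa using ih.comp r
  exact (hall (Fin.last n)).congr hl

theorem familyControlsStrongFusionIn_map (h𝓦 : ∀ W ∈ 𝓦, Cfsg.IsCharPFunctor.{u} p W)
    {Y Z : Type u} [Group Y] [Group Z] [Finite Y] (φ : Y →* Z) (hφ : Function.Injective φ)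
    (h : Cfsg.FamilyControlsStrongFusionIn p (inducedFamily 𝓦 Y) ⊤) :
    Cfsg.FamilyControlsStrongFusionIn p (inducedFamily 𝓦 Z) φ.range := by
  obtain ⟨T, -, hT, hidx, hT'⟩ := h
  refine ⟨T.map φ, ?_, hT.map φ, ?_, fun A x hx hA hA' => ?_⟩
  · rw [MonoidHom.range_eq_map]; exact map_mono le_top
  · rw [MonoidHom.range_eq_map, relIndex_map_map_of_injective _ _ hφ]; exact hidx
  · obtain ⟨y, rfl⟩ := hx
    have hmem : ∀ z, φ z ∈ T.map φ ↔ z ∈ T := fun z => mem_map_iff_mem hφ
    obtain ⟨n, c, h0, hs, hsub, hl⟩ := hT' (φ ⁻¹' A) y (mem_top y) (fun z hz => (hmem z).1 (hA hz))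
      (by
        rintro _ ⟨z, hz, rfl⟩
        exact (hmem _).1 (hA' ⟨φ z, hz, by simp⟩))
    refine ⟨n, fun i => φ (c i), by simp [h0], fun i => ?_, fun i => ?_, fun a ha => ?_⟩
    · obtain ⟨_, ⟨W, hW, rfl⟩, hmemW⟩ := hs i
      refine ⟨_, ⟨W, hW, rfl⟩, mem_inf.2 ⟨⟨c i.succ * (c i.castSucc)⁻¹, by simp⟩, ?_⟩⟩
      show _ ∈ normalizer ((Cfsg.inducedFunctor W (T.map φ) : Subgroup Z) : Set Z)
      rw [inducedFunctor_map (h𝓦 W hW) φ hT (by rw [(MonoidHom.ker_eq_bot_iff φ).2 hφ, inf_bot_eq]),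
        ← map_inv φ, ← map_mul φ]
      exact le_normalizer_map φ (mem_map_of_mem φ (mem_inf.1 hmemW).2)
    · rintro _ ⟨a, ha, rfl⟩
      obtain ⟨z, hz, rfl⟩ := hA ha
      exact ⟨_, hsub i ⟨z, ha, rfl⟩, by simp⟩
    · obtain ⟨z, hz, rfl⟩ := hA ha
      simpa using congrArg φ (hl z ha)

theorem strongFusion_of_sections (h𝓦 : ∀ W ∈ 𝓦, Cfsg.IsCharPFunctor.{u} p W) :
    ∀ (n : ℕ) (X : Type u) [Group X] [Finite X], Nat.card X ≤ n →
      SectionHyp p (fun (Y : Type u) [Group Y] =>
        Cfsg.FamilyControlsStrongFusionIn p (inducedFamily 𝓦 Y) ⊤) X →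
      Cfsg.FamilyControlsStrongFusionIn p (inducedFamily 𝓦 X) ⊤ := by
  intro n
  induction n with
  | zero => intro X _ _ h; have : 0 < Nat.card X := Nat.card_pos; omega
  | succ n ih =>
    intro X _ _ hn hX
    have h𝓕 := isConjugacyFunctor_inducedFamily 𝓦 h𝓦 X
    have hsub : ∀ L : Subgroup X, L ≠ ⊤ →
        Cfsg.FamilyControlsStrongFusionIn p (inducedFamily 𝓦 X) L := by
      intro L hL
      have hlt : Nat.card ↥L < Nat.card ↥(⊤ : Subgroup X) :=
        Fusion.card_lt_card_of_lt hL.lt_top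
      rw [card_top] at hlt
      have := familyControlsStrongFusionIn_map 𝓦 h𝓦 L.subtype L.subtype_injective
        (ih ↥L (by omega) (hX.subgroup L))
      rwa [range_subtype] at this
    obtain ⟨S⟩ : Nonempty (Sylow p X) := inferInstance
    refine strongFusion_local_to_global S _ h𝓕 (sylowNormalized S) (fun U hU => hU)
      (fun T hT => exists_conj_sylowNormalized S hT) fun U hU hUne => ?_
    by_cases hUN : normalizer (U : Set X) = ⊤
    swap
    · exact hsub _ hUN
    rw [hUN]
    haveI : U.Normal := normalizer_eq_top_iff.1 hUN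
    set Q := Cfsg.pCore p X with hQdef
    have hQne : Q ≠ ⊥ := fun e => hUne (le_bot_iff.1 (e ▸
      Cfsg.Lib.Core.le_pCore' inferInstance (S.2.to_le hU.1)))
    by_cases hconstr : centralizer (Q : Set X) ≤ Q
    · exact hX.self hconstr
    have hQS : Q ≤ (S : Subgroup X) := Cfsg.Lib.Core.pCore_le_sylow S
    set gens : Set X := {y | ∃ W ∈ inducedFamily 𝓦 X,
      y ∈ normalizer ((W (S : Subgroup X) : Subgroup X) : Set X)} with hgens
    set S' : Set X := ((S : Subgroup X) : Set X) with hS'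
    suffices key : ∀ (A : Set X) (x : X), A ⊆ S' → (fun a => x * a * x⁻¹) '' A ⊆ S' →
        FusionReach gens S' A x by
      refine ⟨S, le_top, S.2, by simpa using S.not_dvd_index, fun A x _ hA hA' => ?_⟩
      obtain ⟨g, hg, e⟩ := key A x hA hA'
      obtain ⟨m, c, h0, hs, hc, rfl⟩ := hg.exists_fin
      exact ⟨m, c, h0, fun i => ⟨(hs i).choose, (hs i).choose_spec.1, mem_top _, (hs i).choose_spec.2⟩,
        hc, e⟩
    by_cases hM : Cfsg.pPrimeCore p X = ⊥
    swap
    · -- lift from `X / O_{p'}(X)`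
      set M := Cfsg.pPrimeCore p X with hMdef
      have hMcop : (Nat.card ↥M).Coprime p := Cfsg.Lib.Core.pPrimeCore_coprime p X
      set f := QuotientGroup.mk' M with hf
      have hlt : Nat.card (X ⧸ M) < Nat.card X := by
        rw [card_eq_card_quotient_mul_card_subgroup M]
        exact lt_mul_of_one_lt_right Nat.card_pos (one_lt_card_iff_ne_bot M |>.2 hM)
      have hker : ∀ P : Subgroup X, IsPGroup p ↥P → P ⊓ f.ker = ⊥ := fun P hP => by
        rw [hf, QuotientGroup.ker_mk']; exact disjoint_of_isPGroup_coprime hP hMcop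
      intro A x hA hA'
      set S₁ := (S : Subgroup X).map f
      have hS₁ : ¬ p ∣ S₁.relIndex ⊤ := by
        rw [relIndex_top_right]
        exact fun h => S.not_dvd_index (h.trans (index_map_dvd _ (f := f) (QuotientGroup.mk'_surjective M)))
      obtain ⟨m, c, h0, hs, hc, hl⟩ := familyControlsStrongFusionIn_at
        (isConjugacyFunctor_inducedFamily 𝓦 h𝓦 _) (ih (X ⧸ M) (by omega) (hX.quotient M)) le_top
        (S.2.map f) hS₁ (f '' A) (f x) (mem_top _)
        (by rintro _ ⟨a, ha, rfl⟩; exact mem_map_of_mem f (hA ha))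
        (by
          rintro _ ⟨_, ⟨a, ha, rfl⟩, rfl⟩
          exact ⟨_, hA' ⟨a, ha, rfl⟩, by simp⟩)
      have hall : ∀ i : Fin (m + 1), ∃ g, FusionReach gens S' A g ∧
          (fun a => g * a * g⁻¹) '' A ⊆ S' ∧
          ∀ a ∈ A, f (g * a * g⁻¹) = c i * f a * (c i)⁻¹ := by
        intro i
        induction i using Fin.induction with
        | zero =>
          exact ⟨1, ⟨1, .refl hA, fun _ _ => rfl⟩, (by rintro _ ⟨a, ha, rfl⟩; show 1 * a * 1⁻¹ ∈ (S : Subgroup X); rw [one_mul, inv_one, mul_one]; exact hA ha), fun a _ => by simp [h0]⟩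
        | succ i ihi =>
          obtain ⟨g, hg, hgA, hgf⟩ := ihi
          obtain ⟨_, ⟨W, hW, rfl⟩, hmem⟩ := hs i
          set WS := Cfsg.inducedFunctor W (S : Subgroup X) with hWS
          have hWSp : IsPGroup p ↥WS := S.2.to_le (map_subtype_le _)
          have hWn : ∀ z ∈ (S : Subgroup X), z ∈ normalizer (WS : Set X) := fun z hz =>
            mem_normalizer_of_map_conj (by
              rw [hWS, ← (h𝓕 _ ⟨W, hW, rfl⟩ _ S.2).2.2 z,
                map_conj_eq_of_mem_normalizer (le_normalizer hz)])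
          have hmem' := (mem_inf.1 hmem).2
          simp only at hmem'
          obtain ⟨y₀, hy₀⟩ := QuotientGroup.mk'_surjective M (c i.succ * (c i.castSucc)⁻¹)
          rw [← hy₀, show Cfsg.inducedFunctor W S₁ = WS.map f from
            inducedFunctor_map (h𝓦 W hW) f S.2 (hker _ S.2)] at hmem'
          obtain ⟨n₀, hn₀, hy⟩ := exists_mul_mem_normalizer M hMcop hWSp hmem'
          set y := n₀ * y₀ with hydef
          have hfy : f y = c i.succ * (c i.castSucc)⁻¹ := by
            rw [hydef, map_mul, hy₀, show f n₀ = 1 from (QuotientGroup.eq_one_iff n₀).2 hn₀, one_mul]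
          set T := ((S : Subgroup X) ⊔ M) ⊓ normalizer (WS : Set X) with hT
          have hB : ∀ a ∈ A, y * (g * a * g⁻¹) * y⁻¹ ∈ T := by
            intro a ha
            have hga := hgA ⟨a, ha, rfl⟩
            refine mem_inf.2 ⟨?_, mul_mem (mul_mem hy (hWn _ hga)) (inv_mem hy)⟩
            obtain ⟨b, hb, hb'⟩ := hc i.succ ⟨f a, ⟨a, ha, rfl⟩, rfl⟩
            have : b⁻¹ * (y * (g * a * g⁻¹) * y⁻¹) ∈ M := by
              rw [← QuotientGroup.eq]
              show f b = f (y * (g * a * g⁻¹) * y⁻¹)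
              rw [hb', map_mul, map_mul, map_inv, hgf a ha, hfy]
              group
            simpa using mul_mem (mem_sup_left hb : b ∈ (S : Subgroup X) ⊔ M) (mem_sup_right this)
          have hST : (S : Subgroup X) ≤ T := le_inf le_sup_left hWn
          have hBp : IsPGroup p ↥(closure ((fun a => y * (g * a * g⁻¹) * y⁻¹) '' A)) := by
            refine (S.2.map (MulAut.conj y).toMonoidHom).to_le ((closure_le _).2 ?_)
            rintro _ ⟨a, ha, rfl⟩
            exact conj_mem_map_conj (hgA ⟨a, ha, rfl⟩)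
          obtain ⟨t, ht, hle⟩ := exists_conj_le_of_relIndex hST S.2
            (fun h => S.not_dvd_index (h.trans (relIndex_dvd_index_of_le hST)))
            ((closure_le _).2 (by rintro _ ⟨a, ha, rfl⟩; exact hB a ha)) hBp
          obtain ⟨s, hs', n₁, hn₁, rfl⟩ := mem_sup_of_normal_right.1 (mem_inf.1 ht).1
          have hn₁W : n₁ ∈ normalizer (WS : Set X) := by
            simpa using mul_mem (inv_mem (hWn s hs')) (mem_inf.1 ht).2
          have hin : ∀ a ∈ A, n₁ * (y * (g * a * g⁻¹) * y⁻¹) * n₁⁻¹ ∈ (S : Subgroup X) := by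
            intro a ha
            have h1 := hle (conj_mem_map_conj (g := s * n₁)
              (subset_closure ⟨a, ha, rfl⟩ : y * (g * a * g⁻¹) * y⁻¹ ∈
                closure ((fun a => y * (g * a * g⁻¹) * y⁻¹) '' A)))
            have h2 := mul_mem (mul_mem (inv_mem hs') h1) hs'
            simpa [mul_assoc] using h2
          refine ⟨n₁ * y * g, hg.comp (.of_gen ⟨_, ⟨W, hW, rfl⟩, mul_mem hn₁W hy⟩ ?_ ?_), ?_, ?_⟩
          · exact hgA
          · rintro _ ⟨_, ⟨a, ha, rfl⟩, rfl⟩
            show _ ∈ (S : Subgroup X); simpa [mul_assoc] using hin a ha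
          · rintro _ ⟨a, ha, rfl⟩
            show _ ∈ (S : Subgroup X); simpa [mul_assoc] using hin a ha
          · intro a ha
            have hfn : f n₁ = 1 := (QuotientGroup.eq_one_iff n₁).2 hn₁
            have h1 := hgf a ha
            calc f (n₁ * y * g * a * (n₁ * y * g)⁻¹)
                = f n₁ * f y * f (g * a * g⁻¹) * (f y)⁻¹ * (f n₁)⁻¹ := by
                  simp only [← map_inv, ← map_mul]; congr 1; group
              _ = _ := by rw [hfn, hfy, h1]; group
      obtain ⟨g, hg, hgA, hgf⟩ := hall (Fin.last m)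
      refine hg.congr fun a ha => ?_
      have h1 : (g * a * g⁻¹)⁻¹ * (x * a * x⁻¹) ∈ (S : Subgroup X) ⊓ M := by
        refine mem_inf.2 ⟨mul_mem (inv_mem (hgA ⟨a, ha, rfl⟩)) (hA' ⟨a, ha, rfl⟩), ?_⟩
        rw [← QuotientGroup.eq]
        show f (g * a * g⁻¹) = f (x * a * x⁻¹)
        rw [hgf a ha, hl _ ⟨a, ha, rfl⟩]
        simp
      rw [disjoint_of_isPGroup_coprime S.2 hMcop, mem_bot, inv_mul_eq_one] at h1
      exact h1
    set C := centralizer (Q : Set X) with hCdef
    set D := (S : Subgroup X) ⊓ C with hD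
    have hDQ : ¬ D ≤ Q := sylow_centralizer_pCore_not_le hM S hconstr
    have hSX : (S : Subgroup X) ≠ ⊤ := fun e => hconstr (by
      have : Q = ⊤ := le_antisymm le_top
        (Cfsg.Lib.Core.le_pCore' inferInstance (e ▸ S.2))
      exact this ▸ le_top)
    have hfrom : ∀ L : Subgroup X, L ≠ ⊤ → (S : Subgroup X) ≤ L → ∀ (A : Set X) (x : X), x ∈ L →
        A ⊆ S' → (fun a => x * a * x⁻¹) '' A ⊆ S' → FusionReach gens S' A x :=
      fun L hL hSL A x hx hA hA' => fusionReach_of_subgroup h𝓕 S hSL (hsub L hL) hA hA' hx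
    have hDS : (S : Subgroup X) ≤ normalizer (D : Set X) := fun s hs =>
      mem_normalizer_of_map_conj (by
        rw [hD, map_inf _ _ _ (MulAut.conj s).injective,
          map_conj_eq_of_mem_normalizer (le_normalizer hs),
          map_conj_eq_of_mem_normalizer (by
            rw [normalizer_eq_top_iff.2 (inferInstance : C.Normal)]; exact mem_top s)])
    have hDidx : ¬ p ∣ D.relIndex C := not_dvd_relIndex_inf (le_top (a := (S : Subgroup X))) S.2
      (by simpa using S.not_dvd_index) le_top fun h _ n hn => Subgroup.Normal.conj_mem inferInstance n hn h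
    by_cases hgen : (S : Subgroup X) ⊔ C = ⊤
    swap
    · intro A x hA hA'
      obtain ⟨c₀, hc₀, hle⟩ := exists_conj_le_of_relIndex (inf_le_right : D ≤ C)
        (S.2.to_le inf_le_left) hDidx (R := D.map (MulAut.conj x⁻¹).toMonoidHom) (by
          rintro _ ⟨d, hd, rfl⟩
          exact Subgroup.Normal.conj_mem inferInstance d hd.2 x⁻¹)
        ((S.2.to_le inf_le_left).map _)
      rw [map_conj_map_conj] at hle
      have hn₀ : c₀ * x⁻¹ ∈ normalizer (D : Set X) := mem_normalizer_of_map_conj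
        (eq_of_le_of_card_ge hle (card_map_conj _ _).ge)
      set T := ((S : Subgroup X) ⊔ C) ⊓ normalizer (D : Set X) with hT
      have hST : (S : Subgroup X) ≤ T := le_inf le_sup_left hDS
      obtain ⟨t, ht, htle⟩ := exists_conj_le_of_relIndex hST S.2
        (fun h => S.not_dvd_index (h.trans (relIndex_dvd_index_of_le hST)))
        (R := closure ((fun a => c₀ * a * c₀⁻¹) '' A)) ((closure_le _).2 (by
          rintro _ ⟨a, ha, rfl⟩
          refine mem_inf.2 ⟨mul_mem (mul_mem (mem_sup_right hc₀) (mem_sup_left (hA ha)))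
            (inv_mem (mem_sup_right hc₀)), ?_⟩
          have e : c₀ * a * c₀⁻¹ = (c₀ * x⁻¹) * (x * a * x⁻¹) * (c₀ * x⁻¹)⁻¹ := by group
          show c₀ * a * c₀⁻¹ ∈ normalizer (D : Set X)
          rw [e]
          exact mul_mem (mul_mem hn₀ (hDS (hA' ⟨a, ha, rfl⟩))) (inv_mem hn₀)))
        ((S.2.map (MulAut.conj c₀).toMonoidHom).to_le ((closure_le _).2 (by
          rintro _ ⟨a, ha, rfl⟩; exact conj_mem_map_conj (hA ha))))
      have hin : ∀ a ∈ A, t * (c₀ * a * c₀⁻¹) * t⁻¹ ∈ (S : Subgroup X) := fun a ha =>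
        htle (conj_mem_map_conj (subset_closure ⟨a, ha, rfl⟩))
      have r1 : FusionReach gens S' A (t * c₀) :=
        hfrom _ hgen le_sup_left A _ (mul_mem (mem_inf.1 ht).1 (mem_sup_right hc₀)) hA (by
          rintro _ ⟨a, ha, rfl⟩
          show _ ∈ (S : Subgroup X); simpa [mul_assoc] using hin a ha)
      have hND : normalizer (D : Set X) ≠ ⊤ := fun e => hDQ
        (Cfsg.Lib.Core.le_pCore' (normalizer_eq_top_iff.1 e) (S.2.to_le inf_le_left))
      have r2 : FusionReach gens S' ((fun a => t * c₀ * a * (t * c₀)⁻¹) '' A) (x * (t * c₀)⁻¹) := by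
        refine hfrom _ hND hDS _ _ ?_ ?_ ?_
        · have : x * (t * c₀)⁻¹ = (c₀ * x⁻¹)⁻¹ * t⁻¹ := by group
          rw [this]
          exact mul_mem (inv_mem hn₀) (inv_mem (mem_inf.1 ht).2)
        · rintro _ ⟨a, ha, rfl⟩
          show _ ∈ (S : Subgroup X); simpa [mul_assoc] using hin a ha
        · rintro _ ⟨_, ⟨a, ha, rfl⟩, rfl⟩
          have : x * a * x⁻¹ ∈ (S : Subgroup X) := hA' ⟨a, ha, rfl⟩
          show _ ∈ (S : Subgroup X); simpa [mul_assoc] using this
      simpa [mul_assoc] using r1.comp r2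
    · -- `X = S C`: pass to `X / Q`
      have hlt : Nat.card (X ⧸ Q) < Nat.card X := by
        rw [card_eq_card_quotient_mul_card_subgroup Q]
        exact lt_mul_of_one_lt_right Nat.card_pos (one_lt_card_iff_ne_bot Q |>.2 hQne)
      set f := QuotientGroup.mk' Q with hf
      set S₁ := (S : Subgroup X).map f with hS₁def
      have hcomap : S₁.comap f = (S : Subgroup X) := by
        rw [hS₁def, comap_map_eq, hf, QuotientGroup.ker_mk', sup_eq_left.2 hQS]
      have hS₁ne : S₁ ≠ ⊥ := fun e => hDQ (by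
        have h1 : (S : Subgroup X) ≤ Q := by
          rw [← QuotientGroup.ker_mk' Q, ← (Subgroup.map_eq_bot_iff _)]; exact e
        exact inf_le_left.trans h1)
      have hS₁ : ¬ p ∣ S₁.relIndex ⊤ := by
        rw [relIndex_top_right]
        exact fun h => S.not_dvd_index (h.trans (index_map_dvd _ (f := f) (QuotientGroup.mk'_surjective Q)))
      have hQtriv : Cfsg.pCore p (X ⧸ Q) = ⊥ := (Cfsg.Lib.Core.pCore_quotient_pCore_eq_bot (p := p) (G := X))
      let Rel : Set X → X → Prop := FusionReach gens S'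
      have keyT : ∀ T : Subgroup X, T ≤ (S : Subgroup X) → ∀ g : X,
          T.map (MulAut.conj g).toMonoidHom ≤ (S : Subgroup X) → Rel (T : Set X) g := by
        refine rel_of_local S ∅ (fun _ h => absurd h (Set.notMem_empty _)) (sylowNormalized S)
          (fun V hV => hV) (fun T hT => exists_conj_sylowNormalized S hT) Rel (fun _ => True)
          FusionReach.mono FusionReach.comp (fun g => ?_) ?_ (fun _ _ _ _ _ _ _ _ _ => trivial)
          (fun _ _ _ _ => trivial)
        · refine ⟨1, .refl ?_, ?_⟩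
          · intro a ha; rw [SetLike.mem_coe, mem_bot] at ha; subst ha; exact one_mem (S : Subgroup X)
          · intro a ha; rw [SetLike.mem_coe, mem_bot] at ha; subst ha; simp
        intro V hV hVS _ hIH m hm
        by_cases hQV : Q ≤ V
        swap
        · refine (hIH (V ⊔ Q) (sup_le hVS hQS) ?_ m ?_).mono (fun z hz => mem_sup_left hz)
          · exact Fusion.card_lt_card_of_lt (left_lt_sup.2 hQV)
          · rw [Subgroup.map_sup, map_conj_eq_of_mem_normalizer hm,
              map_conj_eq_of_mem_normalizer (by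
                rw [normalizer_eq_top_iff.2 (inferInstance : Q.Normal)]; exact mem_top m)]
            exact sup_le hVS hQS
        have hVm : ∀ a ∈ V, m * a * m⁻¹ ∈ V := fun a ha => (mem_normalizer_iff.1 hm a).1 ha
        obtain ⟨k, c, h0, hs, hc, hl⟩ := familyControlsStrongFusionIn_at
          (isConjugacyFunctor_inducedFamily 𝓦 h𝓦 _) (ih (X ⧸ Q) (by omega) (hX.quotient Q)) le_top
          (S.2.map f) hS₁ (f '' (V : Set X)) (f m) (mem_top _)
          (by rintro _ ⟨a, ha, rfl⟩; exact mem_map_of_mem f (hVS ha))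
          (by
            rintro _ ⟨_, ⟨a, ha, rfl⟩, rfl⟩
            exact ⟨_, hVS (hVm a ha), by simp⟩)
        have hall : ∀ i : Fin (k + 1), ∃ g, FusionReach gens S' (V : Set X) g ∧
            (fun a => g * a * g⁻¹) '' (V : Set X) ⊆ S' ∧
            ∀ a ∈ V, f (g * a * g⁻¹) = c i * f a * (c i)⁻¹ := by
          intro i
          induction i using Fin.induction with
          | zero =>
            exact ⟨1, ⟨1, .refl hVS, fun _ _ => rfl⟩, (by rintro _ ⟨a, ha, rfl⟩; show _ ∈ (S : Subgroup X); simpa using hVS ha), fun a _ => by simp [h0]⟩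
          | succ i ihi =>
            obtain ⟨g, hg, hgA, hgf⟩ := ihi
            obtain ⟨W₁, hW₁, hmem⟩ := hs i
            have hW₁' := isConjugacyFunctor_inducedFamily 𝓦 h𝓦 _ W₁ hW₁ S₁ (S.2.map f)
            set N₁ := normalizer ((W₁ S₁ : Subgroup (X ⧸ Q)) : Set (X ⧸ Q)) with hN₁
            have hN₁top : N₁ ≠ ⊤ := fun e => hW₁'.2.1 hS₁ne (le_bot_iff.1 (hQtriv ▸
              Cfsg.Lib.Core.le_pCore' (normalizer_eq_top_iff.1 e) ((S.2.map f).to_le hW₁'.1)))
            have hL : N₁.comap f ≠ ⊤ := fun e => hN₁top (by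
              have := congrArg (Subgroup.map f) e
              rwa [map_comap_eq_self_of_surjective (QuotientGroup.mk'_surjective Q),
                map_top_of_surjective _ (QuotientGroup.mk'_surjective Q)] at this)
            have hSN : (S : Subgroup X) ≤ N₁.comap f := fun s hs' => mem_comap.2
              (mem_normalizer_of_map_conj (by
                rw [← hW₁'.2.2 (f s),
                  map_conj_eq_of_mem_normalizer (le_normalizer (mem_map_of_mem f hs'))]))
            obtain ⟨y, hy⟩ := QuotientGroup.mk'_surjective Q (c i.succ * (c i.castSucc)⁻¹)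
            have hyN : y ∈ N₁.comap f := mem_comap.2 (hy ▸ (mem_inf.1 hmem).2)
            have hfy : ∀ a ∈ V, f (y * g * a * (y * g)⁻¹) = c i.succ * f a * (c i.succ)⁻¹ := by
              intro a ha
              calc f (y * g * a * (y * g)⁻¹) = f y * f (g * a * g⁻¹) * (f y)⁻¹ := by
                    simp only [← map_inv, ← map_mul]; congr 1; group
                _ = _ := by rw [hgf a ha, hy]; exact conj_cancel (c i.succ) (c i.castSucc) (f a)
            have himg : ∀ a ∈ V, y * g * a * (y * g)⁻¹ ∈ (S : Subgroup X) := fun a ha => by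
              rw [← hcomap, mem_comap, hfy a ha]
              exact hc i.succ ⟨f a, ⟨a, ha, rfl⟩, rfl⟩
            refine ⟨y * g, hg.comp (hfrom _ hL hSN _ _ hyN hgA ?_), ?_, hfy⟩
            · rintro _ ⟨_, ⟨a, ha, rfl⟩, rfl⟩
              have := himg a ha
              show _ ∈ (S : Subgroup X); simpa [mul_assoc] using this
            · rintro _ ⟨a, ha, rfl⟩
              exact himg a ha
        obtain ⟨g, hg, hgA, hgf⟩ := hall (Fin.last k)
        have hmod : ∀ a ∈ V, f (g * a * g⁻¹) = f (m * a * m⁻¹) := fun a ha => by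
          rw [hgf a ha, hl _ ⟨a, ha, rfl⟩]; simp
        have hgV : ∀ a ∈ V, g * a * g⁻¹ ∈ V := fun a ha => by
          have h1 : (m * a * m⁻¹)⁻¹ * (g * a * g⁻¹) ∈ Q := by
            rw [← QuotientGroup.eq]; exact (hmod a ha).symm
          have h2 := mul_mem (hVm a ha) (hQV h1)
          rwa [mul_inv_cancel_left] at h2
        have hgn : g ∈ normalizer (V : Set X) := mem_normalizer_of_map_conj
          (eq_of_le_of_card_ge (by rintro _ ⟨a, ha, rfl⟩; exact hgV a ha) (card_map_conj _ _).ge)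
        obtain ⟨s, hs, hse⟩ := exists_mem_sylow_agree S Q (Cfsg.Lib.Core.pCore_isPGroup p X) hgen
          hV.2 (e := g⁻¹ * m) (mul_mem (inv_mem hgn) hm) (fun a ha => by
            calc f (g⁻¹ * m * a * (g⁻¹ * m)⁻¹) = (f g)⁻¹ * f (m * a * m⁻¹) * f g := by
                  simp only [← map_inv, ← map_mul]; congr 1; group
              _ = f a := by rw [← hmod a ha]; simp only [← map_inv, ← map_mul]; congr 1; group)
        have rs : FusionReach gens S' (V : Set X) s :=
          hfrom _ hSX le_rfl _ _ hs hVS (by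
            rintro _ ⟨a, ha, rfl⟩
            exact mul_mem (mul_mem hs (hVS ha)) (inv_mem hs))
        refine (rs.comp (hg.mono ?_)).congr fun a ha => ?_
        · rintro _ ⟨a, ha, rfl⟩
          show s * a * s⁻¹ ∈ V
          rw [hse a ha]
          exact (mem_normalizer_iff.1 (mul_mem (inv_mem hgn) hm) a).1 ha
        · calc g * s * a * (g * s)⁻¹ = g * (s * a * s⁻¹) * g⁻¹ := by group
            _ = m * a * m⁻¹ := by rw [hse a ha]; group
      intro A x hA hA'
      refine (keyT (closure A) ((closure_le _).2 hA) x ?_).mono (subset_closure (k := A))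
      rw [MonoidHom.map_closure, closure_le]
      rintro _ ⟨a, ha, rfl⟩
      exact hA' ⟨a, ha, by simp⟩

/-! ### Transfer -/

/-- The subgroup generated by the intersections of `S` with the derived subgroups of the `N(W S)`. -/
def transferSpan (𝓕 : Set (Subgroup X → Subgroup X)) (S : Subgroup X) : Subgroup X :=
  ⨆ W ∈ 𝓕, S ⊓ ⁅normalizer ((W S : Subgroup X) : Set X), normalizer ((W S : Subgroup X) : Set X)⁆

theorem inf_commutator_le_of_subgroup {𝓕 : Set (Subgroup X → Subgroup X)}
    (h𝓕 : ∀ W ∈ 𝓕, Cfsg.IsConjugacyFunctor p W) (S : Sylow p X) {L : Subgroup X}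
    (hSL : (S : Subgroup X) ≤ L) (hc : Cfsg.FamilyControlsTransferIn p 𝓕 L) :
    (S : Subgroup X) ⊓ ⁅L, L⁆ ≤ transferSpan 𝓕 (S : Subgroup X) := by
  rw [familyControlsTransferIn_at h𝓕 hc hSL S.2
    (fun h => S.not_dvd_index (h.trans (relIndex_dvd_index_of_le hSL)))]
  exact iSup₂_mono fun W _ => inf_le_inf_left _ (commutator_mono inf_le_right inf_le_right)

theorem familyControlsTransferIn_map (h𝓦 : ∀ W ∈ 𝓦, Cfsg.IsCharPFunctor.{u} p W)
    {Y Z : Type u} [Group Y] [Group Z] [Finite Y] (φ : Y →* Z) (hφ : Function.Injective φ)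
    (h : Cfsg.FamilyControlsTransferIn p (inducedFamily 𝓦 Y) ⊤) :
    Cfsg.FamilyControlsTransferIn p (inducedFamily 𝓦 Z) φ.range := by
  obtain ⟨T, -, hT, hidx, hT'⟩ := h
  refine ⟨T.map φ, ?_, hT.map φ, ?_, ?_⟩
  · rw [MonoidHom.range_eq_map]; exact map_mono le_top
  · rw [MonoidHom.range_eq_map, relIndex_map_map_of_injective _ _ hφ]; exact hidx
  · have hinf : ∀ H K : Subgroup Y, (H ⊓ K).map φ = H.map φ ⊓ K.map φ := fun H K => map_inf H K _ hφ
    have := congrArg (Subgroup.map φ) hT'
    rw [hinf, map_commutator, ← MonoidHom.range_eq_map] at this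
    rw [this]
    simp only [inducedFamily, iSup_image, Subgroup.map_iSup, hinf, map_commutator, ← MonoidHom.range_eq_map]
    refine iSup_congr fun W => iSup_congr fun hW => ?_
    rw [inducedFunctor_map (h𝓦 W hW) φ hT (by rw [(MonoidHom.ker_eq_bot_iff φ).2 hφ, inf_bot_eq])]
    have hn : (normalizer ((Cfsg.inducedFunctor W T : Subgroup Y) : Set Y)).map φ =
        φ.range ⊓ normalizer (((Cfsg.inducedFunctor W T).map φ : Subgroup Z) : Set Z) := by
      refine le_antisymm (le_inf (by rw [MonoidHom.range_eq_map]; exact map_mono le_top)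
        (le_normalizer_map φ)) ?_
      rintro _ ⟨⟨y, rfl⟩, hy⟩
      refine ⟨y, mem_normalizer_iff.2 fun z => ?_, rfl⟩
      have h1 := mem_normalizer_iff.1 hy (φ z)
      rw [← map_inv, ← map_mul, ← map_mul] at h1
      rwa [mem_map_iff_mem hφ, mem_map_iff_mem hφ] at h1
    rw [hn, ← inf_assoc, inf_idem]

theorem transfer_of_sections (h𝓦 : ∀ W ∈ 𝓦, Cfsg.IsCharPFunctor.{u} p W) :
    ∀ (n : ℕ) (X : Type u) [Group X] [Finite X], Nat.card X ≤ n →
      SectionHyp p (fun (Y : Type u) [Group Y] =>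
        Cfsg.FamilyControlsTransferIn p (inducedFamily 𝓦 Y) ⊤) X →
      Cfsg.FamilyControlsTransferIn p (inducedFamily 𝓦 X) ⊤ := by
  intro n
  induction n with
  | zero => intro X _ _ h; have : 0 < Nat.card X := Nat.card_pos; omega
  | succ n ih =>
    intro X _ _ hn hX
    have h𝓕 := isConjugacyFunctor_inducedFamily 𝓦 h𝓦 X
    have hsub : ∀ L : Subgroup X, L ≠ ⊤ →
        Cfsg.FamilyControlsTransferIn p (inducedFamily 𝓦 X) L := by
      intro L hL
      have hlt : Nat.card ↥L < Nat.card ↥(⊤ : Subgroup X) :=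
        Fusion.card_lt_card_of_lt hL.lt_top
      rw [card_top] at hlt
      have := familyControlsTransferIn_map 𝓦 h𝓦 L.subtype L.subtype_injective
        (ih ↥L (by omega) (hX.subgroup L))
      rwa [range_subtype] at this
    obtain ⟨S⟩ : Nonempty (Sylow p X) := inferInstance
    refine transfer_local_to_global S _ h𝓕 (sylowNormalized S) (fun U hU => hU)
      (fun T hT => exists_conj_sylowNormalized S hT) fun U hU hUne => ?_
    by_cases hUN : normalizer (U : Set X) = ⊤
    swap
    · exact hsub _ hUN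
    rw [hUN]
    haveI : U.Normal := normalizer_eq_top_iff.1 hUN
    set Q := Cfsg.pCore p X with hQdef
    have hQne : Q ≠ ⊥ := fun e => hUne (le_bot_iff.1 (e ▸
      Cfsg.Lib.Core.le_pCore' inferInstance (S.2.to_le hU.1)))
    by_cases hconstr : centralizer (Q : Set X) ≤ Q
    · exact hX.self hconstr
    have hQS : Q ≤ (S : Subgroup X) := Cfsg.Lib.Core.pCore_le_sylow S
    set R := transferSpan (inducedFamily 𝓦 X) (S : Subgroup X) with hR
    suffices key : (S : Subgroup X) ⊓ commutator X ≤ R by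
      refine ⟨S, le_top, S.2, by simpa using S.not_dvd_index, ?_⟩
      simp only [top_inf_eq, ← commutator_def]
      exact le_antisymm key (iSup₂_le fun W _ => inf_le_inf_left _
        ((commutator_mono le_top le_top).trans (le_of_eq (commutator_def X).symm)))
    -- the transport of `R` from a quotient
    have hlift : ∀ (M : Subgroup X) [M.Normal],
        (∀ W ∈ inducedFamily 𝓦 (X ⧸ M), ∃ L : Subgroup X, (S : Subgroup X) ≤ L ∧
          (S : Subgroup X) ⊓ ⁅L, L⁆ ≤ R ∧
          normalizer ((W ((S : Subgroup X).map (QuotientGroup.mk' M)) : Subgroup (X ⧸ M)) :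
            Set (X ⧸ M)) ≤ L.map (QuotientGroup.mk' M)) →
        Cfsg.FamilyControlsTransferIn p (inducedFamily 𝓦 (X ⧸ M)) ⊤ →
        (S : Subgroup X) ⊓ commutator X ≤ R ⊔ M := by
      intro M _ hW hc
      set f := QuotientGroup.mk' M with hf
      set S₁ := (S : Subgroup X).map f with hS₁def
      have hS₁ : ¬ p ∣ S₁.relIndex ⊤ := by
        rw [relIndex_top_right]
        exact fun h => S.not_dvd_index (h.trans (index_map_dvd _ (f := f) (QuotientGroup.mk'_surjective M)))
      have hc' := familyControlsTransferIn_at (isConjugacyFunctor_inducedFamily 𝓦 h𝓦 _) hc le_top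
        (S.2.map f) hS₁
      intro s hs
      have h1 : f s ∈ S₁ ⊓ ⁅(⊤ : Subgroup (X ⧸ M)), ⊤⁆ := by
        refine mem_inf.2 ⟨mem_map_of_mem f hs.1, ?_⟩
        have h0 := mem_map_of_mem f hs.2
        rwa [_root_.commutator_def, map_commutator,
          map_top_of_surjective _ (QuotientGroup.mk'_surjective M)] at h0
      rw [hc'] at h1
      have h2 : f s ∈ R.map f := by
        refine (iSup₂_le fun W hW' => ?_ : _ ≤ R.map f) h1
        obtain ⟨L, hSL, hLR, hNL⟩ := hW W hW'
        refine le_trans (inf_le_inf_left _ (commutator_mono (inf_le_right.trans hNL)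
          (inf_le_right.trans hNL))) ?_
        rw [← map_commutator]
        refine (map_inf_map_le f hSL S.2
          (fun h => S.not_dvd_index (h.trans (relIndex_dvd_index_of_le hSL)))
          (commutator_le_self _) ?_).trans (map_mono hLR)
        intro h hh z hz
        have h3 : ⁅L, L⁆.map (MulAut.conj h).toMonoidHom = ⁅L, L⁆ := by
          rw [map_commutator, map_conj_eq_of_mem_normalizer (le_normalizer hh)]
        exact h3 ▸ conj_mem_map_conj hz
      obtain ⟨r, hr, hrs⟩ := h2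
      have h4 : r⁻¹ * s ∈ M := by rw [← QuotientGroup.eq]; exact hrs
      simpa using mul_mem (mem_sup_left hr : r ∈ R ⊔ M) (mem_sup_right h4)
    by_cases hM : Cfsg.pPrimeCore p X = ⊥
    swap
    · set M := Cfsg.pPrimeCore p X with hMdef
      have hMcop : (Nat.card ↥M).Coprime p := Cfsg.Lib.Core.pPrimeCore_coprime p X
      have hlt : Nat.card (X ⧸ M) < Nat.card X := by
        rw [card_eq_card_quotient_mul_card_subgroup M]
        exact lt_mul_of_one_lt_right Nat.card_pos (one_lt_card_iff_ne_bot M |>.2 hM)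
      have h1 := hlift M (fun W₁ hW₁ => ?_) (ih (X ⧸ M) (by omega) (hX.quotient M))
      · intro s hs
        have hRS : R ≤ (S : Subgroup X) := iSup₂_le fun W _ => inf_le_left
        obtain ⟨r, hr, m, hm, rfl⟩ := mem_sup_of_normal_right.1 (h1 hs)
        have hmS : m ∈ (S : Subgroup X) ⊓ M :=
          mem_inf.2 ⟨by simpa using mul_mem (inv_mem (hRS hr)) hs.1, hm⟩
        rw [disjoint_of_isPGroup_coprime S.2 hMcop, mem_bot] at hmS
        rw [hmS, mul_one]; exact hr
      · obtain ⟨W, hW, rfl⟩ := hW₁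
        set WS := Cfsg.inducedFunctor W (S : Subgroup X) with hWS
        refine ⟨normalizer (WS : Set X), fun z hz => mem_normalizer_of_map_conj (by
            rw [hWS, ← (h𝓕 _ ⟨W, hW, rfl⟩ _ S.2).2.2 z,
              map_conj_eq_of_mem_normalizer (le_normalizer hz)]),
          le_iSup₂_of_le (Cfsg.inducedFunctor (G := X) W) ⟨W, hW, rfl⟩ le_rfl, fun y hy => ?_⟩
        obtain ⟨y₀, rfl⟩ := QuotientGroup.mk'_surjective M y
        simp only at hy
        rw [inducedFunctor_map (h𝓦 W hW) _ S.2 (by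
          rw [QuotientGroup.ker_mk']; exact disjoint_of_isPGroup_coprime S.2 hMcop)] at hy
        obtain ⟨m, hm, hmy⟩ := exists_mul_mem_normalizer M hMcop (S.2.to_le (map_subtype_le _)) hy
        exact ⟨m * y₀, hmy, by simp [(QuotientGroup.eq_one_iff m).2 hm]⟩
    set C := centralizer (Q : Set X) with hCdef
    set D := (S : Subgroup X) ⊓ C with hD
    have hDQ : ¬ D ≤ Q := sylow_centralizer_pCore_not_le hM S hconstr
    have hSX : (S : Subgroup X) ≠ ⊤ := fun e => hconstr (by
      have : Q = ⊤ := le_antisymm le_top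
        (Cfsg.Lib.Core.le_pCore' inferInstance (e ▸ S.2))
      exact this ▸ le_top)
    have hfrom : ∀ L : Subgroup X, L ≠ ⊤ → (S : Subgroup X) ≤ L →
        (S : Subgroup X) ⊓ ⁅L, L⁆ ≤ R :=
      fun L hL hSL => inf_commutator_le_of_subgroup h𝓕 S hSL (hsub L hL)
    have hDS : (S : Subgroup X) ≤ normalizer (D : Set X) := fun s hs =>
      mem_normalizer_of_map_conj (by
        rw [hD, map_inf _ _ _ (MulAut.conj s).injective,
          map_conj_eq_of_mem_normalizer (le_normalizer hs),
          map_conj_eq_of_mem_normalizer (by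
            rw [normalizer_eq_top_iff.2 (inferInstance : C.Normal)]; exact mem_top s)])
    have hDidx : ¬ p ∣ D.relIndex C := not_dvd_relIndex_inf (le_top (a := (S : Subgroup X))) S.2
      (by simpa using S.not_dvd_index) le_top fun h _ n hn => Subgroup.Normal.conj_mem inferInstance n hn h
    by_cases hgen : (S : Subgroup X) ⊔ C = ⊤
    · have hlt : Nat.card (X ⧸ Q) < Nat.card X := by
        rw [card_eq_card_quotient_mul_card_subgroup Q]
        exact lt_mul_of_one_lt_right Nat.card_pos (one_lt_card_iff_ne_bot Q |>.2 hQne)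
      have h1 := hlift Q (fun W₁ hW₁ => ?_) (ih (X ⧸ Q) (by omega) (hX.quotient Q))
      · intro s hs
        have hRX : R ≤ commutator X := iSup₂_le fun W _ =>
          inf_le_right.trans ((commutator_mono le_top le_top).trans (le_of_eq (commutator_def X).symm))
        obtain ⟨r, hr, q, hq, rfl⟩ := mem_sup_of_normal_right.1 (h1 hs)
        have hq' : q ∈ commutator X := by simpa using mul_mem (inv_mem (hRX hr)) hs.2
        exact mul_mem hr (hfrom _ hSX le_rfl (mem_inf.2 ⟨hQS hq,
          inf_commutator_le_of_centralizer S Q hQS hgen ⟨hq, hq'⟩⟩))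
      · have hS₁ne : (S : Subgroup X).map (QuotientGroup.mk' Q) ≠ ⊥ := fun e => hDQ (by
          have h2 : (S : Subgroup X) ≤ Q := by
            rw [← QuotientGroup.ker_mk' Q, ← (Subgroup.map_eq_bot_iff _)]; exact e
          exact inf_le_left.trans h2)
        have hW₁' := isConjugacyFunctor_inducedFamily 𝓦 h𝓦 _ W₁ hW₁ _ (S.2.map (QuotientGroup.mk' Q))
        set N₁ := normalizer ((W₁ ((S : Subgroup X).map (QuotientGroup.mk' Q)) : Subgroup (X ⧸ Q)) :
          Set (X ⧸ Q)) with hN₁
        have hN₁top : N₁ ≠ ⊤ := fun e => hW₁'.2.1 hS₁ne (le_bot_iff.1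
          ((Cfsg.Lib.Core.pCore_quotient_pCore_eq_bot (p := p) (G := X)) ▸ Cfsg.Lib.Core.le_pCore'
            (normalizer_eq_top_iff.1 e) ((S.2.map _).to_le hW₁'.1)))
        have hSN : (S : Subgroup X) ≤ N₁.comap (QuotientGroup.mk' Q) := fun s hs' => mem_comap.2
          (mem_normalizer_of_map_conj (by
            rw [← hW₁'.2.2 _, map_conj_eq_of_mem_normalizer (le_normalizer (mem_map_of_mem _ hs'))]))
        refine ⟨_, hSN, hfrom _ (fun e => hN₁top ?_) hSN,
          (map_comap_eq_self_of_surjective (QuotientGroup.mk'_surjective Q) N₁).ge⟩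
        have := congrArg (Subgroup.map (QuotientGroup.mk' Q)) e
        rwa [map_comap_eq_self_of_surjective (QuotientGroup.mk'_surjective Q),
          map_top_of_surjective _ (QuotientGroup.mk'_surjective Q)] at this
    · have hND : normalizer (D : Set X) ≠ ⊤ := fun e => hDQ
        (Cfsg.Lib.Core.le_pCore' (normalizer_eq_top_iff.1 e) (S.2.to_le inf_le_left))
      rw [inf_comm, commutator_inf_eq_focalSubgroup, focalSubgroup_def, closure_le]
      rintro g ⟨hg, a, ha, u, rfl⟩
      -- `g = ⁅a, u⁆`; with `b = a⁻¹`, `g = b⁻¹ * (u b u⁻¹)`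
      set b := a⁻¹ with hb
      have hbS : b ∈ (S : Subgroup X) := inv_mem ha
      have hub : u * b * u⁻¹ ∈ (S : Subgroup X) := by
        have := mul_mem hbS hg
        simpa [hb, commutatorElement_def, mul_assoc] using this
      obtain ⟨c₀, hc₀, hle⟩ := exists_conj_le_of_relIndex (inf_le_right : D ≤ C)
        (S.2.to_le inf_le_left) hDidx (R := D.map (MulAut.conj u⁻¹).toMonoidHom) (by
          rintro _ ⟨d, hd, rfl⟩
          exact Subgroup.Normal.conj_mem inferInstance d hd.2 u⁻¹)
        ((S.2.to_le inf_le_left).map _)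
      rw [map_conj_map_conj] at hle
      have hn₀ : c₀ * u⁻¹ ∈ normalizer (D : Set X) := mem_normalizer_of_map_conj
        (eq_of_le_of_card_ge hle (card_map_conj _ _).ge)
      set T := ((S : Subgroup X) ⊔ C) ⊓ normalizer (D : Set X) with hT
      have hST : (S : Subgroup X) ≤ T := le_inf le_sup_left hDS
      obtain ⟨t, ht, htle⟩ := exists_conj_le_of_relIndex hST S.2
        (fun h => S.not_dvd_index (h.trans (relIndex_dvd_index_of_le hST)))
        (R := zpowers (c₀ * b * c₀⁻¹)) (zpowers_le.2 (mem_inf.2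
          ⟨mul_mem (mul_mem (mem_sup_right hc₀) (mem_sup_left hbS)) (inv_mem (mem_sup_right hc₀)), by
            have e : c₀ * b * c₀⁻¹ = (c₀ * u⁻¹) * (u * b * u⁻¹) * (c₀ * u⁻¹)⁻¹ := by group
            rw [e]
            exact mul_mem (mul_mem hn₀ (hDS hub)) (inv_mem hn₀)⟩))
        ((S.2.map (MulAut.conj c₀).toMonoidHom).to_le (zpowers_le.2 (conj_mem_map_conj hbS)))
      set v := t * c₀ with hv
      have hb₁ : v * b * v⁻¹ ∈ (S : Subgroup X) := by
        have := htle (conj_mem_map_conj (g := t) (mem_zpowers (c₀ * b * c₀⁻¹)))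
        simpa [hv, mul_assoc] using this
      have hfocal : ∀ (L : Subgroup X), L ≠ ⊤ → (S : Subgroup X) ≤ L → ∀ w ∈ L, ∀ z ∈ (S : Subgroup X),
          w * z * w⁻¹ ∈ (S : Subgroup X) → z⁻¹ * (w * z * w⁻¹) ∈ R := by
        intro L hL hSL w hw z hz hwz
        refine hfrom L hL hSL (mem_inf.2 ⟨mul_mem (inv_mem hz) hwz, ?_⟩)
        have := commutator_mem_commutator (inv_mem (hSL hz) : z⁻¹ ∈ L) hw
        simpa [commutatorElement_def, mul_assoc] using this
      have r1 := hfocal _ hgen le_sup_left v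
        (mul_mem (mem_inf.1 ht).1 (mem_sup_right hc₀)) b hbS hb₁
      have r2 := hfocal _ hND hDS (u * v⁻¹) (by
          have : u * v⁻¹ = (c₀ * u⁻¹)⁻¹ * t⁻¹ := by rw [hv]; group
          rw [this]
          exact mul_mem (inv_mem hn₀) (inv_mem (mem_inf.1 ht).2)) _ hb₁
        (by simpa [mul_assoc] using hub)
      have := mul_mem r1 r2
      simpa [hb, commutatorElement_def, mul_assoc] using this

end Cfsg.Lib.Sig
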