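import Cfsg.Agent.Lib.Sig.KInfApps
import Cfsg.Agent.Lib.Sig.SectionControl
import Cfsg.Prelude.Def_EvenType

/-!
The K-infinity subgroups control strong fusion when all sections are p-stable.
-/

set_option autoImplicit false
set_option linter.style.haveILetI false

namespace Cfsg.Lib.Sig

open Subgroup
open scoped commutatorElement

universe u

variable {p : ℕ} [Fact p.Prime]

theorem isNormalizerPStable_of_injective {H G : Type*} [Group H] [Group G] [Finite G] (f : H →* G)
    (hf : Function.Injective f) (hst : Cfsg.IsNormalizerPStable p G) :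
    Cfsg.IsNormalizerPStable p H := by
  haveI : Finite H := Finite.of_injective f hf
  intro P hP g hg hcomm
  set P' : Subgroup G := P.map f with hP'
  have hNle : ∀ x : ↥(normalizer (P : Set H)), f (x : H) ∈ normalizer (P' : Set G) := fun x =>
    le_normalizer_map f (mem_map_of_mem _ x.2)
  let φ : ↥(normalizer (P : Set H)) →* ↥(normalizer (P' : Set G)) :=
    (f.comp (normalizer (P : Set H)).subtype).codRestrict _ hNle
  let CG := (centralizer (P' : Set G)).subgroupOf (normalizer (P' : Set G))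
  let CH := (centralizer (P : Set H)).subgroupOf (normalizer (P : Set H))
  have hC : CH = CG.comap φ := by
    ext x
    constructor
    · intro hx
      refine mem_subgroupOf.2 (mem_centralizer_iff.2 ?_)
      rintro _ ⟨y, hy, rfl⟩
      show f y * f (x : H) = f (x : H) * f y
      rw [← map_mul, ← map_mul, mem_centralizer_iff.1 (mem_subgroupOf.1 hx) y hy]
    · intro hx
      refine mem_subgroupOf.2 (mem_centralizer_iff.2 fun y hy => hf ?_)
      rw [map_mul, map_mul]
      exact mem_centralizer_iff.1 (mem_subgroupOf.1 (mem_comap.1 hx)) _ (mem_map_of_mem f hy)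
  let ψ : (↥(normalizer (P : Set H)) ⧸ CH) →* (↥(normalizer (P' : Set G)) ⧸ CG) :=
    QuotientGroup.map CH CG φ hC.le
  have hinj : Function.Injective ψ := by
    rw [← MonoidHom.ker_eq_bot_iff, eq_bot_iff]
    intro q hq
    obtain ⟨x, rfl⟩ := QuotientGroup.mk_surjective q
    rw [MonoidHom.mem_ker] at hq
    have h1 : φ x ∈ CG := (QuotientGroup.eq_one_iff _).mp hq
    exact (QuotientGroup.eq_one_iff x).mpr (hC ▸ h1)
  have key := hst P' (hP.map _) (f g) (hNle ⟨g, hg⟩) (by
    rw [hP', ← MonoidHom.map_zpowers, ← map_commutator, ← map_commutator, hcomm, Subgroup.map_bot])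
  let Q := (Cfsg.pCore p (↥(normalizer (P' : Set G)) ⧸ CG)).comap ψ
  have hQn : Q.Normal := Subgroup.Normal.comap inferInstance ψ
  have hQp : IsPGroup p Q := (Cfsg.Lib.Core.pCore_isPGroup p _).comap_of_injective ψ hinj
  exact (le_sSup ⟨hQn, hQp⟩ : Q ≤ Cfsg.pCore p _) key

theorem isNormalizerPStable_of_sections {G : Type u} [Group G] [Finite G]
    (hst : ∀ (K R : Subgroup G) [(R.subgroupOf K).Normal],
      Cfsg.IsNormalizerPStable p (↥K ⧸ R.subgroupOf K))
    {Y : Type u} [Group Y] (L : Subgroup G) (f : ↥L →* Y) (hf : Function.Surjective f) :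
    Cfsg.IsNormalizerPStable p Y := by
  set R := f.ker.map L.subtype with hR
  have hRL : R.subgroupOf L = f.ker := comap_map_eq_self_of_injective L.subtype_injective _
  haveI : (R.subgroupOf L).Normal := hRL ▸ inferInstance
  let e : (↥L ⧸ R.subgroupOf L) ≃* Y :=
    (QuotientGroup.quotientMulEquivOfEq hRL).trans (QuotientGroup.quotientKerEquivOfSurjective f hf)
  exact isNormalizerPStable_of_injective e.symm.toMonoidHom e.symm.injective (hst L R)

/-- In a group with `C(O_p) ≤ O_p` all of whose quotients are p-stable both K-infinity subgroups of a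
Sylow subgroup are normal. -/
theorem kInf_normal_of_pStable {Y : Type u} [Group Y] [Finite Y]
    (hst : ∀ V : Subgroup Y, [V.Normal] → Cfsg.IsNormalizerPStable p (Y ⧸ V))
    (hcons : centralizer ((Cfsg.pCore p Y : Subgroup Y) : Set Y) ≤ Cfsg.pCore p Y) (T : Sylow p Y) :
    (Cfsg.inducedFunctor Cfsg.kInfLower (T : Subgroup Y)).Normal ∧
      (Cfsg.inducedFunctor Cfsg.kInfUpper (T : Subgroup Y)).Normal := by
  by_contra hn
  obtain ⟨g, -, -, -, -, hfac⟩ := exists_small_degree_of_kInf T (not_and_or.1 hn)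
  obtain ⟨U, V, hUV, hU, h2, h1⟩ := hfac hcons
  haveI := hUV.2.2.1
  exact not_isNormalizerPStable_quotient hUV ((Cfsg.Lib.Core.pCore_isPGroup p Y).to_le hU) h2 h1 (hst V)

/-- A functor with normal values in the constrained sections controls strong fusion. -/
theorem controlsStrongFusion_of_sectionHyp {G : Type u} [Group G] [Finite G]
    {W : ∀ (Q : Type u) [Group Q], Subgroup Q} (hW : Cfsg.IsCharPFunctor.{u} p W)
    (hloc : SectionHyp p (fun (Y : Type u) [Group Y] =>
      ∀ T : Sylow p Y, (Cfsg.inducedFunctor (G := Y) W (T : Subgroup Y)).Normal) G)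
    (S : Sylow p G) : Cfsg.ControlsStrongFusion p (Cfsg.inducedFunctor W (S : Subgroup G)) := by
  have h𝓦 : ∀ V ∈ ({W} : Set (∀ (Q : Type u) [Group Q], Subgroup Q)), Cfsg.IsCharPFunctor.{u} p V :=
    fun V hV => Set.mem_singleton_iff.1 hV ▸ hW
  have hG : SectionHyp p (fun (Y : Type u) [Group Y] =>
      Cfsg.FamilyControlsStrongFusionIn p (inducedFamily {W} Y) ⊤) G := by
    intro Y _ _ L f hf hc
    have hT := hloc Y L f hf hc
    obtain ⟨T⟩ : Nonempty (Sylow p Y) := inferInstance
    refine ⟨T, le_top, T.2, by simpa using T.not_dvd_index, fun A x _ hA hA' => ?_⟩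
    refine ⟨1, ![1, x], rfl, fun i => ⟨_, ⟨W, rfl, rfl⟩, mem_inf.2 ⟨mem_top _, ?_⟩⟩, fun i => ?_,
      fun z _ => rfl⟩
    · rw [normalizer_eq_top_iff.2 (hT T)]; exact mem_top _
    · fin_cases i
      · rintro _ ⟨z, hz, rfl⟩
        show 1 * z * 1⁻¹ ∈ (T : Subgroup Y)
        rw [one_mul, inv_one, mul_one]; exact hA hz
      · rintro _ ⟨z, hz, rfl⟩
        exact hA' ⟨z, hz, rfl⟩
  have hY := strongFusion_of_sections {W} h𝓦 (Nat.card G) G le_rfl hG
  refine ⟨S, map_subtype_le _, fun A hA => ⟨hA, fun g hg => ?_⟩⟩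
  obtain ⟨n, c, h0, hs, -, hl⟩ := familyControlsStrongFusionIn_at
    (isConjugacyFunctor_inducedFamily {W} h𝓦 G) hY le_top S.2
    (by simpa using S.not_dvd_index) A g (mem_top g) hA hg
  refine ⟨c (Fin.last n), ?_, fun a ha => (hl a ha).symm⟩
  suffices h : ∀ i, c i ∈ normalizer ((Cfsg.inducedFunctor (G := G) W (S : Subgroup G) : Subgroup G) : Set G)
    from h _
  intro i
  induction i using Fin.induction with
  | zero => rw [h0]; exact one_mem _
  | succ i ih =>
    obtain ⟨_, ⟨V, hV', rfl⟩, hV⟩ := hs i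
    obtain rfl := Set.mem_singleton_iff.1 hV'
    simpa using mul_mem (mem_inf.1 hV).2 ih

theorem kInf_normal_sectionHyp {G : Type u} [Group G] [Finite G]
    (hst : ∀ (K R : Subgroup G) [(R.subgroupOf K).Normal],
      Cfsg.IsNormalizerPStable p (↥K ⧸ R.subgroupOf K)) :
    SectionHyp p (fun (Y : Type u) [Group Y] => ∀ T : Sylow p Y,
      (Cfsg.inducedFunctor Cfsg.kInfLower (T : Subgroup Y)).Normal ∧
      (Cfsg.inducedFunctor Cfsg.kInfUpper (T : Subgroup Y)).Normal) G := by
  intro Y _ _ L f hf hc T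
  exact kInf_normal_of_pStable (fun V _ => isNormalizerPStable_of_sections hst L
    ((QuotientGroup.mk' V).comp f) ((QuotientGroup.mk'_surjective V).comp hf)) hc T

end Cfsg.Lib.Sig
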