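import Cfsg.Agent.Lib.Core.Layer
import Cfsg.Agent.Lib.Solv.Frattini
import Cfsg.Agent.Lib.Coprime.Action

/-!
# Perfect subgroups acting trivially on the Frattini quotient of the Fitting subgroup
-/

set_option autoImplicit false
open Subgroup
open scoped commutatorElement

namespace Cfsg.Lib.Sig

variable {G : Type*} [Group G] [Finite G]

/-- A nilpotent group is generated by its `q`-core and its `q'`-core. -/
theorem pCore_sup_pPrimeCore_eq_top (hG : Group.IsNilpotent G) (q : ℕ) [Fact q.Prime] :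
    Cfsg.pCore q G ⊔ Cfsg.pPrimeCore q G = ⊤ := by
  rw [eq_top_iff, ← Cfsg.Lib.Core.fittingSubgroup_eq_top hG, Cfsg.Lib.Core.fittingSubgroup_eq_iSup_pCore]
  refine iSup_le fun r => ?_
  by_cases hr : (r : ℕ) = q
  · subst hr; exact le_sup_left
  · refine le_sup_of_le_right (Cfsg.Lib.Core.le_pPrimeCore ?_)
    haveI : Fact (r : ℕ).Prime := ⟨r.2⟩
    obtain ⟨n, hn⟩ := (Cfsg.Lib.Core.pCore_isPGroup (r : ℕ) G).exists_card_eq
    rw [hn]
    exact ((Nat.coprime_primes r.2 Fact.out).mpr hr).pow_left n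

/-- An element of order prime to `q` acting trivially on `F/Φ(F)` centralises the `q`-core of the
normal nilpotent subgroup `F`. -/
theorem centralizes_pCore_of_commutator_le_frattini (F : Subgroup G) [F.Normal] (hF : Group.IsNilpotent F)
    (q : ℕ) [Fact q.Prime] {x : G} (hx : (orderOf x).Coprime q)
    (h : ⁅F, zpowers x⁆ ≤ (frattini F).map F.subtype) :
    x ∈ centralizer (((Cfsg.pCore q F).map F.subtype : Subgroup G) : Set G) := by
  set Oq := (Cfsg.pCore q F).map F.subtype with hOq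
  set Oc := (Cfsg.pPrimeCore q F).map F.subtype with hOr
  haveI : Oq.Normal := Cfsg.Lib.Core.normal_map_char_of_normal _
  haveI : Oc.Normal := Cfsg.Lib.Core.normal_map_char_of_normal _
  have hsplit : Oq ≤ ⁅Oq, zpowers x⁆ ⊔ Oq ⊓ centralizer ((zpowers x : Subgroup G) : Set G) := by
    have hN : zpowers x ≤ normalizer (Oq : Set G) := by rw [normalizer_eq_top (H := Oq)]; exact le_top
    have hcop : (Nat.card (zpowers x)).Coprime (Nat.card Oq) := by
      obtain ⟨n, hn⟩ := ((Cfsg.Lib.Core.pCore_isPGroup q F).map F.subtype).exists_card_eq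
      rw [hn, Nat.card_zpowers]
      exact hx.pow_right n
    intro y hy
    obtain ⟨n, hn, c, hc, rfl⟩ := Cfsg.Lib.Coprime.le_commutator_sup_centralizer hN hcop
      (Or.inl (Group.isSolvable_of_comm fun a b => mul_comm' a b)) hy
    exact mul_mem_sup hn hc
  set K := (centralizer ({x} : Set G)).subgroupOf F ⊔ Cfsg.pPrimeCore q F with hK
  have hK1 : K = ⊤ := by
    refine frattini_nongenerating (top_le_iff.mp ?_)
    rw [← pCore_sup_pPrimeCore_eq_top hF q]
    refine sup_le ?_ (le_sup_right.trans le_sup_left)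
    intro y hy
    have h1 : (y : G) ∈ (frattini F).map F.subtype ⊔ (F ⊓ centralizer ({x} : Set G)) := by
      refine (sup_le_sup ((commutator_mono (map_subtype_le _) le_rfl).trans h) ?_) (hsplit ⟨y, hy, rfl⟩)
      exact fun z hz => ⟨map_subtype_le _ hz.1, mem_centralizer_singleton_iff.mpr
        (mem_centralizer_iff.mp hz.2 x (mem_zpowers x)).symm⟩
    haveI : ((frattini F).map F.subtype).Normal := Cfsg.Lib.Core.normal_map_char_of_normal _
    obtain ⟨a, ⟨a', ha, rfl⟩, b, hb, hab⟩ := mem_sup_of_normal_left.mp h1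
    have hy' : y = a' * ⟨b, hb.1⟩ := Subtype.ext hab.symm
    rw [hy']
    exact mul_mem (mem_sup_right ha) (mem_sup_left (mem_sup_left (mem_subgroupOf.mpr hb.2)))
  refine mem_centralizer_iff.mpr ?_
  rintro _ ⟨y, hy, rfl⟩
  have hy' : y ∈ K := hK1 ▸ Subgroup.mem_top y
  obtain ⟨c, hc, d, hd, rfl⟩ := mem_sup_of_normal_right.mp hy'
  have hcx : (c : G) * x = x * c := mem_centralizer_singleton_iff.mp (mem_subgroupOf.mp hc)
  have hcdF : ((c * d : F) : G) ∈ Oq := ⟨_, hy, rfl⟩
  set e : G := x * ((c * d : F) : G) * x⁻¹ * ((c * d : F) : G)⁻¹ with he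
  have he1 : e ∈ Oq := Oq.mul_mem ((inferInstance : Oq.Normal).conj_mem _ hcdF x) (Oq.inv_mem hcdF)
  have he2 : e ∈ Oc := by
    have h2 : e = (c : G) * (x * (d : G) * x⁻¹ * (d : G)⁻¹) * (c : G)⁻¹ := by
      rw [he, Subgroup.coe_mul]
      calc x * ((c : G) * d) * x⁻¹ * ((c : G) * d)⁻¹
          = x * (c : G) * (x⁻¹ * (x * d * x⁻¹) * (d : G)⁻¹) * (c : G)⁻¹ := by group
        _ = _ := by rw [← hcx]; group
    rw [h2]
    exact (inferInstance : Oc.Normal).conj_mem _
      (Oc.mul_mem ((inferInstance : Oc.Normal).conj_mem _ ⟨d, hd, rfl⟩ x) (Oc.inv_mem ⟨d, hd, rfl⟩)) _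
  have he0 : e = 1 := by
    have hbot : Oq ⊓ Oc = ⊥ := by
      rw [hOq, hOr, ← map_inf _ _ _ F.subtype_injective, Cfsg.Lib.Core.pCore_inf_pPrimeCore, Subgroup.map_bot]
    exact mem_bot.mp (hbot ▸ (⟨he1, he2⟩ : e ∈ Oq ⊓ Oc))
  show ((c * d : F) : G) * x = x * ((c * d : F) : G)
  calc ((c * d : F) : G) * x = e⁻¹ * (x * ((c * d : F) : G) * x⁻¹) * x := by rw [he]; group
    _ = x * ((c * d : F) : G) := by rw [he0]; group

/-- A perfect subgroup acting trivially on `F/Φ(F)` centralises the normal nilpotent subgroup `F`. -/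
theorem perfect_le_centralizer_of_commutator_le_frattini (F P : Subgroup G) [F.Normal]
    (hF : Group.IsNilpotent F) (hP : ⁅P, P⁆ = P) (h : ⁅F, P⁆ ≤ (frattini F).map F.subtype) :
    P ≤ centralizer (F : Set G) := by
  have hq : ∀ q : Nat.Primes, P ≤ centralizer (((Cfsg.pCore (q : ℕ) F).map F.subtype : Subgroup G) : Set G) := by
    intro q
    haveI : Fact (q : ℕ).Prime := ⟨q.2⟩
    set Oq := (Cfsg.pCore (q : ℕ) F).map F.subtype with hOq
    haveI : Oq.Normal := Cfsg.Lib.Core.normal_map_char_of_normal _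
    set C := (centralizer (Oq : Set G)).subgroupOf P with hC
    haveI : C.Normal := inferInstance
    have hp : IsPGroup (q : ℕ) (P ⧸ C) := by
      intro g
      obtain ⟨g, rfl⟩ := QuotientGroup.mk_surjective g
      obtain ⟨k, m, hm, hkm⟩ := Nat.exists_eq_pow_mul_and_not_dvd (orderOf_pos g).ne' (q : ℕ) q.2.ne_one
      refine ⟨k, ?_⟩
      rw [← QuotientGroup.mk_pow, QuotientGroup.eq_one_iff, hC, mem_subgroupOf]
      have ho : orderOf ((g ^ (q : ℕ) ^ k : P) : G) ∣ m := by
        refine orderOf_dvd_of_pow_eq_one ?_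
        rw [← SubmonoidClass.coe_pow, ← pow_mul, ← hkm, pow_orderOf_eq_one]; rfl
      exact centralizes_pCore_of_commutator_le_frattini F hF (q : ℕ)
        (Nat.Coprime.coprime_dvd_left ho (((q.2).coprime_iff_not_dvd.mpr hm).symm))
        ((commutator_mono le_rfl (zpowers_le.mpr (g ^ (q : ℕ) ^ k).2)).trans h)
    have htop : commutator (P ⧸ C) = ⊤ := by
      have h1 : commutator P = ⊤ := by
        apply map_injective P.subtype_injective
        rw [P.map_subtype_commutator, hP, ← MonoidHom.range_eq_map, P.range_subtype]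
      rw [commutator_def, ← map_top_of_surjective _ (QuotientGroup.mk'_surjective C), ← map_commutator,
        ← commutator_def, h1]
    haveI := hp.isNilpotent
    have hsub : (⊤ : Subgroup (P ⧸ C)) = ⊥ := by
      obtain ⟨n, hn⟩ := (Group.isSolvable_def _).mp (inferInstance : Group.IsSolvable (P ⧸ C))
      have h2 : ∀ n, derivedSeries (P ⧸ C) n = ⊤ := by
        intro n
        induction n with
        | zero => rfl
        | succ n ih => rw [derivedSeries_succ, ih, ← commutator_def, htop]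
      rw [← h2 n, hn]
    intro y hy
    have h3 : ((⟨y, hy⟩ : P) : P ⧸ C) ∈ (⊥ : Subgroup (P ⧸ C)) := hsub ▸ Subgroup.mem_top _
    exact mem_subgroupOf.mp ((QuotientGroup.eq_one_iff _).mp (mem_bot.mp h3))
  rw [le_centralizer_iff]
  have h4 : F = (Cfsg.fittingSubgroup F).map F.subtype := by
    rw [Cfsg.Lib.Core.fittingSubgroup_eq_top hF, ← MonoidHom.range_eq_map, F.range_subtype]
  rw [h4, Cfsg.Lib.Core.fittingSubgroup_eq_iSup_pCore, Subgroup.map_iSup]
  exact iSup_le fun q => le_centralizer_iff.mp (hq q)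

end Cfsg.Lib.Sig
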