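import Cfsg.Agent.Lib.Sig.PComponent

/-!
p-local subgroups of p-constrained groups and of groups of characteristic p type.
-/

set_option autoImplicit false

namespace Cfsg.Lib.Sig

open Subgroup

variable {G : Type*} [Group G] [Finite G] {p : ℕ} [hp : Fact p.Prime]

omit hp in
theorem normalizer_le_normalizer_map_pPrimeCore (H : Subgroup G) :
    H ≤ normalizer ((Cfsg.pPrimeCore p ↥H).map H.subtype : Set G) := by
  intro h hh
  have h0 : (⟨h, hh⟩ : ↥H) ∈ normalizer (Cfsg.pPrimeCore p ↥H : Set ↥H) := by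
    rw [normalizer_eq_top_iff.2 inferInstance]; trivial
  exact le_normalizer_map H.subtype (mem_map_of_mem H.subtype h0)

theorem pPrimeCore_normalizer_centralizes {P : Subgroup G} (hP : IsPGroup p ↥P) :
    (Cfsg.pPrimeCore p ↥(normalizer (P : Set G))).map (normalizer (P : Set G)).subtype ≤
      centralizer (P : Set G) := by
  set N := normalizer (P : Set G)
  set Q := (Cfsg.pPrimeCore p ↥N).map N.subtype with hQ
  have hcop : (Nat.card ↥Q).Coprime p :=
    Nat.Coprime.coprime_dvd_left (card_map_dvd _ _) (Cfsg.Lib.Core.pPrimeCore_coprime p ↥N)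
  refine commutator_eq_bot_iff_le_centralizer.1 (le_bot_iff.1 ?_)
  rw [← disjoint_of_isPGroup_coprime hP hcop]
  exact le_inf (le_normalizer_iff_commutator_le_right.1 (map_subtype_le _))
    (le_normalizer_iff_commutator_le_left.1
      (le_normalizer.trans (normalizer_le_normalizer_map_pPrimeCore N)))

theorem pPrimeCore_normalizer_le (hG : Cfsg.IsPConstrained p G) {P : Subgroup G}
    (hP : IsPGroup p ↥P) :
    (Cfsg.pPrimeCore p ↥(normalizer (P : Set G))).map (normalizer (P : Set G)).subtype ≤
      Cfsg.pPrimeCore p G :=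
  le_pPrimeCore_of_centralizes hG hP
    (Nat.Coprime.coprime_dvd_left (card_map_dvd _ _) (Cfsg.Lib.Core.pPrimeCore_coprime p _))
    (pPrimeCore_normalizer_centralizes hP)
    ((centralizer_le_normalizer _).trans (normalizer_le_normalizer_map_pPrimeCore _))

/-- In a group with `C(O_p) ≤ O_p` every p-local subgroup has the same property. -/
theorem centralizer_pCore_normalizer_le
    (hC : centralizer (Cfsg.pCore p G : Set G) ≤ Cfsg.pCore p G) {P : Subgroup G}
    (hP : IsPGroup p ↥P) :
    centralizer (Cfsg.pCore p ↥(normalizer (P : Set G)) : Set ↥(normalizer (P : Set G))) ≤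
      Cfsg.pCore p ↥(normalizer (P : Set G)) := by
  set H := normalizer (P : Set G) with hH
  set O := Cfsg.pCore p ↥H
  set C := centralizer (O : Set ↥H) with hCdef
  have hPH : P ≤ H := le_normalizer
  have hPn : (P.subgroupOf H).Normal := (normal_subgroupOf_iff_le_normalizer hPH).2 le_rfl
  have hPO : P.subgroupOf H ≤ O :=
    Cfsg.Lib.Core.le_pCore' hPn (hP.of_equiv (subgroupOfEquivOfLe hPH).symm)
  have hRO : (Cfsg.pCore p G).subgroupOf H ≤ O :=
    Cfsg.Lib.Core.le_pCore' inferInstance
      ((Cfsg.Lib.Core.pCore_isPGroup p G).comap_of_injective H.subtype H.subtype_injective)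
  refine Cfsg.Lib.Core.le_pCore' inferInstance ?_
  obtain ⟨k, hk⟩ : ∃ k, Nat.card ↥C = p ^ k := by
    refine ⟨_, Nat.eq_prime_pow_of_unique_prime_dvd Nat.card_pos.ne' fun {q} hq hqd => ?_⟩
    by_contra hqp
    have : Fact q.Prime := ⟨hq⟩
    obtain ⟨c, hc⟩ := exists_prime_orderOf_dvd_card' q hqd
    set Q := zpowers (((c : ↥H) : G)) with hQ
    have hQcard : Nat.card ↥Q = q := by
      rw [hQ, Nat.card_zpowers, Subgroup.orderOf_coe, Subgroup.orderOf_coe, hc]
    have hcop : (Nat.card ↥Q).Coprime p := by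
      rw [hQcard]; exact (Nat.coprime_primes hq hp.out).2 hqp
    have hcQ : ∀ (T : Subgroup G) (hT : T ≤ H), T.subgroupOf H ≤ O →
        Q ≤ centralizer (T : Set G) := fun T hT hTO => zpowers_le.2 (mem_centralizer_iff.2 fun y hy =>
      congrArg Subtype.val (mem_centralizer_iff.1 c.2 ⟨y, hT hy⟩ (hTO (mem_subgroupOf.2 hy))))
    have hbot := eq_bot_of_centralizer_pCore_le hC hP hcop (hcQ P hPH hPO) (by
      set V := Cfsg.pCore p G ⊓ centralizer (P : Set G)
      have hVH : V ≤ H := inf_le_right.trans (centralizer_le_normalizer _)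
      have h := hcQ V hVH ((comap_mono inf_le_left).trans hRO)
      exact (le_centralizer_iff.1 h).trans (centralizer_le_normalizer _))
    rw [hbot, card_bot] at hQcard
    exact hq.ne_one hQcard.symm
  exact IsPGroup.of_card hk

theorem generalizedFitting_normalizer (h : Cfsg.generalizedFittingSubgroup G = Cfsg.pCore p G)
    {P : Subgroup G} (hP : IsPGroup p ↥P) :
    Cfsg.generalizedFittingSubgroup ↥(normalizer (P : Set G)) =
      Cfsg.pCore p ↥(normalizer (P : Set G)) :=
  Cfsg.Lib.Core.generalizedFitting_eq_pCore_iff.2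
    (centralizer_pCore_normalizer_le (Cfsg.Lib.Core.generalizedFitting_eq_pCore_iff.1 h) hP)

omit hp in
theorem map_centralizer_equiv {G' : Type*} [Group G'] (e : G ≃* G') (A : Subgroup G) :
    (centralizer (A : Set G)).map e.toMonoidHom = centralizer ((A.map e.toMonoidHom : Subgroup G') : Set G') := by
  ext y
  rw [mem_map_equiv, mem_centralizer_iff, mem_centralizer_iff]
  constructor
  · rintro h _ ⟨a, ha, rfl⟩
    have := congrArg e (h a ha)
    simpa using this
  · intro h a ha
    exact e.injective (by simpa using h (e a) ⟨a, ha, rfl⟩)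

theorem isPConstrained_normalizer (hG : Cfsg.IsPConstrained p G) {P : Subgroup G}
    (hP : IsPGroup p ↥P) : Cfsg.IsPConstrained p ↥(normalizer (P : Set G)) := by
  set M := Cfsg.pPrimeCore p G with hM
  set f := QuotientGroup.mk' M with hf
  set H := normalizer (P : Set G) with hH
  set Pb := P.map f
  have hHimg : H.map f = normalizer (Pb : Set (G ⧸ M)) := by
    refine le_antisymm (le_normalizer_map f) fun y hy => ?_
    obtain ⟨x, rfl⟩ := QuotientGroup.mk'_surjective M y
    have hcop : (Nat.card ↥M).Coprime p := Cfsg.Lib.Core.pPrimeCore_coprime p G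
    have hidx : ¬ p ∣ P.relIndex (P ⊔ M) := by
      have h := Cfsg.Lib.Core.card_mul_relIndex (le_sup_left : P ≤ P ⊔ M)
      rw [card_sup_coprime M P (disjoint_of_isPGroup_coprime hP hcop), mul_comm (Nat.card ↥M)] at h
      rw [Nat.eq_of_mul_eq_mul_left Nat.card_pos h]
      exact hp.out.coprime_iff_not_dvd.1 hcop.symm
    have hR : P.map (MulAut.conj x).toMonoidHom ≤ P ⊔ M := by
      rintro _ ⟨a, ha, rfl⟩
      have h := (mem_normalizer_iff.1 hy (f a)).1 (mem_map_of_mem f ha)
      rw [← map_inv, ← map_mul, ← map_mul] at h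
      obtain ⟨b, hb, e⟩ := h
      have hm : b⁻¹ * (x * a * x⁻¹) ∈ M := QuotientGroup.eq.1 e
      have := mul_mem (mem_sup_left (T := M) hb) (mem_sup_right (S := P) hm)
      simpa using this
    obtain ⟨c, hc, hle⟩ := exists_conj_le_of_relIndex le_sup_left hP hidx hR (hP.map _)
    rw [map_conj_map_conj] at hle
    have hcx := mem_normalizer_of_map_conj
      (eq_of_le_of_card_ge hle (le_of_eq (card_map_conj _ _).symm))
    obtain ⟨b, hb, m, hm, rfl⟩ := mem_sup_of_normal_right.1 hc
    refine ⟨m * x, ?_, by simp [hf, (QuotientGroup.eq_one_iff m).2 hm]⟩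
    have h := mul_mem (le_normalizer (inv_mem hb)) hcx
    simpa [← mul_assoc] using h
  set φ := f.comp H.subtype with hφ
  have hker : φ.ker = Cfsg.pPrimeCore p ↥H := by
    refine le_antisymm ?_ ?_
    · refine Cfsg.Lib.Core.le_pPrimeCore' inferInstance ?_
      refine Nat.Coprime.coprime_dvd_left ?_ (Cfsg.Lib.Core.pPrimeCore_coprime p G)
      rw [← card_map_of_injective (K := φ.ker) H.subtype_injective]
      refine card_dvd_of_le ?_
      rintro _ ⟨x, hx, rfl⟩
      exact (QuotientGroup.eq_one_iff _).1 hx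
    · intro x hx
      exact (QuotientGroup.eq_one_iff _).2 (pPrimeCore_normalizer_le hG hP (mem_map_of_mem H.subtype hx))
  have hrange : φ.range = normalizer (Pb : Set (G ⧸ M)) := by
    rw [hφ, MonoidHom.range_comp, range_subtype, hHimg]
  let e : ↥H ⧸ Cfsg.pPrimeCore p ↥H ≃* ↥(normalizer (Pb : Set (G ⧸ M))) :=
    ((QuotientGroup.quotientMulEquivOfEq hker.symm).trans (QuotientGroup.quotientKerEquivRange φ)).trans
      (MulEquiv.subgroupCongr hrange)
  refine isPConstrained_iff.2 ?_
  have h := centralizer_pCore_normalizer_le (isPConstrained_iff.1 hG) (hP.map f)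
  rw [← Cfsg.Lib.Core.map_pCore_equiv e] at h
  intro x hx
  have h2 := h (show e x ∈ _ from by
    rw [← map_centralizer_equiv e]
    exact ⟨x, hx, rfl⟩)
  exact (mem_map_iff_mem e.injective).1 h2

theorem pLayer_normalizer_eq_bot (hL : Cfsg.pLayer p G = ⊥) {P : Subgroup G} (hP : IsPGroup p ↥P) :
    Cfsg.pLayer p ↥(normalizer (P : Set G)) = ⊥ :=
  isPConstrained_iff_pLayer.1 (isPConstrained_normalizer (isPConstrained_iff_pLayer.2 hL) hP)

end Cfsg.Lib.Sig
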