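import Cfsg.Prelude.Def_Balance
import Cfsg.Agent.Lib.Sig.PLocal
import Cfsg.Agent.Lib.Coprime.Action

/-!
The extended 2-layer.
-/

set_option autoImplicit false

namespace Cfsg.Lib.Sig

open Subgroup

variable {X : Type*} [Group X] [Finite X]

/-- `O(C_X(A))` viewed in `X`. -/
def oddCoreCentralizer (A : Subgroup X) : Subgroup X :=
  (Cfsg.oddCore ↥(centralizer (A : Set X))).map (centralizer (A : Set X)).subtype

omit [Finite X] in
theorem oddCoreCentralizer_le (A : Subgroup X) : oddCoreCentralizer A ≤ centralizer (A : Set X) :=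
  map_subtype_le _

theorem map_pPrimeCore_subtype_equiv (p : ℕ) {Y : Type*} [Group Y] [Finite Y] (e : X ≃* Y)
    (H : Subgroup X) :
    ((Cfsg.pPrimeCore p ↥H).map H.subtype).map e.toMonoidHom =
      (Cfsg.pPrimeCore p ↥(H.map e.toMonoidHom)).map (H.map e.toMonoidHom).subtype := by
  rw [← Cfsg.Lib.Core.map_pPrimeCore_equiv (p := p) (H.equivMapOfInjective e.toMonoidHom e.injective),
    map_map, map_map]
  rfl

theorem oddCoreCentralizer_map (e : X ≃* X) (A : Subgroup X) :
    (oddCoreCentralizer A).map e.toMonoidHom = oddCoreCentralizer (A.map e.toMonoidHom) := by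
  show ((Cfsg.pPrimeCore 2 ↥(centralizer (A : Set X))).map _).map e.toMonoidHom = _
  rw [map_pPrimeCore_subtype_equiv, map_centralizer_equiv]
  rfl

local notation "MM" => Cfsg.pLayer 2 X ⊔ Cfsg.pPrimePCore 2 X
local notation "EE" => Cfsg.pLayer 2 X ⊔ Cfsg.oddCore X

instance normal_pLayer (p : ℕ) [Fact p.Prime] : (Cfsg.pLayer p X).Normal := by
  refine ⟨fun x hx g => ?_⟩
  have h : (Cfsg.pLayer p X).map (MulAut.conj g).toMonoidHom ≤ Cfsg.pLayer p X := by
    rw [map_le_iff_le_comap]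
    refine sSup_le fun K hK => map_le_iff_le_comap.1 ?_
    set f := QuotientGroup.mk' (Cfsg.pPrimeCore p X) with hf
    have hKb : Cfsg.IsComponent ((K.map f).map (MulAut.conj (f g)).toMonoidHom) :=
      Cfsg.Lib.Core.IsComponent.map_conj hK.2.1 _
    have hle : (pElementsClosure p K).map (MulAut.conj g).toMonoidHom ≤
        pComponentOver ((K.map f).map (MulAut.conj (f g)).toMonoidHom) := by
      rw [pElementsClosure, MonoidHom.map_closure]
      refine closure_mono ?_
      rintro _ ⟨y, ⟨hy, k, hk⟩, rfl⟩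
      refine ⟨mem_comap.2 ⟨f y, mem_map_of_mem f hy, ?_⟩, k, ?_⟩
      · show f g * f y * (f g)⁻¹ = f (g * y * g⁻¹)
        rw [map_mul, map_mul, map_inv]
      rw [← hk]
      exact MulEquiv.orderOf_eq (MulAut.conj g) y
    rw [pComponent_eq_closure hK] at hle
    exact hle.trans (le_sSup (isPComponent_pComponentOver hKb))
  exact h ⟨x, hx, rfl⟩

instance normal_pPrimePCore (p : ℕ) : (Cfsg.pPrimePCore p X).Normal := by
  unfold Cfsg.pPrimePCore; infer_instance

theorem sylow_ambient (T : Sylow 2 ↥(MM)) :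
    (((T : Subgroup ↥(MM)).map (MM).subtype) : Subgroup X).subgroupOf MM = (T : Subgroup ↥(MM)) :=
  comap_map_eq_self_of_injective (subtype_injective _) _

theorem pPrimePCore_le_sup (T : Sylow 2 ↥(MM)) :
    Cfsg.pPrimePCore 2 X ≤ Cfsg.oddCore X ⊔ (T : Subgroup ↥(MM)).map (MM).subtype := by
  set T' := (T : Subgroup ↥(MM)).map (MM).subtype with hT'
  set H := (Cfsg.oddCore X ⊔ T') ⊓ (Cfsg.pPrimePCore 2 X) with hHdef
  have hN : Cfsg.oddCore X ≤ (Cfsg.pPrimePCore 2 X) := by
    have h := ker_le_comap (QuotientGroup.mk' (Cfsg.pPrimeCore 2 X)) (Cfsg.pCore 2 (X ⧸ Cfsg.pPrimeCore 2 X))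
    rwa [QuotientGroup.ker_mk'] at h
  have h1 : H.relIndex (Cfsg.pPrimePCore 2 X) ∣ T'.relIndex (Cfsg.pPrimePCore 2 X) := by
    rw [← inf_relIndex_right T' (Cfsg.pPrimePCore 2 X)]
    exact relIndex_dvd_of_le_left _ (le_inf (inf_le_left.trans le_sup_right) inf_le_right)
  have h2 : H.relIndex (Cfsg.pPrimePCore 2 X) ∣ (Cfsg.oddCore X).relIndex (Cfsg.pPrimePCore 2 X) :=
    relIndex_dvd_of_le_left _ (le_inf le_sup_left hN)
  have hT2 : ¬ 2 ∣ T'.relIndex (Cfsg.pPrimePCore 2 X) := by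
    have h := Cfsg.Lib.Solv.not_dvd_relIndex_of_isSubnormal T (H := (Cfsg.pPrimePCore 2 X).subgroupOf MM)
      (Subgroup.Normal.isSubnormal inferInstance)
    rwa [← sylow_ambient T, relIndex_subgroupOf le_sup_right] at h
  obtain ⟨k, hk⟩ := IsPGroup.iff_card.mp (Cfsg.Lib.Core.pCore_isPGroup 2 (X ⧸ Cfsg.pPrimeCore 2 X))
  have hN2 : (Cfsg.oddCore X).relIndex (Cfsg.pPrimePCore 2 X) = 2 ^ k := by
    have h := Cfsg.Lib.Core.card_mul_relIndex hN
    have hc := Cfsg.Lib.Core.card_comap_eq (QuotientGroup.mk' (Cfsg.pPrimeCore 2 X))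
      (QuotientGroup.mk'_surjective _) (Cfsg.pCore 2 (X ⧸ Cfsg.pPrimeCore 2 X))
    rw [QuotientGroup.ker_mk', hk] at hc
    exact Nat.eq_of_mul_eq_mul_left Nat.card_pos (h.trans hc)
  rw [hN2] at h2
  have hone : H.relIndex (Cfsg.pPrimePCore 2 X) = 1 := by
    obtain ⟨j, -, hj⟩ := (Nat.dvd_prime_pow Nat.prime_two).1 h2
    cases j with
    | zero => rw [hj, pow_zero]
    | succ j => exact absurd ((hj ▸ dvd_pow_self 2 (Nat.succ_ne_zero j) : 2 ∣ H.relIndex (Cfsg.pPrimePCore 2 X)).trans h1) hT2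
  rw [hHdef, inf_relIndex_right] at hone
  exact relIndex_eq_one.1 hone

theorem le_sup_sylow (T : Sylow 2 ↥(MM)) :
    MM ≤ EE ⊔ (T : Subgroup ↥(MM)).map (MM).subtype :=
  sup_le (le_sup_of_le_left le_sup_left)
    ((pPrimePCore_le_sup T).trans (sup_le_sup_right le_sup_right _))

theorem le_normalizer_sup_oddCoreCentralizer (T : Sylow 2 ↥(MM)) :
    MM ≤ normalizer ((EE ⊔ oddCoreCentralizer ((T : Subgroup ↥(MM)).map (MM).subtype) : Subgroup X) : Set X) := by
  set T' := (T : Subgroup ↥(MM)).map (MM).subtype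
  refine (le_sup_sylow T).trans (sup_le (le_sup_left.trans le_normalizer) fun t ht => ?_)
  refine mem_normalizer_of_map_conj ?_
  rw [Subgroup.map_sup]
  congr 1
  · exact map_conj_eq_of_mem_normalizer (by rw [normalizer_eq_top_iff.2 inferInstance]; trivial)
  · rw [oddCoreCentralizer_map, map_conj_eq_of_mem_normalizer (le_normalizer ht)]

theorem extendedTwoLayer_eq (T : Sylow 2 ↥(MM)) :
    Cfsg.extendedTwoLayer X = EE ⊔ oddCoreCentralizer ((T : Subgroup ↥(MM)).map (MM).subtype) := by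
  have hdef : Cfsg.extendedTwoLayer X =
      EE ⊔ ⨆ T₀ : Sylow 2 ↥(MM), oddCoreCentralizer ((T₀ : Subgroup ↥(MM)).map (MM).subtype) := rfl
  rw [hdef]
  refine le_antisymm (sup_le le_sup_left (iSup_le fun T₂ => ?_))
    (sup_le_sup_left (le_iSup (fun T₀ : Sylow 2 ↥(MM) => oddCoreCentralizer ((T₀ : Subgroup ↥(MM)).map (MM).subtype)) T) _)
  obtain ⟨m, hm, e⟩ := Cfsg.Lib.Coprime.exists_sylow_conj T T₂
  rw [e, ← oddCoreCentralizer_map]
  exact (map_mono le_sup_right).trans
    (map_conj_eq_of_mem_normalizer (le_normalizer_sup_oddCoreCentralizer T hm)).le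

/-- The Sylow subgroup of `L_{2'}O_{2',2}` cut out by a Sylow 2-subgroup of `X`. -/
noncomputable def sylowMM (S : Sylow 2 X) : Sylow 2 ↥(MM) :=
  (S.2.comap_of_injective (MM).subtype (subtype_injective _)).toSylow
    (P := (S : Subgroup X).subgroupOf MM)
    (by
      intro h
      exact Cfsg.Lib.Solv.not_dvd_relIndex_of_isSubnormal S (H := MM)
        (Subgroup.Normal.isSubnormal inferInstance) h)

theorem map_sylowMM (S : Sylow 2 X) :
    (sylowMM S : Subgroup ↥(MM)).map (MM).subtype = (S : Subgroup X) ⊓ MM :=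
  subgroupOf_map_subtype _ _

theorem extendedTwoLayer_normal : (Cfsg.extendedTwoLayer X).Normal := by
  obtain ⟨S⟩ : Nonempty (Sylow 2 X) := inferInstance
  refine ⟨fun x hx g => ?_⟩
  have h : (Cfsg.extendedTwoLayer X).map (MulAut.conj g).toMonoidHom ≤ Cfsg.extendedTwoLayer X := by
    conv_lhs => rw [extendedTwoLayer_eq (sylowMM S)]
    rw [extendedTwoLayer_eq (sylowMM (g • S)), Subgroup.map_sup]
    refine sup_le_sup (le_of_eq (map_conj_eq_of_mem_normalizer (by rw [normalizer_eq_top_iff.2 inferInstance]; trivial))) ?_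
    rw [oddCoreCentralizer_map, map_sylowMM, map_sylowMM,
      map_inf _ _ _ (MulAut.conj g).injective, Sylow.coe_subgroup_smul,
      map_conj_eq_of_mem_normalizer (H := MM) (by rw [normalizer_eq_top_iff.2 inferInstance]; trivial)]
    rfl
  exact h ⟨x, hx, rfl⟩

theorem exists_odd_complement (S : Sylow 2 X) :
    ∃ F : Subgroup X, Odd (Nat.card ↥F) ∧ (S : Subgroup X) ≤ normalizer (F : Set X) ∧
      Cfsg.extendedTwoLayer X = Cfsg.pLayer 2 X ⊔ F := by
  set T' := (sylowMM S : Subgroup ↥(MM)).map (MM).subtype with hT'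
  refine ⟨Cfsg.oddCore X ⊔ oddCoreCentralizer T', ?_, ?_, ?_⟩
  · rw [Nat.odd_iff, ← Nat.two_dvd_ne_zero]
    intro h
    have hn : (Cfsg.oddCore X).Normal := (inferInstance : (Cfsg.pPrimeCore 2 X).Normal)
    have hc : (Nat.card ↥(oddCoreCentralizer T' ⊔ Cfsg.oddCore X : Subgroup X)).Coprime 2 :=
      Cfsg.Lib.Core.coprime_card_sup
        (Nat.Coprime.coprime_dvd_left (Cfsg.Lib.Core.card_map_dvd _ _) (Cfsg.Lib.Core.pPrimeCore_coprime 2 _))
        (Cfsg.Lib.Core.pPrimeCore_coprime 2 X)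
    rw [sup_comm] at h
    exact Nat.prime_two.coprime_iff_not_dvd.1 hc.symm h
  · intro s hs
    refine mem_normalizer_of_map_conj ?_
    rw [Subgroup.map_sup]
    congr 1
    · exact map_conj_eq_of_mem_normalizer (by
        rw [normalizer_eq_top_iff.2 (inferInstance : (Cfsg.pPrimeCore 2 X).Normal)]; trivial)
    · rw [oddCoreCentralizer_map, hT', map_sylowMM, map_inf _ _ _ (MulAut.conj s).injective,
        map_conj_eq_of_mem_normalizer (le_normalizer hs),
        map_conj_eq_of_mem_normalizer (H := MM) (by rw [normalizer_eq_top_iff.2 inferInstance]; trivial)]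
  · rw [extendedTwoLayer_eq (sylowMM S), sup_assoc]

theorem pComponent_normal_in_extendedTwoLayer {K : Subgroup X} (hK : Cfsg.IsPComponent 2 K) :
    K ≤ Cfsg.extendedTwoLayer X ∧ (K.subgroupOf (Cfsg.extendedTwoLayer X)).Normal := by
  obtain ⟨S⟩ : Nonempty (Sylow 2 X) := inferInstance
  have hle : K ≤ Cfsg.extendedTwoLayer X := le_sup_of_le_left (le_sup_of_le_left (le_sSup hK))
  refine ⟨hle, (normal_subgroupOf_iff_le_normalizer hle).2 ?_⟩
  set f := QuotientGroup.mk' (Cfsg.pPrimeCore 2 X) with hf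
  have hfix : ∀ x : X, (K.map f).map (MulAut.conj (f x)).toMonoidHom = K.map f →
      x ∈ normalizer (K : Set X) := by
    intro x hx
    rw [eq_pComponentOver hK]
    exact normalizer_le_normalizer_pElementsClosure 2 _
      (le_normalizer_comap f (mem_comap.2 (mem_normalizer_of_map_conj hx)))
  rw [extendedTwoLayer_eq (sylowMM S)]
  refine sup_le (sup_le (sSup_le fun L hL => pComponent_normalizes hK hL) fun x hx => hfix x ?_) fun y hy => hfix y ?_
  · rw [show f x = 1 from (QuotientGroup.eq_one_iff x).2 hx, map_conj_one]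
  by_contra hne
  have hKM : K ≤ MM := le_sup_of_le_left (le_sSup hK)
  have hidx : ¬ 2 ∣ (S : Subgroup X).relIndex K := Cfsg.Lib.Solv.not_dvd_relIndex_of_isSubnormal S hK.1
  set Q := ((S : Subgroup X) ⊓ K).map f with hQ
  have hQK : Q ≤ K.map f := map_mono inf_le_right
  have hQy : Q ≤ (K.map f).map (MulAut.conj (f y)).toMonoidHom := by
    rintro _ ⟨s, hs, rfl⟩
    refine mem_map_conj_iff.2 ?_
    have hc : s * y = y * s := mem_centralizer_iff.1 (oddCoreCentralizer_le _ hy) s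
      (by rw [map_sylowMM]; exact ⟨hs.1, hKM hs.2⟩)
    refine ⟨s, hs.2, ?_⟩
    rw [← map_inv, ← map_mul, ← map_mul]
    congr 1
    rw [mul_assoc, hc]; group
  have hcomm := Cfsg.Lib.Core.component_commute hK.2.1
    (Cfsg.Lib.Core.IsComponent.map_conj hK.2.1 (f y)) (fun e => hne e.symm)
  have hQp : IsPGroup 2 ↥(Q.subgroupOf (K.map f)) :=
    (((S.2.to_le inf_le_left : IsPGroup 2 ↥((S : Subgroup X) ⊓ K)).map f)).of_equiv (subgroupOfEquivOfLe hQK).symm
  have hQidx : ¬ 2 ∣ (Q.subgroupOf (K.map f)).index := fun hd => hidx (Dvd.dvd.trans hd (by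
    show Q.relIndex (K.map f) ∣ _
    rw [← inf_relIndex_right (S : Subgroup X) K, ← relIndex_comap]
    exact relIndex_dvd_of_le_left _ (le_comap_map f _)))
  have hbot := not_dvd_card_of_perfect_of_central_sylow (Cfsg.Lib.Core.quasisimple_commutator hK.2.1.2)
    (hQp.toSylow hQidx) (fun a ha => mem_center_iff.2 fun b => Subtype.ext
      (Cfsg.Lib.Core.commutator_eq_bot_iff_forall.1 hcomm b b.2 a (hQy (mem_subgroupOf.1 ha))))
  exact (hQp.toSylow hQidx).ne_bot_of_dvd_card
    (dvd_card_component Cfsg.Lib.Core.pPrimeCore_quotient_eq_bot hK.2.1) hbot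

end Cfsg.Lib.Sig
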