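import Cfsg.Prelude.Def_Local
import Cfsg.Agent.Lib.Core.Layer
import Cfsg.Agent.Lib.Solv.Nilpotent
import Cfsg.Agent.Lib.Fusion.Abelian
import Cfsg.Agent.Lib.Sig.PConstrained

/-!
p-components: the p-component over a component of `X / O_{p'}(X)` is the subgroup generated by the
p-elements of its preimage.
-/

set_option autoImplicit false

namespace Cfsg.Lib.Sig

open Subgroup
open scoped commutatorElement

variable {X : Type*} [Group X]

/-- The subgroup generated by the p-elements of `M`. -/
def pElementsClosure (p : ℕ) (M : Subgroup X) : Subgroup X :=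
  Subgroup.closure {x : X | x ∈ M ∧ ∃ k : ℕ, orderOf x = p ^ k}

theorem pElementsClosure_le (p : ℕ) (M : Subgroup X) : pElementsClosure p M ≤ M :=
  (closure_le _).2 fun _ hx => hx.1

theorem normalizer_le_normalizer_pElementsClosure (p : ℕ) (M : Subgroup X) :
    normalizer (M : Set X) ≤ normalizer (pElementsClosure p M : Set X) := by
  intro g hg
  refine mem_normalizer_of_map_conj (le_antisymm ?_ ?_)
  · rw [pElementsClosure, MonoidHom.map_closure]
    refine closure_mono ?_
    rintro _ ⟨x, ⟨hxM, k, hk⟩, rfl⟩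
    refine ⟨(mem_normalizer_iff.1 hg x).1 hxM, k, ?_⟩
    rw [← hk]
    exact MulEquiv.orderOf_eq (MulAut.conj g) x
  · rw [pElementsClosure, MonoidHom.map_closure]
    refine closure_mono ?_
    rintro x ⟨hxM, k, hk⟩
    refine ⟨g⁻¹ * x * g, ⟨(mem_normalizer_iff.1 hg _).2 (by simpa [mul_assoc] using hxM), k, ?_⟩, by simp [mul_assoc]⟩
    rw [← hk, ← MulEquiv.orderOf_eq (MulAut.conj g) (g⁻¹ * x * g)]
    congr 1; simp [mul_assoc]

variable [Finite X] {p : ℕ} [hp : Fact p.Prime]

theorem isSubnormal_pElementsClosure {M : Subgroup X} (hM : M.IsSubnormal) :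
    (pElementsClosure p M).IsSubnormal := by
  refine IsSubnormal.trans (pElementsClosure_le p M) ?_ hM
  exact ((normal_subgroupOf_iff_le_normalizer (pElementsClosure_le p M)).2
    (le_normalizer.trans (normalizer_le_normalizer_pElementsClosure p M))).isSubnormal

omit [Finite X] hp in
theorem isPGroup_zpowers_of_orderOf {x : X} {k : ℕ} (hk : orderOf x = p ^ k) :
    IsPGroup p ↥(zpowers x) := IsPGroup.of_card (n := k) (by rw [Nat.card_zpowers, hk])

theorem mem_of_isSubnormal_of_relIndex {H M : Subgroup X} (hHM : H ≤ M)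
    (hH : (H.subgroupOf M).IsSubnormal) (hidx : ¬ p ∣ H.relIndex M) {x : X} (hxM : x ∈ M)
    {k : ℕ} (hk : orderOf x = p ^ k) : x ∈ H := by
  have hp' : IsPGroup p ↥(zpowers (⟨x, hxM⟩ : ↥M)) := IsPGroup.of_card (n := k) (by
    rw [Nat.card_zpowers, Subgroup.orderOf_mk, hk])
  obtain ⟨S, hS⟩ := hp'.exists_le_sylow
  have h1 : ¬ p ∣ (S : Subgroup ↥M).relIndex (H.subgroupOf M) :=
    Cfsg.Lib.Solv.not_dvd_relIndex_of_isSubnormal S hH
  have hle : (S : Subgroup ↥M) ≤ H.subgroupOf M := by
    have hinf : (S : Subgroup ↥M) ⊓ H.subgroupOf M = (S : Subgroup ↥M) := by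
      refine eq_of_le_of_card_ge inf_le_left ?_
      obtain ⟨a, ha⟩ := IsPGroup.iff_card.mp S.2
      have e1 := Cfsg.Lib.Core.card_mul_relIndex (inf_le_right : (S : Subgroup ↥M) ⊓ H.subgroupOf M ≤ H.subgroupOf M)
      rw [inf_relIndex_right] at e1
      have e3 := card_mul_index (H.subgroupOf M)
      rw [← e1] at e3
      have hdvd : Nat.card ↥(S : Subgroup ↥M) ∣
          Nat.card ↥((S : Subgroup ↥M) ⊓ H.subgroupOf M) * ((S : Subgroup ↥M).relIndex (H.subgroupOf M) * (H.subgroupOf M).index) := by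
        rw [← mul_assoc, e3]; exact card_subgroup_dvd_card _
      have hc : (Nat.card ↥(S : Subgroup ↥M)).Coprime ((S : Subgroup ↥M).relIndex (H.subgroupOf M) * (H.subgroupOf M).index) := by
        rw [ha]
        refine Nat.Coprime.pow_left _ ?_
        rw [hp.out.coprime_iff_not_dvd]
        intro hd
        rcases hp.out.dvd_mul.1 hd with h | h
        · exact h1 h
        · exact hidx h
      exact Nat.le_of_dvd Nat.card_pos (hc.dvd_of_dvd_mul_right hdvd)
    rw [← hinf]; exact inf_le_right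
  exact hle (hS (mem_zpowers _))

theorem pElementsClosure_le_of_relIndex {H M : Subgroup X} (hHM : H ≤ M)
    (hH : (H.subgroupOf M).IsSubnormal) (hidx : ¬ p ∣ H.relIndex M) : pElementsClosure p M ≤ H :=
  (closure_le _).2 fun _ hx => hx.2.elim fun _ hk => mem_of_isSubnormal_of_relIndex hHM hH hidx hx.1 hk

theorem isPGroup_le_pElementsClosure {R M : Subgroup X} (hR : IsPGroup p ↥R) (hRM : R ≤ M) :
    R ≤ pElementsClosure p M := by
  intro x hx
  obtain ⟨k, hk⟩ := IsPGroup.iff_orderOf.1 hR ⟨x, hx⟩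
  exact subset_closure ⟨hRM hx, k, by rwa [Subgroup.orderOf_mk] at hk⟩

theorem not_dvd_relIndex_pElementsClosure (M : Subgroup X) :
    ¬ p ∣ (pElementsClosure p M).relIndex M := by
  obtain ⟨S⟩ : Nonempty (Sylow p ↥M) := inferInstance
  intro hd
  refine S.not_dvd_index (hd.trans (index_dvd_of_le (H := (S : Subgroup ↥M)) ?_))
  intro x hx
  exact isPGroup_le_pElementsClosure (S.2.map M.subtype) (map_subtype_le _) (mem_map_of_mem M.subtype hx)

theorem not_dvd_card_of_perfect_of_central_sylow {K : Type*} [Group K] [Finite K]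
    (hK : commutator K = ⊤) (P : Sylow p K) (hP : (P : Subgroup K) ≤ center K) :
    (P : Subgroup K) = ⊥ := by
  have : IsMulCommutative (P : Subgroup K) :=
    ⟨⟨fun a b => Subtype.ext ((mem_center_iff.1 (hP b.2)) a)⟩⟩
  have h := Cfsg.Lib.Fusion.inf_commutator_inf_center_eq_bot_sylow P
  rwa [hK, inf_top_eq, inf_eq_left.2 hP] at h

theorem dvd_card_component (hO : Cfsg.pPrimeCore p X = ⊥) {L : Subgroup X} (hL : Cfsg.IsComponent L) :
    p ∣ Nat.card ↥L := by
  by_contra h
  refine Cfsg.Lib.Core.IsComponent.ne_bot hL (le_bot_iff.1 (hO ▸ ?_))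
  exact Cfsg.Lib.Core.le_pPrimeCore_of_isSubnormal hL.1 (hp.out.coprime_iff_not_dvd.2 h).symm

/-! ### The component over a component of the quotient -/

section Over

variable (Kb : Subgroup (X ⧸ Cfsg.pPrimeCore p X))

local notation "π" => QuotientGroup.mk' (Cfsg.pPrimeCore p X)

/-- The p-component over a component `Kb` of the quotient by the p'-core. -/
def pComponentOver : Subgroup X := pElementsClosure p (Kb.comap π)

variable {Kb}

theorem map_pComponentOver (hKb : Cfsg.IsComponent Kb) : (pComponentOver Kb).map π = Kb := by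
  set f := π with hf
  set M := Kb.comap f with hM
  have hMK : M.map f = Kb := map_comap_eq_self_of_surjective (QuotientGroup.mk'_surjective _) Kb
  have hle : (pComponentOver Kb).map f ≤ Kb := by
    conv_rhs => rw [← hMK]
    exact map_mono (pElementsClosure_le p M)
  have hn : (((pComponentOver Kb).map f).subgroupOf Kb).Normal := by
    refine (normal_subgroupOf_iff_le_normalizer hle).2 ?_
    conv_lhs => rw [← hMK]
    exact (map_mono (le_normalizer.trans (normalizer_le_normalizer_pElementsClosure p M))).trans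
      (le_normalizer_map f)
  rcases Cfsg.Lib.Core.quasisimple_normal hKb.2 (N := ((pComponentOver Kb).map f).subgroupOf Kb) with h | h
  · exfalso
    obtain ⟨S⟩ : Nonempty (Sylow p ↥Kb) := inferInstance
    have hidx : ¬ p ∣ ((pComponentOver Kb).map f).relIndex Kb := fun hd =>
      not_dvd_relIndex_pElementsClosure M (hd.trans (by
        have h2 := relIndex_comap ((pComponentOver Kb).map f) f M
        rw [hMK] at h2
        rw [← h2]
        exact relIndex_dvd_of_le_left _ (le_comap_map f _)))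
    have hSc : (S : Subgroup ↥Kb) ≤ center ↥Kb := by
      refine fun x hx => h (mem_subgroupOf.2 ?_)
      obtain ⟨k, hk⟩ := IsPGroup.iff_orderOf.1 S.2 ⟨x, hx⟩
      rw [Subgroup.orderOf_mk, ← Subgroup.orderOf_coe] at hk
      exact mem_of_isSubnormal_of_relIndex hle hn.isSubnormal hidx x.2 hk
    exact S.ne_bot_of_dvd_card (dvd_card_component Cfsg.Lib.Core.pPrimeCore_quotient_eq_bot hKb)
      (not_dvd_card_of_perfect_of_central_sylow (Cfsg.Lib.Core.quasisimple_commutator hKb.2) S hSc)
  · exact le_antisymm hle (subgroupOf_eq_top.1 h)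

theorem pComponentOver_le_of_map_eq {H : Subgroup X} (hH : H.IsSubnormal)
    (hHK : H.map π = Kb) : pComponentOver Kb ≤ H := by
  set f := π with hf
  have hle : H ≤ Kb.comap f := map_le_iff_le_comap.1 hHK.le
  refine pElementsClosure_le_of_relIndex hle hH.subgroupOf ?_
  intro hd
  have h1 : H.relIndex (Kb.comap f) ∣ Nat.card ↥(Cfsg.pPrimeCore p X) := by
    have e : Kb.comap f = H ⊔ Cfsg.pPrimeCore p X := by
      rw [← hHK, comap_map_eq, hf, QuotientGroup.ker_mk']
    rw [e]
    refine Nat.dvd_of_mul_dvd_mul_left (k := Nat.card ↥H) Nat.card_pos ?_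
    rw [Cfsg.Lib.Core.card_mul_relIndex le_sup_left]
    exact Cfsg.Lib.Core.card_sup_dvd_mul H (Cfsg.pPrimeCore p X)
  exact Cfsg.Lib.Core.pPrimeCore_not_dvd p X (hd.trans h1)

theorem isPComponent_pComponentOver (hKb : Cfsg.IsComponent Kb) :
    Cfsg.IsPComponent p (pComponentOver Kb) := by
  refine ⟨isSubnormal_pElementsClosure (IsSubnormal.comap _ hKb.1), ?_, fun H hH hle he => ?_⟩
  · rw [map_pComponentOver hKb]; exact hKb
  · exact le_antisymm hle (pComponentOver_le_of_map_eq hH (he.trans (map_pComponentOver hKb)))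

end Over

variable {K L : Subgroup X}

theorem eq_pComponentOver (hK : Cfsg.IsPComponent p K) :
    K = pComponentOver (K.map (QuotientGroup.mk' (Cfsg.pPrimeCore p X))) :=
  (hK.2.2 _ (isPComponent_pComponentOver hK.2.1).1 (pComponentOver_le_of_map_eq hK.1 rfl)
    (map_pComponentOver hK.2.1)).symm

theorem pComponent_le_of_map_eq (hK : Cfsg.IsPComponent p K) {H : Subgroup X} (hH : H.IsSubnormal)
    (h : H.map (QuotientGroup.mk' (Cfsg.pPrimeCore p X)) =
      K.map (QuotientGroup.mk' (Cfsg.pPrimeCore p X))) : K ≤ H := by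
  rw [eq_pComponentOver hK]
  exact pComponentOver_le_of_map_eq hH h

theorem pComponent_eq_of_map_eq (hK : Cfsg.IsPComponent p K) (hL : Cfsg.IsPComponent p L)
    (h : K.map (QuotientGroup.mk' (Cfsg.pPrimeCore p X)) =
      L.map (QuotientGroup.mk' (Cfsg.pPrimeCore p X))) : K = L :=
  le_antisymm (pComponent_le_of_map_eq hK hL.1 h.symm) (pComponent_le_of_map_eq hL hK.1 h)

theorem map_pLayer : (Cfsg.pLayer p X).map (QuotientGroup.mk' (Cfsg.pPrimeCore p X)) =
    Cfsg.layer (X ⧸ Cfsg.pPrimeCore p X) := by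
  refine le_antisymm ?_ (sSup_le fun L hL => ?_)
  · rw [map_le_iff_le_comap]
    exact sSup_le fun K hK => map_le_iff_le_comap.1 (Cfsg.Lib.Core.le_layer hK.2.1)
  · rw [← map_pComponentOver hL]
    exact map_mono (le_sSup (isPComponent_pComponentOver hL))

theorem pLayer_eq_bot_iff : Cfsg.pLayer p X = ⊥ ↔ Cfsg.layer (X ⧸ Cfsg.pPrimeCore p X) = ⊥ := by
  constructor
  · intro h; rw [← map_pLayer, h, Subgroup.map_bot]
  · intro h
    refine sSup_eq_bot.2 fun K hK => ?_
    exact absurd hK.2.1 (Cfsg.Lib.Core.layer_eq_bot_iff.1 h _)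

theorem pComponent_perfect (hK : Cfsg.IsPComponent p K) : ⁅K, K⁆ = K :=
  hK.2.2 _ (Cfsg.Lib.Core.isSubnormal_commutator_self hK.1) (commutator_le_self K) (by
    rw [map_commutator]
    exact Cfsg.Lib.Core.IsComponent.commutator_eq hK.2.1)

theorem pComponent_eq_closure (hK : Cfsg.IsPComponent p K) : pElementsClosure p K = K := by
  refine le_antisymm (pElementsClosure_le p K) ?_
  conv_lhs => rw [eq_pComponentOver hK]
  refine (closure_le _).2 fun x hx => subset_closure ⟨?_, hx.2⟩
  rw [eq_pComponentOver hK]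
  exact subset_closure hx

theorem inf_pPrimeCore_eq (hK : K.IsSubnormal) :
    (Cfsg.pPrimeCore p ↥K).map K.subtype = Cfsg.pPrimeCore p X ⊓ K :=
  Cfsg.Lib.Core.pPrimeCore_map_eq_inf_of_isSubnormal hK

theorem dvd_card_pComponent (hK : Cfsg.IsPComponent p K) : p ∣ Nat.card ↥K :=
  (dvd_card_component Cfsg.Lib.Core.pPrimeCore_quotient_eq_bot hK.2.1).trans
    (Cfsg.Lib.Core.card_map_dvd _ K)

theorem isQuasisimple_quotient_pPrimeCore (hK : Cfsg.IsPComponent p K) :
    Cfsg.IsQuasisimple (↥K ⧸ Cfsg.pPrimeCore p ↥K) := by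
  set f := QuotientGroup.mk' (Cfsg.pPrimeCore p X) with hf
  have hker : (f.subgroupMap K).ker = Cfsg.pPrimeCore p ↥K := by
    apply Subgroup.map_injective K.subtype_injective
    rw [inf_pPrimeCore_eq hK.1]
    ext x
    simp only [mem_map, MonoidHom.mem_ker, mem_inf, coe_subtype]
    constructor
    · rintro ⟨y, hy, rfl⟩
      have h2 : f (y : X) = 1 := congrArg Subtype.val hy
      exact ⟨(QuotientGroup.eq_one_iff _).1 h2, y.2⟩
    · rintro ⟨hx, hxK⟩
      exact ⟨⟨x, hxK⟩, Subtype.ext ((QuotientGroup.eq_one_iff x).2 hx), rfl⟩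
  exact Cfsg.Lib.Core.quasisimple_congr hK.2.1.2
    ((QuotientGroup.quotientMulEquivOfEq hker.symm).trans
      (QuotientGroup.quotientKerEquivOfSurjective _ (f.subgroupMap_surjective K))).symm

omit [Finite X] in
theorem pComponent_ne_of_coprime (hK : Cfsg.IsPComponent p K) :
    ¬ K ≤ Cfsg.pPrimeCore p X := fun h => by
  have h2 : K.map (QuotientGroup.mk' (Cfsg.pPrimeCore p X)) = ⊥ := by
    rwa [Subgroup.map_eq_bot_iff, QuotientGroup.ker_mk']
  exact Cfsg.Lib.Core.IsComponent.ne_bot hK.2.1 h2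

theorem isQuasisimple_pComponent_iff (hK : Cfsg.IsPComponent p K) :
    Cfsg.IsQuasisimple ↥K ↔ ⁅K, Cfsg.pPrimeCore p X ⊓ K⁆ = ⊥ := by
  set N := Cfsg.pPrimeCore p X with hN
  set f := QuotientGroup.mk' N with hf
  constructor
  · intro h
    have : ((N ⊓ K).subgroupOf K).Normal := by rw [inf_subgroupOf_right]; infer_instance
    rcases Cfsg.Lib.Core.quasisimple_normal h (N := (N ⊓ K).subgroupOf K) with hc | hc
    · rw [commutator_comm, ← map_subgroupOf_eq_of_le (inf_le_right : N ⊓ K ≤ K)]
      refine Cfsg.Lib.Core.commutator_eq_bot_iff_forall.2 ?_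
      rintro _ ⟨a, ha, rfl⟩ b hb
      exact (congrArg Subtype.val (mem_center_iff.1 (hc ha) ⟨b, hb⟩)).symm
    · exact absurd ((subgroupOf_eq_top.1 hc).trans inf_le_left) (pComponent_ne_of_coprime hK)
  · intro h
    have hperf : Group.IsPerfect ↥K := Subgroup.isPerfect_iff.2 (pComponent_perfect hK)
    refine ⟨hperf, ?_⟩
    have hnt : Nontrivial (↥K ⧸ Subgroup.center ↥K) := QuotientGroup.nontrivial_iff.2 fun htop => by
      have hab : ⁅K, K⁆ = ⊥ := Cfsg.Lib.Core.commutator_eq_bot_iff_forall.2 fun a ha b hb =>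
        congrArg Subtype.val (mem_center_iff.1 (htop ▸ mem_top (⟨b, hb⟩ : ↥K)) ⟨a, ha⟩)
      rw [pComponent_perfect hK] at hab
      exact pComponent_ne_of_coprime hK (hab ▸ bot_le)
    refine { eq_bot_or_eq_top_of_normal := fun T hT => ?_ }
    set q := QuotientGroup.mk' (Subgroup.center ↥K) with hq
    set T' := T.comap q with hT'
    have hTn : T'.Normal := hT.comap q
    set H := T'.map K.subtype with hH
    have hHK : H ≤ K := map_subtype_le _
    have hHsn : H.IsSubnormal := (Cfsg.Lib.Core.isSubnormal_map_subtype_iff hK.1 T').2 hTn.isSubnormal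
    have hn : ((H.map f).subgroupOf (K.map f)).Normal := by
      refine (normal_subgroupOf_iff_le_normalizer (map_mono hHK)).2 ((map_mono ?_).trans (le_normalizer_map f))
      refine (normal_subgroupOf_iff_le_normalizer hHK).1 ?_
      rw [hH, subgroupOf, comap_map_eq_self_of_injective K.subtype_injective]
      exact hTn
    rcases Cfsg.Lib.Core.quasisimple_normal hK.2.1.2 (N := (H.map f).subgroupOf (K.map f)) with hc | hc
    · left
      have h1 : ⁅H, K⁆ ≤ N ⊓ K := by
        refine le_inf (commutator_le.2 fun a ha b hb => ?_) ((commutator_mono hHK le_rfl).trans (commutator_le_self K))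
        rw [← QuotientGroup.eq_one_iff]
        show f ⁅a, b⁆ = 1
        rw [map_commutatorElement, commutatorElement_eq_one_iff_mul_comm]
        exact (congrArg Subtype.val (mem_center_iff.1
          (hc (mem_subgroupOf.2 (mem_map_of_mem f ha) :
            (⟨f a, mem_map_of_mem f (hHK ha)⟩ : ↥(K.map f)) ∈ (H.map f).subgroupOf (K.map f)))
          ⟨f b, mem_map_of_mem f hb⟩)).symm
      have h2 : ⁅H, K⁆ = ⊥ := Cfsg.Lib.Core.commutator_eq_bot_of_perfect (pComponent_perfect hK)
        (le_bot_iff.1 ((commutator_mono h1 le_rfl).trans ((commutator_comm _ _).trans h).le))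
      refine le_bot_iff.1 fun y hy => ?_
      obtain ⟨x, rfl⟩ := QuotientGroup.mk'_surjective _ y
      refine mem_bot.2 ((QuotientGroup.eq_one_iff x).2 (mem_center_iff.2 fun z => Subtype.ext ?_))
      exact (Cfsg.Lib.Core.commutator_eq_bot_iff_forall.1 h2 x (mem_map_of_mem K.subtype (show x ∈ T' from hy)) z z.2).symm
    · right
      have hT'top : T' = ⊤ := by
        have := hK.2.2 H hHsn hHK (le_antisymm (map_mono hHK) (subgroupOf_eq_top.1 hc))
        refine top_le_iff.1 fun x _ => ?_
        have hx : (x : X) ∈ H := this.symm ▸ x.2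
        exact (mem_map_iff_mem K.subtype_injective).1 hx
      rw [← map_comap_eq_self_of_surjective (QuotientGroup.mk'_surjective _) T, ← hq, ← hT', hT'top]
      exact map_top_of_surjective q (QuotientGroup.mk'_surjective _)

theorem pComponent_normalizes (hK : Cfsg.IsPComponent p K) (hL : Cfsg.IsPComponent p L) :
    L ≤ normalizer (K : Set X) := by
  rw [eq_pComponentOver hK]
  refine le_trans ?_ (normalizer_le_normalizer_pElementsClosure p _)
  refine (map_le_iff_le_comap.1 (Cfsg.Lib.Core.component_le_normalizer hL.2.1 hK.2.1)).trans ?_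
  exact le_normalizer_comap _

theorem pComponent_commutator_le (hK : Cfsg.IsPComponent p K) (hL : Cfsg.IsPComponent p L)
    (hne : K ≠ L) : ⁅K, L⁆ ≤ Cfsg.pPrimeCore p X ⊓ (K ⊓ L) := by
  refine le_inf ?_ (le_inf ?_ ?_)
  · have h := Cfsg.Lib.Core.component_commute hK.2.1 hL.2.1 fun e => hne (pComponent_eq_of_map_eq hK hL e)
    rw [← map_commutator, Subgroup.map_eq_bot_iff, QuotientGroup.ker_mk'] at h
    exact h
  · exact (commutator_comm K L).le.trans
      ((commutator_comm L K).le.trans ((commutator_comm _ _).le.trans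
        (le_normalizer_iff_commutator_le_right.1 (pComponent_normalizes hK hL))))
  · exact le_normalizer_iff_commutator_le_right.1 (pComponent_normalizes hL hK)

theorem fittingSubgroup_eq_pCore (hO : Cfsg.pPrimeCore p X = ⊥) :
    Cfsg.fittingSubgroup X = Cfsg.pCore p X := by
  refine le_antisymm ?_ (Cfsg.Lib.Core.pCore_le_fittingSubgroup p X)
  rw [Cfsg.Lib.Core.fittingSubgroup_eq_iSup_pCore]
  refine iSup_le fun q => ?_
  rcases eq_or_ne (q : ℕ) p with hq | hq
  · rw [hq]
  · have : Fact (q : ℕ).Prime := ⟨q.2⟩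
    obtain ⟨k, hk⟩ := IsPGroup.iff_card.mp (Cfsg.Lib.Core.pCore_isPGroup (q : ℕ) X)
    refine (le_trans (Cfsg.Lib.Core.le_pPrimeCore ?_) hO.le).trans bot_le
    rw [hk]
    exact Nat.Coprime.pow_left _ ((Nat.coprime_primes q.2 hp.out).2 hq)

theorem isPConstrained_iff_pLayer : Cfsg.IsPConstrained p X ↔ Cfsg.pLayer p X = ⊥ := by
  rw [isPConstrained_iff, pLayer_eq_bot_iff, ← Cfsg.Lib.Core.centralizer_fitting_le_iff_layer_eq_bot,
    fittingSubgroup_eq_pCore Cfsg.Lib.Core.pPrimeCore_quotient_eq_bot]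

omit [Finite X] hp in
theorem isQuasisimple_of_surjective {L M : Type*} [Group L] [Group M] (hL : Cfsg.IsQuasisimple L)
    (g : L →* M) (hg : Function.Surjective g) (hker : g.ker ≠ ⊤) : Cfsg.IsQuasisimple M := by
  have := hL.1
  have hperf : Group.IsPerfect M := Group.IsPerfect.ofSurjective (f := g) hg
  refine ⟨hperf, ?_⟩
  have hs := hL.2
  set h := (QuotientGroup.mk' (Subgroup.center M)).comp g with hh
  have hle : Subgroup.center L ≤ h.ker := fun x hx => by
    refine (QuotientGroup.eq_one_iff _).2 (mem_center_iff.2 fun y => ?_)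
    obtain ⟨z, rfl⟩ := hg y
    rw [← map_mul, ← map_mul, mem_center_iff.1 hx z]
  have hnt : Nontrivial (M ⧸ Subgroup.center M) := QuotientGroup.nontrivial_iff.2 fun htop => hker <| by
    refine top_le_iff.1 ((Group.isPerfect_def.1 hL.1).ge.trans ?_)
    rw [_root_.commutator_def, commutator_le]
    intro a _ b _
    rw [MonoidHom.mem_ker, map_commutatorElement, commutatorElement_eq_one_iff_mul_comm]
    exact (mem_center_iff.1 (htop ▸ mem_top (g b)) (g a))
  exact IsSimpleGroup.isSimpleGroup_of_surjective (QuotientGroup.lift _ h hle)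
    (QuotientGroup.lift_surjective_of_surjective _ h ((QuotientGroup.mk'_surjective _).comp hg) hle)

theorem map_component_le_layer {L : Subgroup X} (hL : Cfsg.IsComponent L) :
    L.map (QuotientGroup.mk' (Cfsg.pPrimeCore p X)) ≤ Cfsg.layer (X ⧸ Cfsg.pPrimeCore p X) := by
  set f := QuotientGroup.mk' (Cfsg.pPrimeCore p X) with hf
  by_cases h : L ≤ Cfsg.pPrimeCore p X
  · rw [show L.map f = ⊥ from by rw [Subgroup.map_eq_bot_iff, hf, QuotientGroup.ker_mk']; exact h]
    exact bot_le
  · refine Cfsg.Lib.Core.le_layer ⟨hL.1.map (QuotientGroup.mk'_surjective _), ?_⟩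
    refine isQuasisimple_of_surjective hL.2 (f.subgroupMap L) (f.subgroupMap_surjective L) fun htop => h fun x hx => ?_
    have h1 : (⟨x, hx⟩ : ↥L) ∈ (f.subgroupMap L).ker := htop.symm ▸ mem_top _
    exact (QuotientGroup.eq_one_iff x).1 (congrArg Subtype.val (MonoidHom.mem_ker.1 h1))

end Cfsg.Lib.Sig
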