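import Cfsg.Agent.Lib.Sig.LayerLocal
import Cfsg.Agent.Lib.Sig.PComponent
import Cfsg.Agent.Lib.Sig.SectionControl
import Cfsg.Agent.Lib.Sig.ExtendedLayer
import Cfsg.Prelude.Def_ClassificationStages
import Cfsg.Prelude.Def_KGroupFacts

/-!
`L_{p'}`-balance for groups whose components have soluble outer automorphism groups.
-/

set_option autoImplicit false
set_option linter.style.haveILetI false

namespace Cfsg.Lib.Sig


open Subgroup
open scoped commutatorElement

universe u

variable {X : Type*} [Group X] [Finite X] {p : ℕ} [hp : Fact p.Prime]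

/-- A p-component inside a normal subgroup is a p-component of it. -/
theorem isPComponent_subgroupOf {K : Subgroup X} (hK : Cfsg.IsPComponent p K) {H : Subgroup X}
    (hH : H.IsSubnormal) (hKH : K ≤ H) : Cfsg.IsPComponent p (K.subgroupOf H) := by
  set O := Cfsg.pPrimeCore p X with hO
  set N := Cfsg.pPrimeCore p ↥H with hN
  have hNO : N.map H.subtype = O ⊓ H := inf_pPrimeCore_eq hH
  let g : ↥H ⧸ N →* X ⧸ O :=
    QuotientGroup.map N O H.subtype (map_le_iff_le_comap.1 (hNO.le.trans inf_le_left))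
  have hg : Function.Injective g := by
    refine (injective_iff_map_eq_one g).2 fun y hy => ?_
    obtain ⟨x, rfl⟩ := QuotientGroup.mk_surjective y
    have h1 : (x : X) ∈ N.map H.subtype := hNO.ge ⟨(QuotientGroup.eq_one_iff _).1 hy, x.2⟩
    exact (QuotientGroup.eq_one_iff x).2 ((mem_map_iff_mem H.subtype_injective).1 h1)
  have himg : ∀ S : Subgroup ↥H, (S.map (QuotientGroup.mk' N)).map g =
      (S.map H.subtype).map (QuotientGroup.mk' O) := fun S => by
    rw [map_map, map_map]; rfl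
  refine ⟨hK.1.subgroupOf, ⟨hK.1.subgroupOf.map (QuotientGroup.mk'_surjective N), ?_⟩,
    fun S hS hSK he => ?_⟩
  · refine Cfsg.Lib.Core.quasisimple_congr hK.2.1.2 ?_
    refine ((MulEquiv.subgroupCongr ?_).trans (((K.subgroupOf H).map (QuotientGroup.mk' N)).equivMapOfInjective g hg).symm)
    rw [himg, map_subgroupOf_eq_of_le hKH]
  · have h1 := hK.2.2 (S.map H.subtype) ((Cfsg.Lib.Core.isSubnormal_map_subtype_iff hH S).2 hS)
      ((map_mono hSK).trans (map_subgroupOf_eq_of_le hKH).le) (by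
        rw [← himg, he, himg, map_subgroupOf_eq_of_le hKH])
    rw [← h1, subgroupOf, comap_map_eq_self_of_injective H.subtype_injective]

/-- A homomorphism with p'-kernel maps the p-layer into the p-layer. -/
theorem map_pLayer_le_of_surjective {Y : Type*} [Group Y] [Finite Y] (f : X →* Y)
    (hf : Function.Surjective f) (hker : (Nat.card ↥f.ker).Coprime p) :
    (Cfsg.pLayer p X).map f ≤ Cfsg.pLayer p Y := by
  set O := Cfsg.pPrimeCore p X with hO
  set O' := Cfsg.pPrimeCore p Y with hO'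
  let g : X ⧸ O →* Y ⧸ O' :=
    QuotientGroup.map O O' f (map_le_iff_le_comap.1 (Cfsg.Lib.Core.map_pPrimeCore_le f hf))
  have hg : Function.Bijective g := by
    constructor
    · refine (injective_iff_map_eq_one g).2 fun y hy => ?_
      obtain ⟨x, rfl⟩ := QuotientGroup.mk_surjective y
      refine (QuotientGroup.eq_one_iff x).2 (Cfsg.Lib.Core.le_pPrimeCore' (N := O'.comap f)
        (Subgroup.Normal.comap inferInstance f) ?_ ((QuotientGroup.eq_one_iff (f x)).1 hy))
      rw [Cfsg.Lib.Core.card_comap_eq f hf O']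
      first
        | exact Nat.Coprime.mul_left (Cfsg.Lib.Core.pPrimeCore_coprime p Y) hker
        | exact Nat.Coprime.mul_left hker (Cfsg.Lib.Core.pPrimeCore_coprime p Y)
    · intro y
      obtain ⟨z, rfl⟩ := QuotientGroup.mk_surjective y
      obtain ⟨x, rfl⟩ := hf z
      exact ⟨QuotientGroup.mk x, rfl⟩
  rw [Cfsg.pLayer, map_le_iff_le_comap]
  refine sSup_le fun K hK => map_le_iff_le_comap.1 ?_
  set Kb := K.map (QuotientGroup.mk' O)
  have hKb' : Cfsg.IsComponent (Kb.map (MulEquiv.ofBijective g hg).toMonoidHom) :=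
    Cfsg.Lib.Core.IsComponent.map_equiv hK.2.1 _
  refine le_trans ?_ (le_sSup (isPComponent_pComponentOver hKb'))
  conv_lhs => rw [← pComponent_eq_closure hK]
  rw [pComponentOver, pElementsClosure, MonoidHom.map_closure]
  refine closure_mono ?_
  rintro _ ⟨x, ⟨hx, k, hk⟩, rfl⟩
  refine ⟨mem_comap.2 ⟨QuotientGroup.mk x, mem_map_of_mem _ hx, rfl⟩, ?_⟩
  obtain ⟨j, -, hj⟩ := (Nat.dvd_prime_pow hp.out).1 (hk ▸ orderOf_map_dvd f x)
  exact ⟨j, hj⟩

/-- The p-components of `N` lying in a normal subgroup `H` lie in the p-layer of `H`. -/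
theorem pComponent_map_le_pLayerOf {N H : Subgroup X} (hHN : H ≤ N)
    (hn : (H.subgroupOf N).Normal) {K : Subgroup ↥N} (hK : Cfsg.IsPComponent p K)
    (hKH : K.map N.subtype ≤ H) : K.map N.subtype ≤ Cfsg.pLayerOf p H := by
  have hKH' : K ≤ H.subgroupOf N := fun x hx => mem_subgroupOf.2 (hKH (mem_map_of_mem _ hx))
  have h1 := map_pLayer_le_of_surjective (p := p) (subgroupOfEquivOfLe hHN).toMonoidHom
    (subgroupOfEquivOfLe hHN).surjective (by
      rw [(MonoidHom.ker_eq_bot_iff _).2 (subgroupOfEquivOfLe hHN).injective, card_bot]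
      exact Nat.coprime_one_left p)
  rintro _ ⟨x, hx, rfl⟩
  refine ⟨subgroupOfEquivOfLe hHN ⟨x, hKH' hx⟩, h1 ⟨⟨x, hKH' hx⟩, ?_, rfl⟩, rfl⟩
  exact (le_sSup (isPComponent_subgroupOf hK hn.isSubnormal hKH') :
    K.subgroupOf (H.subgroupOf N) ≤ _) (mem_subgroupOf.2 hx)

/-- A p-component centralizes every normal p-subgroup. -/
theorem pComponent_le_centralizer_of_pGroup {K T : Subgroup X} (hK : Cfsg.IsPComponent p K)
    [T.Normal] (hT : IsPGroup p ↥T) : K ≤ centralizer (T : Set X) := by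
  refine commutator_eq_bot_iff_le_centralizer.1 (le_bot_iff.1 ?_)
  rw [← (disjoint_of_isPGroup_coprime hT (Cfsg.Lib.Core.pPrimeCore_coprime p X))]
  refine le_inf (commutator_le_right K T) ?_
  set f := QuotientGroup.mk' (Cfsg.pPrimeCore p X) with hf
  rw [← QuotientGroup.ker_mk' (Cfsg.pPrimeCore p X), ← hf, ← Subgroup.map_eq_bot_iff, map_commutator]
  refine le_bot_iff.1 ((commutator_mono le_rfl ?_).trans (Cfsg.Lib.Core.component_commute_fitting hK.2.1).le)
  exact (Cfsg.Lib.Core.le_pCore' ((inferInstance : T.Normal).map f (QuotientGroup.mk'_surjective _))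
    (hT.map f)).trans (Cfsg.Lib.Core.pCore_le_fittingSubgroup p _)

/-- A homomorphism from a perfect group with commutative image is trivial. -/
theorem hom_eq_one_of_perfect {G : Type*} [Group G] {A : Type*} [Group A] (hG : commutator G = ⊤)
    (φ : G →* A) (h : ∀ a b, φ a * φ b = φ b * φ a) (a : G) : φ a = 1 := by
  have hle : commutator G ≤ φ.ker := by
    rw [_root_.commutator_def, commutator_le]
    intro x _ y _
    rw [MonoidHom.mem_ker, map_commutatorElement, commutatorElement_eq_one_iff_mul_comm]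
    exact h x y
  exact hle (hG ▸ mem_top a)

/-- An automorphism agreeing on a component modulo its centralizer fixes it pointwise. -/
theorem component_fixed_of_equiv {G : Type*} [Group G] [Finite G] {L : Subgroup G}
    (hL : Cfsg.IsComponent L) (e : G ≃* G)
    (h : ∀ k ∈ L, k * (e k)⁻¹ ∈ centralizer (L : Set G)) : ∀ k ∈ L, e k = k := by
  have hL' : Cfsg.IsComponent (L.map e.toMonoidHom) := Cfsg.Lib.Core.IsComponent.map_equiv hL e
  have heq : L.map e.toMonoidHom = L := by
    by_contra hne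
    have hc : L.map e.toMonoidHom ≤ centralizer (L : Set G) :=
      commutator_eq_bot_iff_le_centralizer.1 (Cfsg.Lib.Core.component_commute hL' hL hne)
    have hab : L ≤ centralizer (L : Set G) := fun k hk => by
      simpa using mul_mem (h k hk) (hc (mem_map_of_mem e.toMonoidHom hk))
    refine Cfsg.Lib.Core.IsComponent.ne_bot hL ?_
    rw [← Cfsg.Lib.Core.IsComponent.commutator_eq hL]
    exact commutator_eq_bot_iff_le_centralizer.2 hab
  have hmem : ∀ k : ↥L, (k : G) * (e k)⁻¹ ∈ L := fun k =>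
    mul_mem k.2 (inv_mem (heq.le (mem_map_of_mem e.toMonoidHom k.2)))
  have hc : ∀ k : ↥L, ∀ y ∈ L, y * ((k : G) * (e k)⁻¹) = (k : G) * (e k)⁻¹ * y := fun k =>
    mem_centralizer_iff.1 (h k k.2)
  let φ : ↥L →* G :=
    { toFun := fun k => (k : G) * (e k)⁻¹
      map_one' := by simp
      map_mul' := fun a b => by
        have h1 := hc b (e a) (heq.le (mem_map_of_mem e.toMonoidHom a.2))
        calc ((a * b : ↥L) : G) * (e ((a * b : ↥L) : G))⁻¹
            = (a : G) * (((b : G) * (e b)⁻¹) * (e a)⁻¹) := by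
              rw [Subgroup.coe_mul, map_mul, mul_inv_rev]; group
          _ = (a : G) * (((e a)⁻¹) * ((b : G) * (e b)⁻¹)) := by
              have hm : e (a : G) ∈ L := heq.le (mem_map_of_mem e.toMonoidHom a.2)
              rw [hc b _ (inv_mem hm)]
          _ = _ := by group }
  intro k hk
  have := hom_eq_one_of_perfect (Cfsg.Lib.Core.quasisimple_commutator hL.2) φ
    (fun a b => hc b _ (hmem a)) ⟨k, hk⟩
  exact (mul_inv_eq_one.1 this).symm

/-- Elements fixing the components commute with the layer up to inner automorphisms, if the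
outer automorphism groups are soluble. -/
theorem exists_inner_of_solvable_out {L K : Subgroup X} (hL : Cfsg.IsComponent L)
    (hout : Group.IsSolvable (Cfsg.Out (↥L ⧸ Subgroup.center ↥L)))
    (hperf : ⁅K, K⁆ = K) (hn : K ≤ normalizer (L : Set X)) {k : X} (hk : k ∈ K) :
    ∃ l ∈ L, l⁻¹ * k ∈ centralizer (L : Set X) := by
  set Z := Subgroup.center ↥L with hZ
  have hmap : ∀ σ : MulAut ↥L, Z.map (σ : ↥L →* ↥L) = Z := fun σ =>
    Subgroup.characteristic_iff_map_eq.1 inferInstance σ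
  let θ : MulAut ↥L →* MulAut (↥L ⧸ Z) :=
    { toFun := fun σ => QuotientGroup.congr Z Z σ (hmap σ)
      map_one' := by
        ext y
        obtain ⟨x, rfl⟩ := QuotientGroup.mk_surjective y
        rfl
      map_mul' := fun σ τ => by
        ext y
        obtain ⟨x, rfl⟩ := QuotientGroup.mk_surjective y
        rfl }
  let ψ : ↥K →* Cfsg.Out (↥L ⧸ Z) :=
    (((QuotientGroup.mk' (Cfsg.Inn (↥L ⧸ Z))).comp θ).comp L.normalizerMonoidHom).comp
      (Subgroup.inclusion hn)
  have hKp : commutator ↥K = ⊤ := Group.isPerfect_def.1 (Subgroup.isPerfect_iff.2 hperf)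
  have hψ : ψ ⟨k, hk⟩ = 1 := by
    by_contra hne
    have : Group.IsPerfect ↥K := Group.isPerfect_def.2 hKp
    have : Group.IsPerfect ↥ψ.range := Group.IsPerfect.ofSurjective (f := ψ.rangeRestrict) ψ.rangeRestrict_surjective
    have : Nontrivial ↥ψ.range := (nontrivial_iff_ne_bot _).2 fun e =>
      hne ((mem_bot.1 (e.le ⟨⟨k, hk⟩, rfl⟩)))
    exact Group.IsPerfect.not_isSolvable ↥ψ.range inferInstance
  obtain ⟨lb, hlb⟩ := (QuotientGroup.eq_one_iff _).1 hψ
  obtain ⟨l, rfl⟩ := QuotientGroup.mk_surjective lb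
  refine ⟨l, l.2, ?_⟩
  set c := (l : X)⁻¹ * k with hc
  have hcn : c ∈ normalizer (L : Set X) := mul_mem (inv_mem (le_normalizer l.2)) (hn hk)
  clear_value c
  -- `c` induces a central automorphism of `L`
  have hcz : ∀ a : ↥L, ∀ b : ↥L,
      (b : X) * (c * a * c⁻¹ * (a : X)⁻¹) = c * a * c⁻¹ * (a : X)⁻¹ * b := by
    intro a b
    have hka : k * a * k⁻¹ ∈ L := (mem_normalizer_iff.1 (hn hk) a).1 a.2
    have h1 : QuotientGroup.mk (s := Z) ((⟨k * a * k⁻¹, hka⟩ : ↥L)) =
        QuotientGroup.mk (l * a * l⁻¹) := by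
      have := congrArg (fun s : MulAut (↥L ⧸ Z) => s (QuotientGroup.mk a)) hlb
      exact this.symm
    have h2 : (⟨k * a * k⁻¹, hka⟩ : ↥L) * (l * a * l⁻¹)⁻¹ ∈ Z := by
      rw [← QuotientGroup.eq_one_iff, QuotientGroup.mk_mul, QuotientGroup.mk_inv, h1, mul_inv_cancel]
    set z : ↥L := (⟨k * a * k⁻¹, hka⟩ : ↥L) * (l * a * l⁻¹)⁻¹ with hz
    have h3 : (c * a * c⁻¹ * (a : X)⁻¹) = ((l⁻¹ * z * l : ↥L) : X) := by
      rw [hz]; simp only [hc, Subgroup.coe_mul, Subgroup.coe_inv]; group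
    have h4 : (l⁻¹ * z * l : ↥L) = z := by
      rw [mul_assoc, ← (mem_center_iff.1 h2 l), inv_mul_cancel_left]
    rw [h3, h4]
    exact congrArg Subtype.val (mem_center_iff.1 h2 b)
  have hmemL : ∀ a : ↥L, c * a * c⁻¹ * (a : X)⁻¹ ∈ L := fun a =>
    mul_mem ((mem_normalizer_iff.1 hcn a).1 a.2) (inv_mem a.2)
  let φ : ↥L →* X :=
    { toFun := fun a => c * a * c⁻¹ * (a : X)⁻¹
      map_one' := by simp
      map_mul' := fun a b => by
        calc c * ((a * b : ↥L) : X) * c⁻¹ * ((a * b : ↥L) : X)⁻¹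
            = c * a * c⁻¹ * ((c * b * c⁻¹ * (b : X)⁻¹) * (a : X)⁻¹) := by
              rw [Subgroup.coe_mul, mul_inv_rev]; group
          _ = c * a * c⁻¹ * ((a : X)⁻¹ * (c * b * c⁻¹ * (b : X)⁻¹)) := by
              have hh := hcz b a⁻¹
              rw [Subgroup.coe_inv] at hh
              rw [← hh]
          _ = _ := by group }
  refine mem_centralizer_iff.2 fun a ha => ?_
  have := hom_eq_one_of_perfect (Cfsg.Lib.Core.quasisimple_commutator hL.2) φ
    (fun x y => hcz y ⟨_, hmemL x⟩) ⟨a, ha⟩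
  have h5 : c * a * c⁻¹ = a := mul_inv_eq_one.1 this
  exact (mul_inv_eq_iff_eq_mul.1 h5).symm

/-- Core of the argument: a p-component of `C(R) ∩ C(O_p)` lies in the layer. -/
theorem pComponent_le_layer (hO : Cfsg.pPrimeCore p X = ⊥)
    (hS : ∀ L : Subgroup X, Cfsg.IsComponent L → Group.IsSolvable (Cfsg.Out (↥L ⧸ Subgroup.center ↥L)))
    {R : Subgroup X} (hR : IsPGroup p ↥R)
    {H : Subgroup X} (hH : H = centralizer (R : Set X) ⊓ centralizer (Cfsg.pCore p X : Set X))
    {K : Subgroup ↥H} (hK : Cfsg.IsPComponent p K) :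
    K.map H.subtype ≤ Cfsg.layer X := by
  set E := Cfsg.layer X with hE
  set K0 := K.map H.subtype with hK0
  set O := Cfsg.pPrimeCore p ↥H with hOdef
  set π := QuotientGroup.mk' O with hπ
  have hF : Cfsg.fittingSubgroup X = Cfsg.pCore p X := fittingSubgroup_eq_pCore hO
  have hEn : E.Normal := inferInstance
  have hEC : E ≤ centralizer (Cfsg.pCore p X : Set X) := by
    refine commutator_eq_bot_iff_le_centralizer.1 ?_
    rw [← hF]; exact Cfsg.Lib.Core.commutator_layer_fitting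
  set Z := E ⊓ centralizer (E : Set X) with hZ
  have hZF : Z ≤ Cfsg.pCore p X := by
    haveI : Z.Normal := normal_inf_normal _ _
    haveI : IsMulCommutative ↥Z :=
      ⟨⟨fun a b => Subtype.ext ((mem_centralizer_iff.1 (mem_inf.1 b.2).2 (a : X) (mem_inf.1 a.2).1))⟩⟩
    rw [← hF]
    letI : CommGroup ↥Z := { (inferInstance : Group ↥Z) with mul_comm := fun a b => mul_comm' a b }
    exact Cfsg.Lib.Core.le_fittingSubgroup_of_isSubnormal (inferInstance : Z.Normal).isSubnormal
      CommGroup.isNilpotent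
  have hHR : ∀ h ∈ H, ∀ r ∈ R, r * h = h * r := fun h hh r hr => mem_centralizer_iff.1 (mem_inf.1 (hH.le hh)).1 r hr
  have hHQ : ∀ h ∈ H, ∀ z ∈ Cfsg.pCore p X, z * h = h * z := fun h hh z hz =>
    mem_centralizer_iff.1 (mem_inf.1 (hH.le hh)).2 z hz
  have hK0H : K0 ≤ H := map_subtype_le _
  have hperf : ⁅K0, K0⁆ = K0 := by rw [hK0, ← map_commutator, pComponent_perfect hK]
  by_cases hcase : K.map π ≤ (E.subgroupOf H).map π
  · -- `K` lies in the layer
    rw [hK0, map_le_iff_le_comap]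
    conv_lhs => rw [← pComponent_eq_closure hK]
    refine (closure_le _).2 ?_
    rintro x ⟨hx, k, hk⟩
    set D := E.subgroupOf H with hD
    have hx' : x ∈ D ⊔ O := by
      rw [← QuotientGroup.ker_mk' O, ← comap_map_eq]
      exact mem_comap.2 (hcase (mem_map_of_mem π hx))
    refine (mem_of_isSubnormal_of_relIndex (le_sup_left : D ≤ D ⊔ O)
      (inferInstance : D.Normal).isSubnormal.subgroupOf ?_ hx' hk)
    intro hd
    have h1 : D.relIndex (D ⊔ O) ∣ Nat.card ↥O := by
      refine Nat.dvd_of_mul_dvd_mul_left (k := Nat.card ↥D) Nat.card_pos ?_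
      rw [Cfsg.Lib.Core.card_mul_relIndex le_sup_left]
      exact Cfsg.Lib.Core.card_sup_dvd_mul D O
    exact Cfsg.Lib.Core.pPrimeCore_not_dvd p ↥H (hd.trans h1)
  have hDc : ((E.subgroupOf H).map π) ≤ centralizer (K.map π : Set (↥H ⧸ O)) := by
    refine commutator_eq_bot_iff_le_centralizer.1 ?_
    rw [commutator_comm]
    exact ((Cfsg.Lib.Core.component_le_or_commute hK.2.1
      ((inferInstance : (E.subgroupOf H).Normal).map π (QuotientGroup.mk'_surjective O)).isSubnormal)).resolve_left hcase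
  -- elements of `E` commuting with `R` modulo the centre commute with `K` modulo the core
  have key : ∀ x ∈ E, (∀ r ∈ R, x⁻¹ * r * x * r⁻¹ ∈ Z) → ∀ k ∈ K0,
      k * x * k⁻¹ * x⁻¹ ∈ O.map H.subtype := by
    intro x hx hxR
    have hxN : x ∈ normalizer (H : Set X) := by
      refine mem_normalizer_fintype fun h hh => ?_
      rw [hH]
      refine mem_inf.2 ⟨mem_centralizer_iff.2 fun r hr => ?_, ?_⟩
      · have h1 : h * (x⁻¹ * r * x) = x⁻¹ * r * x * h := by
          have e : x⁻¹ * r * x = x⁻¹ * r * x * r⁻¹ * r := by group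
          rw [e, ← mul_assoc, ← hHQ h hh _ (hZF (hxR r hr)), mul_assoc, ← hHR h hh r hr, ← mul_assoc]
        calc r * (x * h * x⁻¹) = x * (x⁻¹ * r * x * h) * x⁻¹ := by group
          _ = x * h * x⁻¹ * r := by rw [← h1]; group
      · exact (inferInstance : (centralizer (Cfsg.pCore p X : Set X)).Normal).conj_mem h (mem_inf.1 (hH.le hh)).2 x
    let σ : MulAut ↥H := H.normalizerMonoidHom ⟨x, hxN⟩
    let e : (↥H ⧸ O) ≃* (↥H ⧸ O) :=
      QuotientGroup.congr O O σ (Cfsg.Lib.Core.map_pPrimeCore_equiv σ)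
    have hmem : ∀ k ∈ H, k * x * k⁻¹ * x⁻¹ ∈ E ⊓ H := by
      intro k hk
      have hE' : k * x * k⁻¹ * x⁻¹ ∈ E := mul_mem (hEn.conj_mem x hx k) (inv_mem hx)
      refine ⟨hE', hH.ge (mem_inf.2 ⟨?_, hEC hE'⟩)⟩
      have := mul_mem hk ((mem_normalizer_iff.1 hxN k⁻¹).1 (inv_mem hk))
      simpa [mul_assoc] using (mem_inf.1 (hH.le this)).1
    have hfix : ∀ y ∈ K.map π, e y = y := by
      refine component_fixed_of_equiv hK.2.1 e ?_
      rintro _ ⟨k, hk, rfl⟩
      refine hDc ⟨k * (σ k)⁻¹, mem_subgroupOf.2 ?_, ?_⟩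
      · have := (hmem k k.2).1
        show (k : X) * (x * k * x⁻¹)⁻¹ ∈ E
        simpa [mul_assoc] using this
      · rw [map_mul, map_inv]; rfl
    rintro _ ⟨k, hk, rfl⟩
    refine ⟨k * (σ k)⁻¹, ?_, ?_⟩
    · rw [SetLike.mem_coe, ← QuotientGroup.eq_one_iff]
      show π (k * (σ k)⁻¹) = 1
      rw [map_mul, map_inv, mul_inv_eq_one]
      exact (hfix _ (mem_map_of_mem π hk)).symm
    · show (k : X) * (x * k * x⁻¹)⁻¹ = _
      simp [mul_assoc]
  -- `K` fixes every component
  have hnorm : ∀ L : Subgroup X, Cfsg.IsComponent L → K0 ≤ normalizer (L : Set X) := by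
    intro L hL
    set M := ⨆ r : ↥R, L.map (MulAut.conj (r : X)).toMonoidHom with hM
    have hLr : ∀ r : X, Cfsg.IsComponent (L.map (MulAut.conj r).toMonoidHom) := fun r =>
      Cfsg.Lib.Core.IsComponent.map_conj hL r
    have hME : M ≤ E := iSup_le fun r => Cfsg.Lib.Core.le_layer (hLr _)
    have hLM : L ≤ M := fun a ha =>
      (le_iSup (fun r : ↥R => L.map (MulAut.conj (r : X)).toMonoidHom) 1) ⟨a, ha, by simp⟩
    have hMR : ∀ r ∈ R, M.map (MulAut.conj r).toMonoidHom ≤ M := by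
      intro r hr
      rw [hM, Subgroup.map_iSup]
      refine iSup_le fun s => ?_
      rw [map_conj_map_conj]
      exact le_iSup (fun r : ↥R => L.map (MulAut.conj (r : X)).toMonoidHom) ⟨r * s, mul_mem hr s.2⟩
    have hRM : R ≤ normalizer (M : Set X) := fun r hr => mem_normalizer_of_map_conj
      (eq_of_le_of_card_ge (hMR r hr) (card_map_conj _ _).ge)
    set G₀ := M ⊔ R with hG₀
    have hMn : (M.subgroupOf G₀).Normal := (normal_subgroupOf_iff_le_normalizer le_sup_left).2
      (sup_le le_normalizer hRM)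
    obtain ⟨P₀, hP₀⟩ := (hR.of_equiv (subgroupOfEquivOfLe (le_sup_right : R ≤ G₀)).symm).exists_le_sylow
    set P := (P₀ : Subgroup ↥G₀).map G₀.subtype with hP
    have hPp : IsPGroup p ↥P := P₀.2.map _
    have hPG : P ≤ G₀ := map_subtype_le _
    have hRP : R ≤ P := fun r hr => ⟨⟨r, mem_sup_right hr⟩, hP₀ (mem_subgroupOf.2 hr), rfl⟩
    have hPidx : ¬ p ∣ P.relIndex G₀ := by
      rw [hP, relIndex, subgroupOf, comap_map_eq_self_of_injective G₀.subtype_injective]
      exact P₀.not_dvd_index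
    have hQidx : ¬ p ∣ (P ⊓ M).relIndex M := not_dvd_relIndex_inf hPG hPp hPidx le_sup_left
      fun h hh n hn => (mem_normalizer_iff.1 ((sup_le le_normalizer hRM) hh) n).1 hn
    have hnot : ¬ P ⊓ M ≤ centralizer (M : Set X) := by
      intro hc
      have hLMn : ∀ h ∈ M, ∀ n ∈ L, h * n * h⁻¹ ∈ L := fun h hh n hn =>
        (mem_normalizer_iff.1 ((iSup_le fun r : ↥R =>
          Cfsg.Lib.Core.component_le_normalizer (hLr (r : X)) hL : M ≤ normalizer (L : Set X)) hh) n).1 hn
      have hSidx : ¬ p ∣ ((P ⊓ M) ⊓ L).relIndex L :=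
        not_dvd_relIndex_inf inf_le_right (hPp.to_le inf_le_left) hQidx hLM hLMn
      have hSp : IsPGroup p ↥(((P ⊓ M) ⊓ L).subgroupOf L) :=
        ((hPp.to_le (inf_le_left.trans inf_le_left)) : IsPGroup p ↥((P ⊓ M) ⊓ L)).of_equiv
          (subgroupOfEquivOfLe inf_le_right).symm
      let S : Sylow p ↥L := hSp.toSylow hSidx
      refine S.ne_bot_of_dvd_card (dvd_card_component hO hL)
        (not_dvd_card_of_perfect_of_central_sylow (Cfsg.Lib.Core.quasisimple_commutator hL.2) S ?_)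
      intro a ha
      refine mem_center_iff.2 fun b => Subtype.ext ?_
      exact mem_centralizer_iff.1 (hc (mem_subgroupOf.1 ha).1) b (hLM b.2)
    -- a p-element of `M` fixed by `R` modulo the centre
    obtain ⟨x, hxQ, hxC, hxR⟩ : ∃ x ∈ P ⊓ M, x ∉ centralizer (M : Set X) ∧
        ∀ r ∈ R, x⁻¹ * r * x * r⁻¹ ∈ M ⊓ centralizer (M : Set X) := by
      set Q := (M ⊓ P).subgroupOf P with hQ
      set N := ((M ⊓ centralizer (M : Set X)) ⊓ P).subgroupOf P with hN
      have hPM : P ≤ normalizer (M : Set X) := hPG.trans (sup_le le_normalizer hRM)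
      have hPC : P ≤ normalizer (centralizer (M : Set X) : Set X) := fun y hy =>
        mem_normalizer_of_map_conj (by
          rw [map_centralizer_equiv, Cfsg.Lib.Core.map_conj_eq_of_mem_normalizer (hPM hy)])
      haveI : Q.Normal := (normal_subgroupOf_iff_le_normalizer inf_le_right).2 fun y hy =>
        mem_normalizer_fintype fun z hz => mem_inf.2 ⟨(mem_normalizer_iff.1 (hPM hy) z).1 hz.1,
          mul_mem (mul_mem hy hz.2) (inv_mem hy)⟩
      haveI : N.Normal := (normal_subgroupOf_iff_le_normalizer inf_le_right).2 fun y hy =>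
        mem_normalizer_fintype fun z hz => mem_inf.2 ⟨mem_inf.2 ⟨(mem_normalizer_iff.1 (hPM hy) z).1 hz.1.1,
          (mem_normalizer_iff.1 (hPC hy) z).1 hz.1.2⟩, mul_mem (mul_mem hy hz.2) (inv_mem hy)⟩
      set q := QuotientGroup.mk' N
      have hne : Q.map q ≠ ⊥ := by
        rw [Ne, Subgroup.map_eq_bot_iff, QuotientGroup.ker_mk']
        intro hle
        exact hnot fun y hy => ((mem_subgroupOf.1 (hle (x := ⟨y, hy.1⟩) (mem_subgroupOf.2 ⟨hy.2, hy.1⟩))).1.2)
      haveI : (Q.map q).Normal := (inferInstance : Q.Normal).map q (QuotientGroup.mk'_surjective N)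
      obtain ⟨y, hy, hy1⟩ := (((Q.map q) ⊓ Subgroup.center (↥P ⧸ N)).bot_or_exists_ne_one).resolve_left
        (Cfsg.Lib.PGroup.inf_center_ne_bot (hPp.to_quotient N) hne)
      obtain ⟨x, hx, rfl⟩ := hy.1
      have hxM := (mem_subgroupOf.1 hx).1
      refine ⟨x, mem_inf.2 ⟨x.2, hxM⟩, fun hc => hy1 ((QuotientGroup.eq_one_iff x).2
        (mem_subgroupOf.2 ⟨⟨hxM, hc⟩, x.2⟩)), fun r hr => ?_⟩
      have h1 : x⁻¹ * ⟨r, hRP hr⟩ * x * (⟨r, hRP hr⟩ : ↥P)⁻¹ ∈ N := by
        rw [← QuotientGroup.eq_one_iff]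
        show q _ = 1
        rw [map_mul, map_mul, map_mul, map_inv, map_inv, mul_assoc (q x)⁻¹,
          (mem_center_iff.1 hy.2 (q ⟨r, hRP hr⟩)), inv_mul_cancel_left, mul_inv_cancel]
      exact (mem_subgroupOf.1 h1).1
    have hZM : M ⊓ centralizer (M : Set X) ≤ Z := by
      refine le_inf (inf_le_left.trans hME) fun z hz => ?_
      refine mem_centralizer_iff.2 fun a ha => ?_
      have hzE : E ≤ centralizer ({z} : Set X) := sSup_le fun L₂ hL₂ => by
        by_cases h : ∃ r : ↥R, L₂ = L.map (MulAut.conj (r : X)).toMonoidHom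
        · obtain ⟨r, rfl⟩ := h
          intro b hb
          refine mem_centralizer_singleton_iff.2 ?_
          exact mem_centralizer_iff.1 hz.2 b
            ((le_iSup (fun r : ↥R => L.map (MulAut.conj (r : X)).toMonoidHom) r) hb)
        · have hc : M ≤ centralizer (L₂ : Set X) := iSup_le fun r =>
            commutator_eq_bot_iff_le_centralizer.1 (Cfsg.Lib.Core.component_commute (hLr _) hL₂
              fun e => h ⟨r, e.symm⟩)
          intro b hb
          exact mem_centralizer_singleton_iff.2 (mem_centralizer_iff.1 (hc hz.1) b hb)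
      exact mem_centralizer_singleton_iff.1 (hzE ha)
    -- orbits are preserved
    have horb : ∀ k ∈ K0, ∃ r ∈ R, L.map (MulAut.conj k).toMonoidHom = L.map (MulAut.conj r).toMonoidHom := by
      intro k hk
      by_contra hno
      push_neg at hno
      have hkR : ∀ r ∈ R, r * k = k * r := fun r hr => hHR k (hK0H hk) r hr
      have hcomm : M.map (MulAut.conj k).toMonoidHom ≤ centralizer (M : Set X) := by
        rw [hM, Subgroup.map_iSup]
        refine iSup_le fun r => le_centralizer_iff.1 (iSup_le fun s => ?_)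
        refine commutator_eq_bot_iff_le_centralizer.1 (Cfsg.Lib.Core.component_commute (hLr _)
          (by rw [map_conj_map_conj]; exact hLr _) fun e => ?_)
        rw [map_conj_map_conj] at e
        have e2 := congrArg (Subgroup.map (MulAut.conj ((r : X)⁻¹)).toMonoidHom) e
        rw [map_conj_map_conj, map_conj_map_conj] at e2
        apply hno ((r : X)⁻¹ * s) (mul_mem (inv_mem r.2) s.2)
        rw [e2, ← hkR (r : X) r.2, inv_mul_cancel_left]
      have hx' := key x (hME hxQ.2) (fun r hr => hZM (hxR r hr)) k hk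
      set a := k * x * k⁻¹ with ha
      have hax : a * x = x * a := (mem_centralizer_iff.1 (hcomm (conj_mem_map_conj hxQ.2)) x hxQ.2).symm
      obtain ⟨n, hn⟩ := hPp ⟨x, hxQ.1⟩
      have hxn : x ^ p ^ n = 1 := congrArg Subtype.val hn
      have h1 : (a * x⁻¹) ^ p ^ n = 1 := by
        rw [(Commute.inv_right hax).mul_pow, inv_pow, hxn, inv_one, mul_one, ha, conj_pow, hxn]; simp
      have h2 : a * x⁻¹ = 1 := by
        rw [← orderOf_eq_one_iff]
        refine Nat.Coprime.eq_one_of_dvd ?_ (orderOf_dvd_of_pow_eq_one h1)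
        obtain ⟨w, hw, hwe⟩ := hx'
        refine Nat.Coprime.pow_right _ (Nat.Coprime.coprime_dvd_left ?_ (Cfsg.Lib.Core.pPrimeCore_coprime p ↥H))
        rw [← hwe, Subgroup.coe_subtype, Subgroup.orderOf_coe]
        exact (Subgroup.orderOf_mk w hw).symm ▸ orderOf_dvd_natCard _
      exact hxC (mul_inv_eq_one.1 h2 ▸ hcomm (conj_mem_map_conj hxQ.2))
    have hres : Cfsg.pResidual p ↥K0 = ⊤ :=
      pResidual_eq_top_of_perfect (Group.isPerfect_def.1 (Subgroup.isPerfect_iff.2 hperf))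
    intro y hy
    have hle : Cfsg.pResidual p ↥K0 ≤ (normalizer (L : Set X)).subgroupOf K0 := by
      refine (closure_le _).2 fun z hz => mem_subgroupOf.2 ?_
      obtain ⟨r, hr, he⟩ := horb z z.2
      have hpow : ∀ m : ℕ, L.map (MulAut.conj ((z : X) ^ m)).toMonoidHom =
          L.map (MulAut.conj (r ^ m)).toMonoidHom := by
        intro m
        induction m with
        | zero => simp
        | succ m ih =>
          rw [pow_succ', ← map_conj_map_conj L, ih, map_conj_map_conj,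
            ← (show Commute (r ^ m) (z : X) from Commute.pow_left (hHR _ (hK0H z.2) r hr) m).eq,
            ← map_conj_map_conj L, he, map_conj_map_conj, ← pow_succ]
      obtain ⟨m, hm⟩ := hR ⟨r, hr⟩
      have h1 : (z : X) ^ p ^ m ∈ normalizer (L : Set X) := mem_normalizer_of_map_conj (by
        rw [hpow, show r ^ p ^ m = 1 from congrArg Subtype.val hm]
        exact Cfsg.Lib.Core.map_conj_eq_of_mem_normalizer (one_mem _))
      have hco : (orderOf (z : X)).Coprime (p ^ m) := by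
        rw [Subgroup.orderOf_coe]; exact (Nat.Coprime.pow_right _ hz)
      exact zpowers_le.2 h1 (mem_zpowers_pow_iff.2 hco.symm)
    rw [hres] at hle
    exact mem_subgroupOf.1 (hle (mem_top (⟨y, hy⟩ : ↥K0)))
  -- inner automorphisms
  have hinner : ∀ k ∈ K0, k ∈ E ⊔ Cfsg.pCore p X := by
    intro k hk
    have hind : ∀ s : Set (Subgroup X), s.Finite → (∀ L ∈ s, Cfsg.IsComponent L) →
        ∃ e ∈ E, ∀ L ∈ s, e⁻¹ * k ∈ centralizer (L : Set X) := by
      intro s hs
      refine Set.Finite.induction_on s hs (fun _ => ⟨1, one_mem _, fun L hL => absurd hL (Set.notMem_empty _)⟩) ?_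
      intro L₀ s hL₀s _ ih hcomp
      have hL₀ := hcomp L₀ (Set.mem_insert _ _)
      obtain ⟨e, he, hec⟩ := ih fun L hL => hcomp L (Set.mem_insert_of_mem _ hL)
      have hEn₀ : E ≤ normalizer (L₀ : Set X) :=
        sSup_le fun L hL => Cfsg.Lib.Core.component_le_normalizer hL hL₀
      obtain ⟨l, hl, hlc⟩ := exists_inner_of_solvable_out hL₀ (hS L₀ hL₀) hperf (hnorm L₀ hL₀) hk
      obtain ⟨l', hl', hlc'⟩ : ∃ l' ∈ L₀, l'⁻¹ * e ∈ centralizer (L₀ : Set X) := by
        have hdec : E ≤ L₀ ⊔ centralizer (L₀ : Set X) := sSup_le fun L hL => by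
          by_cases h : L = L₀
          · exact h ▸ le_sup_left
          · exact (commutator_eq_bot_iff_le_centralizer.1 (Cfsg.Lib.Core.component_commute hL hL₀ h)).trans le_sup_right
        obtain ⟨a, ha, b, hb, rfl⟩ := Cfsg.Lib.Core.mem_sup_of_le_normalizer
          (show L₀ ≤ normalizer (centralizer (L₀ : Set X) : Set X) from fun y hy =>
            mem_normalizer_of_map_conj (by
              rw [map_centralizer_equiv, Cfsg.Lib.Core.map_conj_eq_of_mem_normalizer (le_normalizer hy)]))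
          |>.1 (hdec he)
        exact ⟨a, ha, by simpa using hb⟩
      set c := e⁻¹ * k with hc
      -- `c` acts on `L₀` as `l'⁻¹ l`
      refine ⟨e * (l'⁻¹ * l), mul_mem he (Cfsg.Lib.Core.le_layer hL₀ (mul_mem (inv_mem hl') hl)), ?_⟩
      intro L hL
      rw [show (e * (l'⁻¹ * l))⁻¹ * k = (l'⁻¹ * l)⁻¹ * c by rw [hc]; group]
      rcases Set.mem_insert_iff.1 hL with rfl | hLs
      · have hd : l'⁻¹ * e ∈ centralizer (L : Set X) := hlc'
        have : (l'⁻¹ * l)⁻¹ * c =
            ((l⁻¹ * l') * (l'⁻¹ * e)⁻¹ * (l⁻¹ * l')⁻¹) * (l⁻¹ * k) := by rw [hc]; group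
        rw [this]
        refine mul_mem ?_ hlc
        refine mem_centralizer_iff.2 fun a ha => ?_
        have hu : l⁻¹ * l' ∈ L := mul_mem (inv_mem hl) hl'
        have h1 := mem_centralizer_iff.1 (inv_mem hd) ((l⁻¹ * l')⁻¹ * a * (l⁻¹ * l'))
          (mul_mem (mul_mem (inv_mem hu) ha) hu)
        calc a * ((l⁻¹ * l') * (l'⁻¹ * e)⁻¹ * (l⁻¹ * l')⁻¹)
            = (l⁻¹ * l') * (((l⁻¹ * l')⁻¹ * a * (l⁻¹ * l')) * (l'⁻¹ * e)⁻¹) * (l⁻¹ * l')⁻¹ := by group
          _ = _ := by rw [h1]; group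
      · have hne : L₀ ≠ L := fun h => hL₀s (h ▸ hLs)
        refine mul_mem (inv_mem ?_) (hec L hLs)
        exact commutator_eq_bot_iff_le_centralizer.1
          (Cfsg.Lib.Core.component_commute hL₀ (hcomp L hL) hne) (mul_mem (inv_mem hl') hl)
    obtain ⟨e, he, hec⟩ := hind {L | Cfsg.IsComponent L} (Set.toFinite _) fun L hL => hL
    have h1 : e⁻¹ * k ∈ centralizer (Cfsg.generalizedFittingSubgroup X : Set X) := by
      rw [Cfsg.generalizedFittingSubgroup, hF]
      refine le_centralizer_iff.1 (sup_le (sSup_le fun L hL => le_centralizer_iff.1 (zpowers_le.2 (hec L hL))) ?_)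
        (mem_zpowers _)
      exact le_centralizer_iff.1 (zpowers_le.2 (mul_mem (inv_mem (hEC he)) (mem_inf.1 (hH.le (hK0H hk))).2))
    have h2 := Cfsg.Lib.Core.centralizer_generalizedFitting_le h1
    rw [Cfsg.generalizedFittingSubgroup, hF] at h2
    simpa using mul_mem (mem_sup_left he : e ∈ E ⊔ Cfsg.pCore p X) h2
  intro k hk
  have h3 : K0 ≤ E ⊔ (Cfsg.pCore p X ⊓ centralizer (Cfsg.pCore p X : Set X)) := fun y hy => by
    obtain ⟨a, ha, b, hb, rfl⟩ := mem_sup_of_normal_right.1 (hinner y hy)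
    refine mul_mem (mem_sup_left ha) (mem_sup_right ⟨hb, ?_⟩)
    simpa using mul_mem (inv_mem (hEC ha)) (mem_inf.1 (hH.le (hK0H hy))).2
  have h4 : ⁅E ⊔ (Cfsg.pCore p X ⊓ centralizer (Cfsg.pCore p X : Set X)),
      E ⊔ (Cfsg.pCore p X ⊓ centralizer (Cfsg.pCore p X : Set X))⁆ ≤ E := by
    set W := Cfsg.pCore p X ⊓ centralizer (Cfsg.pCore p X : Set X)
    rw [commutator_le]
    intro a ha b hb
    obtain ⟨a₁, ha₁, a₂, ha₂, rfl⟩ := mem_sup_of_normal_left.1 ha
    obtain ⟨b₁, hb₁, b₂, hb₂, rfl⟩ := mem_sup_of_normal_left.1 hb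
    have hc : ∀ w ∈ W, ∀ z ∈ E, w * z = z * w := fun w hw z hz => mem_centralizer_iff.1 (hEC hz) w hw.1
    have hab : a₂ * b₂ = b₂ * a₂ := mem_centralizer_iff.1 hb₂.2 a₂ ha₂.1
    have e : ⁅a₁ * a₂, b₁ * b₂⁆ = ⁅a₁, b₁⁆ := by
      have e1 := hc a₂ ha₂ b₁ hb₁
      have e2 := hc b₂ hb₂ a₁⁻¹ (inv_mem ha₁)
      have e3 := hc b₂ hb₂ b₁⁻¹ (inv_mem hb₁)
      calc ⁅a₁ * a₂, b₁ * b₂⁆ = a₁ * (a₂ * b₁) * b₂ * a₂⁻¹ * a₁⁻¹ * b₂⁻¹ * b₁⁻¹ := by
            simp only [commutatorElement_def]; group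
        _ = a₁ * b₁ * (a₂ * b₂) * a₂⁻¹ * a₁⁻¹ * b₂⁻¹ * b₁⁻¹ := by rw [e1]; group
        _ = a₁ * b₁ * (b₂ * a₁⁻¹) * b₂⁻¹ * b₁⁻¹ := by rw [hab]; group
        _ = ⁅a₁, b₁⁆ := by rw [e2]; simp only [commutatorElement_def]; group
    rw [e]
    exact (commutator_le_self E) (commutator_mem_commutator ha₁ hb₁)
  exact h4 (commutator_mono h3 h3 (hperf.ge hk))

/-- `L_{p'}`-balance, given it in the quotient by the p'-core. -/
theorem l_balance_centralizer_of_core {X : Type*} [Group X] [Finite X]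
    {R : Subgroup X} (hR : IsPGroup p ↥R)
    (hlayer : ∀ (H : Subgroup (X ⧸ Cfsg.pPrimeCore p X)),
      H = centralizer ((R.map (QuotientGroup.mk' (Cfsg.pPrimeCore p X)) :
        Subgroup (X ⧸ Cfsg.pPrimeCore p X)) : Set (X ⧸ Cfsg.pPrimeCore p X)) ⊓
        centralizer (Cfsg.pCore p (X ⧸ Cfsg.pPrimeCore p X) : Set (X ⧸ Cfsg.pPrimeCore p X)) →
      ∀ K : Subgroup ↥H, Cfsg.IsPComponent p K → K.map H.subtype ≤ Cfsg.layer (X ⧸ Cfsg.pPrimeCore p X)) :
    Cfsg.pLayerOf p (centralizer (R : Set X)) ≤ Cfsg.pLayer p X := by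
  set C := centralizer (R : Set X) with hC
  set O := Cfsg.pPrimeCore p X with hO
  set π := QuotientGroup.mk' O with hπ
  set Rb := R.map π
  set Cb := centralizer (Rb : Set (X ⧸ O)) with hCb
  have hCC : C.map π = Cb := (centralizer_map_mk' O (Cfsg.Lib.Core.pPrimeCore_coprime p X) hR).symm
  have hO1 : Cfsg.pPrimeCore p (X ⧸ O) = ⊥ := Cfsg.Lib.Core.pPrimeCore_quotient_eq_bot
  -- in the quotient
  have hquot : Cfsg.pLayerOf p Cb ≤ Cfsg.layer (X ⧸ O) := by
    set H := Cb ⊓ centralizer (Cfsg.pCore p (X ⧸ O) : Set (X ⧸ O)) with hH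
    have hstep : Cfsg.pLayerOf p Cb ≤ Cfsg.pLayerOf p H := by
      rw [Cfsg.pLayerOf, Cfsg.pLayer, map_le_iff_le_comap]
      refine sSup_le fun K hK => map_le_iff_le_comap.1 ?_
      refine pComponent_map_le_pLayerOf inf_le_left ?_ hK (le_inf (map_subtype_le _) ?_)
      · rw [inf_subgroupOf_left]; infer_instance
      · set T := Cfsg.pCore p (X ⧸ O) ⊓ Cb with hT
        haveI : (T.subgroupOf Cb).Normal := by rw [hT, inf_subgroupOf_right]; infer_instance
        have hTp : IsPGroup p ↥T := (Cfsg.Lib.Core.pCore_isPGroup p _).to_le inf_le_left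
        have h1 := pComponent_le_centralizer_of_pGroup hK (T := T.subgroupOf Cb)
          (hTp.of_equiv (subgroupOfEquivOfLe inf_le_right).symm)
        refine le_centralizer_of_pResidual (P := Rb) ?_ (Cfsg.Lib.Core.pCore_isPGroup p _) (hR.map π)
          (le_top.trans (normalizer_eq_top_iff.2 inferInstance).ge)
          (le_top.trans (normalizer_eq_top_iff.2 inferInstance).ge) (map_subtype_le _) ?_
        · refine pResidual_eq_top_of_perfect (Group.isPerfect_def.1 (Subgroup.isPerfect_iff.2 ?_))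
          rw [← map_commutator, pComponent_perfect hK]
        · intro t ht
          refine mem_centralizer_iff.2 ?_
          rintro _ ⟨k, hk, rfl⟩
          exact (congrArg Subtype.val (mem_centralizer_iff.1 (h1 hk) ⟨t, ht.2⟩ (mem_subgroupOf.2 ht))).symm
    refine hstep.trans ?_
    rw [Cfsg.pLayerOf, Cfsg.pLayer, map_le_iff_le_comap]
    exact sSup_le fun K hK => map_le_iff_le_comap.1 (hlayer H hH K hK)
  let f : ↥C →* ↥Cb := (π.comp C.subtype).codRestrict Cb fun c => hCC ▸ mem_map_of_mem π c.2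
  have hf : Function.Surjective f := by
    rintro ⟨y, hy⟩
    rw [← hCC] at hy
    obtain ⟨c, hc, rfl⟩ := hy
    exact ⟨⟨c, hc⟩, rfl⟩
  have hker : (Nat.card ↥f.ker).Coprime p := by
    have h1 : f.ker.map C.subtype ≤ O := by
      rintro _ ⟨c, hc, rfl⟩
      exact (QuotientGroup.eq_one_iff _).1 (congrArg Subtype.val (MonoidHom.mem_ker.1 hc))
    rw [← Cfsg.Lib.Core.card_map_subtype]
    exact Cfsg.Lib.Core.coprime_card_of_le h1 (Cfsg.Lib.Core.pPrimeCore_coprime p X)
  rw [Cfsg.pLayerOf, Cfsg.pLayer, map_le_iff_le_comap]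
  refine sSup_le fun K hK => map_le_iff_le_comap.1 ?_
  rw [map_le_iff_le_comap]
  conv_lhs => rw [← pComponent_eq_closure hK]
  refine (closure_le _).2 ?_
  rintro x ⟨hx, k, hk⟩
  have hxl : π (x : X) ∈ Cfsg.layer (X ⧸ O) := hquot ⟨f x,
    map_pLayer_le_of_surjective f hf hker (mem_map_of_mem f ((le_sSup hK : K ≤ Cfsg.pLayer p ↥C) hx)), rfl⟩
  rw [← map_pLayer] at hxl
  have hx' : (x : X) ∈ Cfsg.pLayer p X ⊔ O := by
    rw [← QuotientGroup.ker_mk' O, ← comap_map_eq]
    exact mem_comap.2 hxl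
  refine mem_comap.2 (mem_of_isSubnormal_of_relIndex le_sup_left
    (inferInstance : (Cfsg.pLayer p X).Normal).isSubnormal.subgroupOf ?_ hx'
    ((Subgroup.orderOf_coe x).trans hk))
  intro hd
  have h1 : (Cfsg.pLayer p X).relIndex (Cfsg.pLayer p X ⊔ O) ∣ Nat.card ↥O := by
    refine Nat.dvd_of_mul_dvd_mul_left (k := Nat.card ↥(Cfsg.pLayer p X)) Nat.card_pos ?_
    rw [Cfsg.Lib.Core.card_mul_relIndex le_sup_left]
    exact Cfsg.Lib.Core.card_sup_dvd_mul _ O
  exact Cfsg.Lib.Core.pPrimeCore_not_dvd p X (hd.trans h1)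

/-- `L_{p'}`-balance, for normalizers, given it in the quotient by the p'-core. -/
theorem l_balance_of_core {X : Type*} [Group X] [Finite X]
    {R : Subgroup X} (hR : IsPGroup p ↥R)
    (hlayer : ∀ (H : Subgroup (X ⧸ Cfsg.pPrimeCore p X)),
      H = centralizer ((R.map (QuotientGroup.mk' (Cfsg.pPrimeCore p X)) :
        Subgroup (X ⧸ Cfsg.pPrimeCore p X)) : Set (X ⧸ Cfsg.pPrimeCore p X)) ⊓
        centralizer (Cfsg.pCore p (X ⧸ Cfsg.pPrimeCore p X) : Set (X ⧸ Cfsg.pPrimeCore p X)) →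
      ∀ K : Subgroup ↥H, Cfsg.IsPComponent p K → K.map H.subtype ≤ Cfsg.layer (X ⧸ Cfsg.pPrimeCore p X)) :
    Cfsg.pLayerOf p (normalizer (R : Set X)) ≤ Cfsg.pLayer p X := by
  set N := normalizer (R : Set X) with hN
  set C := centralizer (R : Set X) with hC
  have hNC : Cfsg.pLayerOf p N ≤ Cfsg.pLayerOf p C := by
    rw [Cfsg.pLayerOf, Cfsg.pLayer, map_le_iff_le_comap]
    refine sSup_le fun K hK => map_le_iff_le_comap.1 ?_
    refine pComponent_map_le_pLayerOf (centralizer_le_normalizer _) ?_ hK ?_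
    · exact (normal_subgroupOf_iff_le_normalizer (centralizer_le_normalizer _)).2 fun y hy =>
        mem_normalizer_of_map_conj (by
          rw [map_centralizer_equiv, Cfsg.Lib.Core.map_conj_eq_of_mem_normalizer hy])
    · haveI : (R.subgroupOf N).Normal := normal_subgroupOf_iff_le_normalizer le_normalizer |>.2 le_rfl
      have h := pComponent_le_centralizer_of_pGroup hK
        (T := R.subgroupOf N) (hR.of_equiv (subgroupOfEquivOfLe le_normalizer).symm)
      rintro _ ⟨k, hk, rfl⟩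
      refine mem_centralizer_iff.2 fun r hr => ?_
      exact congrArg Subtype.val (mem_centralizer_iff.1 (h hk) ⟨r, le_normalizer hr⟩ (mem_subgroupOf.2 hr))
  exact hNC.trans (l_balance_centralizer_of_core hR hlayer)

/-- `L_{p'}`-balance for centralizers, modulo soluble outer automorphism groups. -/
theorem l_balance_of_solvable_out {X : Type*} [Group X] [Finite X]
    (hS : ∀ L : Subgroup (X ⧸ Cfsg.pPrimeCore p X), Cfsg.IsComponent L →
      Group.IsSolvable (Cfsg.Out (↥L ⧸ Subgroup.center ↥L)))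
    {R : Subgroup X} (hR : IsPGroup p ↥R) :
    Cfsg.pLayerOf p (normalizer (R : Set X)) ≤ Cfsg.pLayer p X :=
  l_balance_of_core hR fun _ hH _ hK =>
    pComponent_le_layer Cfsg.Lib.Core.pPrimeCore_quotient_eq_bot hS (hR.map _) hH hK

end Cfsg.Lib.Sig
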