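import Cfsg.Prelude.Def_Balance
import Cfsg.Agent.Lib.Sig.LBalance
import Cfsg.Agent.Lib.Sig.PComponent
import Cfsg.Agent.Lib.Coprime.PGroupAction
import Cfsg.Agent.Lib.PGroup.Basic

/-!
# Centralizer cores in a group with `O_{p'} = 1`

If a `p'`-group `D` lies in `O_{p'}(C(a))` for the nontrivial elements `a` of a `p`-group `A`, then `D`
is trivial, provided that `D` centralizes every component normalized by `A` and `D` on which `A` acts
faithfully. This is the reduction of (k-)balance to local (k-)balance of components.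
-/

set_option autoImplicit false

namespace Cfsg.Lib.Sig.LocalBalance

open Subgroup Cfsg.Lib

variable {X : Type*} [Group X] [Finite X] {p : ℕ} [hp : Fact p.Prime]

/-- `O_{p'}(C(a) ∩ C(O_p(X)))`, as a subgroup of `X`. -/
def coreC (p : ℕ) (a : X) : Subgroup X :=
  (Cfsg.pPrimeCore p ↥(centralizer ({a} : Set X) ⊓ centralizer (Cfsg.pCore p X : Set X))).map
    (centralizer ({a} : Set X) ⊓ centralizer (Cfsg.pCore p X : Set X)).subtype

omit [Finite X] hp in
theorem coreC_le_centralizer (a : X) : coreC p a ≤ centralizer ({a} : Set X) :=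
  (map_subtype_le _).trans inf_le_left

theorem coreC_coprime (a : X) : (Nat.card ↥(coreC p a)).Coprime p := by
  rw [coreC, Core.card_map_subtype]
  exact Core.pPrimeCore_coprime p _

theorem orderOf_coprime_of_mem {D : Subgroup X} (hD : (Nat.card ↥D).Coprime p) {d : X}
    (hd : d ∈ D) : (orderOf d).Coprime p := by
  refine Nat.Coprime.coprime_dvd_left ?_ hD
  rw [← Subgroup.orderOf_mk d hd]
  exact orderOf_dvd_natCard _

/-- A `p'`-subgroup centralizing the centralizer of a `p`-element `a` in `O_p(X)` centralizes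
`O_p(X)`. -/
theorem le_centralizer_pCore {D : Subgroup X} {a : X} (ha : a ^ p = 1)
    (hcop : (Nat.card ↥D).Coprime p) (hD : D ≤ Cfsg.centralizerPPrimeCore p a) :
    D ≤ centralizer (Cfsg.pCore p X : Set X) := by
  set V := Cfsg.pCore p X with hV
  have hVp : IsPGroup p V := Core.pCore_isPGroup p X
  have hn : V.Normal := inferInstance
  have hPp : IsPGroup p (zpowers a) := by
    rcases (Nat.dvd_prime hp.out).mp (orderOf_dvd_of_pow_eq_one ha) with h | h
    · exact IsPGroup.of_card (n := 0) (by rw [Nat.card_zpowers, h, pow_zero])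
    · exact IsPGroup.of_card (n := 1) (by rw [Nat.card_zpowers, h, pow_one])
  have hDC : D ≤ centralizer ({a} : Set X) := hD.trans (map_subtype_le _)
  have h := Coprime.commutator_eq_bot_of_AxB V (zpowers a) D hVp hPp hcop
    (le_top.trans (normalizer_eq_top_iff.2 hn).ge) (le_top.trans (normalizer_eq_top_iff.2 hn).ge)
    (hDC.trans (by rw [zpowers_eq_closure, centralizer_closure]))
    (fun v hv => by
      rw [mem_centralizer_iff]
      intro d hd
      have hvC : v ∈ centralizer ({a} : Set X) :=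
        centralizer_le (Set.singleton_subset_iff.2 (mem_zpowers a)) hv.2
      have h1 : d * v * d⁻¹ * v⁻¹ ∈ V := mul_mem (hn.conj_mem v hv.1 d) (inv_mem hv.1)
      have h2 : v * d⁻¹ * v⁻¹ ∈ Cfsg.centralizerPPrimeCore p a := by
        obtain ⟨r, hr, hre⟩ := inv_mem (hD hd)
        refine ⟨⟨v, hvC⟩ * r * ⟨v, hvC⟩⁻¹,
          (inferInstance : (Cfsg.pPrimeCore p _).Normal).conj_mem r hr _, ?_⟩
        simp only [map_mul, map_inv, Subgroup.coe_subtype] at hre ⊢
        rw [hre]
      have h3 : d * v * d⁻¹ * v⁻¹ ∈ V ⊓ Cfsg.centralizerPPrimeCore p a :=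
        ⟨h1, by simpa [mul_assoc] using mul_mem (hD hd) h2⟩
      have hc : (Nat.card ↥(Cfsg.centralizerPPrimeCore p a)).Coprime p := by
        rw [Cfsg.centralizerPPrimeCore, Core.card_map_subtype]
        exact Core.pPrimeCore_coprime p _
      rw [disjoint_of_isPGroup_coprime hVp hc, mem_bot, mul_inv_eq_one, mul_inv_eq_iff_eq_mul] at h3
      exact h3)
  rw [← commutator_eq_bot_iff_le_centralizer, commutator_comm]
  exact h

theorem le_coreC {D : Subgroup X} {a : X} (ha : a ^ p = 1) (hcop : (Nat.card ↥D).Coprime p)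
    (hD : D ≤ Cfsg.centralizerPPrimeCore p a) : D ≤ coreC p a := by
  set C := centralizer ({a} : Set X) with hC
  set C' := C ⊓ centralizer (Cfsg.pCore p X : Set X) with hC'
  set R := Cfsg.centralizerPPrimeCore p a with hR
  have hRC : R ≤ C := map_subtype_le _
  have h : (R ⊓ C').subgroupOf C' ≤ Cfsg.pPrimeCore p ↥C' := by
    refine Core.le_pPrimeCore' ⟨fun r hr c => mem_subgroupOf.2 ⟨?_, (c * r * c⁻¹).2⟩⟩ ?_
    · obtain ⟨s, hs, hse⟩ := (mem_subgroupOf.1 hr).1
      refine ⟨⟨c, c.2.1⟩ * s * ⟨c, c.2.1⟩⁻¹,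
        (inferInstance : (Cfsg.pPrimeCore p _).Normal).conj_mem s hs _, ?_⟩
      simp only [map_mul, map_inv, Subgroup.coe_subtype] at hse ⊢
      rw [hse]; rfl
    · rw [Nat.card_congr (subgroupOfEquivOfLe (inf_le_right : R ⊓ C' ≤ C')).toEquiv]
      refine Core.coprime_card_of_le inf_le_left ?_
      rw [hR, Cfsg.centralizerPPrimeCore, Core.card_map_subtype]
      exact Core.pPrimeCore_coprime p _
  intro d hd
  have hd' : d ∈ R ⊓ C' := ⟨hD hd, hRC (hD hd), le_centralizer_pCore ha hcop hD hd⟩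
  exact ⟨⟨d, hd'.2⟩, h (mem_subgroupOf.2 hd'), rfl⟩

omit hp in
/-- An element centralizing `a` modulo `O_p(X)` normalizes `coreC p a`. -/
theorem mem_normalizer_coreC {a x : X} (hx : x * a * x⁻¹ * a⁻¹ ∈ Cfsg.pCore p X) :
    x ∈ normalizer (coreC p a : Set X) := by
  refine Core.normalizer_le_normalizer_map_char _ ?_
  set V := Cfsg.pCore p X
  rw [Core.mem_normalizer_iff_map_conj]
  refine eq_of_le_of_card_ge ?_ (card_map_of_injective (MulAut.conj x).injective).ge
  rintro _ ⟨y, ⟨hya, hyV⟩, rfl⟩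
  have hn : V.Normal := inferInstance
  refine ⟨?_, ?_⟩
  · replace hya : y * a = a * y := mem_centralizer_singleton_iff.1 hya
    refine mem_centralizer_singleton_iff.2 ?_
    set z := x * a * x⁻¹ * a⁻¹ with hz
    have hyz : z * (x * y * x⁻¹) = x * y * x⁻¹ * z := by
      have hw := mem_centralizer_iff.1 hyV (x⁻¹ * z * x) (by simpa using hn.conj_mem z hx x⁻¹)
      calc z * (x * y * x⁻¹) = x * (x⁻¹ * z * x * y) * x⁻¹ := by group
        _ = x * (y * (x⁻¹ * z * x)) * x⁻¹ := by rw [hw]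
        _ = x * y * x⁻¹ * z := by group
    show x * y * x⁻¹ * a = a * (x * y * x⁻¹)
    have e : a = z⁻¹ * (x * a * x⁻¹) := by rw [hz]; group
    have hyz' : x * y * x⁻¹ * z⁻¹ = z⁻¹ * (x * y * x⁻¹) := by
      calc x * y * x⁻¹ * z⁻¹ = z⁻¹ * (z * (x * y * x⁻¹)) * z⁻¹ := by group
        _ = z⁻¹ * (x * y * x⁻¹ * z) * z⁻¹ := by rw [hyz]
        _ = z⁻¹ * (x * y * x⁻¹) := by group
    calc x * y * x⁻¹ * a = x * y * x⁻¹ * z⁻¹ * (x * a * x⁻¹) := by
          conv_lhs => rw [e]
          group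
      _ = z⁻¹ * (x * y * x⁻¹) * (x * a * x⁻¹) := by rw [hyz']
      _ = z⁻¹ * (x * (y * a) * x⁻¹) := by group
      _ = z⁻¹ * (x * (a * y) * x⁻¹) := by rw [hya]
      _ = z⁻¹ * (x * a * x⁻¹) * (x * y * x⁻¹) := by group
      _ = a * (x * y * x⁻¹) := by rw [← e]
  · replace hyV := mem_centralizer_iff.1 hyV
    refine mem_centralizer_iff.2 fun v hv => ?_
    have hw := hyV (x⁻¹ * v * x) (by simpa using hn.conj_mem v hv x⁻¹)
    show v * (x * y * x⁻¹) = x * y * x⁻¹ * v
    calc v * (x * y * x⁻¹) = x * (x⁻¹ * v * x * y) * x⁻¹ := by group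
      _ = x * (y * (x⁻¹ * v * x)) * x⁻¹ := by rw [hw]
      _ = x * y * x⁻¹ * v := by group

section Component

variable (hO : Cfsg.pPrimeCore p X = ⊥) {K : Subgroup X} (hK : Cfsg.IsComponent K)
include hO hK

theorem inf_centralizer_le_pCore : K ⊓ centralizer (K : Set X) ≤ Cfsg.pCore p X := by
  set Z := K ⊓ centralizer (K : Set X) with hZ
  have hZn : (Z.subgroupOf K).Normal := ⟨fun z hz k => by
    have h : k * z * k⁻¹ = z := Subtype.ext (by
      have := mem_centralizer_iff.1 (mem_subgroupOf.1 hz).2 k k.2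
      calc (k : X) * z * (k : X)⁻¹ = (z : X) * k * (k : X)⁻¹ := by rw [this]
        _ = z := by group)
    rw [h]; exact hz⟩
  have hZsn : Z.IsSubnormal := Core.isSubnormal_of_normal_subgroupOf inf_le_left hK.1 hZn
  have key : ∀ z ∈ Z, (orderOf z).Coprime p → z = 1 := by
    intro z hz hzp
    have hn : ((zpowers z).subgroupOf Z).Normal := by
      refine ⟨fun w hw v => ?_⟩
      have : v * w * v⁻¹ = w := Subtype.ext (by
        have := mem_centralizer_iff.1 w.2.2 v v.2.1
        calc (v : X) * w * (v : X)⁻¹ = (w : X) * v * (v : X)⁻¹ := by rw [this]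
          _ = w := by group)
      rw [this]; exact hw
    have hsn := Core.isSubnormal_of_normal_subgroupOf (zpowers_le.2 hz) hZsn hn
    have := Core.le_pPrimeCore_of_isSubnormal hsn (by rw [Nat.card_zpowers]; exact hzp)
      (mem_zpowers z)
    rwa [hO, mem_bot] at this
  refine Core.le_pCore_of_isSubnormal hZsn fun z => ?_
  obtain ⟨k, m, hm, hzm⟩ := Nat.exists_eq_pow_mul_and_not_dvd (orderOf_pos (z : X)).ne' p hp.out.ne_one
  refine ⟨k, Subtype.ext ?_⟩
  refine key ((z : X) ^ p ^ k) (pow_mem z.2 _) ?_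
  rw [orderOf_pow' _ (pow_ne_zero _ hp.out.ne_zero), hzm,
    Nat.gcd_eq_right (Dvd.intro m rfl), Nat.mul_div_cancel_left _ (Nat.pow_pos hp.out.pos)]
  exact (hp.out.coprime_iff_not_dvd.2 hm).symm

theorem not_coprime_card : ¬ (Nat.card ↥K).Coprime p := fun h => by
  have := Core.le_pPrimeCore_of_isSubnormal hK.1 h
  rw [hO] at this
  exact Core.IsComponent.ne_bot hK (le_bot_iff.1 this)

theorem exists_noncentral_pow_eq_one :
    ∃ x ∈ K, x ∉ centralizer (K : Set X) ∧ ∃ n, x ^ p ^ n = 1 := by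
  classical
  by_contra hno
  push Not at hno
  let S : Sylow p ↥K := default
  have hS : ∀ s ∈ (S : Subgroup ↥K), (s : X) ∈ centralizer (K : Set X) := by
    intro s hs
    by_contra hc
    obtain ⟨n, hn⟩ := S.isPGroup' ⟨s, hs⟩
    exact hno s s.2 hc n (by simpa using congrArg (fun u : (S : Subgroup ↥K) => ((u : ↥K) : X)) hn)
  have hcen : ∀ s ∈ (S : Subgroup ↥K), ∀ k : ↥K, k * s = s * k := fun s hs k =>
    Subtype.ext (mem_centralizer_iff.1 (hS s hs) k k.2)
  have hNC : normalizer ((S : Subgroup ↥K) : Set ↥K) ≤ centralizer ((S : Subgroup ↥K) : Set ↥K) :=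
    fun k _ => mem_centralizer_iff.2 fun s hs => (hcen s hs k).symm
  have hker : (MonoidHom.transferSylow S hNC).ker = ⊤ := by
    refine top_le_iff.1 fun k _ => ?_
    exact MonoidHom.mem_ker.2 (hom_eq_one_of_perfect (Core.quasisimple_commutator hK.2) _
      (fun a b => Subtype.ext (hcen _ (MonoidHom.transferSylow S hNC b).2
        ((MonoidHom.transferSylow S hNC a : (S : Subgroup ↥K)) : ↥K))) k)
  have := MonoidHom.not_dvd_card_ker_transferSylow S hNC
  rw [hker, card_top] at this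
  exact not_coprime_card hO hK ((hp.out.coprime_iff_not_dvd.2 this).symm)

/-- An element of `p'`-order which is, modulo `C(K)`, equal to a `p`-element of `K` centralizes `K`. -/
theorem mem_centralizer_of_inv_mul {t x : X} (htn : t ∈ normalizer (K : Set X))
    (ht : (orderOf t).Coprime p) {n : ℕ} (hx : x ^ p ^ n = 1) (hxn : x ∈ normalizer (K : Set X))
    (h : t⁻¹ * x ∈ centralizer (K : Set X)) : x ∈ centralizer (K : Set X) := by
  set N := normalizer (K : Set X) with hN
  set C := (centralizer (K : Set X)).subgroupOf N with hC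
  haveI : C.Normal := ⟨fun c hc m => by
    rw [hC, mem_subgroupOf, mem_centralizer_iff] at hc ⊢
    intro k hk
    have h1 := hc ((m : X)⁻¹ * k * m) ((mem_normalizer_iff''.1 m.2 k).1 hk)
    simp only [Subgroup.coe_mul, Subgroup.coe_inv]
    calc k * (↑m * ↑c * (↑m)⁻¹) = (m : X) * ((m : X)⁻¹ * k * m * c) * (m : X)⁻¹ := by group
      _ = (m : X) * (c * ((m : X)⁻¹ * k * m)) * (m : X)⁻¹ := by rw [h1]
      _ = ↑m * ↑c * (↑m)⁻¹ * k := by group⟩
  set f := QuotientGroup.mk' C
  have hfe : f ⟨t, htn⟩ = f ⟨x, hxn⟩ := QuotientGroup.eq.2 (mem_subgroupOf.2 h)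
  have h1 : f ⟨x, hxn⟩ ^ orderOf t = 1 := by
    rw [← hfe, ← map_pow, show (⟨t, htn⟩ : N) ^ orderOf t = 1 from
      Subtype.ext (pow_orderOf_eq_one t), map_one]
  have h2 : f ⟨x, hxn⟩ ^ p ^ n = 1 := by
    rw [← map_pow, show (⟨x, hxn⟩ : N) ^ p ^ n = 1 from Subtype.ext hx, map_one]
  have h3 := (pow_gcd_eq_one (a := f ⟨x, hxn⟩)).2 ⟨h1, h2⟩
  rw [Nat.Coprime.gcd_eq_one (ht.pow_right n), pow_one] at h3
  exact mem_subgroupOf.1 ((QuotientGroup.eq_one_iff _).1 h3)

theorem layer_le_sup_centralizer : Cfsg.layer X ≤ K ⊔ centralizer (K : Set X) :=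
  sSup_le fun L hL => by
    by_cases he : L = K
    · exact he ▸ le_sup_left
    · exact le_sup_of_le_right
        (commutator_eq_bot_iff_le_centralizer.1 (Core.component_commute hL hK he))

theorem le_normalizer_centralizer : normalizer (K : Set X) ≤
    normalizer (centralizer (K : Set X) : Set X) := by
  rw [Core.le_normalizer_iff_conj_mem]
  intro m hm c hc
  rw [mem_centralizer_iff] at hc ⊢
  intro k hk
  have h1 := hc (m⁻¹ * k * m) ((mem_normalizer_iff''.1 hm k).1 hk)
  calc k * (m * c * m⁻¹) = m * (m⁻¹ * k * m * c) * m⁻¹ := by group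
    _ = m * (c * (m⁻¹ * k * m)) * m⁻¹ := by rw [h1]
    _ = m * c * m⁻¹ * k := by group

omit hO in
/-- For `a` of order `p` moving `K`, the product `(k a)^p` of the conjugates of `k` centralizes `a`. -/
theorem diag {a : X} (ha : a ^ p = 1) (haK : a ∉ normalizer (K : Set X)) {k : X} (hk : k ∈ K) :
    (k * a) ^ p * a = a * (k * a) ^ p ∧ k⁻¹ * (k * a) ^ p ∈ centralizer (K : Set X) ∧
      (k * a) ^ p ∈ (⨆ i : ℕ, K.map (MulAut.conj (a ^ i)).toMonoidHom) := by
  set O := ⨆ i : ℕ, K.map (MulAut.conj (a ^ i)).toMonoidHom with hOdef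
  have hfac : ∀ i : ℕ, a ^ i * k * (a ^ i)⁻¹ ∈ O := fun i =>
    (le_iSup (fun i : ℕ => K.map (MulAut.conj (a ^ i)).toMonoidHom) i) ⟨k, hk, rfl⟩
  have hfc : ∀ i : ℕ, ¬ p ∣ i → a ^ i * k * (a ^ i)⁻¹ ∈ centralizer (K : Set X) := by
    intro i hi
    have hne : K.map (MulAut.conj (a ^ i)).toMonoidHom ≠ K := fun he => by
      have hm : a ^ i ∈ normalizer (K : Set X) := Core.mem_normalizer_iff_map_conj.2 he
      have hcop : Nat.gcd i p = 1 := Nat.Coprime.gcd_eq_one ((hp.out.coprime_iff_not_dvd.2 hi).symm)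
      apply haK
      have h1 : a ^ (i : ℤ) ∈ normalizer (K : Set X) := by rwa [zpow_natCast]
      have h2 := zpow_mem h1 (Nat.gcdA i p)
      have h3 : a ^ ((i : ℤ) * Nat.gcdA i p + (p : ℤ) * Nat.gcdB i p) = a := by
        rw [← Nat.gcd_eq_gcd_ab, hcop, Nat.cast_one, zpow_one]
      rw [← h3, zpow_add, zpow_mul, zpow_mul a (p : ℤ), zpow_natCast a p, ha, one_zpow, mul_one]
      exact h2
    exact commutator_eq_bot_iff_le_centralizer.1
      (Core.component_commute (Core.IsComponent.map_conj hK (a ^ i)) hK hne) ⟨k, hk, rfl⟩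
  have hind : ∀ n : ℕ, 1 ≤ n → n ≤ p →
      k⁻¹ * ((k * a) ^ n * (a ^ n)⁻¹) ∈ centralizer (K : Set X) ∧ (k * a) ^ n * (a ^ n)⁻¹ ∈ O := by
    intro n hn
    induction n, hn using Nat.le_induction with
    | base =>
      intro _
      rw [pow_one, pow_one, mul_inv_cancel_right, inv_mul_cancel]
      exact ⟨one_mem _, by simpa using hfac 0⟩
    | succ n hn ih =>
      intro hnp
      obtain ⟨h1, h2⟩ := ih (by omega)
      have e : (k * a) ^ (n + 1) * (a ^ (n + 1))⁻¹ =
          (k * a) ^ n * (a ^ n)⁻¹ * (a ^ n * k * (a ^ n)⁻¹) := by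
        rw [pow_succ, pow_succ]; group
      have hnd : ¬ p ∣ n := fun h => absurd (Nat.le_of_dvd (by omega) h) (by omega)
      rw [e]
      exact ⟨by rw [← mul_assoc]; exact mul_mem h1 (hfc n hnd), mul_mem h2 (hfac n)⟩
  obtain ⟨h1, h2⟩ := hind p hp.out.one_le le_rfl
  rw [ha, inv_one, mul_one] at h1 h2
  refine ⟨?_, h1, h2⟩
  set y := (k * a) ^ p with hy
  have hky : k * y = y * k := by
    have := mem_centralizer_iff.1 h1 k hk
    calc k * y = k * (k * (k⁻¹ * y)) := by group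
      _ = k * ((k⁻¹ * y) * k) := by rw [this]
      _ = y * k := by group
  have h3 : (a * k) ^ p = a * y * a⁻¹ := by
    rw [hy, ← conj_pow]; congr 1; group
  have h4 : (a * k) ^ p = k⁻¹ * y * k := by
    have hh := conj_pow (i := p) (a := k⁻¹) (b := k * a)
    rw [inv_inv] at hh
    rw [hy, ← hh]; congr 1; group
  have h5 : a * y * a⁻¹ = y := by rw [← h3, h4, mul_assoc, ← hky, inv_mul_cancel_left]
  calc y * a = a * y * a⁻¹ * a := by rw [h5]
    _ = a * y := by group

/-- A component moved by `a` is centralized by `coreC p a`. -/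
theorem moved {a : X} (ha : a ^ p = 1) (haK : a ∉ normalizer (K : Set X)) {d : X}
    (hd : d ∈ coreC p a) : d ∈ centralizer (K : Set X) := by
  classical
  set R := coreC p a with hR
  set T := R ⊓ Cfsg.layer X with hT
  have hCn : ∀ {y : X}, y * a = a * y → y ∈ normalizer (R : Set X) := fun {y} hy =>
    mem_normalizer_coreC (by rw [hy, mul_inv_cancel_right, mul_inv_cancel]; exact one_mem _)
  have hda : d * a = a * d := mem_centralizer_singleton_iff.1 (coreC_le_centralizer a hd)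
  set O := ⨆ i : ℕ, K.map (MulAut.conj (a ^ i)).toMonoidHom with hOdef
  have hOL : O ≤ Cfsg.layer X := iSup_le fun i => Core.le_layer (Core.IsComponent.map_conj hK _)
  have hLn : Cfsg.layer X ≤ normalizer (K : Set X) :=
    (normal_subgroupOf_iff_le_normalizer (Core.le_layer hK)).1 (Core.component_normal_in_layer hK)
  have hNC := le_normalizer_centralizer hO hK
  have hLnormal : (Cfsg.layer X).Normal := inferInstance
  -- `T` centralizes `K`
  have hTC : T ≤ centralizer (K : Set X) := by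
    intro t ht
    have hKn : K ≤ normalizer (T ⊔ centralizer (K : Set X) : Subgroup X) := by
      intro k hk
      obtain ⟨hy1, hy2, hy3⟩ := diag hK ha haK hk
      set y := (k * a) ^ p
      have hyT : y ∈ normalizer (T : Set X) :=
        Subgroup.inf_normalizer_le_normalizer_inf
          ⟨hCn hy1, le_normalizer (hOL hy3)⟩
      have hyC : y ∈ normalizer (centralizer (K : Set X) : Set X) := hNC (hLn (hOL hy3))
      have h1 : y ∈ normalizer (T ⊔ centralizer (K : Set X) : Subgroup X) := by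
        rw [Core.mem_normalizer_iff_map_conj, Subgroup.map_sup,
          Core.map_conj_eq_of_mem_normalizer hyT, Core.map_conj_eq_of_mem_normalizer hyC]
      have h2 : k⁻¹ * y ∈ normalizer (T ⊔ centralizer (K : Set X) : Subgroup X) :=
        le_normalizer (mem_sup_right hy2)
      have := mul_mem h1 (inv_mem h2)
      rwa [mul_inv_rev, inv_inv, mul_inv_cancel_left] at this
    set T0 := ((T ⊔ centralizer (K : Set X)) ⊓ K).subgroupOf K with hT0
    haveI : T0.Normal := ⟨fun u hu k => mem_subgroupOf.2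
      ⟨(mem_normalizer_iff.1 (hKn k.2) _).1 (mem_subgroupOf.1 hu).1, (k * u * k⁻¹).2⟩⟩
    have hTn : T ≤ normalizer (centralizer (K : Set X) : Set X) :=
      inf_le_right.trans (hLn.trans hNC)
    rcases Core.quasisimple_normal hK.2 (N := T0) with h | h
    · have htKC : t ∈ K ⊔ centralizer (K : Set X) := layer_le_sup_centralizer hO hK ht.2
      obtain ⟨k0, hk0, c, hc, rfl⟩ :=
        (Core.mem_sup_of_le_normalizer (le_normalizer.trans hNC)).1 htKC
      have hk0T : (⟨k0, hk0⟩ : ↥K) ∈ T0 := mem_subgroupOf.2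
        ⟨by simpa using mul_mem (mem_sup_left (T := centralizer (K : Set X)) ht) (mem_sup_right (S := T) (inv_mem hc)), hk0⟩
      refine mul_mem (mem_centralizer_iff.2 fun k hk => ?_) hc
      exact congrArg Subtype.val (Subgroup.mem_center_iff.1 (h hk0T) ⟨k, hk⟩)
    · exfalso
      obtain ⟨x, hxK, hxC, n, hxn⟩ := exists_noncentral_pow_eq_one hO hK
      have hxT : x ∈ T ⊔ centralizer (K : Set X) :=
        (mem_subgroupOf.1 (h.ge (mem_top (⟨x, hxK⟩ : ↥K)))).1
      obtain ⟨t', ht', c, hc, rfl⟩ := (Core.mem_sup_of_le_normalizer hTn).1 hxT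
      exact hxC (mem_centralizer_of_inv_mul hO hK (hLn ht'.2)
        (orderOf_coprime_of_mem (coreC_coprime a) ht'.1) hxn (le_normalizer hxK)
        (by simpa using hc))
  -- commutators with diagonal elements
  have hcomm : ∀ k ∈ K, d * (k * a) ^ p * d⁻¹ * ((k * a) ^ p)⁻¹ ∈ centralizer (K : Set X) := by
    intro k hk
    obtain ⟨hy1, -, hy3⟩ := diag hK ha haK hk
    refine hTC ⟨?_, Subgroup.mul_mem _ (hLnormal.conj_mem _ (hOL hy3) d) (Subgroup.inv_mem _ (hOL hy3))⟩
    rw [mul_assoc, mul_assoc]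
    refine mul_mem hd ?_
    rw [← mul_assoc]
    exact (mem_normalizer_iff.1 (hCn hy1) _).1 (inv_mem hd)
  -- `d` normalizes `K`
  have hdK : d ∈ normalizer (K : Set X) := by
    by_contra hdK
    obtain ⟨k, hk, hkC, -⟩ := exists_noncentral_pow_eq_one hO hK
    obtain ⟨hy1, hy2, hy3⟩ := diag hK ha haK hk
    set y := (k * a) ^ p
    by_cases hall : ∀ i : ℕ, (K.map (MulAut.conj (a ^ i)).toMonoidHom).map
        (MulAut.conj d).toMonoidHom ≠ K
    · have hle : O.map (MulAut.conj d).toMonoidHom ≤ centralizer (K : Set X) := by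
        rw [hOdef, Subgroup.map_iSup]
        exact iSup_le fun i => commutator_eq_bot_iff_le_centralizer.1
          (Core.component_commute (Core.IsComponent.map_conj (Core.IsComponent.map_conj hK _) d)
            hK (hall i))
      have h1 : d * y * d⁻¹ ∈ centralizer (K : Set X) := hle ⟨y, hy3, rfl⟩
      have h2 : y ∈ centralizer (K : Set X) := by
        have h0 : d * y * d⁻¹ * y⁻¹ ∈ centralizer (K : Set X) := hcomm k hk
        simpa [mul_assoc] using mul_mem (inv_mem h0) h1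
      exact hkC (by simpa using mul_mem h2 (inv_mem hy2))
    push Not at hall
    obtain ⟨i, hi⟩ := hall
    rw [← Core.map_conj_mul] at hi
    have hm : d * a ^ i ∈ normalizer (K : Set X) := Core.mem_normalizer_iff_map_conj.2 hi
    have hc : Commute d (a ^ i) := Commute.pow_right hda i
    have h1 : (d * a ^ i) ^ orderOf d ∈ normalizer (K : Set X) := pow_mem hm _
    rw [hc.mul_pow, pow_orderOf_eq_one, one_mul, ← pow_mul] at h1
    by_cases hpi : p ∣ i
    · obtain ⟨j, rfl⟩ := hpi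
      rw [pow_mul, ha, one_pow, mul_one] at hm
      exact hdK hm
    · have hcop : (i * orderOf d).Coprime p :=
        Nat.Coprime.mul_left (hp.out.coprime_iff_not_dvd.2 hpi).symm
          (orderOf_coprime_of_mem (coreC_coprime a) hd)
      have h2 : a ^ ((i * orderOf d : ℕ) : ℤ) ∈ normalizer (K : Set X) := by rwa [zpow_natCast]
      have h3 := zpow_mem h2 (Nat.gcdA (i * orderOf d) p)
      apply haK
      have h4 : a ^ (((i * orderOf d : ℕ) : ℤ) * Nat.gcdA (i * orderOf d) p +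
          (p : ℤ) * Nat.gcdB (i * orderOf d) p) = a := by
        rw [← Nat.gcd_eq_gcd_ab, hcop.gcd_eq_one, Nat.cast_one, zpow_one]
      rw [← h4, zpow_add, zpow_mul, zpow_mul a (p : ℤ), zpow_natCast a p, ha, one_zpow, mul_one]
      exact h3
  rw [mem_centralizer_iff]
  intro k hk
  have hfix := component_fixed_of_equiv hK (MulAut.conj d) (fun u hu => by
    obtain ⟨-, hy2, -⟩ := diag hK ha haK hu
    set y := (u * a) ^ p
    have h1 : d * (u⁻¹ * y) * d⁻¹ ∈ centralizer (K : Set X) :=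
      (mem_normalizer_iff.1 (hNC hdK) _).1 hy2
    have h2 : y * (d * y * d⁻¹)⁻¹ ∈ centralizer (K : Set X) := by
      have := inv_mem (hcomm u hu)
      rwa [mul_inv_rev, inv_inv] at this
    show u * (d * u * d⁻¹)⁻¹ ∈ centralizer (K : Set X)
    have h3 : y⁻¹ * u ∈ centralizer (K : Set X) := by simpa using inv_mem hy2
    have h4 : u * (y⁻¹ * u) * u⁻¹ ∈ centralizer (K : Set X) :=
      (mem_normalizer_iff.1 (hNC (le_normalizer hu)) _).1 h3
    have huy : y⁻¹ * u⁻¹ * y = u⁻¹ := by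
      have h5 : u * (u⁻¹ * y) = u⁻¹ * y * u := mem_centralizer_iff.1 hy2 u hu
      calc y⁻¹ * u⁻¹ * y = y⁻¹ * (u⁻¹ * y * u) * u⁻¹ := by group
        _ = u⁻¹ := by rw [← h5]; group
    have e : u * (d * u * d⁻¹)⁻¹ =
        u * (y⁻¹ * u) * u⁻¹ * ((y * (d * y * d⁻¹)⁻¹) * (d * (u⁻¹ * y) * d⁻¹)) := by
      calc u * (d * u * d⁻¹)⁻¹ = u * d * (y⁻¹ * u⁻¹ * y) * d⁻¹ := by rw [huy]; group
        _ = _ := by group
    rw [e]; exact mul_mem h4 (mul_mem h2 h1)) k hk
  exact (mul_inv_eq_iff_eq_mul.1 hfix).symm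

/-- For `a` normalizing `K` there is a noncentral `p`-element of `K` centralized by `a` modulo the centre. -/
theorem exists_fixed {a : X} (ha : a ^ p = 1) (haK : a ∈ normalizer (K : Set X)) :
    ∃ x ∈ K, x ∉ centralizer (K : Set X) ∧ (∃ n, x ^ p ^ n = 1) ∧
      x * a * x⁻¹ * a⁻¹ ∈ Cfsg.pCore p X := by
  classical
  set N := normalizer (K : Set X) with hN
  set KN := K.subgroupOf N with hKN
  haveI : KN.Normal := normal_in_normalizer
  have hap : IsPGroup p (zpowers (⟨a, haK⟩ : N)) := by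
    rcases (Nat.dvd_prime hp.out).mp (orderOf_dvd_of_pow_eq_one ha) with h | h
    · exact IsPGroup.of_card (n := 0) (by rw [Nat.card_zpowers, Subgroup.orderOf_mk, h, pow_zero])
    · exact IsPGroup.of_card (n := 1) (by rw [Nat.card_zpowers, Subgroup.orderOf_mk, h, pow_one])
  obtain ⟨P, hP⟩ := hap.exists_le_sylow
  have hCn : ((centralizer (K : Set X)).subgroupOf N).Normal := ⟨fun c hc m => mem_subgroupOf.2
    ((mem_normalizer_iff.1 (le_normalizer_centralizer hO hK m.2) _).1 (mem_subgroupOf.1 hc))⟩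
  set Z : Subgroup (P : Subgroup N) :=
    ((centralizer (K : Set X)).subgroupOf N ⊓ KN).subgroupOf (P : Subgroup N) with hZ
  haveI : Z.Normal := ⟨fun z hz m => by
    rw [hZ, mem_subgroupOf] at hz ⊢
    exact ⟨hCn.conj_mem _ hz.1 _, (inferInstance : KN.Normal).conj_mem _ hz.2 _⟩⟩
  set f := QuotientGroup.mk' Z with hf
  set S := (KN.subgroupOf (P : Subgroup N)).map f with hS
  haveI : S.Normal := Normal.map inferInstance f (QuotientGroup.mk'_surjective Z)
  have hSne : S ≠ ⊥ := by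
    obtain ⟨x, hxK, hxC, n, hn⟩ := exists_noncentral_pow_eq_one hO hK
    have hxp : IsPGroup p (zpowers (⟨x, le_normalizer hxK⟩ : N)) := by
      obtain ⟨j, -, hj⟩ := (Nat.dvd_prime_pow hp.out).1 (orderOf_dvd_of_pow_eq_one hn)
      exact IsPGroup.of_card (n := j) (by rw [Nat.card_zpowers, Subgroup.orderOf_mk, hj])
    obtain ⟨P', hP'⟩ := hxp.exists_le_sylow
    obtain ⟨g, hg⟩ := MulAction.exists_smul_eq N P' P
    intro hbot
    rw [hS, Subgroup.map_eq_bot_iff, hf, QuotientGroup.ker_mk'] at hbot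
    set x' : N := g * ⟨x, le_normalizer hxK⟩ * g⁻¹ with hx'
    have hx'P : x' ∈ (P : Subgroup N) := by
      rw [← hg, Sylow.coe_subgroup_smul]
      exact ⟨_, hP' (mem_zpowers _), by simp [hx']⟩
    have hx'K : x' ∈ KN := Normal.conj_mem inferInstance _ (mem_subgroupOf.2 hxK) g
    have h1 : (⟨x', hx'P⟩ : (P : Subgroup N)) ∈ Z := hbot (mem_subgroupOf.2 hx'K)
    have h2 := hCn.conj_mem x' (mem_subgroupOf.1 h1).1 g⁻¹
    rw [hx'] at h2
    simp only [inv_inv, mul_assoc, inv_mul_cancel_left, inv_mul_cancel, mul_one] at h2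
    exact hxC (mem_subgroupOf.1 h2)
  obtain ⟨u, hu, hu1⟩ := ((S ⊓ center _).bot_or_exists_ne_one).resolve_left
    (PGroup.inf_center_ne_bot (P.isPGroup'.to_quotient Z) hSne)
  obtain ⟨x, hx, rfl⟩ := hu.1
  refine ⟨((x : N) : X), mem_subgroupOf.1 (mem_subgroupOf.1 hx), fun hc => hu1 ?_, ?_, ?_⟩
  · exact (QuotientGroup.eq_one_iff x).2 (mem_subgroupOf.2 ⟨mem_subgroupOf.2 hc, mem_subgroupOf.1 hx⟩)
  · obtain ⟨n, hn⟩ := P.isPGroup' x
    exact ⟨n, by simpa using congrArg (fun z : (P : Subgroup N) => ((z : N) : X)) hn⟩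
  · set a' : (P : Subgroup N) := ⟨⟨a, haK⟩, hP (mem_zpowers _)⟩
    have hz : x * a' * x⁻¹ * a'⁻¹ ∈ Z := by
      rw [← QuotientGroup.eq_one_iff, ← QuotientGroup.mk'_apply, ← hf, map_mul, map_mul, map_mul,
        map_inv, map_inv, ← (mem_center_iff.1 hu.2 (f a'))]
      group
    exact inf_centralizer_le_pCore hO hK
      ⟨mem_subgroupOf.1 (mem_subgroupOf.1 hz).2, mem_subgroupOf.1 (mem_subgroupOf.1 hz).1⟩

/-- `coreC p a` normalizes every component normalized by `a`. -/
theorem mem_normalizer_of_fixed {a : X} (ha : a ^ p = 1) (haK : a ∈ normalizer (K : Set X)) {d : X}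
    (hd : d ∈ coreC p a) : d ∈ normalizer (K : Set X) := by
  by_contra hdK
  obtain ⟨x, hxK, hxC, ⟨n, hn⟩, hxa⟩ := exists_fixed hO hK ha haK
  set e := x * (d * x⁻¹ * d⁻¹) with he
  have hek : e ∈ coreC p a := by
    have h1 : x * d * x⁻¹ ∈ coreC p a :=
      (mem_normalizer_iff.1 (mem_normalizer_coreC hxa) d).1 hd
    have := mul_mem h1 (inv_mem hd)
    rw [he]
    simpa [mul_assoc] using this
  have hne : K.map (MulAut.conj d).toMonoidHom ≠ K := fun h =>
    hdK (Core.mem_normalizer_iff_map_conj.2 h)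
  have hle : K.map (MulAut.conj d).toMonoidHom ≤ centralizer (K : Set X) :=
    commutator_eq_bot_iff_le_centralizer.1
      (Core.component_commute (Core.IsComponent.map_conj hK d) hK hne)
  have hc : d * x⁻¹ * d⁻¹ ∈ centralizer (K : Set X) := hle ⟨x⁻¹, inv_mem hxK, rfl⟩
  have hcomm : Commute x (d * x⁻¹ * d⁻¹) := mem_centralizer_iff.1 hc x hxK
  set m := orderOf e
  have h1 : x ^ m * (d * x⁻¹ * d⁻¹) ^ m = 1 := by rw [← hcomm.mul_pow]; exact pow_orderOf_eq_one e
  have hxm : x ^ m ∈ centralizer (K : Set X) := by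
    rw [eq_inv_of_mul_eq_one_left h1]; exact inv_mem (pow_mem hc m)
  have hcop : m.Coprime (p ^ n) :=
    (orderOf_coprime_of_mem (coreC_coprime a) hek).pow_right n
  apply hxC
  have h2 : x ^ ((m : ℤ) * Nat.gcdA m (p ^ n) + ((p ^ n : ℕ) : ℤ) * Nat.gcdB m (p ^ n)) = x := by
    rw [← Nat.gcd_eq_gcd_ab, hcop.gcd_eq_one, Nat.cast_one, zpow_one]
  rw [← h2, zpow_add, zpow_mul, zpow_mul, zpow_natCast, zpow_natCast, hn, one_zpow, mul_one]
  exact zpow_mem hxm _

/-- `coreC p a` centralizes a component centralized by `a`. -/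
theorem centralized {a : X} (ha : a ^ p = 1) (haK : a ∈ centralizer (K : Set X)) {d : X}
    (hd : d ∈ coreC p a) : d ∈ centralizer (K : Set X) := by
  have hKn : K ≤ normalizer (coreC p a : Set X) := fun k hk => mem_normalizer_coreC (by
    rw [mem_centralizer_iff.1 haK k hk, mul_inv_cancel_right, mul_inv_cancel]; exact one_mem _)
  have haN : a ∈ normalizer (K : Set X) := centralizer_le_normalizer _ haK
  have hbot : coreC p a ⊓ K = ⊥ := by
    refine le_bot_iff.1 ?_
    rw [← hO]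
    have hn : ((coreC p a ⊓ K).subgroupOf K).Normal := ⟨fun u hu k => mem_subgroupOf.2
      ⟨(mem_normalizer_iff.1 (hKn k.2) _).1 (mem_subgroupOf.1 hu).1, (k * u * k⁻¹).2⟩⟩
    exact Core.le_pPrimeCore_of_isSubnormal
      (Core.isSubnormal_of_normal_subgroupOf inf_le_right hK.1 hn)
      (Core.coprime_card_of_le inf_le_left (coreC_coprime a))
  rw [mem_centralizer_iff]
  intro k hk
  have h : k * d * k⁻¹ * d⁻¹ ∈ coreC p a ⊓ K := by
    refine ⟨mul_mem ((mem_normalizer_iff.1 (hKn hk) d).1 hd) (Subgroup.inv_mem _ hd), ?_⟩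
    have hdN := mem_normalizer_of_fixed hO hK ha haN hd
    have := mul_mem hk ((mem_normalizer_iff.1 hdN _).1 (inv_mem hk))
    simpa [mul_assoc] using this
  rw [hbot, mem_bot, mul_inv_eq_one, mul_inv_eq_iff_eq_mul] at h
  exact h

/-- Transport to a group of automorphisms of a component. -/
theorem map_mem_core {a d : X} (hd : d ∈ coreC p a)
    {Y : Type*} [Group Y] [Finite Y] (φ : ↥(normalizer (K : Set X)) →* Y)
    (hker : ∀ m, φ m = 1 → (m : X) ∈ centralizer (K : Set X))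
    (M : Subgroup ↥(normalizer (K : Set X))) (hK' : ∀ m ∈ M, ∃ u ∈ K, u⁻¹ * (m : X) ∈ centralizer ({a} : Set X))
    (hdN : d ∈ normalizer (K : Set X)) (hdM : ⟨d, hdN⟩ ∈ M)
    (haN : a ∈ normalizer (K : Set X)) (haM : ⟨a, haN⟩ ∈ M) :
    (⟨φ ⟨d, hdN⟩, mem_map_of_mem φ hdM⟩ : ↥(M.map φ)) ∈
      Cfsg.centralizerPPrimeCore p (⟨φ ⟨a, haN⟩, mem_map_of_mem φ haM⟩ : ↥(M.map φ)) := by
  set A' : ↥(M.map φ) := ⟨φ ⟨a, haN⟩, mem_map_of_mem φ haM⟩ with hA'
  set C := centralizer ({A'} : Set ↥(M.map φ)) with hC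
  set W : Subgroup ↥C :=
    (((((coreC p a).subgroupOf (normalizer (K : Set X))) ⊓ M).map φ).subgroupOf (M.map φ)).subgroupOf C
    with hW
  have hWn : W.Normal := by
    refine ⟨fun w hw c => ?_⟩
    rw [hW, mem_subgroupOf, mem_subgroupOf] at hw ⊢
    obtain ⟨r, ⟨hr1, hr2⟩, hre⟩ := hw
    obtain ⟨m, hm, hme⟩ := ((c : ↥C) : ↥(M.map φ)).2
    have hcomm : φ m * φ ⟨a, haN⟩ = φ ⟨a, haN⟩ * φ m := by
      rw [hme]; exact congrArg Subtype.val (mem_centralizer_singleton_iff.1 c.2)
    have hma : (m : X) * a * (m : X)⁻¹ * a⁻¹ ∈ centralizer (K : Set X) := by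
      have := hker (m * ⟨a, haN⟩ * m⁻¹ * ⟨a, haN⟩⁻¹)
        (by rw [map_mul, map_mul, map_mul, map_inv, map_inv, hcomm]; group)
      exact this
    obtain ⟨u, hu, hum⟩ := hK' m hm
    rw [mem_centralizer_singleton_iff] at hum
    have e : (m : X) * a * (m : X)⁻¹ * a⁻¹ = u * a * u⁻¹ * a⁻¹ := by
      calc (m : X) * a * (m : X)⁻¹ * a⁻¹ = u * (u⁻¹ * m * a) * (u⁻¹ * m)⁻¹ * u⁻¹ * a⁻¹ := by group
        _ = u * (a * (u⁻¹ * m)) * (u⁻¹ * m)⁻¹ * u⁻¹ * a⁻¹ := by rw [hum]
        _ = u * a * u⁻¹ * a⁻¹ := by group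
    have huK : u * a * u⁻¹ * a⁻¹ ∈ K := by
      have := mul_mem hu ((mem_normalizer_iff.1 haN _).1 (inv_mem hu))
      simpa [mul_assoc] using this
    have hnm : (m : X) ∈ normalizer (coreC p a : Set X) :=
      mem_normalizer_coreC (e ▸ inf_centralizer_le_pCore hO hK ⟨huK, e ▸ hma⟩)
    refine ⟨m * r * m⁻¹, ⟨mem_subgroupOf.2 ((mem_normalizer_iff.1 hnm _).1 (mem_subgroupOf.1 hr1)),
      Subgroup.mul_mem _ (Subgroup.mul_mem _ hm hr2) (Subgroup.inv_mem _ hm)⟩, ?_⟩
    simp only [map_mul, map_inv, hre, hme, Subgroup.coe_mul, Subgroup.coe_inv, Subgroup.coe_subtype]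
  have hWc : (Nat.card W).Coprime p := by
    have h1 : (Nat.card ↥((((coreC p a).subgroupOf (normalizer (K : Set X))) ⊓ M).map φ)).Coprime p := by
      refine Nat.Coprime.coprime_dvd_left (Core.card_map_dvd _ _) (Core.coprime_card_of_le inf_le_left ?_)
      refine Nat.Coprime.coprime_dvd_left (card_comap_dvd_of_injective _ _ (subtype_injective _)) ?_
      exact coreC_coprime a
    refine Nat.Coprime.coprime_dvd_left ?_ h1
    exact (card_comap_dvd_of_injective _ _ (subtype_injective _)).trans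
      (card_comap_dvd_of_injective _ _ (subtype_injective _))
  have hAC : (⟨φ ⟨d, hdN⟩, mem_map_of_mem φ hdM⟩ : ↥(M.map φ)) ∈ C := by
    rw [hC, mem_centralizer_singleton_iff]
    refine Subtype.ext ?_
    simp only [hA', Subgroup.coe_mul]
    rw [← map_mul, ← map_mul]
    exact congrArg φ (Subtype.ext (mem_centralizer_singleton_iff.1 (coreC_le_centralizer a hd)))
  refine ⟨⟨_, hAC⟩, Core.le_pPrimeCore' hWn hWc ?_, rfl⟩
  rw [hW, mem_subgroupOf, mem_subgroupOf]
  exact ⟨⟨d, hdN⟩, ⟨mem_subgroupOf.2 hd, hdM⟩, rfl⟩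

end Component

/-- The reduction to components normalized by `A` and `D`, with `A` acting faithfully. -/
theorem eq_bot_of_components (hO : Cfsg.pPrimeCore p X = ⊥) (A D : Subgroup X)
    (hA : ∀ a ∈ A, a ^ p = 1) (hA1 : A ≠ ⊥) (hcop : (Nat.card ↥D).Coprime p)
    (hD : ∀ a ∈ A, a ≠ 1 → D ≤ Cfsg.centralizerPPrimeCore p a)
    (hloc : ∀ K : Subgroup X, Cfsg.IsComponent K → A ≤ normalizer (K : Set X) →
      D ≤ normalizer (K : Set X) → (∀ a ∈ A, a ≠ 1 → a ∉ centralizer (K : Set X)) →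
      (∀ a ∈ A, a ≠ 1 → D ≤ coreC p a) → D ≤ centralizer (K : Set X)) :
    D = ⊥ := by
  obtain ⟨a₀, ha₀, ha₀1⟩ := A.bot_or_exists_ne_one.resolve_left hA1
  have hV : D ≤ centralizer (Cfsg.pCore p X : Set X) :=
    le_centralizer_pCore (hA a₀ ha₀) hcop (hD a₀ ha₀ ha₀1)
  have hcore : ∀ a ∈ A, a ≠ 1 → D ≤ coreC p a := fun a ha ha1 =>
    le_coreC (hA a ha) hcop (hD a ha ha1)
  have hE : D ≤ centralizer (Cfsg.layer X : Set X) := by
    refine le_centralizer_iff.1 (sSup_le fun K hK => le_centralizer_iff.1 ?_)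
    by_cases hAN : A ≤ normalizer (K : Set X)
    swap
    · obtain ⟨a, ha, haK⟩ := SetLike.not_le_iff_exists.1 hAN
      have ha1 : a ≠ 1 := fun h => haK (h ▸ one_mem _)
      exact fun d hd => moved hO hK (hA a ha) haK (hcore a ha ha1 hd)
    have hDN : D ≤ normalizer (K : Set X) := fun d hd =>
      mem_normalizer_of_fixed hO hK (hA a₀ ha₀) (hAN ha₀) (hcore a₀ ha₀ ha₀1 hd)
    by_cases hf : ∀ a ∈ A, a ≠ 1 → a ∉ centralizer (K : Set X)
    · exact hloc K hK hAN hDN hf hcore
    push Not at hf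
    obtain ⟨a, ha, ha1, haK⟩ := hf
    exact fun d hd => centralized hO hK (hA a ha) haK (hcore a ha ha1 hd)
  set F := Cfsg.generalizedFittingSubgroup X with hF
  have hFe : F = Cfsg.layer X ⊔ Cfsg.pCore p X := by
    rw [hF, Cfsg.generalizedFittingSubgroup, fittingSubgroup_eq_pCore hO]
  have hDF : D ≤ centralizer (F : Set X) := by
    rw [le_centralizer_iff, hFe]
    exact sup_le (le_centralizer_iff.1 hE) (le_centralizer_iff.1 hV)
  have hZn : (F ⊓ centralizer (F : Set X)).Normal := by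
    haveI : F.Normal := by rw [hFe]; infer_instance
    infer_instance
  haveI : IsMulCommutative ↥(F ⊓ centralizer (F : Set X)) :=
    ⟨⟨fun u v => Subtype.ext (mem_centralizer_iff.1 v.2.2 u u.2.1)⟩⟩
  have hZle : F ⊓ centralizer (F : Set X) ≤ Cfsg.pCore p X := by
    rw [← fittingSubgroup_eq_pCore hO]
    exact Core.le_fittingSubgroup' hZn (Core.isNilpotent_of_isMulCommutative _)
  have hle : D ≤ Cfsg.pCore p X :=
    (le_inf (hDF.trans Core.centralizer_generalizedFitting_le) hDF).trans hZle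
  exact le_bot_iff.1 ((le_inf hle le_rfl).trans
    (disjoint_of_isPGroup_coprime (Core.pCore_isPGroup p X) hcop).le)

end Cfsg.Lib.Sig.LocalBalance
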