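import Cfsg.Agent.Lib.Sig.LocalBalance
import Cfsg.Agent.Lib.Sig.PConstrained

/-!
# From local balance of components to balance
-/

set_option autoImplicit false

namespace Cfsg.Lib.Sig.LocalBalance

open Subgroup Cfsg.Lib

variable {p : ℕ} [hp : Fact p.Prime]

theorem core_coprime {X : Type*} [Group X] [Finite X] (a : X) :
    (Nat.card ↥(Cfsg.centralizerPPrimeCore p a)).Coprime p := by
  rw [Cfsg.centralizerPPrimeCore, Core.card_map_subtype]
  exact Core.pPrimeCore_coprime p _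

omit hp in
/-- Transport of `O_{p'}(C(a))` along a homomorphism mapping `C(a)` onto `C(f a)`. -/
theorem mem_core_map {X Y : Type*} [Group X] [Finite X] [Group Y] [Finite Y] (f : X →* Y) {a d : X}
    (hcent : centralizer ({f a} : Set Y) ≤ (centralizer ({a} : Set X)).map f)
    (hd : d ∈ Cfsg.centralizerPPrimeCore p a) : f d ∈ Cfsg.centralizerPPrimeCore p (f a) := by
  obtain ⟨d', hd', rfl⟩ := hd
  let g : ↥(centralizer ({a} : Set X)) →* ↥(centralizer ({f a} : Set Y)) :=
    (f.comp (centralizer ({a} : Set X)).subtype).codRestrict _ (fun c => by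
      rw [mem_centralizer_singleton_iff]
      show f c * f a = f a * f c
      rw [← map_mul, ← map_mul, mem_centralizer_singleton_iff.1 c.2])
  have hg : Function.Surjective g := fun y => by
    obtain ⟨x, hx, hxy⟩ := hcent y.2
    exact ⟨⟨x, hx⟩, Subtype.ext hxy⟩
  exact ⟨g d', Core.map_pPrimeCore_le g hg (mem_map_of_mem g hd'), rfl⟩

omit hp in
/-- Restriction of `O_{p'}(C(a))` along an injective homomorphism. -/
theorem mem_core_of_injective {X Y : Type*} [Group X] [Finite X] [Group Y] [Finite Y] {f : X →* Y}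
    (hf : Function.Injective f) {a d : X}
    (hd : f d ∈ Cfsg.centralizerPPrimeCore p (f a)) : d ∈ Cfsg.centralizerPPrimeCore p a := by
  obtain ⟨d', hd', hde⟩ := hd
  have hdC : d ∈ centralizer ({a} : Set X) := mem_centralizer_singleton_iff.2 <| hf <| by
    rw [map_mul, map_mul]
    exact hde ▸ mem_centralizer_singleton_iff.1 d'.2
  let g : ↥(centralizer ({a} : Set X)) →* ↥(centralizer ({f a} : Set Y)) :=
    (f.comp (centralizer ({a} : Set X)).subtype).codRestrict _ (fun c => by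
      rw [mem_centralizer_singleton_iff]
      show f c * f a = f a * f c
      rw [← map_mul, ← map_mul, mem_centralizer_singleton_iff.1 c.2])
  have hg : Function.Injective g := fun u v h => Subtype.ext (hf (congrArg Subtype.val h))
  refine ⟨⟨d, hdC⟩, ?_, rfl⟩
  have hn : ((Cfsg.pPrimeCore p ↥(centralizer ({f a} : Set Y))).comap g).Normal :=
    Normal.comap inferInstance g
  refine Core.le_pPrimeCore' hn ?_ ?_
  · exact Nat.Coprime.coprime_dvd_left (card_comap_dvd_of_injective _ _ hg)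
      (Core.pPrimeCore_coprime p _)
  · rw [mem_comap, show g ⟨d, hdC⟩ = d' from Subtype.ext hde.symm]
    exact hd'

variable {X : Type*} [Group X] [Finite X]

/-- `D` centralizes a component `K` if, in an image of `K A D` with kernel centralizing `K`, `Δ` of the
image of `A` is trivial. -/
theorem le_centralizer_of_image (hO : Cfsg.pPrimeCore p X = ⊥) {K : Subgroup X}
    (hK : Cfsg.IsComponent K) {A D : Subgroup X} (hA : Cfsg.IsElementaryAbelian p A)
    (hAN : A ≤ normalizer (K : Set X)) (hDN : D ≤ normalizer (K : Set X))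
    (hf : ∀ a ∈ A, a ≠ 1 → a ∉ centralizer (K : Set X)) (hA1 : A ≠ ⊥)
    (hD : ∀ a ∈ A, a ≠ 1 → D ≤ coreC p a)
    {Y : Type*} [Group Y] [Finite Y] (φ : ↥(normalizer (K : Set X)) →* Y)
    (hker : ∀ m, φ m = 1 → (m : X) ∈ centralizer (K : Set X))
    (hbal : ∀ H : Subgroup Y, (K.subgroupOf (normalizer (K : Set X))).map φ ≤ H →
      ∀ B : Subgroup H, Cfsg.IsElementaryAbelian p B → Nat.card B = Nat.card A →
        Cfsg.signalizerDelta p B = ⊥) :
    D ≤ centralizer (K : Set X) := by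
  intro d hd
  set M := (K ⊔ (A ⊔ D)).subgroupOf (normalizer (K : Set X)) with hM
  set H := M.map φ with hH
  haveI := hA.1
  set ι : ↥A →* ↥H := (φ.comp (inclusion hAN)).codRestrict H (fun a =>
    mem_map_of_mem φ (mem_subgroupOf.2 (mem_sup_right (mem_sup_left a.2)))) with hι
  have hιinj : Function.Injective ι := by
    rw [← MonoidHom.ker_eq_bot_iff, eq_bot_iff]
    intro a ha
    rw [mem_bot]
    by_contra ha1
    exact hf a a.2 (fun h => ha1 (Subtype.ext h))
      (hker (inclusion hAN a) (congrArg Subtype.val (MonoidHom.mem_ker.1 ha)))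
  have hK' : ∀ a ∈ A, a ≠ 1 → ∀ m ∈ M, ∃ u ∈ K, u⁻¹ * (m : X) ∈ centralizer ({a} : Set X) := by
    intro a ha ha1 m hm
    have hm' : (m : X) ∈ (A ⊔ D) ⊔ K := by rw [sup_comm]; exact hm
    obtain ⟨w, hw, u, hu, he⟩ := (Core.mem_sup_of_le_normalizer (sup_le hAN hDN)).1 hm'
    have hwN : w ∈ normalizer (K : Set X) := sup_le hAN hDN hw
    refine ⟨w * u * w⁻¹, (mem_normalizer_iff.1 hwN u).1 hu, ?_⟩
    have hle : A ⊔ D ≤ centralizer ({a} : Set X) := by
      refine sup_le (fun b hb => mem_centralizer_singleton_iff.2 ?_)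
        ((hD a ha ha1).trans (coreC_le_centralizer a))
      exact congrArg Subtype.val (mul_comm' (⟨b, hb⟩ : A) ⟨a, ha⟩)
    rw [← he]
    simpa [mul_assoc] using hle hw
  have hΔ : (⟨φ ⟨d, hDN hd⟩, mem_map_of_mem φ (mem_subgroupOf.2 (mem_sup_right (mem_sup_right hd)))⟩ : ↥H)
      ∈ Cfsg.signalizerDelta p ι.range := by
    simp only [Cfsg.signalizerDelta, mem_iInf]
    rintro ⟨_, ⟨a, rfl⟩, hb⟩
    have ha1 : (a : X) ≠ 1 := fun h => hb (by rw [show a = 1 from Subtype.ext h, map_one])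
    exact map_mem_core hO hK (hD a a.2 ha1 hd) φ hker M (hK' a a.2 ha1) (hDN hd)
      (mem_subgroupOf.2 (mem_sup_right (mem_sup_right hd))) (hAN a.2)
      (mem_subgroupOf.2 (mem_sup_right (mem_sup_left a.2)))
  have hB : Cfsg.IsElementaryAbelian p ι.range := by
    refine ⟨⟨⟨fun u v => ?_⟩⟩, fun u hu => ?_⟩
    · obtain ⟨a, ha⟩ := u.2
      obtain ⟨b, hb⟩ := v.2
      refine Subtype.ext ?_
      rw [Subgroup.coe_mul, Subgroup.coe_mul, ← ha, ← hb, ← map_mul, ← map_mul, mul_comm']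
    · obtain ⟨a, rfl⟩ := hu
      rw [← map_pow, show a ^ p = 1 from Subtype.ext (hA.2 a a.2), map_one]
  rw [hbal H (map_mono fun u hu => mem_subgroupOf.2 (mem_sup_left hu)) ι.range hB
    (Nat.card_congr (MonoidHom.ofInjective hιinj).toEquiv).symm, mem_bot] at hΔ
  exact hker ⟨d, hDN hd⟩ (congrArg Subtype.val hΔ)

/-- The automorphisms of `L / Z(L)` induced by automorphisms of `L`. -/
def quotientCenterAut (L : Type*) [Group L] : MulAut L →* MulAut (L ⧸ Subgroup.center L) where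
  toFun σ := QuotientGroup.congr _ _ σ (Subgroup.characteristic_iff_map_eq.1 inferInstance σ)
  map_one' := by
    ext y
    obtain ⟨x, rfl⟩ := QuotientGroup.mk_surjective y
    rfl
  map_mul' σ τ := by
    ext y
    obtain ⟨x, rfl⟩ := QuotientGroup.mk_surjective y
    rfl

theorem le_centralizer_of_localK (hO : Cfsg.pPrimeCore p X = ⊥) {K : Subgroup X}
    (hK : Cfsg.IsComponent K) {A D : Subgroup X} (hA : Cfsg.IsElementaryAbelian p A)
    (hAN : A ≤ normalizer (K : Set X)) (hDN : D ≤ normalizer (K : Set X))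
    (hf : ∀ a ∈ A, a ≠ 1 → a ∉ centralizer (K : Set X)) (hA1 : A ≠ ⊥)
    (hD : ∀ a ∈ A, a ≠ 1 → D ≤ coreC p a) {k : ℕ} (hcard : Nat.card A = p ^ k)
    (hloc : Cfsg.IsLocallyKBalanced p k ↥K) : D ≤ centralizer (K : Set X) := by
  refine le_centralizer_of_image hO hK hA hAN hDN hf hA1 hD K.normalizerMonoidHom (fun m hm => ?_)
    (fun H hH B hB hBA => hloc H (le_trans ?_ hH) B hB (hBA.trans hcard))
  · rw [mem_centralizer_iff]
    intro k hk
    have h : (m : X) * k * (m : X)⁻¹ = k := by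
      show ((K.normalizerMonoidHom m ⟨k, hk⟩ : ↥K) : X) = k
      rw [hm]
      rfl
    exact ((mul_inv_eq_iff_eq_mul.1 h)).symm
  · rintro _ ⟨u, rfl⟩
    exact ⟨⟨u, le_normalizer u.2⟩, mem_subgroupOf.2 u.2, MulEquiv.ext fun v => Subtype.ext rfl⟩

theorem le_centralizer_of_localQuot (hO : Cfsg.pPrimeCore p X = ⊥) {K : Subgroup X}
    (hK : Cfsg.IsComponent K) {A D : Subgroup X} (hA : Cfsg.IsElementaryAbelian p A)
    (hAN : A ≤ normalizer (K : Set X)) (hDN : D ≤ normalizer (K : Set X))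
    (hf : ∀ a ∈ A, a ≠ 1 → a ∉ centralizer (K : Set X)) (hA1 : A ≠ ⊥)
    (hD : ∀ a ∈ A, a ≠ 1 → D ≤ coreC p a) {k : ℕ} (hcard : Nat.card A = p ^ k)
    (hloc : Cfsg.IsLocallyKBalanced p k (↥K ⧸ Subgroup.center ↥K)) : D ≤ centralizer (K : Set X) := by
  refine le_centralizer_of_image hO hK hA hAN hDN hf hA1 hD
    ((quotientCenterAut ↥K).comp K.normalizerMonoidHom) (fun m hm => ?_)
    (fun H hH B hB hBA => hloc H (le_trans ?_ hH) B hB (hBA.trans hcard))
  · rw [mem_centralizer_iff]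
    intro k hk
    have h := component_fixed_of_equiv hK (MulAut.conj (m : X)) (fun u hu => by
      have hq := QuotientGroup.eq.1 (DFunLike.congr_fun hm (QuotientGroup.mk (⟨u, hu⟩ : ↥K)))
      have hq' := (inferInstance : (Subgroup.center ↥K).Normal).conj_mem _ hq
        (K.normalizerMonoidHom m ⟨u, hu⟩)
      set σu : ↥K := K.normalizerMonoidHom m ⟨u, hu⟩ with hσ
      have hz : (⟨u, hu⟩ : ↥K) * σu⁻¹ ∈ Subgroup.center ↥K := by
        have e : ∀ s : ↥K, σu * ((σu)⁻¹ * s) * σu⁻¹ = s * σu⁻¹ := fun s => by group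
        rw [← e]
        exact hq'
      rw [mem_centralizer_iff]
      intro v hv
      exact congrArg Subtype.val (mem_center_iff.1 hz ⟨v, hv⟩)) k hk
    exact ((mul_inv_eq_iff_eq_mul.1 h)).symm
  · rintro _ ⟨u, rfl⟩
    obtain ⟨v, rfl⟩ := QuotientGroup.mk_surjective u
    refine ⟨⟨v, le_normalizer v.2⟩, mem_subgroupOf.2 v.2, MulEquiv.ext fun w => ?_⟩
    obtain ⟨w, rfl⟩ := QuotientGroup.mk_surjective w
    rfl

/-- `Δ_G(A) ∩ C(x) ≤ O_{p'}(C(x))`, reduced to components of `C(x) / O_{p'}(C(x))`. -/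
theorem delta_le_core {G : Type*} [Group G] [Finite G] {A : Subgroup G} {x : G}
    (hA : Cfsg.IsElementaryAbelian p A) (hA1 : A ≠ ⊥) (hAC : A ≤ centralizer ({x} : Set G))
    (hloc : ∀ A' D' : Subgroup (↥(centralizer ({x} : Set G)) ⧸
          Cfsg.pPrimeCore p ↥(centralizer ({x} : Set G))),
      Cfsg.IsElementaryAbelian p A' → A' ≠ ⊥ → Nat.card A' = Nat.card A →
      (∀ a ∈ A', a ≠ 1 → D' ≤ coreC p a) →
      ∀ K, Cfsg.IsComponent K → A' ≤ normalizer (SetLike.coe K) → D' ≤ normalizer (SetLike.coe K) →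
        (∀ a ∈ A', a ≠ 1 → a ∉ centralizer (SetLike.coe K)) → D' ≤ centralizer (SetLike.coe K)) :
    Cfsg.signalizerDelta p A ⊓ centralizer ({x} : Set G) ≤ Cfsg.centralizerPPrimeCore p x := by
  set C := centralizer ({x} : Set G)
  set N := Cfsg.pPrimeCore p ↥C with hN
  set f := QuotientGroup.mk' N with hfdef
  haveI := hA.1
  have hΔ : ∀ d ∈ Cfsg.signalizerDelta p A, ∀ a ∈ A, a ≠ 1 → d ∈ Cfsg.centralizerPPrimeCore p a :=
    fun d hd a ha ha1 => mem_iInf.1 hd ⟨a, ha, ha1⟩
  set ι : ↥A →* ↥C ⧸ N := f.comp (inclusion hAC) with hι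
  set A' := ι.range with hA'
  have hιinj : Function.Injective ι := by
    rw [← MonoidHom.ker_eq_bot_iff, eq_bot_iff]
    intro a ha
    rw [mem_bot]
    have h1 : inclusion hAC a ∈ N := (QuotientGroup.eq_one_iff _).1 (MonoidHom.mem_ker.1 ha)
    have h2 := orderOf_coprime_of_mem (Core.pPrimeCore_coprime p ↥C) h1
    have h3 : orderOf (inclusion hAC a) ∣ p := orderOf_dvd_of_pow_eq_one
      (Subtype.ext (hA.2 a a.2))
    have h4 : orderOf (inclusion hAC a) = 1 := Nat.Coprime.eq_one_of_dvd h2 h3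
    exact inclusion_injective hAC (by rw [orderOf_eq_one_iff.1 h4, map_one])
  have hA'el : Cfsg.IsElementaryAbelian p A' := by
    refine ⟨⟨⟨fun u v => ?_⟩⟩, fun u hu => ?_⟩
    · obtain ⟨a, ha⟩ := u.2
      obtain ⟨b, hb⟩ := v.2
      refine Subtype.ext ?_
      rw [Subgroup.coe_mul, Subgroup.coe_mul, ← ha, ← hb, ← map_mul, ← map_mul, mul_comm']
    · obtain ⟨a, rfl⟩ := hu
      rw [← map_pow, show a ^ p = 1 from Subtype.ext (hA.2 a a.2), map_one]
  have hA'1 : A' ≠ ⊥ := fun h => hA1 (eq_bot_iff.2 fun a ha => by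
    have h1 : ι ⟨a, ha⟩ ∈ A' := ⟨⟨a, ha⟩, rfl⟩
    rw [h, mem_bot, ← map_one ι] at h1
    exact mem_bot.2 (congrArg Subtype.val (hιinj h1)))
  set D0 := (Cfsg.signalizerDelta p A).subgroupOf C with hD0
  set D' := D0.map f with hD'
  have hcop : (Nat.card ↥D').Coprime p := by
    obtain ⟨a, ha, ha1⟩ := A.bot_or_exists_ne_one.resolve_left hA1
    refine Nat.Coprime.coprime_dvd_left ((Core.card_map_dvd _ _).trans
      (card_comap_dvd_of_injective _ _ (subtype_injective _))) ?_
    exact Core.coprime_card_of_le (fun d hd => hΔ d hd a ha ha1) (core_coprime a)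
  have hR : ∀ a ∈ A', a ≠ 1 → D' ≤ Cfsg.centralizerPPrimeCore p a := by
    rintro _ ⟨a, rfl⟩ ha1 _ ⟨d, hd, rfl⟩
    have ha1' : (a : G) ≠ 1 := fun h => ha1 (by rw [show a = 1 from Subtype.ext h, map_one])
    refine mem_core_map f (a := inclusion hAC a) ?_
      (mem_core_of_injective (f := C.subtype) C.subtype_injective
        (hΔ _ (mem_subgroupOf.1 hd) a a.2 ha1'))
    have hP : IsPGroup p (zpowers (inclusion hAC a)) := by
      have h : inclusion hAC a ^ p = 1 := Subtype.ext (hA.2 a a.2)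
      rcases (Nat.dvd_prime hp.out).mp (orderOf_dvd_of_pow_eq_one h) with h | h
      · exact IsPGroup.of_card (n := 0) (by rw [Nat.card_zpowers, h, pow_zero])
      · exact IsPGroup.of_card (n := 1) (by rw [Nat.card_zpowers, h, pow_one])
    have h := centralizer_map_mk' N (Core.pPrimeCore_coprime p ↥C) hP
    rw [MonoidHom.map_zpowers, zpowers_eq_closure, centralizer_closure, zpowers_eq_closure,
      centralizer_closure] at h
    exact h.le
  have hbot := eq_bot_of_components Core.pPrimeCore_quotient_eq_bot A' D' hA'el.2 hA'1 hcop hR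
    (fun K hK hAN hDN hf hcore => hloc A' D' hA'el hA'1
      (Nat.card_congr (MonoidHom.ofInjective hιinj).toEquiv).symm hcore K hK hAN hDN hf)
  intro d hd
  refine ⟨⟨d, hd.2⟩, ?_, rfl⟩
  have : f ⟨d, hd.2⟩ ∈ D' := mem_map_of_mem f (mem_subgroupOf.2 hd.1)
  rwa [hbot, mem_bot, hfdef, QuotientGroup.mk'_apply, QuotientGroup.eq_one_iff] at this

end Cfsg.Lib.Sig.LocalBalance
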