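import Cfsg.Agent.Lib.Sig.PLocal

/-!
The layer of a p-local subgroup centralizes the p-core.
-/

set_option autoImplicit false

namespace Cfsg.Lib.Sig

open Subgroup
open scoped commutatorElement

variable {G : Type*} [Group G] [Finite G] {p : ℕ} [hp : Fact p.Prime]

/-- If `S` is generated by p'-elements and centralizes both `P` and `C_R(P)` then it centralizes the
p-subgroup `R`, which `P` and `S` normalize. -/
theorem le_centralizer_of_pResidual {S P R : Subgroup G} (hS : Cfsg.pResidual p ↥S = ⊤)
    (hR : IsPGroup p ↥R) (hP : IsPGroup p ↥P) (hPR : P ≤ normalizer (R : Set G))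
    (hSR : S ≤ normalizer (R : Set G)) (hSP : S ≤ centralizer (P : Set G))
    (hfix : R ⊓ centralizer (P : Set G) ≤ centralizer (S : Set G)) :
    S ≤ centralizer (R : Set G) := by
  have h : Cfsg.pResidual p ↥S ≤ (centralizer (R : Set G)).subgroupOf S := by
    refine (closure_le _).2 fun x hx => mem_subgroupOf.2 ?_
    have hQS : zpowers (x : G) ≤ S := zpowers_le.2 x.2
    have hcop : (Nat.card ↥(zpowers (x : G))).Coprime p := by
      rw [Nat.card_zpowers, Subgroup.orderOf_coe]; exact hx
    have hb := Cfsg.Lib.Coprime.commutator_eq_bot_of_AxB R P (zpowers (x : G)) hR hP hcop hPR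
      (hQS.trans hSR) (hQS.trans hSP) (hfix.trans (centralizer_le (SetLike.coe_subset_coe.2 hQS)))
    exact (commutator_eq_bot_iff_le_centralizer.1 ((commutator_comm _ _).trans hb)) (mem_zpowers _)
  rw [hS] at h
  exact fun x hx => mem_subgroupOf.1 (h (mem_top (⟨x, hx⟩ : ↥S)))

theorem pResidual_eq_top_of_perfect {K : Type*} [Group K] [Finite K] (hK : commutator K = ⊤) :
    Cfsg.pResidual p K = ⊤ := by
  set R := Cfsg.pResidual p K with hR
  have hn : R.Normal := by
    constructor
    intro x hx g
    have h : R.map (MulAut.conj g).toMonoidHom ≤ R := by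
      rw [hR, Cfsg.pResidual, MonoidHom.map_closure]
      refine closure_mono ?_
      rintro _ ⟨y, hy, rfl⟩
      show (orderOf (MulAut.conj g y)).Coprime p
      rw [MulEquiv.orderOf_eq]; exact hy
    exact h ⟨x, hx, rfl⟩
  by_contra hne
  have := Cfsg.Lib.Fusion.isPGroup_quotient_pResidual (G := K) (p := p)
  have hnt : Nontrivial (K ⧸ R) := QuotientGroup.nontrivial_iff.2 hne
  have := this.isNilpotent
  have hlt := derivedSeries_one (K ⧸ R)
  have hperf : commutator (K ⧸ R) = ⊤ := by
    rw [_root_.commutator_def, ← map_top_of_surjective _ (QuotientGroup.mk'_surjective R),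
      ← map_commutator, ← _root_.commutator_def, hK]
  have h1 : Group.IsPerfect (K ⧸ R) := Group.isPerfect_def.2 hperf
  exact Group.IsPerfect.not_isSolvable (K ⧸ R) inferInstance

theorem layer_map_normalizer_eq {P : Subgroup G} (hP : P ≤ Cfsg.pCore p G) :
    (Cfsg.layer ↥(normalizer (P : Set G))).map (normalizer (P : Set G)).subtype = Cfsg.layer G := by
  set N := normalizer (P : Set G) with hN
  set R := Cfsg.pCore p G with hRdef
  have hR := Cfsg.Lib.Core.pCore_isPGroup p G
  have hPp : IsPGroup p ↥P := hR.to_le hP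
  have hRn : normalizer (R : Set G) = ⊤ := normalizer_eq_top_iff.2 inferInstance
  refine le_antisymm ?_ (sSup_le fun L hL => ?_)
  · rw [map_le_iff_le_comap]
    refine sSup_le fun L hL => map_le_iff_le_comap.1 ?_
    set L' := L.map N.subtype with hL'
    have hL'N : L' ≤ N := map_subtype_le _
    have hsolv : ∀ T : Subgroup G, IsPGroup p ↥T → T ≤ N → L' ≤ normalizer (T : Set G) →
        L' ≤ centralizer (T : Set G) := by
      intro T hT hTN hn
      have hs : Group.IsSolvable ↥(T.subgroupOf N) :=
        have := (hT.of_equiv (subgroupOfEquivOfLe hTN).symm).isNilpotent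
        inferInstance
      have h := Cfsg.Lib.Core.component_commute_solvable hL hs fun x hx => by
        refine mem_normalizer_iff.2 fun y => ?_
        simp only [mem_subgroupOf]
        exact mem_normalizer_iff.1 (hn (mem_map_of_mem N.subtype hx)) (y : G)
      have h2 := congrArg (Subgroup.map N.subtype) h
      rw [map_commutator, map_subgroupOf_eq_of_le hTN, Subgroup.map_bot] at h2
      exact commutator_eq_bot_iff_le_centralizer.1 h2
    have hres : Cfsg.pResidual p ↥L' = ⊤ :=
      pResidual_eq_top_of_perfect (Cfsg.Lib.Core.quasisimple_commutator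
        (Cfsg.Lib.Core.quasisimple_congr hL.2 (L.equivMapOfInjective _ N.subtype_injective)))
    have hCR : L' ≤ centralizer (R : Set G) := by
      refine le_centralizer_of_pResidual hres hR hPp (hRn ▸ le_top) (hRn ▸ le_top)
        (hsolv P hPp le_normalizer hL'N) ?_
      refine le_centralizer_iff.1 (hsolv _ (hR.to_le inf_le_left)
        (inf_le_right.trans (centralizer_le_normalizer _)) fun x hx => ?_)
      have hxN := hL'N hx
      refine mem_normalizer_iff.2 fun y => and_congr ?_ ?_
      · exact mem_normalizer_iff.1 (hRn ▸ mem_top x) y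
      · refine mem_normalizer_iff.1 (?_ : x ∈ normalizer (centralizer (P : Set G) : Set G)) y
        refine mem_normalizer_of_map_conj ?_
        rw [map_centralizer_equiv, map_conj_eq_of_mem_normalizer hxN]
    set C := centralizer (R : Set G) with hC
    have hCN : C ≤ N := (centralizer_le (SetLike.coe_subset_coe.2 hP)).trans (centralizer_le_normalizer _)
    have hLC : L ≤ C.subgroupOf N := fun x hx => mem_subgroupOf.2 (hCR (mem_map_of_mem N.subtype hx))
    refine Cfsg.Lib.Core.le_layer ⟨?_, Cfsg.Lib.Core.quasisimple_congr hL.2 (L.equivMapOfInjective _ N.subtype_injective)⟩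
    refine IsSubnormal.trans (K := C) hCR ?_ (inferInstance : C.Normal).isSubnormal
    have h1 : (L.subgroupOf (C.subgroupOf N)).IsSubnormal := hL.1.subgroupOf
    have h2 := h1.map (f := (subgroupOfEquivOfLe hCN).toMonoidHom) (subgroupOfEquivOfLe hCN).surjective
    convert h2 using 1
    ext x
    constructor
    · intro hx
      obtain ⟨y, hy, he⟩ := (mem_subgroupOf.1 hx : (x : G) ∈ L.map N.subtype)
      exact ⟨⟨y, hLC hy⟩, hy, Subtype.ext he⟩
    · rintro ⟨y, hy, rfl⟩
      exact ⟨_, hy, rfl⟩
  · have hLN : L ≤ N := by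
      refine le_trans ?_ (centralizer_le_normalizer (P : Set G))
      refine (commutator_eq_bot_iff_le_centralizer.1 ?_).trans (centralizer_le (SetLike.coe_subset_coe.2 hP))
      exact le_bot_iff.1 ((commutator_mono le_rfl (Cfsg.Lib.Core.pCore_le_fittingSubgroup p G)).trans
        (Cfsg.Lib.Core.component_commute_fitting hL).le)
    rw [← map_subgroupOf_eq_of_le hLN]
    exact map_mono (Cfsg.Lib.Core.le_layer (Cfsg.Lib.Core.IsComponent.subgroupOf hL hLN))

/-- The p'-layer of a p-local subgroup centralizes the p-core. -/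
theorem pPrimeLayer_normalizer_le_centralizer {P : Subgroup G} (hP : IsPGroup p ↥P) :
    ((Cfsg.layer (↥(normalizer (P : Set G)) ⧸ Cfsg.pPrimeCore p ↥(normalizer (P : Set G)))).comap
      (QuotientGroup.mk' (Cfsg.pPrimeCore p ↥(normalizer (P : Set G))))).map
        (normalizer (P : Set G)).subtype ≤ centralizer (Cfsg.pCore p G : Set G) := by
  set N := normalizer (P : Set G) with hN
  set R := Cfsg.pCore p G
  set M := Cfsg.pPrimeCore p ↥N with hM
  set f := QuotientGroup.mk' M with hf
  set E := (Cfsg.layer (↥N ⧸ M)).comap f with hE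
  set E' := E.map N.subtype with hE'
  have hR := Cfsg.Lib.Core.pCore_isPGroup p G
  have hRn : normalizer (R : Set G) = ⊤ := normalizer_eq_top_iff.2 inferInstance
  have hres : Cfsg.pResidual p ↥E = ⊤ := by
    set W := Cfsg.pResidual p ↥E with hW
    have hMW : M.subgroupOf E ≤ W := fun x hx => by
      refine subset_closure ?_
      show (orderOf x).Coprime p
      rw [← Subgroup.orderOf_coe, ← Subgroup.orderOf_mk (x : ↥N) (mem_subgroupOf.1 hx)]
      exact Nat.Coprime.coprime_dvd_left (orderOf_dvd_natCard _) (Cfsg.Lib.Core.pPrimeCore_coprime p ↥N)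
    have hEimg : E.map f = Cfsg.layer (↥N ⧸ M) :=
      map_comap_eq_self_of_surjective (QuotientGroup.mk'_surjective M) _
    set g := f.subgroupMap E
    have htop : W.map g = ⊤ := by
      rw [hW, Cfsg.Lib.Fusion.map_pResidual_of_surjective g (f.subgroupMap_surjective E)]
      refine pResidual_eq_top_of_perfect ?_
      apply Subgroup.map_injective (E.map f).subtype_injective
      rw [_root_.commutator_def, map_commutator, ← MonoidHom.range_eq_map, range_subtype, hEimg]
      exact Cfsg.Lib.Core.layer_perfect
    refine top_le_iff.1 fun x _ => ?_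
    obtain ⟨w, hw, e⟩ : g x ∈ W.map g := htop ▸ mem_top _
    have h2 : w⁻¹ * x ∈ M.subgroupOf E := by
      have e2 : f (w : ↥N) = f (x : ↥N) := congrArg Subtype.val e
      exact mem_subgroupOf.2 (QuotientGroup.eq.1 e2)
    simpa using mul_mem hw (hMW h2)
  have hres' : Cfsg.pResidual p ↥E' = ⊤ := by
    rw [← Cfsg.Lib.Fusion.map_pResidual_of_surjective (E.equivMapOfInjective _ N.subtype_injective).toMonoidHom
      (E.equivMapOfInjective _ N.subtype_injective).surjective, hres]
    exact map_top_of_surjective _ (E.equivMapOfInjective _ N.subtype_injective).surjective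
  have key : ∀ T : Subgroup ↥N, T.Normal → IsPGroup p ↥T → E ≤ centralizer (T : Set ↥N) := by
    intro T hT hTp
    have hd : T ⊓ M = ⊥ := disjoint_of_isPGroup_coprime hTp (Cfsg.Lib.Core.pPrimeCore_coprime p ↥N)
    refine commutator_eq_bot_iff_le_centralizer.1 (le_bot_iff.1 ?_)
    rw [← hd]
    refine le_inf (commutator_le_right E T) ?_
    have h : (⁅E, T⁆).map f = ⊥ := by
      rw [map_commutator]
      refine le_bot_iff.1 ((commutator_mono (map_comap_le f _) (le_trans ?_ (Cfsg.Lib.Core.pCore_le_fittingSubgroup p _))).trans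
        Cfsg.Lib.Core.commutator_layer_fitting.le)
      exact Cfsg.Lib.Core.le_pCore' (hT.map f (QuotientGroup.mk'_surjective M)) (hTp.map f)
    rwa [Subgroup.map_eq_bot_iff, hf, QuotientGroup.ker_mk'] at h
  have keyG : ∀ T : Subgroup G, T ≤ N → (T.subgroupOf N).Normal → IsPGroup p ↥T →
      E' ≤ centralizer (T : Set G) := fun T hTN hTn hT => by
    rintro _ ⟨e, he, rfl⟩
    refine mem_centralizer_iff.2 fun t ht => ?_
    exact congrArg Subtype.val (mem_centralizer_iff.1
      (key _ hTn (hT.of_equiv (subgroupOfEquivOfLe hTN).symm) he) ⟨t, hTN ht⟩ (mem_subgroupOf.2 ht))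
  refine le_centralizer_of_pResidual hres' hR hP (hRn ▸ le_top) (hRn ▸ le_top)
    (keyG P le_normalizer ((normal_subgroupOf_iff_le_normalizer le_normalizer).2 le_rfl) hP) ?_
  refine le_centralizer_iff.1 (keyG _ (inf_le_right.trans (centralizer_le_normalizer _)) ?_ (hR.to_le inf_le_left))
  refine (normal_subgroupOf_iff_le_normalizer (inf_le_right.trans (centralizer_le_normalizer _))).2 fun x hx => ?_
  refine mem_normalizer_iff.2 fun y => and_congr (mem_normalizer_iff.1 (hRn ▸ mem_top x) y) ?_
  refine mem_normalizer_iff.1 (?_ : x ∈ normalizer (centralizer (P : Set G) : Set G)) y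
  refine mem_normalizer_of_map_conj ?_
  rw [map_centralizer_equiv, map_conj_eq_of_mem_normalizer hx]

end Cfsg.Lib.Sig
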