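import Cfsg.Agent.S1280
import Cfsg.Agent.Lib.Coprime.Generation
import Cfsg.Agent.Lib.Sig.Small

/-!
The transitivity theorem for solvable signalizer functors.
-/

set_option autoImplicit false

namespace Cfsg.Lib.Sig

open Subgroup

variable {G : Type*} [Group G] [Finite G] {p : ℕ} [hp : Fact p.Prime]

omit [Finite G] hp in
theorem le_normalizer_of_invariant {A U : Subgroup G} (h : ∀ b ∈ A, ∀ u ∈ U, b * u * b⁻¹ ∈ U) :
    A ≤ normalizer (U : Set G) := fun b hb => mem_normalizer_iff.2 fun u =>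
  ⟨h b hb u, fun hu => by simpa [mul_assoc] using h b⁻¹ (inv_mem hb) _ hu⟩

omit [Finite G] hp in
theorem invariant_of_le_normalizer {A U : Subgroup G} (h : A ≤ normalizer (U : Set G)) :
    ∀ b ∈ A, ∀ u ∈ U, b * u * b⁻¹ ∈ U := fun _ hb u hu => (mem_normalizer_iff.1 (h hb) u).1 hu

theorem isPGroup_of_elementaryAbelian {A : Subgroup G} (hA : Cfsg.IsElementaryAbelian p A) :
    IsPGroup p ↥A := fun a => ⟨1, Subtype.ext (by simpa using hA.2 a a.2)⟩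

theorem coprime_card_elementaryAbelian {A U : Subgroup G} (hA : Cfsg.IsElementaryAbelian p A)
    (hU : ¬ p ∣ Nat.card ↥U) : (Nat.card ↥A).Coprime (Nat.card ↥U) := by
  obtain ⟨k, hk⟩ := IsPGroup.iff_card.mp (isPGroup_of_elementaryAbelian hA)
  rw [hk]
  exact Nat.Coprime.pow_left _ (hp.out.coprime_iff_not_dvd.2 hU)

theorem card_le_mul_of_cocyclic {A B : Subgroup G} (hA : Cfsg.IsElementaryAbelian p A)
    (hB : B ∈ Cfsg.Lib.Coprime.cocyclic A) : Nat.card ↥A ≤ p * Nat.card ↥B := by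
  obtain ⟨hBA, a, ha, hsup⟩ := hB
  have := hA.1
  have hc : ⁅B, zpowers a⁆ = ⊥ := Cfsg.Lib.Core.commutator_eq_bot_iff_forall.2 fun x hx y hy =>
    congrArg Subtype.val (mul_comm' (⟨x, hBA hx⟩ : ↥A) ⟨y, zpowers_le.2 ha hy⟩)
  have h : Nat.card ↥A ≤ Nat.card ↥B * Nat.card ↥(zpowers a) := by
    conv_lhs => rw [← hsup]
    rw [← Nat.card_prod]
    refine Nat.card_le_card_of_surjective (fun q : ↥B × ↥(zpowers a) =>
      (⟨(q.1 : G) * q.2, mul_mem (mem_sup_left q.1.2) (mem_sup_right q.2.2)⟩ :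
        ↥(B ⊔ zpowers a))) fun y => ?_
    obtain ⟨b, hb, z, hz, e⟩ := (Cfsg.Lib.Core.mem_sup_of_commute hc).1 y.2
    exact ⟨(⟨b, hb⟩, ⟨z, hz⟩), Subtype.ext e⟩
  refine h.trans ?_
  rw [mul_comm p]
  refine Nat.mul_le_mul_left _ ?_
  rw [Nat.card_zpowers]
  exact Nat.le_of_dvd hp.out.pos (orderOf_dvd_of_pow_eq_one (hA.2 a ha))

/-- Two subgroups properly containing an invariant subgroup are moved out of it by the centralizer
of a common nontrivial element, when the operator group has rank at least three. -/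
theorem exists_common_centralizer {A N₁ N₂ D : Subgroup G} (hA : Cfsg.IsElementaryAbelian p A)
    (hA3 : p ^ 3 ≤ Nat.card ↥A) (h₁ : A ≤ normalizer (N₁ : Set G)) (h₂ : A ≤ normalizer (N₂ : Set G))
    (c₁ : ¬ p ∣ Nat.card ↥N₁) (c₂ : ¬ p ∣ Nat.card ↥N₂) (n₁ : ¬ N₁ ≤ D) (n₂ : ¬ N₂ ≤ D) :
    ∃ a ∈ A, a ≠ 1 ∧ ¬ N₁ ⊓ centralizer {a} ≤ D ∧ ¬ N₂ ⊓ centralizer {a} ≤ D := by
  have := hA.1
  have key : ∀ N : Subgroup G, A ≤ normalizer (N : Set G) → ¬ p ∣ Nat.card ↥N → ¬ N ≤ D →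
      ∃ B ∈ Cfsg.Lib.Coprime.cocyclic A, ¬ N ⊓ centralizer (B : Set G) ≤ D := by
    intro N hN hc hn
    by_contra! h
    exact hn ((Cfsg.Lib.Coprime.le_iSup_centralizer_cocyclic N hN
      (coprime_card_elementaryAbelian hA hc)).trans (iSup₂_le h))
  obtain ⟨B₁, hB₁, hm₁⟩ := key N₁ h₁ c₁ n₁
  obtain ⟨B₂, hB₂, hm₂⟩ := key N₂ h₂ c₂ n₂
  obtain ⟨a, ha, ha1⟩ := (B₁ ⊓ B₂).bot_or_exists_ne_one.resolve_left (by
    intro hbot
    have hc : Nat.card ↥B₁ * Nat.card ↥B₂ ≤ Nat.card ↥A := by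
      rw [← Nat.card_prod]
      refine Nat.card_le_card_of_injective (fun q : ↥B₁ × ↥B₂ =>
        (⟨(q.1 : G) * q.2, mul_mem (hB₁.1 q.1.2) (hB₂.1 q.2.2)⟩ : ↥A)) ?_
      rintro ⟨x, y⟩ ⟨x', y'⟩ e
      have e1 : (x : G) * y = x' * y' := congrArg Subtype.val e
      have e2 : ((x' : G))⁻¹ * x = (y' : G) * (y : G)⁻¹ := by
        calc ((x' : G))⁻¹ * x = (x' : G)⁻¹ * ((x : G) * y) * (y : G)⁻¹ := by group
          _ = _ := by rw [e1]; group
      have e3 : ((x' : G))⁻¹ * x ∈ B₁ ⊓ B₂ :=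
        ⟨B₁.mul_mem (B₁.inv_mem x'.2) x.2, e2 ▸ B₂.mul_mem y'.2 (B₂.inv_mem y.2)⟩
      rw [hbot, mem_bot, inv_mul_eq_one] at e3
      have ex : x' = x := Subtype.ext e3
      subst ex
      exact Prod.ext rfl (Subtype.ext (mul_left_cancel e1))
    have h2 : p ^ 2 ≤ Nat.card ↥B₁ := Nat.le_of_mul_le_mul_left
      (by rw [← pow_succ']; exact hA3.trans (card_le_mul_of_cocyclic hA hB₁)) hp.out.pos
    have h3 : Nat.card ↥A ≤ p * Nat.card ↥B₂ := card_le_mul_of_cocyclic hA hB₂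
    have h4 : p ^ 2 * Nat.card ↥B₂ ≤ p * Nat.card ↥B₂ :=
      (Nat.mul_le_mul_right _ h2).trans (hc.trans h3)
    have h5 := Nat.le_of_mul_le_mul_right h4 Nat.card_pos
    nlinarith [hp.out.two_le])
  refine ⟨a, hB₁.1 ha.1, ha1, fun h => hm₁ (le_trans ?_ h), fun h => hm₂ (le_trans ?_ h)⟩
  · exact inf_le_inf_left _ (centralizer_le (Set.singleton_subset_iff.2 ha.1))
  · exact inf_le_inf_left _ (centralizer_le (Set.singleton_subset_iff.2 ha.2))

variable {A : Subgroup G} {θ : G → Subgroup G}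

omit [Finite G] hp in
theorem signalizerInf_le_centralizer (hθ : Cfsg.IsSignalizerFunctor p A θ) {B : Subgroup G}
    (hBA : B ≤ A) : Cfsg.signalizerInf B θ ≤ centralizer (B : Set G) := by
  intro x hx
  refine mem_centralizer_iff.2 fun b hb => ?_
  by_cases hb1 : b = 1
  · simp [hb1]
  · exact (mem_centralizer_singleton_iff.1
      (hθ.1 b (hBA hb) hb1 (Subgroup.mem_iInf.1 hx ⟨b, hb, hb1⟩))).symm

theorem mem_family_of_le {U V : Subgroup G} (hV : V ∈ Cfsg.signalizerFamily p A θ) (hUV : U ≤ V)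
    (hA : A ≤ normalizer (U : Set G)) : U ∈ Cfsg.signalizerFamily p A θ :=
  ⟨Cfsg.Lib.Core.isSolvable_of_le hUV hV.1, fun h => hV.2.1 (h.trans (card_dvd_of_le hUV)),
    invariant_of_le_normalizer hA, fun a ha ha1 => (inf_le_inf_right _ hUV).trans (hV.2.2.2 a ha ha1)⟩

theorem mem_family_of_le_theta (hθ : Cfsg.IsSolvableSignalizerFunctor p A θ) {U : Subgroup G} {a : G}
    (ha : a ∈ A) (ha1 : a ≠ 1) (hU : U ≤ θ a) (hA : A ≤ normalizer (U : Set G)) :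
    U ∈ Cfsg.signalizerFamily p A θ :=
  ⟨Cfsg.Lib.Core.isSolvable_of_le hU (hθ.2 a ha ha1),
    fun h => hθ.1.2.1 a ha ha1 (h.trans (card_dvd_of_le hU)),
    invariant_of_le_normalizer hA,
    fun b hb hb1 => (inf_le_inf_right _ hU).trans (hθ.1.2.2.2 a ha ha1 b hb hb1)⟩

omit hp in
theorem map_conj_centralizer_singleton (c a : G) (h : c ∈ centralizer ({a} : Set G)) :
    (centralizer ({a} : Set G)).map (MulAut.conj c).toMonoidHom = centralizer ({a} : Set G) :=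
  map_conj_eq_of_mem_normalizer (le_normalizer h)

theorem mem_family_map_conj (hθ : Cfsg.IsSolvableSignalizerFunctor p A θ) {U : Subgroup G}
    (hU : U ∈ Cfsg.signalizerFamily p A θ) {c : G} (hc : c ∈ Cfsg.signalizerInf A θ) :
    U.map (MulAut.conj c).toMonoidHom ∈ Cfsg.signalizerFamily p A θ := by
  have hcA : c ∈ centralizer (A : Set G) := signalizerInf_le_centralizer hθ.1 le_rfl hc
  have := hU.1
  refine ⟨Group.isSolvable_of_surjective (f := (MulAut.conj c).toMonoidHom.subgroupMap U)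
    ((MulAut.conj c).toMonoidHom.subgroupMap_surjective U), by rw [card_map_conj]; exact hU.2.1, ?_, ?_⟩
  · rintro b hb _ ⟨u, hu, rfl⟩
    have h := mem_centralizer_iff.1 hcA b hb
    have h' := mem_centralizer_iff.1 hcA b⁻¹ (inv_mem hb)
    refine ⟨b * u * b⁻¹, hU.2.2.1 b hb u hu, ?_⟩
    simp only [MulEquiv.coe_toMonoidHom, MulAut.conj_apply]
    calc c * (b * u * b⁻¹) * c⁻¹ = (c * b) * u * (c * b)⁻¹ := by group
      _ = (b * c) * u * (b * c)⁻¹ := by rw [h]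
      _ = b * (c * u * c⁻¹) * b⁻¹ := by group
  · intro a ha ha1
    have hca : c ∈ θ a := Subgroup.mem_iInf.1 hc ⟨a, ha, ha1⟩
    rw [← map_conj_centralizer_singleton c a (hθ.1.1 a ha ha1 hca),
      ← map_inf _ _ _ (MulAut.conj c).injective]
    exact (map_mono (hU.2.2.2 a ha ha1)).trans (map_conj_eq_of_mem_normalizer (le_normalizer hca)).le

theorem inf_centralizer_le_signalizerInf (hθ : Cfsg.IsSignalizerFunctor p A θ) {a : G} (ha : a ∈ A)
    (ha1 : a ≠ 1) : θ a ⊓ centralizer (A : Set G) ≤ Cfsg.signalizerInf A θ :=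
  le_iInf fun b => le_trans (inf_le_inf_left _ (centralizer_le (Set.singleton_subset_iff.2 b.2.1)))
    (hθ.2.2.2 a ha ha1 b b.2.1 b.2.2)

theorem exists_maximal_member {q : ℕ} {U : Subgroup G} (hU : U ∈ Cfsg.signalizerFamily p A θ)
    (hUq : IsPGroup q ↥U) :
    ∃ Q, U ≤ Q ∧ Q ∈ Cfsg.signalizerFamily p A θ ∧ IsPGroup q ↥Q ∧
      ∀ R ∈ Cfsg.signalizerFamily p A θ, IsPGroup q ↥R → Q ≤ R → R = Q := by
  obtain ⟨Q, hUQ, ⟨hQ, hQq⟩, hmax⟩ :=
    (Set.toFinite {Q : Subgroup G | Q ∈ Cfsg.signalizerFamily p A θ ∧ IsPGroup q ↥Q}).exists_le_maximal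
      (a := U) ⟨hU, hUq⟩
  exact ⟨Q, hUQ, hQ, hQq, fun R hR hRq hle => le_antisymm (hmax ⟨hR, hRq⟩ hle) hle⟩

theorem isPGroup_sup_of_le_normalizer {q : ℕ} {U V : Subgroup G} (hU : IsPGroup q ↥U)
    (hV : IsPGroup q ↥V) (h : V ≤ normalizer (U : Set G)) : IsPGroup q ↥(U ⊔ V : Subgroup G) := by
  rw [sup_comm]
  exact hV.to_sup_of_normal_right' hU h

/-- The transitivity theorem. -/
theorem transitivity (hA : Cfsg.IsElementaryAbelian p A) (hA3 : p ^ 3 ≤ Nat.card ↥A)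
    (hθ : Cfsg.IsSolvableSignalizerFunctor p A θ) {q : ℕ} [hq : Fact q.Prime] :
    ∀ {Q₁ Q₂ : Subgroup G}, Q₁ ∈ Cfsg.signalizerFamily p A θ → IsPGroup q ↥Q₁ →
      (∀ R ∈ Cfsg.signalizerFamily p A θ, IsPGroup q ↥R → Q₁ ≤ R → R = Q₁) →
      Q₂ ∈ Cfsg.signalizerFamily p A θ → IsPGroup q ↥Q₂ →
      (∀ R ∈ Cfsg.signalizerFamily p A θ, IsPGroup q ↥R → Q₂ ≤ R → R = Q₂) →
      ∃ c ∈ Cfsg.signalizerInf A θ, Q₁.map (MulAut.conj c).toMonoidHom = Q₂ := by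
  have hA2 : p ^ 2 ≤ Nat.card ↥A := (Nat.pow_le_pow_right hp.out.pos (by norm_num)).trans hA3
  suffices key : ∀ D Q₁ Q₂ : Subgroup G, Q₁ ⊓ Q₂ = D → Q₁ ∈ Cfsg.signalizerFamily p A θ →
      IsPGroup q ↥Q₁ → (∀ R ∈ Cfsg.signalizerFamily p A θ, IsPGroup q ↥R → Q₁ ≤ R → R = Q₁) →
      Q₂ ∈ Cfsg.signalizerFamily p A θ → IsPGroup q ↥Q₂ →
      (∀ R ∈ Cfsg.signalizerFamily p A θ, IsPGroup q ↥R → Q₂ ≤ R → R = Q₂) →
      ∃ c ∈ Cfsg.signalizerInf A θ, Q₁.map (MulAut.conj c).toMonoidHom = Q₂ from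
    fun {Q₁ Q₂} => key _ Q₁ Q₂ rfl
  intro D
  induction D using WellFoundedGT.induction with
  | ind D ih =>
    intro Q₁ Q₂ hD hW₁ hq₁ hm₁ hW₂ hq₂ hm₂
    by_cases h1 : D = Q₁
    · exact ⟨1, one_mem _, by
        rw [map_conj_one]; exact (hm₁ Q₂ hW₂ hq₂ (inf_eq_left.1 (hD.trans h1))).symm⟩
    by_cases h2 : D = Q₂
    · exact ⟨1, one_mem _, by
        rw [map_conj_one]; exact hm₂ Q₁ hW₁ hq₁ (inf_eq_right.1 (hD.trans h2))⟩
    have hDQ₁ : D ≤ Q₁ := hD ▸ inf_le_left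
    have hDQ₂ : D ≤ Q₂ := hD ▸ inf_le_right
    have hAD : A ≤ normalizer (D : Set G) := hD ▸
      (le_inf (le_normalizer_of_invariant hW₁.2.2.1) (le_normalizer_of_invariant hW₂.2.2.1)).trans
        inf_normalizer_le_normalizer_inf
    have hDW : D ∈ Cfsg.signalizerFamily p A θ := mem_family_of_le hW₁ hDQ₁ hAD
    have hgrow : ∀ Q : Subgroup G, IsPGroup q ↥Q → D ≤ Q → D ≠ Q →
        ¬ normalizer (D : Set G) ⊓ Q ≤ D := by
      intro Q hQ hDQ hne hle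
      have := hQ.isNilpotent
      have hlt := Group.normalizerCondition_of_isNilpotent (G := ↥Q) (D.subgroupOf Q)
        (lt_top_iff_ne_top.2 fun h => hne (le_antisymm hDQ (subgroupOf_eq_top.1 h)))
      obtain ⟨x, hx, hxD⟩ := SetLike.exists_of_lt hlt
      refine hxD (mem_subgroupOf.2 (hle ⟨?_, x.2⟩))
      refine mem_normalizer_iff.2 fun y => ⟨fun hy => ?_, fun hy => ?_⟩
      · exact (mem_normalizer_iff.1 hx ⟨y, hDQ hy⟩).1 hy
      · have h := (mem_normalizer_iff.1 (inv_mem hx) ⟨_, hDQ hy⟩).1 hy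
        have h2 : ((x : G))⁻¹ * ((x : G) * y * (x : G)⁻¹) * ((x : G)⁻¹)⁻¹ ∈ D := h
        simpa [mul_assoc] using h2
    have hAN : ∀ Q ∈ Cfsg.signalizerFamily p A θ, A ≤ normalizer ((normalizer (D : Set G) ⊓ Q : Subgroup G) : Set G) := fun Q hQ =>
      (le_inf (hAD.trans le_normalizer) (le_normalizer_of_invariant hQ.2.2.1)).trans inf_normalizer_le_normalizer_inf
    obtain ⟨a, ha, ha1, hU₁, hU₂⟩ := exists_common_centralizer hA hA3 (hAN Q₁ hW₁) (hAN Q₂ hW₂)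
      (fun h => hW₁.2.1 (h.trans (card_dvd_of_le inf_le_right)))
      (fun h => hW₂.2.1 (h.trans (card_dvd_of_le inf_le_right)))
      (hgrow Q₁ hq₁ hDQ₁ h1) (hgrow Q₂ hq₂ hDQ₂ h2)
    have := hA.1
    have hAa : A ≤ normalizer (centralizer ({a} : Set G) : Set G) := fun b hb =>
      le_normalizer (mem_centralizer_singleton_iff.2 (congrArg Subtype.val (mul_comm' (⟨b, hb⟩ : ↥A) ⟨a, ha⟩)))
    set H := θ a ⊓ normalizer (D : Set G) with hH
    have hAH : A ≤ normalizer (H : Set G) :=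
      (le_inf (le_normalizer_of_invariant (hθ.1.2.2.1 a ha ha1)) (hAD.trans le_normalizer)).trans
        inf_normalizer_le_normalizer_inf
    have hHp : ¬ p ∣ Nat.card ↥H := fun h => hθ.1.2.1 a ha ha1 (h.trans (card_dvd_of_le inf_le_left))
    have hHc := coprime_card_elementaryAbelian hA hHp
    have hHs : Group.IsSolvable ↥A ∨ Group.IsSolvable ↥H :=
      Or.inr (Cfsg.Lib.Core.isSolvable_of_le inf_le_left (hθ.2 a ha ha1))
    have hex : ∀ Q ∈ Cfsg.signalizerFamily p A θ, IsPGroup q ↥Q → D ≤ Q →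
        ¬ normalizer (D : Set G) ⊓ Q ⊓ centralizer {a} ≤ D →
        ∃ P : Sylow q ↥H, A ≤ normalizer (((P : Subgroup ↥H).map H.subtype : Subgroup G) : Set G) ∧
          ∀ R : Subgroup G, D ⊔ (P : Subgroup ↥H).map H.subtype ≤ R → D < Q ⊓ R := by
      intro Q hQ hQq hDQ hU
      obtain ⟨P, hUP, hAP⟩ := Cfsg.Lib.Coprime.exists_invariant_sylow_ge hAH hHc hHs
        (p := q) (U := normalizer (D : Set G) ⊓ Q ⊓ centralizer {a})
        (le_inf ((inf_le_inf_right _ inf_le_right).trans (hQ.2.2.2 a ha ha1)) (inf_le_left.trans inf_le_left))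
        (hQq.to_le (inf_le_left.trans inf_le_right))
        ((le_inf (hAN Q hQ) hAa).trans inf_normalizer_le_normalizer_inf)
      refine ⟨P, hAP, fun R hR => lt_of_le_of_ne (le_inf hDQ (le_sup_left.trans hR)) fun e => hU ?_⟩
      exact (le_inf (inf_le_left.trans inf_le_right) (hUP.trans (le_sup_right.trans hR))).trans e.symm.le
    obtain ⟨P₁, hAP₁, hlt₁⟩ := hex Q₁ hW₁ hq₁ hDQ₁ hU₁
    obtain ⟨P₂, hAP₂, hlt₂⟩ := hex Q₂ hW₂ hq₂ hDQ₂ hU₂
    obtain ⟨c, hc, hP⟩ := Cfsg.Lib.Coprime.exists_centralizer_conj_sylow hAH hHc hHs P₁ P₂ hAP₁ hAP₂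
    have hcK : c ∈ Cfsg.signalizerInf A θ :=
      inf_centralizer_le_signalizerInf hθ.1 ha ha1 ⟨hc.1.1, hc.2⟩
    set R₁ := (P₁ : Subgroup ↥H).map H.subtype with hR₁
    have hR₁H : R₁ ≤ H := map_subtype_le _
    have hR₁W : R₁ ∈ Cfsg.signalizerFamily p A θ :=
      mem_family_of_le_theta hθ ha ha1 (hR₁H.trans inf_le_left) hAP₁
    have hR₁N : R₁ ≤ normalizer (D : Set G) := hR₁H.trans inf_le_right
    obtain ⟨M₁, hle₁, hMW₁, hMq₁, hMm₁⟩ := exists_maximal_member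
      (Cfsg.Agent.S1280.result p A hA hA2 θ hθ D R₁ hDW hR₁W hR₁N)
      (isPGroup_sup_of_le_normalizer (hq₁.to_le hDQ₁) (P₁.2.map H.subtype) hR₁N)
    set M₂ := M₁.map (MulAut.conj c).toMonoidHom with hM₂
    have hMW₂ : M₂ ∈ Cfsg.signalizerFamily p A θ := mem_family_map_conj hθ hMW₁ hcK
    have hMq₂ : IsPGroup q ↥M₂ := hMq₁.map _
    have hMm₂ : ∀ R ∈ Cfsg.signalizerFamily p A θ, IsPGroup q ↥R → M₂ ≤ R → R = M₂ := by
      intro R hR hRq hle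
      have h := hMm₁ _ (mem_family_map_conj hθ hR (inv_mem hcK)) (hRq.map _) (by
        have h0 := map_mono (f := (MulAut.conj c⁻¹).toMonoidHom) hle
        rwa [hM₂, map_conj_map_conj, inv_mul_cancel, map_conj_one] at h0)
      rw [hM₂, ← h, map_conj_map_conj, mul_inv_cancel, map_conj_one]
    have hle₂ : D ⊔ (P₂ : Subgroup ↥H).map H.subtype ≤ M₂ := by
      rw [hP, ← map_conj_eq_of_mem_normalizer hc.1.2, ← Subgroup.map_sup]
      exact map_mono hle₁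
    obtain ⟨c₁, hc₁, e₁⟩ := ih _ (hlt₁ M₁ hle₁) Q₁ M₁ rfl hW₁ hq₁ hm₁ hMW₁ hMq₁ hMm₁
    obtain ⟨c₂, hc₂, e₂⟩ := ih _ (hlt₂ M₂ hle₂) Q₂ M₂ rfl hW₂ hq₂ hm₂ hMW₂ hMq₂ hMm₂
    refine ⟨c₂⁻¹ * c * c₁, mul_mem (mul_mem (inv_mem hc₂) hcK) hc₁, ?_⟩
    rw [← map_conj_map_conj _ c₁, e₁, ← map_conj_map_conj _ c, ← hM₂, ← e₂, map_conj_map_conj,
      inv_mul_cancel, map_conj_one]

theorem signalizerInf_mem_family (hθ : Cfsg.IsSolvableSignalizerFunctor p A θ)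
    (hA : Cfsg.IsElementaryAbelian p A) {B : Subgroup G} (hB : B ≤ A) (hB1 : B ≠ ⊥) :
    Cfsg.signalizerInf B θ ∈ Cfsg.signalizerFamily p A θ := by
  obtain ⟨b, hb, hb1⟩ := B.bot_or_exists_ne_one.resolve_left hB1
  have := hA.1
  refine mem_family_of_le_theta hθ (hB hb) hb1
    (iInf_le _ (⟨b, hb, hb1⟩ : {a : G // a ∈ B ∧ a ≠ 1})) (le_normalizer_of_invariant fun a ha x hx => ?_)
  simp only [Cfsg.signalizerInf, mem_iInf] at hx ⊢
  exact fun d => hθ.1.2.2.1 d (hB d.2.1) d.2.2 a ha x (hx d)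

theorem sylow_of_maximal_member (hA : Cfsg.IsElementaryAbelian p A) (hA3 : p ^ 3 ≤ Nat.card ↥A)
    (hθ : Cfsg.IsSolvableSignalizerFunctor p A θ) {q : ℕ} [hq : Fact q.Prime] {Q H : Subgroup G}
    (hQ : Q ∈ Cfsg.signalizerFamily p A θ) (hQq : IsPGroup q ↥Q)
    (hQm : ∀ R ∈ Cfsg.signalizerFamily p A θ, IsPGroup q ↥R → Q ≤ R → R = Q)
    (hH : H ∈ Cfsg.signalizerFamily p A θ) :
    ∃ c ∈ Cfsg.signalizerInf A θ, ∃ S : Sylow q ↥H,
      (S : Subgroup ↥H).map H.subtype = Q.map (MulAut.conj c).toMonoidHom ⊓ H := by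
  obtain ⟨S, hAS⟩ := Cfsg.Lib.Coprime.exists_invariant_sylow (le_normalizer_of_invariant hH.2.2.1)
    (coprime_card_elementaryAbelian hA hH.2.1) (Or.inr hH.1) q
  obtain ⟨M, hSM, hM, hMq, hMm⟩ :=
    exists_maximal_member (mem_family_of_le hH (map_subtype_le _) hAS) (S.2.map H.subtype)
  obtain ⟨c, hc, e⟩ := transitivity hA hA3 hθ hQ hQq hQm hM hMq hMm
  refine ⟨c, hc, S, le_antisymm (le_inf (hSM.trans e.symm.le) (map_subtype_le _)) ?_⟩
  rw [e]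
  intro x hx
  have hmax := S.is_maximal' (Q := (M ⊓ H).subgroupOf H)
    ((hMq.to_le inf_le_left).of_equiv (subgroupOfEquivOfLe inf_le_right).symm)
    (fun y hy => mem_subgroupOf.2 ⟨hSM (mem_map_of_mem H.subtype hy), y.2⟩)
  exact ⟨⟨x, hx.2⟩, hmax.le (mem_subgroupOf.2 hx), rfl⟩

theorem sylow_signalizerInf (hA : Cfsg.IsElementaryAbelian p A) (hA3 : p ^ 3 ≤ Nat.card ↥A)
    (hθ : Cfsg.IsSolvableSignalizerFunctor p A θ) {q : ℕ} [hq : Fact q.Prime] {Q B : Subgroup G}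
    (hQ : Q ∈ Cfsg.signalizerFamily p A θ) (hQq : IsPGroup q ↥Q)
    (hQm : ∀ R ∈ Cfsg.signalizerFamily p A θ, IsPGroup q ↥R → Q ≤ R → R = Q)
    (hB : B ≤ A) (hB1 : B ≠ ⊥) :
    ∃ S : Sylow q ↥(Cfsg.signalizerInf B θ),
      (S : Subgroup ↥(Cfsg.signalizerInf B θ)).map (Cfsg.signalizerInf B θ).subtype =
        Q ⊓ centralizer (B : Set G) := by
  set H := Cfsg.signalizerInf B θ with hH
  obtain ⟨c, hc, S, hS⟩ := sylow_of_maximal_member hA hA3 hθ hQ hQq hQm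
    (signalizerInf_mem_family hθ hA hB hB1)
  have hcH : c ∈ H := by
    simp only [hH, Cfsg.signalizerInf, mem_iInf] at hc ⊢
    exact fun d => hc ⟨d, hB d.2.1, d.2.2⟩
  have hQB : Q ⊓ centralizer (B : Set G) = Q ⊓ H := by
    refine le_antisymm (le_inf inf_le_left (le_iInf fun d => ?_))
      (inf_le_inf_left _ (signalizerInf_le_centralizer hθ.1 hB))
    exact (inf_le_inf_left _ (centralizer_le (Set.singleton_subset_iff.2 d.2.1))).trans
      (hQ.2.2.2 d (hB d.2.1) d.2.2)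
  rw [hQB]
  have hcard : Nat.card ↥((Q ⊓ H).subgroupOf H) = q ^ (Nat.card ↥H).factorization q := by
    rw [Nat.card_congr (subgroupOfEquivOfLe inf_le_right).toEquiv, ← S.card_eq_multiplicity,
      ← card_map_conj (Q ⊓ H) c, map_inf _ _ _ (MulAut.conj c).injective,
      map_conj_eq_of_mem_normalizer (le_normalizer hcH), ← hS, card_map_of_injective H.subtype_injective]
  refine ⟨Sylow.ofCard ((Q ⊓ H).subgroupOf H) hcard, ?_⟩
  show ((Q ⊓ H).subgroupOf H).map H.subtype = Q ⊓ H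
  exact map_subgroupOf_eq_of_le inf_le_right

end Cfsg.Lib.Sig
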