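import Cfsg.Agent.Lib.Sig.ComplementCriterion
import Cfsg.Agent.Lib.PGroup.Basic
import Cfsg.Prelude.Def_PLocal
import Cfsg.Prelude.Def_LocalEven
import Mathlib.Data.Nat.Choose.Sum

/-!
The degree with which an element acts on the chief factors below a normal p-subgroup, in terms of
its degrees on a critical subgroup and on the centre of that.
-/

set_option autoImplicit false
set_option linter.style.haveILetI false

namespace Cfsg.Lib.Sig

open Subgroup
open scoped commutatorElement

variable {G : Type*} [Group G]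

theorem commutator_chiefFactor_le [Finite G] {p : ℕ} [Fact p.Prime] {M M' P : Subgroup G}
    (hc : Cfsg.IsChiefFactor M M') [P.Normal] (hM : IsPGroup p ↥M) (hP : IsPGroup p ↥P) :
    ⁅M, P⁆ ≤ M' := by
  obtain ⟨hlt, hMn, hM'n, hmin⟩ := hc
  haveI := hMn
  haveI := hM'n
  set mk := QuotientGroup.mk' M'
  have hs : Function.Surjective mk := QuotientGroup.mk'_surjective M'
  have hker : mk.ker = M' := QuotientGroup.ker_mk' M'
  haveI : (M.map mk).Normal := hMn.map mk hs
  haveI : (P.map mk).Normal := (inferInstance : P.Normal).map mk hs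
  have hne : M.map mk ≠ ⊥ := by
    rw [Ne, Subgroup.map_eq_bot_iff, hker]; exact hlt.not_ge
  have h := Cfsg.Lib.PGroup.commutator_lt_of_isPGroup (hM.map mk) (hP.map mk)
    (by rw [normalizer_eq_top_iff.2 inferInstance]; exact le_top) hne
  rw [← map_commutator] at h
  have hn : (⁅M, P⁆ ⊔ M').Normal := inferInstance
  rcases hmin _ hn le_sup_right (sup_le (commutator_le_left M P) hlt.le) with e | e
  · exact le_sup_left.trans e.le
  · refine absurd ?_ h.ne
    conv_rhs => rw [← e, Subgroup.map_sup, show M'.map mk = ⊥ from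
      (Subgroup.map_eq_bot_iff M').2 hker.ge, sup_bot_eq]

theorem exists_chiefFactor_below [Finite G] {M : Subgroup G} [hMn : M.Normal] (hM : M ≠ ⊥) :
    ∃ M' : Subgroup G, Cfsg.IsChiefFactor M M' := by
  obtain ⟨M', ⟨hn, hlt⟩, hmax⟩ := (Set.toFinite {N : Subgroup G | N.Normal ∧ N < M}).exists_maximal
    ⟨⊥, inferInstance, hM.bot_lt⟩
  refine ⟨M', hlt, hMn, hn, fun N hN h1 h2 => ?_⟩
  rcases eq_or_lt_of_le h2 with h | h
  · exact Or.inr h
  · exact Or.inl (le_antisymm (hmax ⟨hN, h⟩ h1) h1)

theorem iterate_mem_iterCommutator (A : Subgroup G) (g : G) :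
    ∀ (n : ℕ) {a : G}, a ∈ A →
      (fun x => g * x * g⁻¹ * x⁻¹)^[n] a ∈ Cfsg.iterCommutator A (zpowers g) n
  | 0, _, ha => ha
  | n + 1, a, ha => by
    rw [Function.iterate_succ_apply']
    show _ ∈ ⁅Cfsg.iterCommutator A (zpowers g) n, zpowers g⁆
    rw [commutator_comm, ← commutatorElement_def]
    exact commutator_mem_commutator (mem_zpowers g) (iterate_mem_iterCommutator A g n ha)

theorem commutator_zpowers_le_of_conj {X Y : Subgroup G} {g : G} (hgY : g ∈ normalizer (Y : Set G))
    (h : ∀ x ∈ X, g * x * g⁻¹ * x⁻¹ ∈ Y) : ⁅X, zpowers g⁆ ≤ Y := by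
  let N : Subgroup G :=
    { carrier := {y | y ∈ normalizer (Y : Set G) ∧ ∀ x ∈ X, y * x * y⁻¹ * x⁻¹ ∈ Y}
      one_mem' := ⟨one_mem _, fun x _ => by simp⟩
      mul_mem' := by
        rintro y z ⟨hy, hy'⟩ ⟨hz, hz'⟩
        refine ⟨mul_mem hy hz, fun x hx => ?_⟩
        have := mul_mem ((mem_normalizer_iff.1 hy _).1 (hz' x hx)) (hy' x hx)
        simpa [mul_assoc] using this
      inv_mem' := by
        rintro y ⟨hy, hy'⟩
        refine ⟨inv_mem hy, fun x hx => ?_⟩
        have := (mem_normalizer_iff.1 (inv_mem hy) _).1 (inv_mem (hy' x hx))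
        simpa [mul_assoc] using this }
  have hN : zpowers g ≤ N := zpowers_le.2 ⟨hgY, h⟩
  refine commutator_le.2 fun x hx y hy => ?_
  have := inv_mem ((hN hy).2 x hx)
  simpa [commutatorElement_def, mul_assoc] using this

theorem map_conj_mem {M N : Type*} [Group M] [Group N] (f : M →* N) (a b : M) :
    f (a * b * a⁻¹) = f a * f b * (f a)⁻¹ := by rw [map_mul, map_mul, map_inv]

/-- An element whose iterated commutators with an abelian section die generates a group acting with
that degree. -/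
theorem iterCommutator_le_of_iterate {U V : Subgroup G} [U.Normal] [V.Normal]
    (hab : ⁅U, U⁆ ≤ V) {g : G} {n : ℕ}
    (h : ∀ x ∈ U, (fun y => g * y * g⁻¹ * y⁻¹)^[n] x ∈ V) :
    Cfsg.iterCommutator U (zpowers g) n ≤ V := by
  set f : G → G := fun y => g * y * g⁻¹ * y⁻¹ with hf
  have hfU : ∀ x ∈ U, f x ∈ U := fun x hx =>
    mul_mem (‹U.Normal›.conj_mem x hx g) (inv_mem hx)
  have hfU' : ∀ (k : ℕ), ∀ x ∈ U, f^[k] x ∈ U := fun k => by
    induction k with
    | zero => exact fun x hx => hx
    | succ k ih => exact fun x hx => by rw [Function.iterate_succ_apply']; exact hfU _ (ih x hx)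
  have hcomm : ∀ a ∈ U, ∀ b ∈ U,
      ((a : G ⧸ V)) * (b : G ⧸ V) = (b : G ⧸ V) * (a : G ⧸ V) := fun a ha b hb =>
    commutatorElement_eq_one_iff_mul_comm.1 (by
      rw [← QuotientGroup.mk'_apply, ← QuotientGroup.mk'_apply, ← map_commutatorElement,
        QuotientGroup.mk'_apply, QuotientGroup.eq_one_iff]
      exact hab (commutator_mem_commutator ha hb))
  have hmul : ∀ (k : ℕ), ∀ a ∈ U, ∀ b ∈ U,
      ((f^[k] (a * b) : G) : G ⧸ V) = (f^[k] a : G) * (f^[k] b : G) := by
    intro k
    induction k with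
    | zero => intro a _ b _; rfl
    | succ k ih =>
      intro a ha b hb
      have hq : ∀ y z : G, (y : G ⧸ V) = z → ((f y : G) : G ⧸ V) = f z := fun y z e => by
        simp only [hf, QuotientGroup.mk_mul, QuotientGroup.mk_inv, e]
      rw [Function.iterate_succ_apply', Function.iterate_succ_apply', Function.iterate_succ_apply',
        hq _ (f^[k] a * f^[k] b) (by rw [ih a ha b hb]; rfl)]
      have e : f (f^[k] a * f^[k] b) =
          g * f^[k] a * g⁻¹ * f (f^[k] b) * (f^[k] a)⁻¹ := by simp only [hf]; group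
      rw [e, QuotientGroup.mk_mul, QuotientGroup.mk_mul,
        hcomm _ (‹U.Normal›.conj_mem _ (hfU' k a ha) g) _ (hfU _ (hfU' k b hb)), mul_assoc,
        ← QuotientGroup.mk_mul,
        hcomm _ (hfU _ (hfU' k b hb)) _ (mul_mem (‹U.Normal›.conj_mem _ (hfU' k a ha) g)
          (inv_mem (hfU' k a ha)))]
  let K : ℕ → Subgroup G := fun k =>
    { carrier := {x | x ∈ U ∧ f^[k] x ∈ V}
      one_mem' := ⟨one_mem U, by
        have : ∀ k, f^[k] 1 = 1 := fun k => by
          induction k with
          | zero => rfl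
          | succ k ih => rw [Function.iterate_succ_apply', ih]; simp [hf]
        rw [this]; exact one_mem V⟩
      mul_mem' := by
        rintro a b ⟨ha, ha'⟩ ⟨hb, hb'⟩
        refine ⟨mul_mem ha hb, (QuotientGroup.eq_one_iff _).1 ?_⟩
        rw [hmul k a ha b hb, (QuotientGroup.eq_one_iff _).2 ha', (QuotientGroup.eq_one_iff _).2 hb',
          one_mul]
      inv_mem' := by
        rintro a ⟨ha, ha'⟩
        refine ⟨inv_mem ha, (QuotientGroup.eq_one_iff _).1 ?_⟩
        have h1 : ((f^[k] (a⁻¹ * a) : G) : G ⧸ V) = 1 := by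
          rw [inv_mul_cancel]
          have : ∀ k, f^[k] 1 = 1 := fun k => by
            induction k with
            | zero => rfl
            | succ k ih => rw [Function.iterate_succ_apply', ih]; simp [hf]
          rw [this]; rfl
        rw [hmul k a⁻¹ (inv_mem ha) a ha, (QuotientGroup.eq_one_iff _).2 ha', mul_one] at h1
        exact h1 }
  have hnorm : ∀ k, g ∈ normalizer (K k : Set G) := fun k => by
    have e : ∀ (k : ℕ) (x : G), f^[k] (g * x * g⁻¹) = g * f^[k] x * g⁻¹ := by
      intro k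
      induction k with
      | zero => intro x; rfl
      | succ k ih =>
        intro x
        rw [Function.iterate_succ_apply', Function.iterate_succ_apply', ih]
        simp only [hf]; group
    refine mem_normalizer_iff.2 fun x => ?_
    show x ∈ U ∧ f^[k] x ∈ V ↔ g * x * g⁻¹ ∈ U ∧ f^[k] (g * x * g⁻¹) ∈ V
    rw [e]
    constructor
    · rintro ⟨a, b⟩
      exact ⟨‹U.Normal›.conj_mem x a g, ‹V.Normal›.conj_mem _ b g⟩
    · rintro ⟨a, b⟩
      exact ⟨by simpa [mul_assoc] using ‹U.Normal›.conj_mem _ a g⁻¹,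
        by simpa [mul_assoc] using ‹V.Normal›.conj_mem _ b g⁻¹⟩
  have key : ∀ k ≤ n, Cfsg.iterCommutator U (zpowers g) k ≤ K (n - k) := by
    intro k
    induction k with
    | zero => intro _ x hx; exact ⟨hx, h x hx⟩
    | succ k ih =>
      intro hk
      refine (commutator_mono (ih (by omega)) le_rfl).trans
        (commutator_zpowers_le_of_conj (hnorm _) ?_)
      rintro x ⟨hx, hx'⟩
      refine ⟨hfU x hx, ?_⟩
      rw [show n - k = (n - (k + 1)) + 1 from by omega, Function.iterate_succ_apply] at hx'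
      exact hx'
  intro x hx
  have h1 := key n le_rfl hx
  rw [Nat.sub_self] at h1
  exact h1.2

/-- The degree bound. -/
theorem iterCommutator_le_of_degrees [Finite G] {p : ℕ} [Fact p.Prime] {P Q : Subgroup G} [P.Normal]
    [Q.Normal] (hP : IsPGroup p ↥P) (hQP : Q ≤ P)
    (hQ3 : ⁅P, Q⁆ ≤ Q ⊓ centralizer (Q : Set G))
    (hQ4 : P ⊓ centralizer (Q : Set G) ≤ Q ⊓ centralizer (Q : Set G)) (g : G) {i j : ℕ} (hi : 1 ≤ i)
    (hQi : ∀ U V : Subgroup G, Cfsg.IsChiefFactor U V → U ≤ Q →
      Cfsg.iterCommutator U (zpowers g) i ≤ V)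
    (hZj : ∀ U V : Subgroup G, Cfsg.IsChiefFactor U V → U ≤ Q ⊓ centralizer (Q : Set G) →
      Cfsg.iterCommutator U (zpowers g) j ≤ V)
    (X V : Subgroup G) (hXV : Cfsg.IsChiefFactor X V) (hXP : X ≤ P) :
    Cfsg.iterCommutator X (zpowers g) (i + j - 1) ≤ V := by
  haveI : X.Normal := hXV.2.1
  haveI : V.Normal := hXV.2.2.1
  set Z := Q ⊓ centralizer (Q : Set G) with hZ
  have hab : ⁅X, X⁆ ≤ V := (commutator_mono le_rfl hXP).trans
    (commutator_chiefFactor_le hXV (hP.to_le hXP) hP)
  set f : G → G := fun y => g * y * g⁻¹ * y⁻¹ with hf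
  have hfV : ∀ (k : ℕ), ∀ x ∈ V, f^[k] x ∈ V := fun k => by
    induction k with
    | zero => exact fun x hx => hx
    | succ k ih =>
      exact fun x hx => by
        rw [Function.iterate_succ_apply']
        exact mul_mem (‹V.Normal›.conj_mem _ (ih x hx) g) (inv_mem (ih x hx))
  refine iterCommutator_le_of_iterate hab ?_
  -- it suffices to treat a set generating `X` modulo `V`
  suffices hsub : ∃ Y : Subgroup G, Y.Normal ∧ Y ≤ X ∧ ¬ Y ≤ V ∧ ∀ x ∈ Y, f^[i + j - 1] x ∈ V by
    obtain ⟨Y, hYn, hYX, hYV, hY⟩ := hsub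
    haveI := hYn
    have hsup : Y ⊔ V = X := by
      rcases hXV.2.2.2 (Y ⊔ V) inferInstance le_sup_right (sup_le hYX hXV.1.le) with h | h
      · exact absurd (le_sup_left.trans h.le) hYV
      · exact h
    intro x hx
    rw [← hsup] at hx
    obtain ⟨y, hy, v, hv, rfl⟩ := Cfsg.Lib.Core.mem_sup_of_le_normalizer
      (by rw [normalizer_eq_top_iff.2 (inferInstance : V.Normal)]; exact le_top) |>.1 hx
    have e : ((f^[i + j - 1] (y * v) : G) : G ⧸ V) = (f^[i + j - 1] y : G) := by
      have hq : ∀ (k : ℕ) (a b : G), (a : G ⧸ V) = b → ((f^[k] a : G) : G ⧸ V) = f^[k] b := by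
        intro k
        induction k with
        | zero => exact fun a b e => e
        | succ k ih =>
          intro a b e
          rw [Function.iterate_succ_apply', Function.iterate_succ_apply']
          have h1 := ih a b e
          revert h1
          generalize f^[k] a = u
          generalize f^[k] b = w
          intro h1
          simp only [hf, QuotientGroup.mk_mul, QuotientGroup.mk_inv, h1]
      exact hq _ _ _ (by rw [QuotientGroup.mk_mul, (QuotientGroup.eq_one_iff v).2 hv, mul_one])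
    rw [← QuotientGroup.eq_one_iff, e, QuotientGroup.eq_one_iff]
    exact hY y hy
  by_cases hZX : X ⊓ Z ≤ V
  swap
  · -- the part inside the centre
    obtain ⟨M, ⟨hMn, hMX, hMV⟩, hmin⟩ := (Set.toFinite {M : Subgroup G | M.Normal ∧ M ≤ X ⊓ Z ∧
      ¬ M ≤ V}).exists_minimal ⟨X ⊓ Z, inferInstance, le_rfl, hZX⟩
    haveI := hMn
    obtain ⟨M', hc⟩ := exists_chiefFactor_below (M := M) (fun e => hMV (e ▸ bot_le))
    have hM'V : M' ≤ V := by_contra fun h =>
      hc.1.not_ge (hmin ⟨hc.2.2.1, hc.1.le.trans hMX, h⟩ hc.1.le)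
    refine ⟨M, hMn, hMX.trans inf_le_left, hMV, fun x hx => ?_⟩
    rw [show i + j - 1 = (i - 1) + j from by omega, Function.iterate_add_apply]
    exact hfV _ _ (hM'V (hZj M M' hc (hMX.trans inf_le_right) (iterate_mem_iterCommutator M g j hx)))
  obtain ⟨N, ⟨hNn, hNQ, hNV⟩, hNmin⟩ := (Set.toFinite {N : Subgroup G | N.Normal ∧ N ≤ Q ∧
    X ⊓ centralizer (N : Set G) ≤ V}).exists_minimal
    ⟨Q, inferInstance, le_rfl, ((le_inf inf_le_left ((le_inf (inf_le_left.trans hXP) inf_le_right).trans
      hQ4))).trans hZX⟩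
  haveI := hNn
  obtain ⟨N', hN⟩ := exists_chiefFactor_below (M := N) (fun e => hXV.1.not_ge (by
    refine le_trans (le_inf le_rfl ?_) hNV
    rw [e]; exact fun x _ => mem_centralizer_iff.2 fun y hy => by rw [mem_bot.1 hy]; simp))
  haveI : N'.Normal := hN.2.2.1
  have hN'V : ¬ X ⊓ centralizer (N' : Set G) ≤ V := fun h =>
    hN.1.not_ge (hNmin ⟨hN.2.2.1, hN.1.le.trans hNQ, h⟩ hN.1.le)
  let R : ∀ M : Subgroup G, M.Normal → Subgroup G := fun M hM =>
    { carrier := {x | ∀ a ∈ N, ⁅x, a⁆ ∈ M}
      one_mem' := fun a _ => by simp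
      mul_mem' := by
        intro x y hx hy a ha
        have e : ⁅x * y, a⁆ = x * ⁅y, a⁆ * x⁻¹ * ⁅x, a⁆ := by simp only [commutatorElement_def]; group
        rw [e]; exact mul_mem (hM.conj_mem _ (hy a ha) x) (hx a ha)
      inv_mem' := by
        intro x hx a ha
        have e : ⁅x⁻¹, a⁆ = x⁻¹ * ⁅x, a⁆⁻¹ * x⁻¹⁻¹ := by simp only [commutatorElement_def]; group
        rw [e]; exact hM.conj_mem _ (inv_mem (hx a ha)) x⁻¹ }
  have hRn : ∀ M (hM : M.Normal), (R M hM).Normal := fun M hM => ⟨fun x hx y a ha => by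
    have e : ⁅y * x * y⁻¹, a⁆ = y * ⁅x, y⁻¹ * a * y⁆ * y⁻¹ := by
      simp only [commutatorElement_def]; group
    rw [e]
    exact hM.conj_mem _ (hx _ (by simpa using hNn.conj_mem a ha y⁻¹)) y⟩
  obtain ⟨M, ⟨hMn, hMZ, hMV⟩, hMmin⟩ := (Set.toFinite {M : Subgroup G | ∃ hM : M.Normal, M ≤ Z ∧
    ¬ X ⊓ centralizer (N' : Set G) ⊓ R M hM ≤ V}).exists_minimal
    ⟨Z, inferInstance, le_rfl, fun h => hN'V ((le_inf le_rfl fun x hx a ha =>
      hQ3 (commutator_mem_commutator (hXP (mem_inf.1 hx).1) (hNQ ha))).trans h)⟩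
  haveI := hMn
  have hMne : M ≠ ⊥ := by
    intro e
    refine hMV (le_trans (le_inf (inf_le_left.trans inf_le_left) ?_) hNV)
    intro x hx
    refine mem_centralizer_iff.2 fun a ha => ?_
    have h1 := (mem_inf.1 hx).2 a ha
    rw [e, mem_bot] at h1
    exact (commutatorElement_eq_one_iff_mul_comm.1 h1).symm
  obtain ⟨M', hM⟩ := exists_chiefFactor_below hMne
  haveI : M'.Normal := hM.2.2.1
  have hM'V : X ⊓ centralizer (N' : Set G) ⊓ R M' hM.2.2.1 ≤ V := by_contra fun h =>
    hM.1.not_ge (hMmin ⟨hM.2.2.1, hM.1.le.trans hMZ, h⟩ hM.1.le)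
  set X₁ := X ⊓ centralizer (N' : Set G) ⊓ R M hMn with hX₁
  haveI : X₁.Normal := by
    haveI := hRn M hMn
    infer_instance
  refine ⟨X₁, inferInstance, inf_le_left.trans inf_le_left, hMV, ?_⟩
  -- the pairing into `M / M'`
  have hPM : ∀ x ∈ P, ∀ m ∈ M, (QuotientGroup.mk' M' (x * m * x⁻¹)) = QuotientGroup.mk' M' m := by
    intro x hx m hm
    have h1 : ⁅m, x⁆ ∈ M' := commutator_chiefFactor_le hM (hP.to_le (hMZ.trans (inf_le_left.trans hQP)))
      hP (commutator_mem_commutator hm hx)
    have h2 : (QuotientGroup.mk' M') ⁅m, x⁆ = 1 := (QuotientGroup.eq_one_iff _).2 h1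
    rw [map_commutatorElement, commutatorElement_eq_one_iff_mul_comm] at h2
    rw [map_conj_mem, ← h2, mul_inv_cancel_right]
  set mk := QuotientGroup.mk' M' with hmk
  set Ub := M.map mk with hUb
  haveI : Ub.Normal := hMn.map mk (QuotientGroup.mk'_surjective M')
  letI : CommGroup ↥Ub := { (inferInstance : Group ↥Ub) with
    mul_comm := fun a b => Subtype.ext (by
      obtain ⟨a', ha', hae⟩ := a.2
      obtain ⟨b', hb', hbe⟩ := b.2
      show (a : G ⧸ M') * b = b * a
      rw [← hae, ← hbe, ← map_mul, ← map_mul,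
        mem_centralizer_iff.1 (mem_inf.1 (hMZ hb')).2 a' (mem_inf.1 (hMZ ha')).1]) }
  let c : Additive ↥N →+ Additive ↥N :=
    MonoidHom.toAdditive (MulAut.conjNormal (H := N) g⁻¹).toMonoidHom
  let γ : Additive ↥Ub →+ Additive ↥Ub :=
    MonoidHom.toAdditive (MulAut.conjNormal (H := Ub) (mk g)).toMonoidHom
  let Hom := Additive ↥N →+ Additive ↥Ub
  let pre : AddMonoid.End Hom :=
    { toFun := fun h => h.comp c
      map_zero' := rfl
      map_add' := fun _ _ => rfl }
  let post : AddMonoid.End Hom :=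
    { toFun := fun h => γ.comp h
      map_zero' := AddMonoidHom.ext fun _ => map_zero γ
      map_add' := fun _ _ => AddMonoidHom.ext fun _ => map_add γ _ _ }
  have hpairmem : ∀ (x : ↥X₁) (a : ↥N), mk ⁅(x : G), (a : G)⁆ ∈ Ub := fun x a =>
    mem_map_of_mem mk ((mem_inf.1 x.2).2 a a.2)
  let β : Additive ↥X₁ →+ Hom :=
    AddMonoidHom.mk' (fun x => AddMonoidHom.mk'
      (fun a => Additive.ofMul ⟨mk ⁅((Additive.toMul x : ↥X₁) : G), ((Additive.toMul a : ↥N) : G)⁆,
        hpairmem _ _⟩)
      (fun a b => Additive.toMul.injective (Subtype.ext (by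
        show mk ⁅((Additive.toMul x : ↥X₁) : G), ((Additive.toMul a : ↥N) : G) * (Additive.toMul b : ↥N)⁆ =
          mk ⁅((Additive.toMul x : ↥X₁) : G), ((Additive.toMul a : ↥N) : G)⁆ *
          mk ⁅((Additive.toMul x : ↥X₁) : G), ((Additive.toMul b : ↥N) : G)⁆
        have e : ∀ x a b : G, ⁅x, a * b⁆ = ⁅x, a⁆ * (a * ⁅x, b⁆ * a⁻¹) := fun x a b => by
          simp only [commutatorElement_def]; group
        rw [e, map_mul, hPM _ (hQP (hNQ (Additive.toMul a).2)) _
          ((mem_inf.1 (Additive.toMul x : ↥X₁).2).2 _ (Additive.toMul b : ↥N).2)]))))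
      (fun x y => AddMonoidHom.ext fun a => Additive.toMul.injective (Subtype.ext (by
        show mk ⁅((Additive.toMul x : ↥X₁) : G) * (Additive.toMul y : ↥X₁), ((Additive.toMul a : ↥N) : G)⁆ =
          mk ⁅((Additive.toMul x : ↥X₁) : G), ((Additive.toMul a : ↥N) : G)⁆ *
          mk ⁅((Additive.toMul y : ↥X₁) : G), ((Additive.toMul a : ↥N) : G)⁆
        have e : ∀ x y a : G, ⁅x * y, a⁆ = x * ⁅y, a⁆ * x⁻¹ * ⁅x, a⁆ := fun x y a => by
          simp only [commutatorElement_def]; group
        have hx1 : mk ⁅((Additive.toMul x : ↥X₁) : G), ((Additive.toMul a : ↥N) : G)⁆ ∈ Ub := hpairmem _ _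
        have hy1 : mk ⁅((Additive.toMul y : ↥X₁) : G), ((Additive.toMul a : ↥N) : G)⁆ ∈ Ub := hpairmem _ _
        rw [e, map_mul, hPM _ (hXP (mem_inf.1 (mem_inf.1 (Additive.toMul x : ↥X₁).2).1).1) _
          ((mem_inf.1 (Additive.toMul y : ↥X₁).2).2 _ (Additive.toMul a : ↥N).2)]
        exact congrArg Subtype.val (mul_comm (⟨_, hy1⟩ : ↥Ub) ⟨_, hx1⟩))))
  let fX : Additive ↥X₁ → Additive ↥X₁ := fun x =>
    Additive.ofMul (MulAut.conjNormal (H := X₁) g (Additive.toMul x)) - x
  have hval : ∀ (k : ℕ) (x : Additive ↥X₁),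
      ((Additive.toMul (fX^[k] x) : ↥X₁) : G) = f^[k] ((Additive.toMul x : ↥X₁) : G) := by
    intro k
    induction k with
    | zero => intro x; rfl
    | succ k ih =>
      intro x
      rw [Function.iterate_succ_apply', Function.iterate_succ_apply', ← ih]
      simp [fX, hf, div_eq_mul_inv]
  have hstep : ∀ x, β (fX x) = (post * pre - 1) (β x) := by
    intro x
    show β (_ - x) = post (pre (β x)) - β x
    rw [map_sub]
    congr 1
    refine AddMonoidHom.ext fun a => Additive.toMul.injective (Subtype.ext ?_)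
    show mk ⁅((MulAut.conjNormal (H := X₁) g (Additive.toMul x) : ↥X₁) : G), ((Additive.toMul a : ↥N) : G)⁆ =
      ((MulAut.conjNormal (H := Ub) (mk g) ⟨mk ⁅((Additive.toMul x : ↥X₁) : G),
        ((MulAut.conjNormal (H := N) g⁻¹ (Additive.toMul a) : ↥N) : G)⁆, hpairmem _ _⟩ : ↥Ub) : G ⧸ M')
    simp only [MulAut.conjNormal_apply]
    rw [← map_conj_mem]
    congr 1
    simp only [commutatorElement_def]; group
  have hiter : ∀ (k : ℕ) x, β (fX^[k] x) = ((post * pre - 1) ^ k) (β x) := by
    intro k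
    induction k with
    | zero => intro x; rfl
    | succ k ih =>
      intro x
      rw [Function.iterate_succ_apply', hstep, ih, pow_succ']
      rfl
  -- the two degrees
  have hpre : ∀ k ≥ i, ∀ x, ((pre - 1) ^ k) (β x) = 0 := by
    have e : ∀ (k : ℕ) (h : Hom) (a : Additive ↥N), (((pre - 1) ^ k) h) a =
        h ((fun b => c b - b)^[k] a) := by
      intro k
      induction k with
      | zero => intro h a; rfl
      | succ k ih =>
        intro h a
        rw [pow_succ, Function.iterate_succ_apply']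
        show (((pre - 1) ^ k) ((pre - 1) h)) a = _
        rw [ih]
        show h (c _) - h _ = _
        rw [map_sub]
    intro k hk x
    refine AddMonoidHom.ext fun a => ?_
    rw [e, ← Nat.sub_add_cancel hk, Function.iterate_add_apply]
    set a' := (fun b => c b - b)^[i] a with ha'
    have hv : ∀ (k : ℕ) (b : Additive ↥N), ((Additive.toMul ((fun b => c b - b)^[k] b) : ↥N) : G) =
        (fun y => g⁻¹ * y * g⁻¹⁻¹ * y⁻¹)^[k] ((Additive.toMul b : ↥N) : G) := by
      intro k
      induction k with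
      | zero => intro b; rfl
      | succ k ih =>
        intro b
        rw [Function.iterate_succ_apply', Function.iterate_succ_apply', ← ih]
        simp [c, div_eq_mul_inv]
    have hN' : ∀ b : Additive ↥N, ((Additive.toMul b : ↥N) : G) ∈ N' → β x b = 0 := by
      intro b hb
      refine Additive.toMul.injective (Subtype.ext ?_)
      show mk ⁅((Additive.toMul x : ↥X₁) : G), ((Additive.toMul b : ↥N) : G)⁆ = 1
      have : ⁅((Additive.toMul x : ↥X₁) : G), ((Additive.toMul b : ↥N) : G)⁆ = 1 :=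
        commutatorElement_eq_one_iff_mul_comm.2
          (mem_centralizer_iff.1 (mem_inf.1 (mem_inf.1 (Additive.toMul x : ↥X₁).2).1).2 _ hb).symm
      rw [this, map_one]
    refine hN' _ ?_
    have h1 : ((Additive.toMul a' : ↥N) : G) ∈ N' := by
      rw [ha', hv]
      have := iterate_mem_iterCommutator N g⁻¹ i (Additive.toMul a).2
      rw [zpowers_inv] at this
      exact hQi N N' hN hNQ this
    have hr : ∀ (r : ℕ) (b : Additive ↥N), ((Additive.toMul b : ↥N) : G) ∈ N' →
        ((Additive.toMul ((fun b => c b - b)^[r] b) : ↥N) : G) ∈ N' := by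
      intro r
      induction r with
      | zero => exact fun b hb => hb
      | succ r ih =>
        intro b hb
        rw [Function.iterate_succ_apply']
        have h2 := ih b hb
        set d := (fun b => c b - b)^[r] b
        show ((Additive.toMul (c d - d) : ↥N) : G) ∈ N'
        simp only [c, toMul_sub, Subgroup.coe_div, div_eq_mul_inv]
        refine mul_mem ?_ (inv_mem h2)
        simpa using hN.2.2.1.conj_mem _ h2 g⁻¹
    exact hr _ a' h1
  have hpost : ∀ k ≥ j, ∀ x, ((post - 1) ^ k) (β x) = 0 := by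
    have e : ∀ (k : ℕ) (h : Hom) (a : Additive ↥N), (((post - 1) ^ k) h) a =
        (fun u => γ u - u)^[k] (h a) := by
      intro k
      induction k with
      | zero => intro h a; rfl
      | succ k ih =>
        intro h a
        rw [pow_succ', Function.iterate_succ_apply', ← ih]
        rfl
    intro k hk x
    refine AddMonoidHom.ext fun a => ?_
    rw [e, ← Nat.sub_add_cancel hk, Function.iterate_add_apply]
    have hv : ∀ (k : ℕ) (m : G) (hm : m ∈ M),
        (fun u => γ u - u)^[k] (Additive.ofMul (⟨mk m, mem_map_of_mem mk hm⟩ : ↥Ub)) =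
          Additive.ofMul (⟨mk (f^[k] m), mem_map_of_mem mk (by
            induction k with
            | zero => exact hm
            | succ k ih =>
              rw [Function.iterate_succ_apply']
              exact mul_mem (hMn.conj_mem _ ih g) (inv_mem ih))⟩ : ↥Ub) := by
      intro k
      induction k with
      | zero => intro m hm; rfl
      | succ k ih =>
        intro m hm
        refine Additive.toMul.injective (Subtype.ext ?_)
        rw [Function.iterate_succ_apply']
        simp only [ih m hm, γ]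
        simp [hf, Function.iterate_succ_apply', div_eq_mul_inv]
    have h0 : (fun u => γ u - u)^[j] (β x a) = 0 := by
      show (fun u => γ u - u)^[j] (Additive.ofMul ⟨mk _, _⟩) = 0
      rw [hv j _ ((mem_inf.1 (Additive.toMul x : ↥X₁).2).2 _ (Additive.toMul a : ↥N).2)]
      refine Additive.toMul.injective (Subtype.ext ?_)
      exact (QuotientGroup.eq_one_iff _).2
        (hZj M M' hM hMZ (iterate_mem_iterCommutator M g j
          ((mem_inf.1 (Additive.toMul x : ↥X₁).2).2 _ (Additive.toMul a : ↥N).2)))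
    rw [h0]
    generalize k - j = r
    induction r with
    | zero => rfl
    | succ r ih => rw [Function.iterate_succ_apply', ih]; simp
  have hpp : Commute post pre := AddMonoidHom.ext fun h => rfl
  have hzero : ∀ x, ((post * pre - 1) ^ (i + j - 1)) (β x) = 0 := by
    intro x
    have ea : post * pre - 1 = (post - 1) * pre + (pre - 1) := by
      rw [sub_mul, one_mul]; abel
    have hc1 : Commute (post - 1) pre := hpp.sub_left (Commute.one_left _)
    have hc2 : Commute ((post - 1) * pre) (pre - 1) :=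
      ((hc1.sub_right (Commute.one_right _))).mul_left ((Commute.refl pre).sub_right (Commute.one_right _))
    rw [ea, hc2.add_pow]
    show AddMonoidHom.eval (β x) (∑ m ∈ Finset.range (i + j - 1 + 1),
      ((post - 1) * pre) ^ m * (pre - 1) ^ (i + j - 1 - m) * ((i + j - 1).choose m : AddMonoid.End Hom)) = 0
    rw [map_sum]
    refine Finset.sum_eq_zero fun m hm => ?_
    show (((post - 1) * pre) ^ m * (pre - 1) ^ (i + j - 1 - m))
      (((i + j - 1).choose m : AddMonoid.End Hom) (β x)) = 0
    rw [AddMonoid.End.natCast_apply, map_nsmul]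
    refine smul_eq_zero_of_right _ ?_
    by_cases hmj : j ≤ m
    · rw [hc1.mul_pow, mul_assoc, ((hc1.pow_pow m m).mul_right
        ((hc1.sub_right (Commute.one_right _)).pow_pow m (i + j - 1 - m))).eq]
      show (pre ^ m * (pre - 1) ^ (i + j - 1 - m)) (((post - 1) ^ m) (β x)) = 0
      rw [hpost m hmj x, map_zero]
    · show (((post - 1) * pre) ^ m) (((pre - 1) ^ (i + j - 1 - m)) (β x)) = 0
      rw [hpre _ (by omega) x, map_zero]
  intro x hx
  refine hM'V (mem_inf.2 ⟨?_, fun a ha => ?_⟩)
  · have := (mem_inf.1 (Additive.toMul (fX^[i + j - 1] (Additive.ofMul (⟨x, hx⟩ : ↥X₁))) : ↥X₁).2).1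
    rwa [hval] at this
  · have h1 := congrArg (fun h : Hom => h (Additive.ofMul (⟨a, ha⟩ : ↥N)))
      ((hiter (i + j - 1) (Additive.ofMul (⟨x, hx⟩ : ↥X₁))).trans (hzero _))
    have h2 := congrArg (fun u : Additive ↥Ub => ((Additive.toMul u : ↥Ub) : G ⧸ M')) h1
    refine (QuotientGroup.eq_one_iff _).1 ?_
    have hv := hval (i + j - 1) (Additive.ofMul (⟨x, hx⟩ : ↥X₁))
    exact (congrArg (fun z => mk ⁅z, a⁆) hv).symm.trans h2

end Cfsg.Lib.Sig
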