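import Cfsg.Prelude.Def_ConjugacyFunctors
import Cfsg.Agent.Lib.Core.Basic
import Mathlib.GroupTheory.Nilpotent

/-!
The families and the sequence that define the K-infinity subgroups of a finite p-group.
-/

set_option autoImplicit false

namespace Cfsg.Lib.Sig

open Subgroup

section

variable {P : Type*} [Group P]

theorem kUpperStarFamily_anti {Q R : Subgroup P} (h : Q ≤ R) :
    Cfsg.kUpperStarFamily R ⊆ Cfsg.kUpperStarFamily Q :=
  fun _ hB => ⟨hB.1, (commutator_mono le_rfl h).trans hB.2⟩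

theorem kLowerStarFamily_anti {Q R : Subgroup P} (h : Q ≤ R) :
    Cfsg.kLowerStarFamily R ⊆ Cfsg.kLowerStarFamily Q :=
  fun _ hB => ⟨hB.1, h.trans hB.2.1, fun A hA hAQ => hB.2.2 A hA (hAQ.trans h)⟩

theorem sSup_kUpper_anti {Q R : Subgroup P} (h : Q ≤ R) :
    sSup (Cfsg.kUpperStarFamily R) ≤ sSup (Cfsg.kUpperStarFamily Q) :=
  sSup_le_sSup (kUpperStarFamily_anti h)

theorem sSup_kLower_anti {Q R : Subgroup P} (h : Q ≤ R) :
    sSup (Cfsg.kLowerStarFamily R) ≤ sSup (Cfsg.kLowerStarFamily Q) :=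
  sSup_le_sSup (kLowerStarFamily_anti h)

theorem kSeqOdd_succ_le (n : ℕ) : Cfsg.kSeqOdd P (n + 1) ≤ Cfsg.kSeqOdd P n := by
  induction n with
  | zero => exact le_top
  | succ n ih => exact sSup_kUpper_anti (sSup_kLower_anti ih)

theorem kSeqOdd_antitone : Antitone (Cfsg.kSeqOdd P) := antitone_nat_of_succ_le kSeqOdd_succ_le

theorem kSeqEven_le_succ (n : ℕ) : Cfsg.kSeqEven P n ≤ Cfsg.kSeqEven P (n + 1) :=
  sSup_kLower_anti (kSeqOdd_succ_le n)

theorem kSeqEven_monotone : Monotone (Cfsg.kSeqEven P) := monotone_nat_of_le_succ kSeqEven_le_succ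

theorem kSeqOdd_succ_eq (n : ℕ) :
    Cfsg.kSeqOdd P (n + 1) = sSup (Cfsg.kUpperStarFamily (Cfsg.kSeqEven P n)) := rfl

theorem kSeq_stabilize [Finite P] :
    ∃ n : ℕ, ∀ m : ℕ, n ≤ m →
      Cfsg.kSeqEven P m = Cfsg.kInfLower P ∧ Cfsg.kSeqOdd P m = Cfsg.kInfUpper P := by
  obtain ⟨_, ⟨a, rfl⟩, ha⟩ :=
    (Set.toFinite (Set.range (Cfsg.kSeqEven P))).exists_maximal (Set.range_nonempty _)
  obtain ⟨_, ⟨b, rfl⟩, hb⟩ :=
    (Set.toFinite (Set.range (Cfsg.kSeqOdd P))).exists_minimal (Set.range_nonempty _)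
  refine ⟨max a b, fun m hm => ⟨?_, ?_⟩⟩
  · have hle : ∀ k, Cfsg.kSeqEven P k ≤ Cfsg.kSeqEven P m := fun k =>
      (kSeqEven_monotone (le_max_left k m)).trans <|
        (ha (Set.mem_range_self _) (kSeqEven_monotone (show a ≤ max k m by omega))).trans
          (kSeqEven_monotone (show a ≤ m by omega))
    exact le_antisymm (le_iSup (Cfsg.kSeqEven P) m) (iSup_le hle)
  · have hle : ∀ k, Cfsg.kSeqOdd P m ≤ Cfsg.kSeqOdd P k := fun k =>
      (kSeqOdd_antitone (show b ≤ m by omega)).trans <|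
        (hb (Set.mem_range_self _) (kSeqOdd_antitone (show b ≤ max k m by omega))).trans
          (kSeqOdd_antitone (le_max_left k m))
    exact le_antisymm (le_iInf hle) (iInf_le (Cfsg.kSeqOdd P) m)

theorem abelian_normal_mem_kFamilies (A : Subgroup P) [A.Normal] (hA : IsMulCommutative ↥A)
    (Q : Subgroup P) :
    A ∈ Cfsg.classTwoSubgroups P ∧ A ∈ Cfsg.kLowerStarFamily Q ∧ A ∈ Cfsg.kUpperStarFamily Q := by
  have hc : A ≤ centralizer (A : Set P) := fun x hx => mem_centralizer_iff.2 fun y hy =>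
    congrArg Subtype.val (mul_comm' (⟨y, hy⟩ : A) ⟨x, hx⟩)
  have h2 : A ∈ Cfsg.classTwoSubgroups P := (commutator_le_left A A).trans hc
  refine ⟨h2, ⟨h2, ?_, fun B _ _ _ _ _ => ?_⟩, h2, ?_⟩
  · rw [normalizer_eq_top_iff.2 ‹A.Normal›]; exact le_top
  · exact le_inf (commutator_le_left A B) ((commutator_le_left A B).trans hc)
  · exact le_inf (commutator_le_left A Q) ((commutator_le_left A Q).trans hc)

theorem bot_mem_classTwo : (⊥ : Subgroup P) ∈ Cfsg.classTwoSubgroups P := by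
  simp [Cfsg.classTwoSubgroups]

theorem bot_mem_kUpper (Q : Subgroup P) : (⊥ : Subgroup P) ∈ Cfsg.kUpperStarFamily Q :=
  (abelian_normal_mem_kFamilies ⊥ inferInstance Q).2.2

theorem bot_mem_kLower (Q : Subgroup P) : (⊥ : Subgroup P) ∈ Cfsg.kLowerStarFamily Q :=
  (abelian_normal_mem_kFamilies ⊥ inferInstance Q).2.1

theorem le_normalizer_of_forall_conj {B Q : Subgroup P}
    (h : ∀ q ∈ Q, ∀ b ∈ B, q * b * q⁻¹ ∈ B) : Q ≤ normalizer (B : Set P) := by
  intro q hq
  refine mem_normalizer_iff.2 fun b => ⟨h q hq b, fun hb => ?_⟩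
  simpa [mul_assoc] using h q⁻¹ (inv_mem hq) _ hb

/-- One can enlarge `B` by an element of `C(B)` on which a given `Q ≤ N(B)` acts trivially modulo `Z(B)`. -/
theorem exists_centralizer_commutator_mem [Group.IsNilpotent P] {B Q : Subgroup P}
    (hQ : Q ≤ normalizer (B : Set P)) (hC : ¬ centralizer (B : Set P) ≤ B) :
    ∃ x ∈ centralizer (B : Set P), x ∉ B ∧
      ∀ q ∈ Q, x * q * x⁻¹ * q⁻¹ ∈ B ⊓ centralizer (B : Set P) := by
  set C := centralizer (B : Set P) with hCdef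
  have hQC : Q ≤ normalizer (C : Set P) := fun q hq =>
    mem_normalizer_iff.2 fun c => by
      have key : ∀ (q' : P), q' ∈ normalizer (B : Set P) → ∀ c ∈ C, q' * c * q'⁻¹ ∈ C := by
        intro q' hq' c hc
        refine mem_centralizer_iff.2 fun b hb => ?_
        have h1 : q'⁻¹ * b * q' ∈ B := by
          simpa using (mem_normalizer_iff.1 (inv_mem hq') b).1 hb
        have h2 := mem_centralizer_iff.1 hc _ h1
        calc b * (q' * c * q'⁻¹) = q' * ((q'⁻¹ * b * q') * c) * q'⁻¹ := by group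
          _ = q' * (c * (q'⁻¹ * b * q')) * q'⁻¹ := by rw [h2]
          _ = (q' * c * q'⁻¹) * b := by group
      refine ⟨key q (hQ hq) c, fun h => ?_⟩
      simpa [mul_assoc] using key q⁻¹ (inv_mem (hQ hq)) _ h
  let f : Subgroup P → Subgroup P := fun H => ⁅H, Q⁆
  have hfC : ∀ i, (f^[i]) C ≤ C := by
    intro i
    induction i with
    | zero => exact le_rfl
    | succ i ih =>
      rw [Function.iterate_succ_apply']
      refine commutator_le.2 fun c hc q hq => ?_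
      have := (mem_normalizer_iff.1 (hQC hq) c⁻¹).1 (inv_mem (ih hc))
      have h2 := mul_mem (ih hc) this
      rw [commutatorElement_def]
      simpa [mul_assoc] using h2
  have hflcs : ∀ i, (f^[i]) C ≤ Subgroup.lowerCentralSeries (⊤ : Subgroup P) i := by
    intro i
    induction i with
    | zero => exact le_top
    | succ i ih =>
      rw [Function.iterate_succ_apply', Subgroup.lowerCentralSeries_succ]
      exact commutator_mono ih le_top
  classical
  obtain ⟨N, hN⟩ := (Subgroup.isNilpotent_iff_lowerCentralSeries (⊤ : Subgroup P)).1 inferInstance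
  have hex : ∃ i, (f^[i]) C ≤ B := ⟨N, (hflcs N).trans (hN.le.trans bot_le)⟩
  have hne : Nat.find hex ≠ 0 := fun h0 => hC (by simpa [h0] using Nat.find_spec hex)
  obtain ⟨i, hi⟩ := Nat.exists_eq_succ_of_ne_zero hne
  obtain ⟨x, hx, hxB⟩ := SetLike.not_le_iff_exists.1 (Nat.find_min hex (m := i) (by omega))
  refine ⟨x, hfC i hx, hxB, fun q hq => ?_⟩
  have h1 : x * q * x⁻¹ * q⁻¹ ∈ (f^[i + 1]) C := by
    rw [Function.iterate_succ_apply', ← commutatorElement_def]
    exact commutator_mem_commutator hx hq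
  exact ⟨hi ▸ Nat.find_spec hex <| h1, hfC _ h1⟩

/-- Adjoining to `B` a suitable element centralizing it stays in each K-family. -/
theorem sup_zpowers_props {B : Subgroup P} (hB : B ∈ Cfsg.classTwoSubgroups P) {x : P}
    (hx : x ∈ centralizer (B : Set P)) :
    B ⊔ zpowers x ∈ Cfsg.classTwoSubgroups P ∧
      B ⊓ centralizer (B : Set P) ≤
        (B ⊔ zpowers x) ⊓ centralizer ((B ⊔ zpowers x : Subgroup P) : Set P) ∧
      ∀ A : Subgroup P, ⁅B, A⁆ ≤ B ⊓ centralizer (B : Set P) →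
        (∀ a ∈ A, x * a * x⁻¹ * a⁻¹ ∈ B ⊓ centralizer (B : Set P)) →
        ⁅B ⊔ zpowers x, A⁆ ≤
          (B ⊔ zpowers x) ⊓ centralizer ((B ⊔ zpowers x : Subgroup P) : Set P) := by
  set B' := B ⊔ zpowers x with hB'
  set Z' := B' ⊓ centralizer (B' : Set P) with hZ'
  have hZ : B ⊓ centralizer (B : Set P) ≤ Z' := by
    intro z hz
    refine ⟨mem_sup_left hz.1, ?_⟩
    have hle : B' ≤ centralizer ({z} : Set P) := by
      refine sup_le (fun b hb => mem_centralizer_singleton_iff.2 (mem_centralizer_iff.1 hz.2 b hb)) ?_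
      rw [zpowers_le]
      exact mem_centralizer_singleton_iff.2 (mem_centralizer_iff.1 hx z hz.1).symm
    exact mem_centralizer_iff.2 fun b hb => mem_centralizer_singleton_iff.1 (hle hb)
  have key : ∀ A : Subgroup P, ⁅B, A⁆ ≤ Z' → (∀ a ∈ A, x * a * x⁻¹ * a⁻¹ ∈ Z') → ⁅B', A⁆ ≤ Z' := by
    intro A hBA hxA
    refine commutator_le.2 fun b hb a ha => ?_
    let S : Subgroup P :=
      { carrier := {b | b ∈ B' ∧ b * a * b⁻¹ * a⁻¹ ∈ Z'}
        one_mem' := ⟨one_mem _, by simp⟩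
        mul_mem' := by
          rintro u v ⟨hu, hu2⟩ ⟨hv, hv2⟩
          refine ⟨mul_mem hu hv, ?_⟩
          have hc : u * (v * a * v⁻¹ * a⁻¹) = (v * a * v⁻¹ * a⁻¹) * u := mem_centralizer_iff.1 hv2.2 u hu
          have : u * v * a * (u * v)⁻¹ * a⁻¹ = (v * a * v⁻¹ * a⁻¹) * (u * a * u⁻¹ * a⁻¹) := by
            calc u * v * a * (u * v)⁻¹ * a⁻¹ = u * (v * a * v⁻¹ * a⁻¹) * (a * u⁻¹ * a⁻¹) := by group
              _ = (v * a * v⁻¹ * a⁻¹) * u * (a * u⁻¹ * a⁻¹) := by rw [hc]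
              _ = (v * a * v⁻¹ * a⁻¹) * (u * a * u⁻¹ * a⁻¹) := by group
          rw [this]
          exact mul_mem hv2 hu2
        inv_mem' := by
          rintro u ⟨hu, hu2⟩
          refine ⟨inv_mem hu, ?_⟩
          have hc : u⁻¹ * (u * a * u⁻¹ * a⁻¹) = (u * a * u⁻¹ * a⁻¹) * u⁻¹ :=
            mem_centralizer_iff.1 hu2.2 _ (inv_mem hu)
          have : u⁻¹ * a * (u⁻¹)⁻¹ * a⁻¹ = (u * a * u⁻¹ * a⁻¹)⁻¹ := by
            calc u⁻¹ * a * (u⁻¹)⁻¹ * a⁻¹ = u⁻¹ * (u * a * u⁻¹ * a⁻¹)⁻¹ * u := by group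
              _ = (u * a * u⁻¹ * a⁻¹)⁻¹ * u⁻¹ * u := by
                rw [show u⁻¹ * (u * a * u⁻¹ * a⁻¹)⁻¹ = (u * a * u⁻¹ * a⁻¹)⁻¹ * u⁻¹ from
                  Commute.inv_right hc]
              _ = (u * a * u⁻¹ * a⁻¹)⁻¹ := by group
          rw [this]
          exact inv_mem hu2 }
    have hle : B' ≤ S := sup_le
      (fun b hb => ⟨mem_sup_left hb, by
        rw [← commutatorElement_def]; exact hBA (commutator_mem_commutator hb ha)⟩)
      (zpowers_le.2 ⟨mem_sup_right (mem_zpowers x), hxA a ha⟩)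
    rw [commutatorElement_def]
    exact (hle hb).2
  refine ⟨?_, hZ, fun A hBA hxA => key A (hBA.trans hZ) fun a ha => hZ (hxA a ha)⟩
  have hBB : ⁅B, B⁆ ≤ Z' :=
    (le_inf (commutator_le.2 fun a ha b hb => by
      rw [commutatorElement_def]
      exact mul_mem (mul_mem (mul_mem ha hb) (inv_mem ha)) (inv_mem hb)) hB).trans hZ
  have h1 : ⁅B', B⁆ ≤ Z' := key B hBB fun a ha => by
    rw [show x * a = a * x from (mem_centralizer_iff.1 hx a ha).symm]
    simp
  have h2 : ⁅B', B'⁆ ≤ Z' := key B' ((commutator_comm B B').le.trans h1) fun a ha => by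
    have hle : B' ≤ centralizer ({x} : Set P) := by
      refine sup_le (fun b hb => mem_centralizer_singleton_iff.2 (mem_centralizer_iff.1 hx b hb)) ?_
      rw [zpowers_le]
      exact mem_centralizer_singleton_iff.2 rfl
    rw [show x * a = a * x from (mem_centralizer_singleton_iff.1 (hle ha)).symm]
    simp
  exact h2.trans inf_le_right

theorem upper_le_normalizer {B Q : Subgroup P} (hB : B ∈ Cfsg.kUpperStarFamily Q) :
    Q ≤ normalizer (B : Set P) := by
  refine le_normalizer_of_forall_conj fun q hq b hb => ?_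
  have h : q * b * q⁻¹ * b⁻¹ ∈ B := by
    have := hB.2 ((commutator_comm Q B).le (commutator_mem_commutator hq hb))
    rw [← commutatorElement_def]; exact this.1
  simpa using mul_mem h hb

theorem centralizer_le_of_maximal_kUpper [Group.IsNilpotent P] {B Q : Subgroup P}
    (hB : B ∈ Cfsg.kUpperStarFamily Q)
    (hmax : ∀ C ∈ Cfsg.kUpperStarFamily Q, B ≤ C → C = B) :
    centralizer (B : Set P) ≤ B := by
  by_contra hC
  obtain ⟨x, hx, hxB, hxQ⟩ := exists_centralizer_commutator_mem (upper_le_normalizer hB) hC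
  obtain ⟨h2, -, h3⟩ := sup_zpowers_props hB.1 hx
  have := hmax _ ⟨h2, h3 Q hB.2 hxQ⟩ le_sup_left
  exact hxB (this ▸ mem_sup_right (mem_zpowers x))

theorem centralizer_le_of_maximal_kLower [Group.IsNilpotent P] {B Q : Subgroup P}
    (hB : B ∈ Cfsg.kLowerStarFamily Q)
    (hmax : ∀ C ∈ Cfsg.kLowerStarFamily Q, B ≤ C → C = B) :
    centralizer (B : Set P) ≤ B := by
  by_contra hC
  obtain ⟨x, hx, hxB, hxQ⟩ := exists_centralizer_commutator_mem hB.2.1 hC
  obtain ⟨h2, hZ, h3⟩ := sup_zpowers_props hB.1 hx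
  have hnorm : Q ≤ normalizer ((B ⊔ zpowers x : Subgroup P) : Set P) := by
    refine le_normalizer_of_forall_conj fun q hq b hb => ?_
    have hle : B ⊔ zpowers x ≤ (B ⊔ zpowers x).comap (MulAut.conj q).toMonoidHom := by
      refine sup_le (fun c hc => mem_sup_left ?_) (zpowers_le.2 ?_)
      · exact (mem_normalizer_iff.1 (hB.2.1 hq) c).1 hc
      · have h := (hxQ q hq).1
        show q * x * q⁻¹ ∈ B ⊔ zpowers x
        have : q * x * q⁻¹ = (x * q * x⁻¹ * q⁻¹)⁻¹ * x := by group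
        rw [this]
        exact mul_mem (mem_sup_left (inv_mem h)) (mem_sup_right (mem_zpowers x))
    exact hle hb
  have hmem : B ⊔ zpowers x ∈ Cfsg.kLowerStarFamily Q := by
    refine ⟨h2, hnorm, fun A hA hAQ hN hBA hZA => h3 A ?_ fun a ha => hxQ a (hAQ ha)⟩
    refine hB.2.2 A hA hAQ (le_sup_left.trans hN) ?_ ?_
    · exact eq_bot_iff.2 ((commutator_mono le_sup_left le_rfl).trans hBA.le)
    · exact eq_bot_iff.2 ((commutator_mono (commutator_mono hZ le_rfl) le_rfl).trans hZA.le)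
  have := hmax _ hmem le_sup_left
  exact hxB (this ▸ mem_sup_right (mem_zpowers x))

theorem centralizer_sSup_le [Finite P] (𝒦 : Set (Subgroup P)) (hne : 𝒦.Nonempty)
    (h : ∀ B ∈ 𝒦, (∀ C ∈ 𝒦, B ≤ C → C = B) → centralizer (B : Set P) ≤ B) :
    centralizer ((sSup 𝒦 : Subgroup P) : Set P) ≤ sSup 𝒦 := by
  obtain ⟨B, hB, hmax⟩ := (Set.toFinite 𝒦).exists_maximal hne
  exact (centralizer_le (SetLike.coe_subset_coe.2 (le_sSup hB))).trans <|
    (h B hB fun C hC hBC => le_antisymm (hmax hC hBC) hBC).trans (le_sSup hB)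

end

section Subgroup

variable {P : Type*} [Group P] {Q : Subgroup P}

theorem map_subtype_le_iff {A B : Subgroup ↥Q} : A.map Q.subtype ≤ B.map Q.subtype ↔ A ≤ B :=
  map_le_map_iff_of_injective Q.subtype_injective

theorem map_subtype_center (B : Subgroup ↥Q) :
    (B ⊓ centralizer (B : Set ↥Q)).map Q.subtype =
      B.map Q.subtype ⊓ centralizer ((B.map Q.subtype : Subgroup P) : Set P) := by
  ext x
  simp only [mem_map, mem_inf, coe_subtype]
  constructor
  · rintro ⟨y, ⟨hy, hy2⟩, rfl⟩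
    refine ⟨⟨y, hy, rfl⟩, mem_centralizer_iff.2 ?_⟩
    rintro _ ⟨z, hz, rfl⟩
    exact congrArg Subtype.val (mem_centralizer_iff.1 hy2 z hz)
  · rintro ⟨⟨y, hy, rfl⟩, h2⟩
    exact ⟨y, ⟨hy, mem_centralizer_iff.2 fun z hz =>
      Subtype.ext (mem_centralizer_iff.1 h2 _ ⟨z, hz, rfl⟩)⟩, rfl⟩

theorem mem_classTwo_map_iff {B : Subgroup ↥Q} :
    B ∈ Cfsg.classTwoSubgroups ↥Q ↔ B.map Q.subtype ∈ Cfsg.classTwoSubgroups P := by
  simp only [Cfsg.classTwoSubgroups, Set.mem_ofPred_eq, ← map_commutator]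
  constructor
  · intro h x hx
    obtain ⟨y, hy, rfl⟩ := mem_map.1 hx
    refine mem_centralizer_iff.2 ?_
    rintro _ ⟨z, hz, rfl⟩
    exact congrArg Subtype.val (mem_centralizer_iff.1 (h hy) z hz)
  · intro h x hx
    exact mem_centralizer_iff.2 fun z hz =>
      Subtype.ext (mem_centralizer_iff.1 (h (mem_map_of_mem _ hx)) _ (mem_map_of_mem _ hz))

theorem mem_kUpper_map_iff {B R : Subgroup ↥Q} :
    B ∈ Cfsg.kUpperStarFamily R ↔ B.map Q.subtype ∈ Cfsg.kUpperStarFamily (R.map Q.subtype) := by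
  simp only [Cfsg.kUpperStarFamily, Set.mem_ofPred_eq, mem_classTwo_map_iff, ← map_commutator,
    ← map_subtype_center, map_subtype_le_iff]

theorem map_le_normalizer_map_iff {B R : Subgroup ↥Q} :
    R ≤ normalizer (B : Set ↥Q) ↔
      R.map Q.subtype ≤ normalizer ((B.map Q.subtype : Subgroup P) : Set P) := by
  constructor
  · exact fun h => (map_mono h).trans (le_normalizer_map Q.subtype)
  · intro h r hr
    have h2 := h (mem_map_of_mem Q.subtype hr)
    refine mem_normalizer_iff.2 fun b => ?_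
    have h3 := mem_normalizer_iff.1 h2 (b : P)
    have e : ∀ b : ↥Q, (b : P) ∈ B.map Q.subtype ↔ b ∈ B := fun b =>
      mem_map_iff_mem Q.subtype_injective
    rw [← e b, h3, ← e (r * b * r⁻¹)]
    simp

theorem mem_kLower_map_iff {B R : Subgroup ↥Q} :
    B ∈ Cfsg.kLowerStarFamily R ↔ B.map Q.subtype ∈ Cfsg.kLowerStarFamily (R.map Q.subtype) := by
  simp only [Cfsg.kLowerStarFamily, Set.mem_ofPred_eq, ← mem_classTwo_map_iff,
    ← map_le_normalizer_map_iff, ← map_subtype_center]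
  refine and_congr_right fun _ => and_congr_right fun _ => ⟨?_, ?_⟩
  · intro h A hA hAR hN h1 h2
    obtain ⟨A', rfl⟩ : ∃ A' : Subgroup ↥Q, A'.map Q.subtype = A :=
      ⟨A.subgroupOf Q, map_subgroupOf_eq_of_le (hAR.trans (map_subtype_le R))⟩
    rw [← mem_classTwo_map_iff] at hA
    rw [← map_le_normalizer_map_iff] at hN
    rw [← map_commutator, ← map_commutator, map_eq_bot_iff_of_injective _ Q.subtype_injective] at h1 h2
    rw [← map_commutator]
    exact map_mono (h A' hA (map_subtype_le_iff.1 hAR) hN h1 h2)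
  · intro h A hA hAR hN h1 h2
    have := h (A.map Q.subtype) (mem_classTwo_map_iff.1 hA) (map_mono hAR)
      (map_le_normalizer_map_iff.1 hN)
      (by rw [← map_commutator, ← map_commutator, h1, Subgroup.map_bot])
      (by rw [← map_commutator, ← map_commutator, h2, Subgroup.map_bot])
    rwa [← map_commutator, map_subtype_le_iff] at this

theorem map_sSup_kUpper (R : Subgroup ↥Q) :
    (sSup (Cfsg.kUpperStarFamily R)).map Q.subtype =
      sSup {B ∈ Cfsg.kUpperStarFamily (R.map Q.subtype) | B ≤ Q} := by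
  refine le_antisymm ?_ (sSup_le fun B hB => ?_)
  · rw [map_le_iff_le_comap]
    refine sSup_le fun B hB => map_le_iff_le_comap.1 (le_sSup ?_)
    exact ⟨mem_kUpper_map_iff.1 hB, map_subtype_le B⟩
  · rw [← map_subgroupOf_eq_of_le hB.2]
    refine map_mono (le_sSup ?_)
    rw [mem_kUpper_map_iff, map_subgroupOf_eq_of_le hB.2]
    exact hB.1

theorem map_sSup_kLower (R : Subgroup ↥Q) :
    (sSup (Cfsg.kLowerStarFamily R)).map Q.subtype =
      sSup {B ∈ Cfsg.kLowerStarFamily (R.map Q.subtype) | B ≤ Q} := by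
  refine le_antisymm ?_ (sSup_le fun B hB => ?_)
  · rw [map_le_iff_le_comap]
    refine sSup_le fun B hB => map_le_iff_le_comap.1 (le_sSup ?_)
    exact ⟨mem_kLower_map_iff.1 hB, map_subtype_le B⟩
  · rw [← map_subgroupOf_eq_of_le hB.2]
    refine map_mono (le_sSup ?_)
    rw [mem_kLower_map_iff, map_subgroupOf_eq_of_le hB.2]
    exact hB.1

theorem kSeq_interleave (hQ : ∀ n : ℕ, Cfsg.kSeqEven P n ≤ Q ∧ Cfsg.kSeqOdd P (n + 1) ≤ Q) (n : ℕ) :
    Cfsg.kSeqOdd P (n + 1) ≤ (Cfsg.kSeqOdd ↥Q n).map Q.subtype ∧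
      (Cfsg.kSeqOdd ↥Q n).map Q.subtype ≤ Cfsg.kSeqOdd P n ∧
      Cfsg.kSeqEven P n ≤ (Cfsg.kSeqEven ↥Q n).map Q.subtype ∧
      (Cfsg.kSeqEven ↥Q n).map Q.subtype ≤ Cfsg.kSeqEven P (n + 1) := by
  have even : ∀ n, Cfsg.kSeqOdd P (n + 1) ≤ (Cfsg.kSeqOdd ↥Q n).map Q.subtype →
      (Cfsg.kSeqOdd ↥Q n).map Q.subtype ≤ Cfsg.kSeqOdd P n →
      Cfsg.kSeqEven P n ≤ (Cfsg.kSeqEven ↥Q n).map Q.subtype ∧
      (Cfsg.kSeqEven ↥Q n).map Q.subtype ≤ Cfsg.kSeqEven P (n + 1) := by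
    intro n h1 h2
    unfold Cfsg.kSeqEven
    rw [map_sSup_kLower]
    refine ⟨sSup_le fun B hB => le_sSup ⟨kLowerStarFamily_anti h2 hB, ?_⟩,
      sSup_le fun B hB => le_sSup (kLowerStarFamily_anti h1 hB.1)⟩
    exact (le_sSup hB).trans (hQ n).1
  induction n with
  | zero =>
    have h1 : Cfsg.kSeqOdd P 1 ≤ (Cfsg.kSeqOdd ↥Q 0).map Q.subtype := by
      rw [Cfsg.kSeqOdd, ← MonoidHom.range_eq_map, range_subtype]
      exact (hQ 0).2
    have h2 : (Cfsg.kSeqOdd ↥Q 0).map Q.subtype ≤ Cfsg.kSeqOdd P 0 := le_top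
    exact ⟨h1, h2, even 0 h1 h2⟩
  | succ n ih =>
    obtain ⟨-, -, h3, h4⟩ := ih
    have h1 : Cfsg.kSeqOdd P (n + 1 + 1) ≤ (Cfsg.kSeqOdd ↥Q (n + 1)).map Q.subtype := by
      rw [kSeqOdd_succ_eq, kSeqOdd_succ_eq, map_sSup_kUpper]
      refine sSup_le fun B hB => le_sSup ⟨kUpperStarFamily_anti h4 hB, ?_⟩
      exact (le_sSup hB).trans (by rw [← kSeqOdd_succ_eq]; exact (hQ (n + 1)).2)
    have h2 : (Cfsg.kSeqOdd ↥Q (n + 1)).map Q.subtype ≤ Cfsg.kSeqOdd P (n + 1) := by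
      rw [kSeqOdd_succ_eq, kSeqOdd_succ_eq, map_sSup_kUpper]
      exact sSup_le fun B hB => le_sSup (kUpperStarFamily_anti h3 hB.1)
    exact ⟨h1, h2, even (n + 1) h1 h2⟩

end Subgroup

end Cfsg.Lib.Sig
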