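import Cfsg.Agent.Lib.Sig.KInfTheorem
import Cfsg.Agent.Lib.Sig.KInfDegree
import Cfsg.Agent.Lib.Fusion.Abelian
import Cfsg.Agent.S0093
import Cfsg.Agent.S0121
import Cfsg.Agent.S1978
import Cfsg.Prelude.Def_Amalgam

/-!
Consequences of the main alternative for the K-infinity subgroups.
-/

set_option autoImplicit false
set_option linter.style.haveILetI false

namespace Cfsg.Lib.Sig

open Subgroup
open scoped commutatorElement

universe u

variable {p : ℕ} [Fact p.Prime]

/-- A critical subgroup of `O_p`, seen inside the whole group. -/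
theorem exists_critical_pCore {G : Type*} [Group G] [Finite G] :
    ∃ A : Subgroup G, A.Normal ∧ A ≤ Cfsg.pCore p G ∧ ⁅A, A⁆ ≤ centralizer (A : Set G) ∧
      ⁅Cfsg.pCore p G, A⁆ ≤ A ⊓ centralizer (A : Set G) ∧
      Cfsg.pCore p G ⊓ centralizer (A : Set G) ≤ A ⊓ centralizer (A : Set G) ∧
      ∀ φ : MulAut ↥(Cfsg.pCore p G), (orderOf φ).Coprime p →
        (∀ a : ↥(Cfsg.pCore p G), (a : G) ∈ A → φ a = a) → φ = 1 := by
  set T := Cfsg.pCore p G with hT
  have hTp : IsPGroup p ↥T := Cfsg.Lib.Core.pCore_isPGroup p G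
  obtain ⟨H, hH, h1, h2, h3⟩ := Cfsg.Agent.S0093.result hTp
  haveI := hH
  have hcent : ∀ X : Subgroup ↥T, X ≤ centralizer (H : Set ↥T) →
      X.map T.subtype ≤ centralizer ((H.map T.subtype : Subgroup G) : Set G) := by
    intro X hX
    rintro _ ⟨x, hx, rfl⟩
    refine mem_centralizer_iff.2 ?_
    rintro _ ⟨y, hy, rfl⟩
    exact congrArg Subtype.val (mem_centralizer_iff.1 (hX hx) y hy)
  refine ⟨H.map T.subtype, ConjAct.normal_of_characteristic_of_normal, map_subtype_le H, ?_, ?_, ?_,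
    fun φ hφ hfix => ?_⟩
  · rw [← map_commutator]
    exact hcent _ ((commutator_mono le_rfl le_top).trans (h2.trans inf_le_right))
  · have e : (⊤ : Subgroup ↥T).map T.subtype = T := by rw [← MonoidHom.range_eq_map, range_subtype]
    have h4 := map_mono (f := T.subtype) h2
    rw [map_commutator, e, commutator_comm] at h4
    exact h4.trans ((map_inf_le _ _ _).trans (inf_le_inf le_rfl (hcent _ le_rfl)))
  · rintro x ⟨hxT, hx⟩
    have hx' : (⟨x, hxT⟩ : ↥T) ∈ centralizer (H : Set ↥T) := mem_centralizer_iff.2 fun y hy =>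
      Subtype.ext (mem_centralizer_iff.1 hx _ (mem_map_of_mem T.subtype hy))
    exact mem_inf.2 ⟨mem_map_of_mem T.subtype (h3 hx'), hx⟩
  · exact Cfsg.Agent.S0121.result hTp H hH h1 h2 h3 φ hφ
      fun x hx => hfix x (mem_map_of_mem T.subtype hx)

/-- The degrees of a good element on the chief factors inside `A`. -/
theorem GoodElt.iterCommutator_three_le {G : Type*} [Group G] [Finite G] {A : Subgroup G} [A.Normal]
    {g : G} (h : GoodElt A g) {U V : Subgroup G} (hc : Cfsg.IsChiefFactor U V) (hU : U ≤ A) :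
    Cfsg.iterCommutator U (zpowers g) 3 ≤ V := by
  haveI := hc.2.1
  haveI := hc.2.2.1
  set Z := A ⊓ centralizer (A : Set G) with hZ
  by_cases hZV : U ⊓ Z ≤ V
  · refine (le_inf ?_ ?_).trans hZV
    · show ⁅⁅⁅U, zpowers g⁆, zpowers g⁆, zpowers g⁆ ≤ U
      exact (commutator_mono ((commutator_mono (commutator_le_left U _) le_rfl).trans
        (commutator_le_left U _)) le_rfl).trans (commutator_le_left U _)
    · exact (commutator_mono (commutator_mono (commutator_mono hU le_rfl) le_rfl) le_rfl).trans h.1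
  · have hsup : (U ⊓ Z) ⊔ V = U := by
      rcases hc.2.2.2 ((U ⊓ Z) ⊔ V) inferInstance le_sup_right (sup_le inf_le_left hc.1.le) with e | e
      · exact absurd (le_sup_left.trans e.le) hZV
      · exact e
    set mk := QuotientGroup.mk' V with hmk
    have e : U.map mk = (U ⊓ Z).map mk := by
      conv_lhs => rw [← hsup, Subgroup.map_sup, show V.map mk = ⊥ from
        (Subgroup.map_eq_bot_iff V).2 (QuotientGroup.ker_mk' V).ge, sup_bot_eq]
    have h2 : ⁅⁅U, zpowers g⁆, zpowers g⁆ ≤ V := by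
      rw [← QuotientGroup.ker_mk' V, ← hmk, ← Subgroup.map_eq_bot_iff, map_commutator, map_commutator,
        e, ← map_commutator, ← map_commutator]
      exact le_bot_iff.1 ((map_mono ((commutator_mono (commutator_mono inf_le_right le_rfl) le_rfl).trans
        h.2.1.le)).trans (Subgroup.map_bot mk).le)
    exact (commutator_mono h2 le_rfl).trans (commutator_le_left V _)

/-- An element of small degree on `O_p` when a K-infinity subgroup is not normal. -/
theorem exists_small_degree_of_kInf {G : Type u} [Group G] [Finite G] (S : Sylow p G)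
    (hK : ¬ (Cfsg.inducedFunctor Cfsg.kInfLower (S : Subgroup G)).Normal ∨
      ¬ (Cfsg.inducedFunctor Cfsg.kInfUpper (S : Subgroup G)).Normal) :
    ∃ g : G, g ∈ (S : Subgroup G) ∧ g ∉ Cfsg.pCore p G ∧
      (∀ U V : Subgroup G, Cfsg.IsChiefFactor U V → U ≤ Cfsg.pCore p G →
        Cfsg.iterCommutator U (zpowers g) 4 ≤ V) ∧
      ⁅⁅Cfsg.pCore p G ⊓ centralizer ((Cfsg.pCore p G : Subgroup G) : Set G), zpowers g⁆, zpowers g⁆ = ⊥ ∧
      (centralizer ((Cfsg.pCore p G : Subgroup G) : Set G) ≤ Cfsg.pCore p G →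
        ∃ U V : Subgroup G, Cfsg.IsChiefFactor U V ∧ U ≤ Cfsg.pCore p G ∧
          ⁅⁅U, zpowers g⁆, zpowers g⁆ ≤ V ∧ ¬ ⁅U, zpowers g⁆ ≤ V) := by
  obtain ⟨A, hAn, hAT, hA2, hTA, hCA, hA5⟩ := exists_critical_pCore (p := p) (G := G)
  haveI := hAn
  rcases kInf_normal_or_exists_goodElt S A hAT hA2 hTA with h | ⟨g, hgS, hgT, hg⟩
  · rcases hK with hK | hK
    · exact absurd h.1 hK
    · exact absurd h.2 hK
  refine ⟨g, hgS, hgT, ?_, ?_, fun hcons => ?_⟩
  · intro U V hUV hU
    exact iterCommutator_le_of_degrees (Cfsg.Lib.Core.pCore_isPGroup p G) hAT hTA hCA g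
      (i := 3) (j := 2) (by norm_num) (fun U V hc hU => hg.iterCommutator_three_le hc hU)
      (fun U V hc hU => ((commutator_mono (commutator_mono hU le_rfl) le_rfl).trans hg.2.1.le).trans bot_le)
      U V hUV hU
  · refine le_bot_iff.1 ((commutator_mono (commutator_mono ?_ le_rfl) le_rfl).trans hg.2.1.le)
    exact (inf_le_inf le_rfl (centralizer_le hAT)).trans hCA
  · obtain ⟨U, V, hUV, hU, h2, h1⟩ := exists_quadratic_chiefFactor hAT hA5 hcons hgT hg
    exact ⟨U, V, hUV, hU.trans hAT, h2, h1⟩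

/-- An exactly quadratic action on a p-chief factor contradicts p-stability of the quotient. -/
theorem not_isNormalizerPStable_quotient {G : Type*} [Group G] [Finite G] {X Y : Subgroup G}
    [hYn : Y.Normal] (hc : Cfsg.IsChiefFactor X Y) (hXp : IsPGroup p ↥X) {g : G}
    (h2 : ⁅⁅X, zpowers g⁆, zpowers g⁆ ≤ Y) (h1 : ¬ ⁅X, zpowers g⁆ ≤ Y) :
    ¬ Cfsg.IsNormalizerPStable p (G ⧸ Y) := by
  intro hst
  haveI : X.Normal := hc.2.1
  set mk := QuotientGroup.mk' Y with hmk
  have hs : Function.Surjective mk := QuotientGroup.mk'_surjective Y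
  have hker : mk.ker = Y := QuotientGroup.ker_mk' Y
  set P := X.map mk with hP
  haveI : P.Normal := (inferInstance : X.Normal).map mk hs
  have hPne : P ≠ ⊥ := by rw [Ne, hP, Subgroup.map_eq_bot_iff, hker]; exact hc.1.not_ge
  have hPp : IsPGroup p ↥P := hXp.map mk
  have hgN : mk g ∈ normalizer (P : Set (G ⧸ Y)) := by
    rw [normalizer_eq_top_iff.2 inferInstance]; exact mem_top _
  have hq : ⁅⁅P, zpowers (mk g)⁆, zpowers (mk g)⁆ = ⊥ := by
    rw [hP, ← MonoidHom.map_zpowers, ← map_commutator, ← map_commutator, Subgroup.map_eq_bot_iff, hker]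
    exact h2
  set C := (centralizer (P : Set (G ⧸ Y))).subgroupOf (normalizer (P : Set (G ⧸ Y))) with hC
  set K := (Cfsg.pCore p (↥(normalizer (P : Set (G ⧸ Y))) ⧸ C)).comap (QuotientGroup.mk' C) with hK
  let ρ : ↥(normalizer (P : Set (G ⧸ Y))) →* MulAut ↥P :=
    (MulAut.conjNormal (H := P)).comp (normalizer (P : Set (G ⧸ Y))).subtype
  have hρC : C ≤ ρ.ker := fun x hx => MonoidHom.mem_ker.2 (MulEquiv.ext fun m => Subtype.ext (by
    show ((MulAut.conjNormal (x : G ⧸ Y) m : ↥P) : G ⧸ Y) = m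
    rw [MulAut.conjNormal_apply, ← mem_centralizer_iff.1 (mem_subgroupOf.1 hx) m m.2,
      mul_inv_cancel_right]))
  have hIp : IsPGroup p ↥(K.map ρ) := by
    have e : K.map ρ = (Cfsg.pCore p (↥(normalizer (P : Set (G ⧸ Y))) ⧸ C)).map
        (QuotientGroup.lift C ρ hρC) := by
      rw [hK]
      refine le_antisymm (map_le_iff_le_comap.2 fun x hx => ?_) (map_le_iff_le_comap.2 fun x hx => ?_)
      · exact ⟨QuotientGroup.mk' C x, hx, rfl⟩
      · obtain ⟨y, rfl⟩ := QuotientGroup.mk'_surjective C x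
        exact ⟨y, hx, rfl⟩
    rw [e]
    exact (Cfsg.Lib.Core.pCore_isPGroup p _).map _
  have hgK : (⟨mk g, hgN⟩ : ↥(normalizer (P : Set (G ⧸ Y)))) ∈ K := hst P hPp (mk g) hgN hq
  haveI : K.Normal := inferInstance
  obtain ⟨k, hk⟩ := IsPGroup.iff_card.mp hPp
  haveI : Nontrivial ↥P := (nontrivial_iff_ne_bot P).2 hPne
  have hdvd : p ∣ Nat.card ↥P := by
    rw [hk]; refine dvd_pow_self p fun hk0 => ?_
    rw [hk0, pow_zero] at hk
    exact (Finite.one_lt_card (α := ↥P)).ne' hk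
  letI : MulAction ↥(K.map ρ) ↥P := MulAction.compHom _ (K.map ρ).subtype
  obtain ⟨b, hb, hb1⟩ := hIp.exists_fixed_point_of_prime_dvd_card_of_fixed_point ↥P hdvd
    (a := 1) (fun x => map_one (x : MulAut ↥P))
  let D : Subgroup ↥P :=
    { carrier := {m | ∀ φ ∈ K.map ρ, φ m = m}
      one_mem' := fun φ _ => map_one φ
      mul_mem' := fun ha hb φ hφ => by rw [map_mul, ha φ hφ, hb φ hφ]
      inv_mem' := fun ha φ hφ => by rw [map_inv, ha φ hφ] }
  have htop : normalizer (P : Set (G ⧸ Y)) = ⊤ := normalizer_eq_top_iff.2 inferInstance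
  have hDn : (D.map P.subtype).Normal := by
    refine ⟨?_⟩
    rintro _ ⟨m, hm, rfl⟩ z
    let z' : ↥(normalizer (P : Set (G ⧸ Y))) := ⟨z, htop ▸ mem_top z⟩
    refine ⟨ρ z' m, ?_, MulAut.conjNormal_apply z m⟩
    rintro _ ⟨x, hx, rfl⟩
    have h3 : ρ (z'⁻¹ * x * z') m = m :=
      hm _ ⟨_, by simpa using (inferInstance : K.Normal).conj_mem x hx z'⁻¹, rfl⟩
    have h4 := congrArg (ρ z') h3
    simpa [MulAut.mul_apply] using h4
  rcases hc.2.2.2 ((D.map P.subtype).comap mk) (hDn.comap mk) (hker.ge.trans (ker_le_comap mk _))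
      ((comap_mono (map_subtype_le D)).trans (by rw [hP, comap_map_eq, hker]; exact sup_le le_rfl hc.1.le))
    with h | h
  · refine hb1 ?_
    have hbD : (b : G ⧸ Y) ∈ D.map P.subtype := ⟨b, fun φ hφ => hb ⟨φ, hφ⟩, rfl⟩
    rw [← map_comap_eq_self_of_surjective hs (D.map P.subtype), h,
      show Y.map mk = ⊥ from (Subgroup.map_eq_bot_iff Y).2 hker.ge, mem_bot] at hbD
    exact (Subtype.ext hbD).symm
  · refine h1 (trivOn_iff_commutator_le.1 fun x hx => ?_)
    obtain ⟨m, hm, hme⟩ : mk x ∈ D.map P.subtype := h.ge hx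
    have h3 := congrArg Subtype.val (hm _ ⟨_, hgK, rfl⟩)
    change ((MulAut.conjNormal (mk g) m : ↥P) : G ⧸ Y) = m at h3
    rw [MulAut.conjNormal_apply, show (m : G ⧸ Y) = mk x from hme] at h3
    rw [← hker, MonoidHom.mem_ker, map_mul, map_mul, map_mul, map_inv, map_inv, h3, mul_inv_cancel]

/-- The K-infinity functors contain the centre. -/
theorem center_le_inducedFunctor {G : Type u} [Group G] {W : ∀ (Q : Type u) [Group Q], Subgroup Q}
    (hWZ : ∀ (Q : Type u) [Group Q], center Q ≤ W Q) (P : Subgroup G) :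
    P ⊓ centralizer (P : Set G) ≤ Cfsg.inducedFunctor W P := fun x hx =>
  ⟨⟨x, (mem_inf.1 hx).1⟩, hWZ ↥P (mem_center_iff.2 fun y =>
    Subtype.ext (mem_centralizer_iff.1 (mem_inf.1 hx).2 y y.2)), rfl⟩

theorem isConjugacyFunctor_inducedFunctor {G : Type u} [Group G] [Finite G]
    {W : ∀ (Q : Type u) [Group Q], Subgroup Q} (hW : Cfsg.IsCharPFunctor.{u} p W) :
    Cfsg.IsConjugacyFunctor p (Cfsg.inducedFunctor (G := G) W) :=
  isConjugacyFunctor_inducedFamily {W} (fun _ h => Set.mem_singleton_iff.1 h ▸ hW) G _ ⟨W, rfl, rfl⟩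

/-- The quadratic element in a subgroup in which the lower K-infinity subgroup is not normal. -/
theorem exists_quadratic_of_not_le_normalizer {G : Type u} [Group G] [Finite G] (H T : Subgroup G)
    (hTH : T ≤ H) (hT : IsPGroup p ↥T) (hidx : ¬ p ∣ T.relIndex H)
    (hn : ¬ H ≤ normalizer ((Cfsg.inducedFunctor Cfsg.kInfLower T : Subgroup G) : Set G)) :
    ∃ g : G, g ∈ T ∧ g ∉ Cfsg.pCoreOf p H ∧
      ⁅⁅Cfsg.pCoreOf p H ⊓ centralizer ((Cfsg.pCoreOf p H : Subgroup G) : Set G), zpowers g⁆,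
        zpowers g⁆ = ⊥ := by
  let S : Sylow p ↥H := (hT.of_equiv (subgroupOfEquivOfLe hTH).symm).toSylow hidx
  have hS : (S : Subgroup ↥H).map H.subtype = T := map_subgroupOf_eq_of_le hTH
  have hK : ¬ (Cfsg.inducedFunctor Cfsg.kInfLower (S : Subgroup ↥H)).Normal := fun hN => hn fun h hh => by
    rw [← hS, inducedFunctor_map (isCharPFunctor_kInfLower p) H.subtype S.2
      (by rw [(MonoidHom.ker_eq_bot_iff _).2 H.subtype_injective, inf_bot_eq])]
    exact le_normalizer_map H.subtype ⟨⟨h, hh⟩, by rw [normalizer_eq_top_iff.2 hN]; exact mem_top _, rfl⟩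
  obtain ⟨g, hgS, hgQ, -, hquad, -⟩ := exists_small_degree_of_kInf S (Or.inl hK)
  refine ⟨(g : G), hS ▸ mem_map_of_mem H.subtype hgS,
    fun h => hgQ ((mem_map_iff_mem H.subtype_injective).1 h), ?_⟩
  have e1 : (zpowers g).map H.subtype = zpowers (g : G) := MonoidHom.map_zpowers _ _
  have e2 : Cfsg.pCoreOf p H ⊓ centralizer ((Cfsg.pCoreOf p H : Subgroup G) : Set G) =
      (Cfsg.pCore p ↥H ⊓ centralizer ((Cfsg.pCore p ↥H : Subgroup ↥H) : Set ↥H)).map H.subtype :=
    (map_subtype_center _).symm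
  rw [e2, ← e1, ← map_commutator, ← map_commutator, hquad, Subgroup.map_bot]

/-- If the automizer of a self-centralizing subgroup of a Sylow subgroup is a p-group, its
normalizer has a normal p-complement. -/
theorem hasNormalPComplement_normalizer_of_automizer {G : Type u} [Group G] [Finite G] (S : Sylow p G)
    (K : Subgroup G) (hSK : (S : Subgroup G) ≤ normalizer (K : Set G))
    (hC : (S : Subgroup G) ⊓ centralizer (K : Set G) ≤ K)
    (h : ∀ g ∈ normalizer (K : Set G), (orderOf g).Coprime p → g ∈ centralizer (K : Set G)) :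
    Cfsg.HasNormalPComplement p ↥(normalizer (K : Set G)) := by
  set N := normalizer (K : Set G) with hN
  set C := (centralizer (K : Set G)).subgroupOf N with hCdef
  haveI : C.Normal := by
    refine ⟨fun c hc n => mem_subgroupOf.2 (mem_centralizer_iff.2 fun k hk => ?_)⟩
    have h1 : (n : G)⁻¹ * k * n ∈ K := by
      simpa using (mem_normalizer_iff.1 (inv_mem n.2) k).1 hk
    have h2 := mem_centralizer_iff.1 (mem_subgroupOf.1 hc) _ h1
    show k * ((n : G) * c * (n : G)⁻¹) = (n : G) * c * (n : G)⁻¹ * k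
    calc k * ((n : G) * c * (n : G)⁻¹) = n * ((n : G)⁻¹ * k * n * c) * (n : G)⁻¹ := by group
      _ = n * (c * ((n : G)⁻¹ * k * n)) * (n : G)⁻¹ := by rw [h2]
      _ = _ := by group
  let SN : Sylow p ↥N := S.subtype hSK
  have hSC : ∀ y ∈ (SN : Subgroup ↥N) ⊓ C, ∀ x ∈ C, x * y = y * x := by
    intro y hy x hx
    have hyK : (y : G) ∈ K := hC (mem_inf.2 ⟨(mem_inf.1 hy).1, mem_subgroupOf.1 (mem_inf.1 hy).2⟩)
    exact Subtype.ext (mem_centralizer_iff.1 (mem_subgroupOf.1 hx) _ hyK).symm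
  have hidx : ¬ p ∣ ((SN : Subgroup ↥N) ⊓ C).relIndex C :=
    not_dvd_relIndex_inf (le_top (a := (SN : Subgroup ↥N))) SN.2
      (by rw [relIndex_top_right]; exact SN.not_dvd_index) le_top
      fun a _ b hb => Subgroup.Normal.conj_mem inferInstance b hb a
  let Q : Sylow p ↥C := ((SN.2.to_le inf_le_left : IsPGroup p ↥((SN : Subgroup ↥N) ⊓ C)).of_equiv
    (subgroupOfEquivOfLe (inf_le_right : (SN : Subgroup ↥N) ⊓ C ≤ C)).symm).toSylow hidx
  have hCc : Cfsg.HasNormalPComplement p ↥C := by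
    refine Cfsg.Lib.Fusion.hasNormalPComplement_of_normalizer_le_centralizer Q fun x _ => ?_
    exact mem_centralizer_iff.2 fun y hy => Subtype.ext (hSC y (mem_subgroupOf.1 hy) x x.2).symm
  set R := (Cfsg.pResidual p ↥C).map C.subtype with hR
  have hmem : ∀ y : ↥N, y ∈ R ↔ y ∈ C ∧ (orderOf y).Coprime p := by
    intro y
    constructor
    · rintro ⟨c, hc, rfl⟩
      refine ⟨c.2, ?_⟩
      rw [Subgroup.coe_subtype, Subgroup.orderOf_coe]
      exact (Cfsg.Lib.Fusion.mem_pResidual_iff_coprime hCc c).1 hc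
    · rintro ⟨hy, hyp⟩
      refine ⟨⟨y, hy⟩, (Cfsg.Lib.Fusion.mem_pResidual_iff_coprime hCc _).2 ?_, rfl⟩
      rwa [Subgroup.orderOf_mk]
  haveI : R.Normal := ⟨fun y hy n => by
    rw [hmem] at hy ⊢
    refine ⟨Subgroup.Normal.conj_mem inferInstance y hy.1 n, ?_⟩
    rw [show orderOf (n * y * n⁻¹) = orderOf y from (MulAut.conj n).orderOf_eq y]
    exact hy.2⟩
  refine Cfsg.Lib.Fusion.hasNormalPComplement_of_normal R ?_ ?_
  · rw [hR, Cfsg.Lib.Core.card_map_subtype]
    exact Cfsg.Lib.Fusion.hasNormalPComplement_iff_coprime.1 hCc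
  · have h1 : IsPGroup p ↥((⊤ : Subgroup ↥N).map (QuotientGroup.mk' R)) :=
      isPGroup_map_mk_of_forall_coprime R ⊤ fun y _ hyp =>
        (hmem y).2 ⟨mem_subgroupOf.2 (h y y.2 (by rwa [Subgroup.orderOf_coe])), hyp⟩
    rw [Subgroup.map_top_of_surjective _ (QuotientGroup.mk'_surjective R)] at h1
    exact h1.of_equiv Subgroup.topEquiv

/-- The lower K-infinity subgroup contains its centralizer in the Sylow subgroup. -/
theorem inf_centralizer_kInfLower_le {G : Type u} [Group G] [Finite G] {P : Subgroup G}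
    (hP : IsPGroup p ↥P) :
    P ⊓ centralizer ((Cfsg.inducedFunctor Cfsg.kInfLower P : Subgroup G) : Set G) ≤
      Cfsg.inducedFunctor Cfsg.kInfLower P := by
  rintro x ⟨hx, hxc⟩
  refine ⟨⟨x, hx⟩, (Cfsg.Agent.S1978.result (p := p) hP).1 (mem_centralizer_iff.2 fun y hy => ?_), rfl⟩
  exact Subtype.ext (mem_centralizer_iff.1 hxc _ (mem_map_of_mem P.subtype hy))

end Cfsg.Lib.Sig
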