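import Cfsg.Agent.Lib.Sig.TransferControl
import Cfsg.Agent.Lib.Sig.KInfApps

/-!
Functors with elements of small degree control transfer.
-/

set_option autoImplicit false
set_option linter.style.haveILetI false

namespace Cfsg.Lib.Sig

open Subgroup
open scoped commutatorElement

universe u

variable {p : ℕ} [Fact p.Prime] (𝓦 : Set (∀ (Q : Type u) [Group Q], Subgroup Q))

omit [Fact p.Prime] in
theorem SectionHyp.of_surjective {X : Type u} [Group X]
    {Ctl : ∀ (Y : Type u) [Group Y], Prop} (h : SectionHyp p Ctl X) {L : Subgroup X} {Y : Type u}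
    [Group Y] (f : ↥L →* Y) (hf : Function.Surjective f) : SectionHyp p Ctl Y := by
  intro Z _ _ M g hg hZ
  let M' := (M.comap f).map L.subtype
  let r : ↥M' →* ↥M := (f.subgroupComap M).comp
    ((M.comap f).equivMapOfInjective L.subtype L.subtype_injective).symm.toMonoidHom
  refine h Z M' (g.comp r) (hg.comp ?_) hZ
  show Function.Surjective (⇑(f.subgroupComap M) ∘
    ⇑((M.comap f).equivMapOfInjective L.subtype L.subtype_injective).symm)
  refine Function.Surjective.comp ?_ (MulEquiv.surjective _)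
  rintro ⟨y, hy⟩
  obtain ⟨x, rfl⟩ := hf y
  exact ⟨⟨x, hy⟩, rfl⟩

/-- Control of transfer at a given Sylow subgroup from the bound `S ⊓ G' ≤ R`. -/
theorem familyControlsTransferIn_of_le {X : Type u} [Group X] [Finite X] (S : Sylow p X)
    (𝓕 : Set (Subgroup X → Subgroup X))
    (h : (S : Subgroup X) ⊓ commutator X ≤ transferSpan 𝓕 (S : Subgroup X)) :
    Cfsg.FamilyControlsTransferIn p 𝓕 ⊤ := by
  refine ⟨S, le_top, S.2, by simpa using S.not_dvd_index, ?_⟩
  simp only [top_inf_eq, ← commutator_def]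
  exact le_antisymm h (iSup₂_le fun W _ => inf_le_inf_left _
    ((commutator_mono le_top le_top).trans (le_of_eq (commutator_def X).symm)))

/-- The step from `O_p ⊓ G' ≤ R` to `S ⊓ G' ≤ R`. -/
theorem inf_commutator_le_of_pCore (h𝓦 : ∀ W ∈ 𝓦, Cfsg.IsCharPFunctor.{u} p W) {X : Type u} [Group X]
    [Finite X] (S : Sylow p X)
    (hfrom : ∀ L : Subgroup X, L ≠ ⊤ → (S : Subgroup X) ≤ L →
      (S : Subgroup X) ⊓ ⁅L, L⁆ ≤ transferSpan (inducedFamily 𝓦 X) (S : Subgroup X))
    (hquot : Cfsg.FamilyControlsTransferIn p (inducedFamily 𝓦 (X ⧸ Cfsg.pCore p X)) ⊤)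
    (hQR : Cfsg.pCore p X ⊓ commutator X ≤ transferSpan (inducedFamily 𝓦 X) (S : Subgroup X)) :
    (S : Subgroup X) ⊓ commutator X ≤ transferSpan (inducedFamily 𝓦 X) (S : Subgroup X) := by
  set Q := Cfsg.pCore p X with hQdef
  set R := transferSpan (inducedFamily 𝓦 X) (S : Subgroup X) with hR
  by_cases hSQ : (S : Subgroup X) ≤ Q
  · exact (inf_le_inf_right _ hSQ).trans hQR
  set f := QuotientGroup.mk' Q with hf
  have hfs : Function.Surjective f := QuotientGroup.mk'_surjective Q
  set S₁ := (S : Subgroup X).map f with hS₁def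
  have hS₁ne : S₁ ≠ ⊥ := fun e => hSQ (by
    rw [← QuotientGroup.ker_mk' Q, ← (Subgroup.map_eq_bot_iff _)]; exact e)
  have hS₁ : ¬ p ∣ S₁.relIndex ⊤ := by
    rw [relIndex_top_right]
    exact fun h => S.not_dvd_index (h.trans (index_map_dvd _ (f := f) hfs))
  have hc' := familyControlsTransferIn_at (isConjugacyFunctor_inducedFamily 𝓦 h𝓦 _) hquot le_top
    (S.2.map f) hS₁
  intro s hs
  have h1 : f s ∈ S₁ ⊓ ⁅(⊤ : Subgroup (X ⧸ Q)), ⊤⁆ := by
    refine mem_inf.2 ⟨mem_map_of_mem f hs.1, ?_⟩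
    have h0 := mem_map_of_mem f hs.2
    rwa [_root_.commutator_def, map_commutator, map_top_of_surjective _ hfs] at h0
  rw [hc'] at h1
  have h2 : f s ∈ R.map f := by
    refine (iSup₂_le fun W₁ hW₁ => ?_ : _ ≤ R.map f) h1
    have hW₁' := isConjugacyFunctor_inducedFamily 𝓦 h𝓦 _ W₁ hW₁ _ (S.2.map f)
    set N₁ := normalizer ((W₁ S₁ : Subgroup (X ⧸ Q)) : Set (X ⧸ Q)) with hN₁
    have hN₁top : N₁ ≠ ⊤ := fun e => hW₁'.2.1 hS₁ne (le_bot_iff.1
      ((Cfsg.Lib.Core.pCore_quotient_pCore_eq_bot (p := p) (G := X)) ▸ Cfsg.Lib.Core.le_pCore'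
        (normalizer_eq_top_iff.1 e) ((S.2.map f).to_le hW₁'.1)))
    set L := N₁.comap f with hL
    have hSL : (S : Subgroup X) ≤ L := fun t ht => mem_comap.2 (mem_normalizer_of_map_conj (by
      rw [← hW₁'.2.2 _, map_conj_eq_of_mem_normalizer (le_normalizer (mem_map_of_mem _ ht))]))
    have hLtop : L ≠ ⊤ := fun e => hN₁top (by
      have := congrArg (Subgroup.map f) e
      rwa [hL, map_comap_eq_self_of_surjective hfs, map_top_of_surjective _ hfs] at this)
    have hNL : N₁ ≤ L.map f := (map_comap_eq_self_of_surjective hfs N₁).ge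
    refine le_trans (inf_le_inf_left _ (commutator_mono (inf_le_right.trans hNL)
      (inf_le_right.trans hNL))) ?_
    rw [← map_commutator]
    refine (map_inf_map_le f hSL S.2
      (fun h => S.not_dvd_index (h.trans (relIndex_dvd_index_of_le hSL)))
      (commutator_le_self _) ?_).trans (map_mono (hfrom L hLtop hSL))
    intro h hh z hz
    have h3 : ⁅L, L⁆.map (MulAut.conj h).toMonoidHom = ⁅L, L⁆ := by
      rw [map_commutator, map_conj_eq_of_mem_normalizer (le_normalizer hh)]
    exact h3 ▸ conj_mem_map_conj hz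
  obtain ⟨r, hr, hrs⟩ := h2
  have hq : r⁻¹ * s ∈ Q := by rw [← QuotientGroup.eq]; exact hrs
  have hrX : r ∈ commutator X := by
    refine (iSup₂_le fun W _ => inf_le_right.trans
      ((commutator_mono le_top le_top).trans (le_of_eq (commutator_def X).symm)) : R ≤ commutator X) hr
  simpa using mul_mem hr (hQR (mem_inf.2 ⟨hq, mul_mem (inv_mem hrX) hs.2⟩))

/-- The hypothesis on a constrained section used to obtain control of transfer. -/
def TransferStep (p : ℕ) (Y : Type u) [Group Y] : Prop :=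
  ∀ S : Sylow p Y, (∀ L : Subgroup Y, L ≠ ⊤ → (S : Subgroup Y) ≤ L →
      (S : Subgroup Y) ⊓ ⁅L, L⁆ ≤ transferSpan (inducedFamily 𝓦 Y) (S : Subgroup Y)) →
    Cfsg.pCore p Y ⊓ commutator Y ≤ transferSpan (inducedFamily 𝓦 Y) (S : Subgroup Y)

/-- Control of transfer from the step in the constrained sections. -/
theorem transfer_of_step (h𝓦 : ∀ W ∈ 𝓦, Cfsg.IsCharPFunctor.{u} p W) :
    ∀ (n : ℕ) (X : Type u) [Group X] [Finite X], Nat.card X ≤ n →
      SectionHyp p (fun (Y : Type u) [Group Y] => TransferStep 𝓦 p Y) X →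
      Cfsg.FamilyControlsTransferIn p (inducedFamily 𝓦 X) ⊤ := by
  intro n
  induction n with
  | zero => intro X _ _ h; have : 0 < Nat.card X := Nat.card_pos; omega
  | succ n ih =>
    intro X _ _ hn hX
    refine transfer_of_sections 𝓦 h𝓦 (Nat.card X) X le_rfl fun Y _ _ L f hf hc => ?_
    have hY := hX.of_surjective f hf
    have hcard : Nat.card Y ≤ Nat.card X :=
      (Nat.card_le_card_of_surjective f hf).trans L.card_le_card_group
    obtain ⟨S⟩ : Nonempty (Sylow p Y) := inferInstance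
    have hfrom : ∀ M : Subgroup Y, M ≠ ⊤ → (S : Subgroup Y) ≤ M →
        (S : Subgroup Y) ⊓ ⁅M, M⁆ ≤ transferSpan (inducedFamily 𝓦 Y) (S : Subgroup Y) := by
      intro M hM hSM
      have hlt : Nat.card ↥M < Nat.card ↥(⊤ : Subgroup Y) := Fusion.card_lt_card_of_lt hM.lt_top
      rw [card_top] at hlt
      have := familyControlsTransferIn_map 𝓦 h𝓦 M.subtype M.subtype_injective
        (ih ↥M (by omega) (hY.subgroup M))
      rw [range_subtype] at this
      exact inf_commutator_le_of_subgroup (isConjugacyFunctor_inducedFamily 𝓦 h𝓦 Y) S hSM this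
    refine familyControlsTransferIn_of_le S _ ?_
    have hQR := hX Y L f hf hc S hfrom
    by_cases hSQ : (S : Subgroup Y) ≤ Cfsg.pCore p Y
    · exact (inf_le_inf_right _ hSQ).trans hQR
    have hQne : Cfsg.pCore p Y ≠ ⊥ := fun e => hSQ (by
      intro s _
      refine hc ?_
      rw [e]
      exact mem_centralizer_iff.2 fun y hy => by rw [mem_bot.1 hy]; simp)
    have hlt : Nat.card (Y ⧸ Cfsg.pCore p Y) < Nat.card Y := by
      rw [card_eq_card_quotient_mul_card_subgroup (Cfsg.pCore p Y)]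
      exact lt_mul_of_one_lt_right Nat.card_pos (one_lt_card_iff_ne_bot _ |>.2 hQne)
    exact inf_commutator_le_of_pCore 𝓦 h𝓦 S hfrom
      (ih _ (by omega) (hY.quotient _)) hQR

theorem transferSpan_singleton {W : ∀ (Q : Type u) [Group Q], Subgroup Q} {Y : Type u} [Group Y]
    (S : Subgroup Y) : transferSpan (inducedFamily ({W} : Set (∀ (Q : Type u) [Group Q], Subgroup Q)) Y) S =
      S ⊓ ⁅normalizer ((Cfsg.inducedFunctor W S : Subgroup Y) : Set Y),
        normalizer ((Cfsg.inducedFunctor W S : Subgroup Y) : Set Y)⁆ := by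
  simp [transferSpan, inducedFamily, Set.image_singleton]

/-- The step for a functor with elements of small degree. -/
theorem transferStep_of_small_degree {W : ∀ (Q : Type u) [Group Q], Subgroup Q}
    (hW : Cfsg.IsCharPFunctor.{u} p W) {Y : Type u} [Group Y] [Finite Y]
    (h : ∀ T : Sylow p Y, ¬ (Cfsg.inducedFunctor (G := Y) W (T : Subgroup Y)).Normal →
      ∃ g : Y, g ∈ (T : Subgroup Y) ∧ g ∉ Cfsg.pCore p Y ∧ ∀ U V : Subgroup Y,
        Cfsg.IsChiefFactor U V → U ≤ Cfsg.pCore p Y → Cfsg.iterCommutator U (zpowers g) (p - 1) ≤ V) :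
    TransferStep ({W} : Set (∀ (Q : Type u) [Group Q], Subgroup Q)) p Y := by
  intro S hfrom
  by_cases hn : (Cfsg.inducedFunctor (G := Y) W (S : Subgroup Y)).Normal
  · rw [transferSpan_singleton, normalizer_eq_top_iff.2 hn, ← _root_.commutator_def]
    exact inf_le_inf_right _ (Cfsg.Lib.Core.pCore_le_sylow S)
  · by_contra hfail
    obtain ⟨g, hg, hgQ, hdeg⟩ := h S hn
    obtain ⟨U, V, hUV, hU, hnot⟩ := transferFailure_degree
      (isConjugacyFunctor_inducedFamily ({W} : Set (∀ (Q : Type u) [Group Q], Subgroup Q))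
        (fun V hV => Set.mem_singleton_iff.1 hV ▸ hW) Y)
      ⟨_, ⟨W, rfl, rfl⟩⟩ S hfrom hfail g hg hgQ
    exact hnot (hdeg U V hUV hU)

/-- Control of transfer at every Sylow subgroup. -/
theorem controlsTransferIn_of_step {W : ∀ (Q : Type u) [Group Q], Subgroup Q}
    (hW : Cfsg.IsCharPFunctor.{u} p W) {X : Type u} [Group X] [Finite X]
    (hX : SectionHyp p (fun (Y : Type u) [Group Y] =>
      TransferStep ({W} : Set (∀ (Q : Type u) [Group Q], Subgroup Q)) p Y) X) :
    Cfsg.ControlsTransferIn p (Cfsg.inducedFunctor (G := X) W) ⊤ ∧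
      ∀ S : Sylow p X, (S : Subgroup X) ⊓ commutator X = (S : Subgroup X) ⊓
        ⁅normalizer ((Cfsg.inducedFunctor W (S : Subgroup X) : Subgroup X) : Set X),
          normalizer ((Cfsg.inducedFunctor W (S : Subgroup X) : Subgroup X) : Set X)⁆ := by
  have h𝓦 : ∀ V ∈ ({W} : Set (∀ (Q : Type u) [Group Q], Subgroup Q)), Cfsg.IsCharPFunctor.{u} p V :=
    fun V hV => Set.mem_singleton_iff.1 hV ▸ hW
  have hc := transfer_of_step {W} h𝓦 (Nat.card X) X le_rfl hX
  have hat : ∀ S : Sylow p X, (S : Subgroup X) ⊓ commutator X = (S : Subgroup X) ⊓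
      ⁅normalizer ((Cfsg.inducedFunctor W (S : Subgroup X) : Subgroup X) : Set X),
        normalizer ((Cfsg.inducedFunctor W (S : Subgroup X) : Subgroup X) : Set X)⁆ := by
    intro S
    have := familyControlsTransferIn_at (isConjugacyFunctor_inducedFamily {W} h𝓦 X) hc le_top S.2
      (by simpa using S.not_dvd_index)
    simpa [inducedFamily, Set.image_singleton, ← _root_.commutator_def] using this
  obtain ⟨S⟩ : Nonempty (Sylow p X) := inferInstance
  refine ⟨⟨S, le_top, S.2, by simpa using S.not_dvd_index, ?_⟩, hat⟩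
  simp only [top_inf_eq, ← _root_.commutator_def]
  exact hat S

theorem transferStep_kInf {Y : Type u} [Group Y] [Finite Y] (hp : 5 ≤ p) :
    TransferStep ({Cfsg.kInfLower} : Set (∀ (Q : Type u) [Group Q], Subgroup Q)) p Y ∧
      TransferStep ({Cfsg.kInfUpper} : Set (∀ (Q : Type u) [Group Q], Subgroup Q)) p Y := by
  have key : ∀ T : Sylow p Y, (¬ (Cfsg.inducedFunctor Cfsg.kInfLower (T : Subgroup Y)).Normal ∨
      ¬ (Cfsg.inducedFunctor Cfsg.kInfUpper (T : Subgroup Y)).Normal) →
      ∃ g : Y, g ∈ (T : Subgroup Y) ∧ g ∉ Cfsg.pCore p Y ∧ ∀ U V : Subgroup Y,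
        Cfsg.IsChiefFactor U V → U ≤ Cfsg.pCore p Y → Cfsg.iterCommutator U (zpowers g) (p - 1) ≤ V := by
    intro T hT
    obtain ⟨g, hg, hgQ, h4, -, -⟩ := exists_small_degree_of_kInf T hT
    refine ⟨g, hg, hgQ, fun U V hUV hU => ?_⟩
    obtain ⟨k, hk⟩ := Nat.exists_eq_add_of_le (show 4 ≤ p - 1 by omega)
    rw [hk]
    clear hk
    haveI := hUV.2.2.1
    induction k with
    | zero => exact h4 U V hUV hU
    | succ k ih => exact (commutator_mono ih le_rfl).trans (commutator_le_left V _)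
  exact ⟨transferStep_of_small_degree (isCharPFunctor_kInfLower p) fun T hT => key T (Or.inl hT),
    transferStep_of_small_degree (isCharPFunctor_kInfUpper p) fun T hT => key T (Or.inr hT)⟩

end Cfsg.Lib.Sig
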