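import Cfsg.Agent.Lib.Sig.FStarModFrattini
import Cfsg.Agent.Lib.Core.Fitting
import Cfsg.Agent.Lib.Core.Layer
import Cfsg.Agent.Lib.Local.SL2Involved
import Cfsg.Agent.Lib.Local.QdInvolved
import Cfsg.Agent.Lib.Dickson.Solvable

/-!
Elements acting quadratically on the Fitting subgroup of a solvable group.
-/

set_option autoImplicit false
set_option linter.style.haveILetI false

namespace Cfsg.Lib.Sig

open Subgroup
open scoped commutatorElement

variable {S : Type*} [Group S] [Finite S] {q : ℕ} [Fact q.Prime]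

/-- Solvable groups are `q`-stable for `q ≥ 5`. -/
theorem isNormalizerPStable_of_isSolvable [Group.IsSolvable S] (h5 : 5 ≤ q) :
    Cfsg.IsNormalizerPStable q S := by
  refine Cfsg.Lib.Local.QdInvolved.isNormalizerPStable_of_not_involves_qd (by omega) fun h => ?_
  obtain ⟨K, f, hf⟩ := Cfsg.Lib.FusionSys.involves_iff_exists_hom.1
    (Cfsg.Lib.Local.SL2Involved.involves_SL2_of_qd h)
  haveI : Group.IsSolvable ↥K := inferInstance
  haveI : Group.IsSolvable (Matrix.SpecialLinearGroup (Fin 2) (ZMod q)) :=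
    Group.isSolvable_of_surjective hf
  refine Cfsg.Lib.Dickson.not_isSolvable_psl (K := ZMod q) (by rw [ZMod.card]; omega) ?_
  exact Group.isSolvable_of_surjective (f := QuotientGroup.mk' _) (QuotientGroup.mk'_surjective _)

/-- Groups of odd order are `q`-stable for odd `q`. -/
theorem isNormalizerPStable_of_odd (h2 : q ≠ 2) (hodd : Odd (Nat.card S)) :
    Cfsg.IsNormalizerPStable q S := by
  refine Cfsg.Lib.Local.QdInvolved.isNormalizerPStable_of_not_involves_qd h2 fun h => ?_
  obtain ⟨K, f, hf⟩ := Cfsg.Lib.FusionSys.involves_iff_exists_hom.1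
    (Cfsg.Lib.Local.SL2Involved.involves_SL2_of_qd h)
  obtain ⟨k, hk⟩ := hf (-1)
  have h3 : Odd (orderOf (-1 : Matrix.SpecialLinearGroup (Fin 2) (ZMod q))) :=
    (hodd.of_dvd_nat ((orderOf_dvd_natCard k).trans (card_subgroup_dvd_card K))).of_dvd_nat
      (hk ▸ orderOf_map_dvd f k)
  rw [orderOf_eq_prime (p := 2) (by rw [neg_one_sq]) fun h1 => ?_] at h3
  · exact absurd h3 (by decide)
  have h1' := congrFun (congrFun (congrArg Subtype.val h1) 0) 0
  simp at h1'
  haveI : Fact (2 < q) := ⟨lt_of_le_of_ne (Fact.out : q.Prime).two_le (Ne.symm h2)⟩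
  exact ZMod.neg_one_ne_one h1'

/-- A `q`-element acting quadratically on the `q`-core and centralizing the rest of the Fitting
subgroup lies in the Fitting subgroup. -/
theorem mem_fittingSubgroup_of_quadratic_stable [Group.IsSolvable S]
    (hst : Cfsg.IsNormalizerPStable q S) {x : S}
    (hquad : ⁅⁅Cfsg.pCore q S, zpowers x⁆, zpowers x⁆ = ⊥)
    (hcent : x ∈ centralizer (((Cfsg.pPrimeCore q ↥(Cfsg.fittingSubgroup S)).map
      (Cfsg.fittingSubgroup S).subtype : Subgroup S) : Set S)) :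
    x ∈ Cfsg.fittingSubgroup S := by
  set F := Cfsg.fittingSubgroup S with hF
  set Q := Cfsg.pCore q S with hQ
  set R := (Cfsg.pPrimeCore q ↥F).map F.subtype with hR
  set C := centralizer (Q : Set S) with hC
  haveI : R.Normal := ConjAct.normal_of_characteristic_of_normal
  haveI hQn : Q.Normal := inferInstance
  have hQR : F ≤ Q ⊔ R := by
    intro y hy
    have h := Subgroup.mem_map_of_mem F.subtype
      ((pCore_sup_pPrimeCore_eq_top (Cfsg.Lib.Core.fittingSubgroup_isNilpotent S) q).ge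
        (mem_top (⟨y, hy⟩ : ↥F)))
    rw [Subgroup.map_sup] at h
    have hle : (Cfsg.pCore q ↥F).map F.subtype ≤ Q := by
      haveI : ((Cfsg.pCore q ↥F).map F.subtype).Normal :=
        ConjAct.normal_of_characteristic_of_normal
      exact Cfsg.Lib.Core.le_pCore' inferInstance ((Cfsg.Lib.Core.pCore_isPGroup q _).map _)
    exact sup_le_sup_right hle R h
  set P := Cfsg.pCore q (S ⧸ C) with hP
  have hxP : QuotientGroup.mk' C x ∈ P := by
    have hxN : x ∈ normalizer (Q : Set S) := by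
      rw [normalizer_eq_top_iff.2 hQn]; exact mem_top x
    have h := hst Q (Cfsg.Lib.Core.pCore_isPGroup q S) x hxN hquad
    set N := normalizer (Q : Set S)
    let φ : ↥N →* S ⧸ C := (QuotientGroup.mk' C).comp N.subtype
    have hφ : Function.Surjective φ := fun y => by
      obtain ⟨z, rfl⟩ := QuotientGroup.mk'_surjective C y
      exact ⟨⟨z, by show z ∈ normalizer (Q : Set S); rw [normalizer_eq_top_iff.2 hQn]; exact mem_top z⟩, rfl⟩
    let ψ : ↥N ⧸ C.subgroupOf N →* S ⧸ C := QuotientGroup.lift _ φ fun z hz =>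
      MonoidHom.mem_ker.2 ((QuotientGroup.eq_one_iff _).2 (mem_subgroupOf.1 hz))
    have hψ : Function.Surjective ψ := fun y => by
      obtain ⟨z, rfl⟩ := hφ y
      exact ⟨QuotientGroup.mk z, rfl⟩
    exact Cfsg.Lib.Core.le_pCore' (Subgroup.Normal.map inferInstance ψ hψ)
      ((Cfsg.Lib.Core.pCore_isPGroup q _).map ψ) (mem_map_of_mem ψ h)
  set Y := P.comap (QuotientGroup.mk' C) ⊓ centralizer (R : Set S) with hY
  haveI : Y.Normal := inferInstance
  have hxY : x ∈ Y := ⟨hxP, hcent⟩
  have hYC : Y ⊓ C ≤ F := by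
    intro y hy
    refine Cfsg.Lib.Core.centralizer_fitting_le_of_isSolvable (mem_centralizer_iff.2 fun z hz => ?_)
    have h : F ≤ centralizer ({y} : Set S) := hQR.trans (sup_le
      (fun a ha => mem_centralizer_singleton_iff.2 (mem_centralizer_iff.1 hy.2 a ha))
      (fun a ha => mem_centralizer_singleton_iff.2 (mem_centralizer_iff.1 hy.1.2 a ha)))
    exact mem_centralizer_singleton_iff.1 (h hz)
  refine Cfsg.Lib.Core.le_fittingSubgroup (N := Y) ?_ hxY
  let π := QuotientGroup.mk' (R.subgroupOf Y)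
  have hpg : IsPGroup q (↥Y ⧸ R.subgroupOf Y) := by
    intro w
    obtain ⟨y, rfl⟩ := QuotientGroup.mk'_surjective (R.subgroupOf Y) w
    obtain ⟨k, hk⟩ := Cfsg.Lib.Core.pCore_isPGroup q (S ⧸ C) ⟨_, y.2.1⟩
    have hkC : (y : S) ^ q ^ k ∈ C := by
      rw [← QuotientGroup.eq_one_iff, QuotientGroup.mk_pow]
      exact congrArg Subtype.val hk
    have hyF : (y : S) ^ q ^ k ∈ F := hYC ⟨Y.pow_mem y.2 _, hkC⟩
    obtain ⟨a, ha, b, hb, hab⟩ := mem_sup_of_normal_right.1 (hQR hyF)
    obtain ⟨j, hj⟩ := Cfsg.Lib.Core.pCore_isPGroup q S ⟨a, ha⟩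
    refine ⟨k + j, ?_⟩
    rw [← map_pow]
    refine (QuotientGroup.eq_one_iff _).2 (mem_subgroupOf.2 ?_)
    rw [Subgroup.coe_pow, pow_add, pow_mul, ← hab]
    have hc : Commute a b := by
      have hy1 : ∀ r ∈ R, r * (y : S) ^ q ^ k = (y : S) ^ q ^ k * r :=
        mem_centralizer_iff.1 (Subgroup.pow_mem _ y.2.2 _)
      have h := hy1 b hb
      rw [← hab, ← mul_assoc] at h
      exact (mul_right_cancel h).symm
    rw [hc.mul_pow, show a ^ q ^ j = 1 from congrArg Subtype.val hj, one_mul]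
    exact R.pow_mem hb _
  haveI := hpg.isNilpotent
  refine Subgroup.isNilpotent_of_ker_le_center π ?_
  rw [QuotientGroup.ker_mk']
  intro r hr
  exact mem_center_iff.2 fun z => Subtype.ext
    (mem_centralizer_iff.1 z.2.2 r (mem_subgroupOf.1 hr)).symm

/-- For `q ≥ 5` no further hypothesis is needed. -/
theorem mem_fittingSubgroup_of_quadratic [Group.IsSolvable S] (h5 : 5 ≤ q) {x : S}
    (hquad : ⁅⁅Cfsg.pCore q S, zpowers x⁆, zpowers x⁆ = ⊥)
    (hcent : x ∈ centralizer (((Cfsg.pPrimeCore q ↥(Cfsg.fittingSubgroup S)).map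
      (Cfsg.fittingSubgroup S).subtype : Subgroup S) : Set S)) :
    x ∈ Cfsg.fittingSubgroup S :=
  mem_fittingSubgroup_of_quadratic_stable (isNormalizerPStable_of_isSolvable h5) hquad hcent

end Cfsg.Lib.Sig
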