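import Cfsg.Agent.S1312
import Cfsg.Agent.Lib.Coprime.PGroupAction

/-!
# Bender's relation `M ⇝ N` between maximal subgroups
-/

set_option autoImplicit false

namespace Cfsg.Lib.Sig.BenderPair

open Subgroup Cfsg.Lib
open scoped commutatorElement
open Cfsg.Agent.S1312 (Op op_le op_isPGroup le_normalizer_op normalizer_eq_max mem_pCore_of_pow op_commute)

universe u

variable {G : Type u} [Group G] [Finite G]

theorem mem_of_forall_primary {H : Subgroup G} {x : G}
    (h : ∀ (s : ℕ) (z : G), Fact s.Prime → z ∈ zpowers x → (∃ k, z ^ s ^ k = 1) → z ∈ H) : x ∈ H := by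
  have h1 : (H.subgroupOf (zpowers x)).index = 1 := by
    by_contra hne
    obtain ⟨s, hs, hd⟩ := Nat.exists_prime_and_dvd hne
    haveI := Fact.mk hs
    obtain ⟨P⟩ : Nonempty (Sylow s ↥(zpowers x)) := inferInstance
    refine P.not_dvd_index (hd.trans (index_dvd_of_le fun z hz => ?_))
    obtain ⟨k, hk⟩ := P.isPGroup' ⟨z, hz⟩
    refine h s z inferInstance z.2 ⟨k, ?_⟩
    have := congrArg Subtype.val (congrArg Subtype.val hk)
    simpa using this
  exact mem_subgroupOf.1 ((index_eq_one.1 h1).ge (mem_top (⟨x, mem_zpowers x⟩ : zpowers x)))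

theorem mem_op_of_fitting {M : Subgroup G} {s : ℕ} [Fact s.Prime] {z : G}
    (hz : z ∈ (Cfsg.fittingSubgroup ↥M).map M.subtype) (hk : ∃ k, z ^ s ^ k = 1) : z ∈ Op s M := by
  obtain ⟨z, hz, rfl⟩ := hz
  obtain ⟨k, hk⟩ := hk
  exact mem_map_of_mem _ (mem_pCore_of_pow hz (k := k) (Subtype.ext (by simpa using hk)))

theorem op_le_fitting (M : Subgroup G) (s : ℕ) [Fact s.Prime] :
    Op s M ≤ (Cfsg.fittingSubgroup ↥M).map M.subtype :=
  map_mono (Core.pCore_le_fittingSubgroup s _)

theorem dvd_card_fitting_iff (M : Subgroup G) (s : ℕ) [hs : Fact s.Prime] :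
    s ∣ Nat.card ↥(Cfsg.fittingSubgroup ↥M) ↔ Op s M ≠ ⊥ := by
  rw [← Core.card_map_subtype (Cfsg.fittingSubgroup ↥M)]
  constructor
  · intro h hb
    obtain ⟨z, hz⟩ := exists_prime_orderOf_dvd_card' s h
    have h1 : (z : G) ∈ Op s M := by
      refine mem_op_of_fitting z.2 ⟨1, ?_⟩
      rw [pow_one, ← SubmonoidClass.coe_pow, ← hz, pow_orderOf_eq_one, OneMemClass.coe_one]
    rw [hb, mem_bot] at h1
    rw [OneMemClass.coe_eq_one.1 h1, orderOf_one] at hz
    exact hs.out.one_lt.ne hz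
  · intro h
    obtain ⟨n, hn⟩ := IsPGroup.iff_card.1 (op_isPGroup s M)
    have hn0 : n ≠ 0 := fun h0 => h (card_eq_one.1 (by rw [hn, h0, pow_zero]))
    exact ((dvd_pow_self s hn0).trans hn.symm.dvd).trans (card_dvd_of_le (op_le_fitting M s))

theorem centerPart_ne_bot {s : ℕ} [Fact s.Prime] {M : Subgroup G} (h : Op s M ≠ ⊥) :
    Op s M ⊓ centralizer (Op s M : Set G) ≠ ⊥ := by
  intro hb
  haveI : Nontrivial ↥(Op s M) := (nontrivial_iff_ne_bot _).2 h
  haveI := (op_isPGroup s M).center_nontrivial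
  obtain ⟨z, hz⟩ := exists_ne (1 : center ↥(Op s M))
  refine hz (Subtype.ext (Subtype.ext ?_))
  have hmem : ((z : ↥(Op s M)) : G) ∈ Op s M ⊓ centralizer (Op s M : Set G) :=
    ⟨(z : ↥(Op s M)).2, mem_centralizer_iff.2 fun y hy =>
      congrArg Subtype.val (mem_center_iff.1 z.2 ⟨y, hy⟩)⟩
  rw [hb, mem_bot] at hmem
  exact hmem

theorem centralizer_centerPart_le [IsSimpleGroup G] {s : ℕ} [Fact s.Prime] {M : Subgroup G} (hM : IsCoatom M)
    (h : Op s M ≠ ⊥) : centralizer ((Op s M ⊓ centralizer (Op s M : Set G) : Subgroup G) : Set G) ≤ M := by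
  refine (centralizer_le_normalizer _).trans (normalizer_eq_max hM (centerPart_ne_bot h)
    (inf_le_left.trans (op_le s M)) ?_).le
  exact (le_inf (le_normalizer_op s M) ((le_normalizer_op s M).trans
    (Cfsg.Lib.CharTwoIn.normalizer_le_normalizer_centralizer' _))).trans inf_normalizer_le_normalizer_inf

variable {M N Q : Subgroup G}

/-- Elements of `O_s(M)` centralizing `O_s(M) ∩ N` lie in `N`. -/
theorem op_centralizer_le (hQF : Q ≤ (Cfsg.fittingSubgroup ↥M).map M.subtype)
    (hQN : (Cfsg.generalizedFittingSubgroup ↥M).map M.subtype ⊓ normalizer (Q : Set G) ≤ N)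
    (s : ℕ) [hs : Fact s.Prime] : Op s M ⊓ centralizer ((Op s M ⊓ N : Subgroup G) : Set G) ≤ N := by
  intro y hy
  have hFF : (Cfsg.fittingSubgroup ↥M).map M.subtype ≤ (Cfsg.generalizedFittingSubgroup ↥M).map M.subtype :=
    map_mono Core.fitting_le_generalizedFitting
  have hQN' : Q ≤ N := (le_inf (hQF.trans hFF) le_normalizer).trans hQN
  refine hQN ⟨hFF (op_le_fitting M s hy.1), centralizer_le_normalizer _ ?_⟩
  refine mem_centralizer_iff.2 fun q hq => (mem_centralizer_singleton_iff.1 (?_ : q ∈ centralizer ({y} : Set G)))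
  refine mem_of_forall_primary fun t z ht hz hk => mem_centralizer_singleton_iff.2 ?_
  have hzQ : z ∈ Q := (zpowers_le.2 hq) hz
  have hzt : z ∈ Op t M := mem_op_of_fitting (hQF hzQ) hk
  by_cases hts : t = s
  · subst hts
    exact mem_centralizer_iff.1 hy.2 z ⟨hzt, hQN' hzQ⟩
  · exact op_commute hts M hzt hy.1

theorem centerPart_le (hQF : Q ≤ (Cfsg.fittingSubgroup ↥M).map M.subtype)
    (hQN : (Cfsg.generalizedFittingSubgroup ↥M).map M.subtype ⊓ normalizer (Q : Set G) ≤ N)
    (s : ℕ) [Fact s.Prime] : Op s M ⊓ centralizer (Op s M : Set G) ≤ N :=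
  (inf_le_inf_left _ (centralizer_le (inf_le_left : Op s M ⊓ N ≤ Op s M))).trans (op_centralizer_le hQF hQN s)

theorem layer_le_right (hQF : Q ≤ (Cfsg.fittingSubgroup ↥M).map M.subtype)
    (hQN : (Cfsg.generalizedFittingSubgroup ↥M).map M.subtype ⊓ normalizer (Q : Set G) ≤ N) :
    (Cfsg.layer ↥M).map M.subtype ≤ N := by
  refine (le_inf (map_mono Core.layer_le_generalizedFitting) ?_).trans hQN
  refine le_trans ?_ (centralizer_le_normalizer _)
  refine le_trans ?_ (centralizer_le hQF)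
  rw [← commutator_eq_bot_iff_le_centralizer, ← map_commutator, Core.commutator_layer_fitting, Subgroup.map_bot]

/-- `O_q(N) ∩ M` centralizes `O_s(M)` for primes `s ≠ q`. -/
theorem commute_op (hQF : Q ≤ (Cfsg.fittingSubgroup ↥M).map M.subtype)
    (hQN : (Cfsg.generalizedFittingSubgroup ↥M).map M.subtype ⊓ normalizer (Q : Set G) ≤ N)
    {q s : ℕ} [hq : Fact q.Prime] [hs : Fact s.Prime] (hqs : q ≠ s) :
    ⁅Op s M, Op q N ⊓ M⁆ = ⊥ := by
  set W := Op s M ⊓ N with hW
  set X := Op q N ⊓ M with hX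
  have hXp : IsPGroup q ↥X := (op_isPGroup q N).to_le inf_le_left
  have hd : Disjoint (Op s M) (Op q N) :=
    IsPGroup.disjoint_of_ne s q (Ne.symm hqs) _ _ (op_isPGroup s M) (op_isPGroup q N)
  have hWX : X ≤ centralizer (W : Set G) := by
    intro x hx
    refine mem_centralizer_iff.2 fun w hw => commutatorElement_eq_one_iff_mul_comm.1 ?_
    refine disjoint_def.1 hd ?_ ?_
    · rw [commutatorElement_def]
      have := (mem_normalizer_iff.1 (le_normalizer_op s M hx.2) w⁻¹).1 (inv_mem hw.1)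
      have h2 : w * (x * w⁻¹ * x⁻¹) ∈ Op s M := mul_mem hw.1 this
      simpa only [mul_assoc] using h2
    · rw [commutatorElement_def]
      exact mul_mem ((mem_normalizer_iff.1 (le_normalizer_op q N hw.2) x).1 hx.1) (inv_mem hx.1)
  refine Coprime.commutator_eq_bot_of_AxB (p := s) (Op s M) W X (op_isPGroup s M)
    ((op_isPGroup s M).to_le inf_le_left) ?_ (inf_le_left.trans le_normalizer)
    (inf_le_right.trans (le_normalizer_op s M)) hWX ?_
  · obtain ⟨n, hn⟩ := IsPGroup.iff_card.1 hXp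
    rw [hn]
    exact ((Nat.coprime_primes hq.out hs.out).2 hqs).pow_left n
  · exact (le_inf inf_le_left (op_centralizer_le hQF hQN s)).trans (le_centralizer_iff.1 hWX)

/-- Components of `M` centralize `O_q(N) ∩ M`. -/
theorem component_commute_inf (hQF : Q ≤ (Cfsg.fittingSubgroup ↥M).map M.subtype)
    (hQN : (Cfsg.generalizedFittingSubgroup ↥M).map M.subtype ⊓ normalizer (Q : Set G) ≤ N)
    {q : ℕ} [Fact q.Prime] {L : Subgroup ↥M} (hL : Cfsg.IsComponent L) :
    ⁅L.map M.subtype, Op q N ⊓ M⁆ = ⊥ := by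
  have hLN : L.map M.subtype ≤ N := (map_mono (Core.le_layer hL)).trans (layer_le_right hQF hQN)
  set S := (Op q N).subgroupOf M with hS
  have hSp : IsPGroup q ↥S := (op_isPGroup q N).comap_of_injective M.subtype M.subtype_injective
  haveI := hSp.isNilpotent
  have h := Core.component_commute_solvable hL (H := S) inferInstance fun l hl => by
    refine mem_normalizer_iff.2 fun x => ?_
    exact mem_normalizer_iff.1 (le_normalizer_op q N (hLN (mem_map_of_mem _ hl))) (x : G)
  have := congrArg (Subgroup.map M.subtype) h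
  rwa [map_commutator, hS, subgroupOf_map_subtype, Subgroup.map_bot] at this

/-- (ii): `O_q(N) ∩ M = 1` for primes `q` not dividing `|F(M)|`. -/
theorem inf_eq_bot (hQF : Q ≤ (Cfsg.fittingSubgroup ↥M).map M.subtype)
    (hQN : (Cfsg.generalizedFittingSubgroup ↥M).map M.subtype ⊓ normalizer (Q : Set G) ≤ N)
    (q : ℕ) [Fact q.Prime] (hqM : Op q M = ⊥) : Op q N ⊓ M = ⊥ := by
  rw [eq_bot_iff]
  intro x hx
  have hle : Cfsg.generalizedFittingSubgroup ↥M ≤ centralizer ({⟨x, hx.2⟩} : Set ↥M) := by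
    have hgen : ∀ (A : Subgroup ↥M), ⁅A.map M.subtype, Op q N ⊓ M⁆ = ⊥ →
        A ≤ centralizer ({⟨x, hx.2⟩} : Set ↥M) := fun A hA a ha => by
      refine mem_centralizer_singleton_iff.2 (Subtype.ext ?_)
      exact (mem_centralizer_iff.1 (commutator_eq_bot_iff_le_centralizer.1 hA (mem_map_of_mem _ ha)) x hx).symm
    refine sup_le (sSup_le fun L (hL : Cfsg.IsComponent L) => hgen L (component_commute_inf hQF hQN hL)) ?_
    show Cfsg.fittingSubgroup ↥M ≤ _
    rw [Core.fittingSubgroup_eq_iSup_pCore]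
    refine iSup_le fun s => ?_
    by_cases hqs : q = (s : ℕ)
    · have : Cfsg.pCore (s : ℕ) ↥M = ⊥ :=
        (Subgroup.map_eq_bot_iff_of_injective _ M.subtype_injective).1 (hqs ▸ hqM)
      rw [this]; exact bot_le
    · haveI : Fact (s : ℕ).Prime := ⟨s.2⟩
      exact hgen _ (commute_op hQF hQN hqs)
  have hc : (⟨x, hx.2⟩ : ↥M) ∈ centralizer (Cfsg.generalizedFittingSubgroup ↥M : Set ↥M) :=
    mem_centralizer_iff.2 fun y hy => mem_centralizer_singleton_iff.1 (hle hy)
  have hF : (⟨x, hx.2⟩ : ↥M) ∈ Cfsg.fittingSubgroup ↥M := by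
    refine Core.le_fittingSubgroup' (N := centralizer (Cfsg.generalizedFittingSubgroup ↥M : Set ↥M))
      inferInstance ?_ hc
    haveI : IsMulCommutative ↥(centralizer (Cfsg.generalizedFittingSubgroup ↥M : Set ↥M)) :=
      ⟨⟨fun a b => Subtype.ext (mem_centralizer_iff.1 b.2 a (Core.centralizer_generalizedFitting_le a.2))⟩⟩
    exact Core.isNilpotent_of_isMulCommutative _
  obtain ⟨k, hk⟩ := op_isPGroup q N ⟨x, hx.1⟩
  have h := mem_op_of_fitting (M := M) (s := q) (z := x) (mem_map_of_mem M.subtype hF)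
    ⟨k, by simpa using congrArg Subtype.val hk⟩
  rwa [hqM] at h

/-- (i): `O_q(N) ≤ M` for `q` dividing `|F(M)|` when a second prime divides it. -/
theorem op_le_left [IsSimpleGroup G] (hM : IsCoatom M) (hQF : Q ≤ (Cfsg.fittingSubgroup ↥M).map M.subtype)
    (hQN : (Cfsg.generalizedFittingSubgroup ↥M).map M.subtype ⊓ normalizer (Q : Set G) ≤ N)
    {q r : ℕ} [hq : Fact q.Prime] [hr : Fact r.Prime] (hqr : q ≠ r) (hqM : Op q M ≠ ⊥) (hrM : Op r M ≠ ⊥) :
    Op q N ≤ M := by
  set Zq := Op q M ⊓ centralizer (Op q M : Set G) with hZq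
  set Zr := Op r M ⊓ centralizer (Op r M : Set G) with hZr
  have hcom : Zr ≤ centralizer (Zq : Set G) := fun x hx => mem_centralizer_iff.2 fun y hy =>
    op_commute hqr M hy.1 hx.1
  have h : ⁅Op q N, Zr⁆ = ⊥ := by
    refine Coprime.commutator_eq_bot_of_AxB (p := q) (Op q N) Zq Zr (op_isPGroup q N)
      ((op_isPGroup q M).to_le inf_le_left) ?_ ((centerPart_le hQF hQN q).trans (le_normalizer_op q N))
      ((centerPart_le hQF hQN r).trans (le_normalizer_op q N)) hcom ?_
    · obtain ⟨n, hn⟩ := IsPGroup.iff_card.1 ((op_isPGroup r M).to_le (inf_le_left : Zr ≤ Op r M))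
      rw [hn]
      exact ((Nat.coprime_primes hr.out hq.out).2 (Ne.symm hqr)).pow_left n
    · refine (inf_le_inf_left _ (centralizer_centerPart_le hM hqM)).trans ?_
      refine le_trans ?_ (centralizer_le (inf_le_left : Zr ≤ Op r M))
      rw [← commutator_eq_bot_iff_le_centralizer, commutator_comm]
      exact commute_op hQF hQN hqr
  exact (commutator_eq_bot_iff_le_centralizer.1 h).trans (centralizer_centerPart_le hM hrM)

theorem sylow_fitting_map_le (N : Subgroup G) (q : ℕ) [Fact q.Prime] (R : Sylow q ↥(Cfsg.fittingSubgroup ↥N)) :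
    ((R : Subgroup ↥(Cfsg.fittingSubgroup ↥N)).map (Cfsg.fittingSubgroup ↥N).subtype).map N.subtype ≤ Op q N := by
  refine map_mono ?_
  rintro _ ⟨x, hx, rfl⟩
  obtain ⟨k, hk⟩ := R.isPGroup' ⟨x, hx⟩
  exact mem_pCore_of_pow x.2 (k := k) (by simpa using congrArg Subtype.val (congrArg Subtype.val hk))

end Cfsg.Lib.Sig.BenderPair
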