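import Cfsg.Agent.Lib.Sig.LocalBalanceApps
import Cfsg.Agent.Lib.Coprime.FixedGeneration

/-!
# The signalizer functor of a core-separated pair of four-subgroups

`a ↦ ⋂ᵢ ([O(C(a)), Aᵢ] (O(C(a)) ∩ O(C(Aᵢ))))` is a signalizer functor, given that groups of odd
order are solvable.
-/

set_option autoImplicit false
set_option linter.unusedSectionVars false
set_option linter.style.haveILetI false

namespace Cfsg.Lib.Sig.CoreSep

open Subgroup LocalBalance Cfsg.Lib
open scoped Pointwise commutatorElement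

universe u

variable {G : Type u} [Group G] [Finite G]

/-- `O(C(b))`, as a subgroup of `G`. -/
abbrev O (b : G) : Subgroup G := Cfsg.centralizerPPrimeCore 2 b

/-- The centralizer of `b`. -/
abbrev C (b : G) : Subgroup G := centralizer ({b} : Set G)

/-- The map `C(b) → C(b) / O(C(b))`. -/
abbrev quo (b : G) : ↥(C b) →* ↥(C b) ⧸ Cfsg.pPrimeCore 2 ↥(C b) :=
  QuotientGroup.mk' _

/-- The image of a subgroup in `C(b) / O(C(b))`. -/
abbrev img (b : G) (S : Subgroup G) : Subgroup (↥(C b) ⧸ Cfsg.pPrimeCore 2 ↥(C b)) :=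
  (S.subgroupOf (C b)).map (quo b)

/-- The elements of `C(b)` centralizing every component of `C(b)/O(C(b))` centralized by `V`. -/
def kerType (b : G) (V : Subgroup G) : Subgroup G :=
  ((⨅ K : {K : Subgroup (↥(C b) ⧸ Cfsg.pPrimeCore 2 ↥(C b)) //
      Cfsg.IsComponent K ∧ img b V ≤ centralizer (SetLike.coe K)},
    centralizer (SetLike.coe K.1)).comap (quo b)).map
    (C b).subtype

theorem mem_kerType {b g : G} {V : Subgroup G} (hg : g ∈ C b)
    (h : ∀ K : Subgroup (↥(C b) ⧸ Cfsg.pPrimeCore 2 ↥(C b)), Cfsg.IsComponent K → img b V ≤ centralizer (SetLike.coe K) →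
      quo b ⟨g, hg⟩ ∈ centralizer (SetLike.coe K)) : g ∈ kerType b V :=
  ⟨⟨g, hg⟩, mem_iInf.2 fun K => h K K.2.1 K.2.2, rfl⟩

theorem of_mem_kerType {b g : G} {V : Subgroup G} (hg : g ∈ kerType b V) :
    ∃ hb : g ∈ C b, ∀ K : Subgroup (↥(C b) ⧸ Cfsg.pPrimeCore 2 ↥(C b)), Cfsg.IsComponent K → img b V ≤ centralizer (SetLike.coe K) →
      quo b ⟨g, hb⟩ ∈ centralizer (SetLike.coe K) := by
  obtain ⟨x, hx, rfl⟩ := hg
  exact ⟨x.2, fun K hK hV => mem_iInf.1 hx ⟨K, hK, hV⟩⟩

theorem isPGroup_zpowers_of_sq {H : Type*} [Group H] {a : H} (ha : a ^ 2 = 1) :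
    IsPGroup 2 (zpowers a) := by
  rcases (Nat.dvd_prime Nat.prime_two).mp (orderOf_dvd_of_pow_eq_one ha) with h | h
  · exact IsPGroup.of_card (n := 0) (by rw [Nat.card_zpowers, h, pow_zero])
  · exact IsPGroup.of_card (n := 1) (by rw [Nat.card_zpowers, h, pow_one])

/-- An odd order part of `O(C(a))` maps into `O(C(ā))`. -/
theorem quo_mem_core {a b d : G} (ha : a ^ 2 = 1) (hab : a ∈ C b) (hd : d ∈ O a) (hdb : d ∈ C b) :
    quo b ⟨d, hdb⟩ ∈ Cfsg.centralizerPPrimeCore 2 (quo b ⟨a, hab⟩) := by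
  haveI : Fact (Nat.Prime 2) := ⟨Nat.prime_two⟩
  refine mem_core_map (quo b) (a := (⟨a, hab⟩ : C b)) ?_
    (mem_core_of_injective (f := (C b).subtype) (C b).subtype_injective hd)
  have h := Sig.centralizer_map_mk' (Cfsg.pPrimeCore 2 ↥(C b)) (Core.pPrimeCore_coprime 2 ↥(C b))
    (isPGroup_zpowers_of_sq (a := (⟨a, hab⟩ : C b)) (Subtype.ext ha))
  rw [MonoidHom.map_zpowers, zpowers_eq_closure, centralizer_closure, zpowers_eq_closure,
    centralizer_closure] at h
  exact h.le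

/-- `O(C(a))` normalizes the components of `C(b)/O(C(b))` normalized by `a`, and centralizes those
moved or centralized by `a`. -/
theorem core_action {a b d : G} (ha : a ^ 2 = 1) (hab : a ∈ C b) (hd : d ∈ O a) (hdb : d ∈ C b)
    {K : Subgroup (↥(C b) ⧸ Cfsg.pPrimeCore 2 ↥(C b))} (hK : Cfsg.IsComponent K) :
    quo b ⟨d, hdb⟩ ∈ normalizer (SetLike.coe K) ∧
      (quo b ⟨a, hab⟩ ∈ centralizer (SetLike.coe K) → quo b ⟨d, hdb⟩ ∈ centralizer (SetLike.coe K)) ∧
      (quo b ⟨a, hab⟩ ∉ normalizer (SetLike.coe K) → quo b ⟨d, hdb⟩ ∈ centralizer (SetLike.coe K)) := by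
  haveI : Fact (Nat.Prime 2) := ⟨Nat.prime_two⟩
  set a' := quo b ⟨a, hab⟩
  have ha' : a' ^ 2 = 1 := by
    rw [← map_pow, show (⟨a, hab⟩ : C b) ^ 2 = 1 from Subtype.ext ha, map_one]
  have hO := Core.pPrimeCore_quotient_eq_bot (G := ↥(C b)) (p := 2)
  have hmem := le_coreC ha' (D := Cfsg.centralizerPPrimeCore 2 a') (core_coprime _) le_rfl
    (quo_mem_core ha hab hd hdb)
  refine ⟨?_, fun h => centralized hO hK ha' h hmem, fun h => moved hO hK ha' h hmem⟩
  by_cases h : a' ∈ normalizer (SetLike.coe K)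
  · exact mem_normalizer_of_fixed hO hK ha' h hmem
  · exact centralizer_le_normalizer _ (moved hO hK ha' h hmem)

theorem conj_mem_centralizer {H : Type*} [Group H] {K : Subgroup H} {z c : H}
    (hz : z ∈ normalizer (K : Set H)) (hc : c ∈ centralizer (K : Set H)) :
    z * c * z⁻¹ ∈ centralizer (K : Set H) := by
  rw [mem_centralizer_iff] at hc ⊢
  intro k hk
  have h1 := hc (z⁻¹ * k * z) ((mem_normalizer_iff''.1 hz k).1 hk)
  calc k * (z * c * z⁻¹) = z * (z⁻¹ * k * z * c) * z⁻¹ := by group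
    _ = z * (c * (z⁻¹ * k * z)) * z⁻¹ := by rw [h1]
    _ = z * c * z⁻¹ * k := by group

/-- An odd subgroup of `C(b)` normalized by `C(b) ∩ C(S)`, `S` a 2-group, centralizes the components
centralized by `S`. -/
theorem le_centralizer_of_two_group {b : G} {S : Subgroup G} (hS : IsPGroup 2 S)
    {R : Subgroup G} (hR : Odd (Nat.card R)) (hRC : R ≤ C b ⊓ centralizer (S : Set G))
    (hn : C b ⊓ centralizer (S : Set G) ≤ normalizer (R : Set G)) (hSb : S ≤ C b)
    {K : Subgroup (↥(C b) ⧸ Cfsg.pPrimeCore 2 ↥(C b))} (hK : Cfsg.IsComponent K)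
    (hKS : img b S ≤ centralizer (SetLike.coe K)) : img b R ≤ centralizer (SetLike.coe K) := by
  haveI : Fact (Nat.Prime 2) := ⟨Nat.prime_two⟩
  set f := quo b
  set H := centralizer ((img b S : Subgroup _) : Set (↥(C b) ⧸ Cfsg.pPrimeCore 2 ↥(C b))) with hH
  have hHeq : H = (centralizer ((S.subgroupOf (C b) : Subgroup _) : Set ↥(C b))).map f :=
    Sig.centralizer_map_mk' _ (Core.pPrimeCore_coprime 2 ↥(C b))
      (hS.comap_of_injective _ (C b).subtype_injective)
  have hKH : K ≤ H := fun k hk => mem_centralizer_iff.2 fun s hs =>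
    (mem_centralizer_iff.1 (hKS hs) k hk).symm
  have hRH : img b R ≤ H := by
    rintro _ ⟨r, hr, rfl⟩
    rw [hHeq]
    exact ⟨r, mem_centralizer_iff.2 fun s hs => Subtype.ext
      (mem_centralizer_iff.1 (hRC (mem_subgroupOf.1 hr)).2 (s : G) (mem_subgroupOf.1 hs)), rfl⟩
  have hnR : ((img b R).subgroupOf H).Normal := by
    refine (normal_subgroupOf_iff_le_normalizer hRH).2 ?_
    rw [hHeq]
    refine le_trans (map_mono fun c hc => ?_) (le_normalizer_map f)
    have hcG : (c : G) ∈ normalizer (R : Set G) := hn ⟨c.2, mem_centralizer_iff.2 fun s hs =>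
      congrArg Subtype.val (mem_centralizer_iff.1 hc ⟨s, hSb hs⟩ (mem_subgroupOf.2 hs))⟩
    refine Subgroup.mem_normalizer_iff.2 fun z => ?_
    simp only [mem_subgroupOf, Subgroup.coe_mul, Subgroup.coe_inv]
    exact Subgroup.mem_normalizer_iff.1 hcG z
  rcases Core.component_le_or_commute (Core.IsComponent.subgroupOf hK hKH) hnR.isSubnormal with h | h
  · exfalso
    have h1 : K ≤ img b R := fun k hk => mem_subgroupOf.1 (h (mem_subgroupOf.2 hk : (⟨k, hKH hk⟩ : H) ∈ K.subgroupOf H))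
    have h2 : 2 ∣ Nat.card K := Sig.dvd_card_component Core.pPrimeCore_quotient_eq_bot hK
    have h3 : Nat.card (img b R) ∣ Nat.card R :=
      (Core.card_map_dvd _ _).trans (card_comap_dvd_of_injective _ _ (C b).subtype_injective)
    exact (Nat.not_even_iff_odd.2 hR) (even_iff_two_dvd.2
      (h2.trans ((card_dvd_of_le h1).trans h3)))
  · intro r hr
    refine mem_centralizer_iff.2 fun k hk => ?_
    have := Core.commutator_eq_bot_iff_forall.1 h ⟨k, hKH hk⟩ (mem_subgroupOf.2 hk) ⟨r, hRH hr⟩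
      (mem_subgroupOf.2 hr)
    exact congrArg Subtype.val this

/-- A core-separated pair. -/
structure Pair (V W : Subgroup G) : Prop where
  hV : Cfsg.IsElementaryAbelian 2 V
  hW : Cfsg.IsElementaryAbelian 2 W
  cV : Nat.card V = 4
  cW : Nat.card W = 4
  comm : ∀ x ∈ V, ∀ y ∈ W, x * y = y * x
  sep : ∀ a ∈ V ⊔ W, a ≠ 1 → ∀ K : Subgroup (↥(C a) ⧸ Cfsg.pPrimeCore 2 ↥(C a)),
    Cfsg.IsComponent K → img a V ≤ centralizer (SetLike.coe K) ∨ img a W ≤ centralizer (SetLike.coe K)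

theorem Pair.symm {V W : Subgroup G} (h : Pair V W) : Pair W V :=
  ⟨h.hW, h.hV, h.cW, h.cV, fun x hx y hy => (h.comm y hy x hx).symm,
    fun a ha ha1 K hK => (h.sep a (by rwa [sup_comm]) ha1 K hK).symm⟩

variable {V W : Subgroup G}

theorem Pair.comm_mem (h : Pair V W) {x y : G} (hx : x ∈ V ⊔ W) (hy : y ∈ V ⊔ W) :
    x * y = y * x := by
  have hVW : W ≤ normalizer (V : Set G) := fun w hw => centralizer_le_normalizer _
    (mem_centralizer_iff.2 fun v hv => h.comm v hv w hw)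
  rw [← SetLike.mem_coe, coe_mul_of_right_le_normalizer_left V W hVW] at hx hy
  obtain ⟨v, hv, w, hw, rfl⟩ := hx
  obtain ⟨v', hv', w', hw', rfl⟩ := hy
  haveI := h.hV.1
  haveI := h.hW.1
  have e1 : v * v' = v' * v := congrArg Subtype.val (mul_comm' (⟨v, hv⟩ : V) ⟨v', hv'⟩)
  have e2 : w * w' = w' * w := congrArg Subtype.val (mul_comm' (⟨w, hw⟩ : W) ⟨w', hw'⟩)
  have e3 : w * v' = v' * w := (h.comm v' hv' w hw).symm
  have e4 : v * w' = w' * v := h.comm v hv w' hw'
  show v * w * (v' * w') = v' * w' * (v * w)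
  calc v * w * (v' * w') = v * (w * v') * w' := by group
    _ = v * v' * (w * w') := by rw [e3]; group
    _ = v' * v * (w' * w) := by rw [e1, e2]
    _ = v' * (v * w') * w := by group
    _ = v' * w' * (v * w) := by rw [e4]; group

theorem Pair.sq (h : Pair V W) {x : G} (hx : x ∈ V ⊔ W) : x ^ 2 = 1 := by
  have hVW : W ≤ normalizer (V : Set G) := fun w hw => centralizer_le_normalizer _
    (mem_centralizer_iff.2 fun v hv => h.comm v hv w hw)
  rw [← SetLike.mem_coe, coe_mul_of_right_le_normalizer_left V W hVW] at hx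
  obtain ⟨v, hv, w, hw, rfl⟩ := hx
  show (v * w) ^ 2 = 1
  rw [(show Commute v w from h.comm v hv w hw).mul_pow, h.hV.2 v hv, h.hW.2 w hw, one_mul]

theorem Pair.le_C (h : Pair V W) {a : G} (ha : a ∈ V ⊔ W) : V ⊔ W ≤ C a := fun _ hx =>
  mem_centralizer_singleton_iff.2 (h.comm_mem hx ha)

theorem O_le_C (a : G) : O a ≤ C a := map_subtype_le _

theorem odd_O (a : G) : Odd (Nat.card (O a)) :=
  Nat.coprime_two_right.1 (core_coprime a)

theorem C_le_normalizer_O (a : G) : C a ≤ normalizer (O a : Set G) := by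
  refine Core.le_normalizer_iff_conj_mem.2 fun g hg => ?_
  rintro _ ⟨y, hy, rfl⟩
  exact ⟨⟨g, hg⟩ * y * ⟨g, hg⟩⁻¹, Subgroup.Normal.conj_mem inferInstance y hy _, rfl⟩

theorem kerType_inter_le (h : Pair V W) {a b : G} (ha : a ∈ V ⊔ W) (hb : b ∈ V ⊔ W) (ha1 : a ≠ 1)
    (hb1 : b ≠ 1) : O a ⊓ kerType b V ⊓ kerType b W ≤ O b := by
  haveI : Fact (Nat.Prime 2) := ⟨Nat.prime_two⟩
  set R := O a ⊓ kerType b V ⊓ kerType b W with hR
  have hRb : R ≤ C b := fun x hx => (of_mem_kerType hx.2).1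
  have hab : a ∈ C b := h.le_C hb ha
  set D := img b R with hD
  have hDcop : (Nat.card D).Coprime 2 := Nat.Coprime.coprime_dvd_left
    ((Core.card_map_dvd _ _).trans (card_comap_dvd_of_injective _ _ (C b).subtype_injective))
    (Core.coprime_card_of_le (inf_le_left.trans inf_le_left) (core_coprime a))
  set a' := quo b ⟨a, hab⟩ with ha'
  have ha'2 : a' ^ 2 = 1 := by
    rw [← map_pow, show (⟨a, hab⟩ : C b) ^ 2 = 1 from Subtype.ext (h.sq ha), map_one]
  have ha'1 : a' ≠ 1 := by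
    intro e
    have h1 : (⟨a, hab⟩ : C b) ∈ Cfsg.pPrimeCore 2 ↥(C b) := (QuotientGroup.eq_one_iff _).1 e
    have h2 := orderOf_coprime_of_mem (Core.pPrimeCore_coprime 2 ↥(C b)) h1
    rw [Subgroup.orderOf_mk, orderOf_eq_prime (h.sq ha) ha1] at h2
    norm_num at h2
  have hAz : ∀ x ∈ zpowers a', x ≠ 1 → x = a' := by
    intro x hx hx1
    obtain ⟨k, rfl⟩ := mem_zpowers_iff.1 hx
    rcases Int.even_or_odd k with ⟨j, rfl⟩ | ⟨j, rfl⟩
    · exact absurd (by rw [← two_mul, zpow_mul, zpow_two, ← pow_two, ha'2, one_zpow]) hx1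
    · rw [zpow_add, zpow_mul, zpow_two, ← pow_two, ha'2, one_zpow, one_mul, zpow_one]
  have hbot : D = ⊥ := by
    refine eq_bot_of_components Core.pPrimeCore_quotient_eq_bot (zpowers a') D ?_ ?_ hDcop ?_ ?_
    · intro x hx
      obtain ⟨k, rfl⟩ := mem_zpowers_iff.1 hx
      rw [← zpow_natCast, ← zpow_mul, mul_comm, zpow_mul, zpow_natCast, ha'2, one_zpow]
    · exact zpowers_ne_bot.2 ha'1
    · intro x hx hx1
      rw [hAz x hx hx1]
      rintro _ ⟨d, hd, rfl⟩
      exact quo_mem_core (h.sq ha) hab (mem_subgroupOf.1 hd).1.1 d.2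
    · intro K hK _ _ _ _
      rintro _ ⟨d, hd, rfl⟩
      rcases h.sep b hb hb1 K hK with hV | hW
      · obtain ⟨_, hk⟩ := of_mem_kerType (mem_subgroupOf.1 hd).1.2
        exact hk K hK hV
      · obtain ⟨_, hk⟩ := of_mem_kerType (mem_subgroupOf.1 hd).2
        exact hk K hK hW
  intro x hx
  refine ⟨⟨x, hRb hx⟩, ?_, rfl⟩
  have : quo b ⟨x, hRb hx⟩ ∈ D := mem_map_of_mem _ (mem_subgroupOf.2 hx)
  rw [hbot, mem_bot] at this
  exact (QuotientGroup.eq_one_iff _).1 this

/-- `[O(C(a)) ∩ C(b), V]` centralizes the components centralized by `V`. -/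
theorem commutator_le_kerType (h : Pair V W) {a b : G} (ha : a ∈ V ⊔ W) (hb : b ∈ V ⊔ W) :
    ⁅O a ⊓ C b, V⁆ ≤ kerType b V := by
  haveI : Fact (Nat.Prime 2) := ⟨Nat.prime_two⟩
  have hab : a ∈ C b := h.le_C hb ha
  refine commutator_le.2 fun z hz x hx => ?_
  have hxb : x ∈ C b := h.le_C hb (mem_sup_left hx)
  refine mem_kerType (V := V) (mul_mem (mul_mem (mul_mem hz.2 hxb) (inv_mem hz.2)) (inv_mem hxb))
    fun K hK hKV => ?_
  have hxK : quo b ⟨x, hxb⟩ ∈ centralizer (SetLike.coe K) :=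
    hKV (mem_map_of_mem _ (mem_subgroupOf.2 hx))
  have := mul_mem (conj_mem_centralizer (core_action (h.sq ha) hab hz.1 hz.2 hK).1 hxK) (inv_mem hxK)
  rwa [← map_inv, ← map_inv, ← map_mul, ← map_mul, ← map_mul] at this

/-- For `v ∈ V`, also the components centralized by `W`. -/
theorem commutator_le_kerType_other (h : Pair V W) {a v : G} (ha : a ∈ V ⊔ W) (hv : v ∈ V)
    (hv1 : v ≠ 1) : ⁅O a ⊓ C v, V⁆ ≤ kerType v W := by
  haveI : Fact (Nat.Prime 2) := ⟨Nat.prime_two⟩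
  have hvA : v ∈ V ⊔ W := mem_sup_left hv
  have hA : V ⊔ W ≤ C v := h.le_C hvA
  refine commutator_le.2 fun z hz x hx => ?_
  have hxv : x ∈ C v := hA (mem_sup_left hx)
  refine mem_kerType (V := W) (mul_mem (mul_mem (mul_mem hz.2 hxv) (inv_mem hz.2)) (inv_mem hxv))
    fun K hK hKW => ?_
  obtain ⟨hzN, hzc, -⟩ := core_action (h.sq ha) (hA ha) hz.1 hz.2 hK
  -- the kernel of `V → Aut K`
  set T : Subgroup V := ((centralizer (SetLike.coe K)).comap (quo v)).comap
    (inclusion (le_sup_left.trans hA)) with hT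
  have hvT : (⟨v, hv⟩ : V) ∈ T := by
    refine mem_centralizer_iff.2 fun k _ => ?_
    obtain ⟨g, rfl⟩ := QuotientGroup.mk'_surjective _ k
    rw [← map_mul, ← map_mul]
    exact congrArg _ (Subtype.ext (mem_centralizer_singleton_iff.1 g.2))
  have hidx : T.index ∣ 2 := by
    have h1 : 2 ≤ Nat.card T := by
      by_contra hlt
      have hbot : T = ⊥ := Subgroup.eq_bot_of_card_le T (by omega)
      rw [hbot, mem_bot] at hvT
      exact hv1 (congrArg Subtype.val hvT)
    have h2 := T.card_mul_index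
    rw [h.cV] at h2
    have h3 : T.index ≤ 2 := by nlinarith
    have h4 : T.index ≠ 0 := Subgroup.index_ne_zero_of_finite
    rcases (by omega : T.index = 1 ∨ T.index = 2) with e | e <;> simp [e]
  have key : quo v ⟨x, hxv⟩ ∈ centralizer (SetLike.coe K) ∨
      quo v ⟨x, hxv⟩ * quo v ⟨a, hA ha⟩ ∈ centralizer (SetLike.coe K) ∨
      quo v ⟨a, hA ha⟩ ∈ centralizer (SetLike.coe K) := by
    have hVW : W ≤ normalizer (V : Set G) := fun w hw => centralizer_le_normalizer _
      (mem_centralizer_iff.2 fun v hv => h.comm v hv w hw)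
    have ha' := ha
    rw [← SetLike.mem_coe, coe_mul_of_right_le_normalizer_left V W hVW] at ha'
    obtain ⟨v₁, hv₁, w₁, hw₁, he⟩ := ha'
    have ea : (⟨a, hA ha⟩ : C v) = ⟨v₁, hA (mem_sup_left hv₁)⟩ * ⟨w₁, hA (mem_sup_right hw₁)⟩ :=
      Subtype.ext he.symm
    have hwK : quo v ⟨w₁, hA (mem_sup_right hw₁)⟩ ∈ centralizer (SetLike.coe K) :=
      hKW (mem_map_of_mem _ (mem_subgroupOf.2 hw₁))
    rw [ea, map_mul, ← mul_assoc, Subgroup.mul_mem_cancel_right _ hwK,
      Subgroup.mul_mem_cancel_right _ hwK, ← map_mul]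
    by_cases hx' : (⟨x, hx⟩ : V) ∈ T
    · exact Or.inl hx'
    by_cases hv' : (⟨v₁, hv₁⟩ : V) ∈ T
    · exact Or.inr (Or.inr hv')
    refine Or.inr (Or.inl ?_)
    rcases (Nat.dvd_prime Nat.prime_two).1 hidx with h1 | h2
    · exact absurd (Subgroup.index_eq_one.1 h1 ▸ Subgroup.mem_top _) hx'
    · exact (Subgroup.mul_mem_iff_of_index_two h2 (a := (⟨x, hx⟩ : V)) (b := ⟨v₁, hv₁⟩)).2
        (iff_of_false hx' hv')
  show quo v (⟨z, hz.2⟩ * ⟨x, hxv⟩ * ⟨z, hz.2⟩⁻¹ * ⟨x, hxv⟩⁻¹) ∈ _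
  rw [map_mul, map_mul, map_mul, map_inv, map_inv]
  set z' := quo v ⟨z, hz.2⟩
  set x' := quo v ⟨x, hxv⟩
  set a' := quo v ⟨a, hA ha⟩ with ha'
  rcases key with hxK | hxaK | haK
  · exact mul_mem (conj_mem_centralizer hzN hxK) (inv_mem hxK)
  · have hza : z' * a' = a' * z' := by
      rw [ha', ← map_mul, ← map_mul]
      exact congrArg _ (Subtype.ext (mem_centralizer_singleton_iff.1 (O_le_C a hz.1)))
    have e : z' * x' * z'⁻¹ * x'⁻¹ = z' * (x' * a') * z'⁻¹ * (x' * a')⁻¹ := by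
      have hza' : a' * z'⁻¹ = z'⁻¹ * a' := by
        rw [eq_inv_mul_iff_mul_eq, ← mul_assoc, hza, mul_inv_cancel_right]
      calc z' * x' * z'⁻¹ * x'⁻¹ = z' * x' * (z'⁻¹ * a') * a'⁻¹ * x'⁻¹ := by group
        _ = z' * (x' * a') * z'⁻¹ * (x' * a')⁻¹ := by rw [← hza']; group
    rw [e]
    exact mul_mem (conj_mem_centralizer hzN hxaK) (inv_mem hxaK)
  · have hxz : x * z * x⁻¹ ∈ O a :=
      (Subgroup.mem_normalizer_iff.1 (C_le_normalizer_O a
        (mem_centralizer_singleton_iff.2 (h.comm_mem (mem_sup_left hx) ha))) z).1 hz.1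
    have hxzv : x * z * x⁻¹ ∈ C v := mul_mem (mul_mem hxv hz.2) (inv_mem hxv)
    have h1 := (core_action (h.sq ha) (hA ha) hxz hxzv hK).2.1 haK
    have e : quo v ⟨x * z * x⁻¹, hxzv⟩ = x' * z' * x'⁻¹ := by
      show quo v (⟨x, hxv⟩ * ⟨z, hz.2⟩ * ⟨x, hxv⟩⁻¹) = _
      rw [map_mul, map_mul, map_inv]
    rw [e] at h1
    rw [show z' * x' * z'⁻¹ * x'⁻¹ = z' * (x' * z' * x'⁻¹)⁻¹ by group]
    exact mul_mem (hzc haK) (inv_mem h1)

/-- `[O(C(a)) ∩ C(v), V] ≤ O(C(v))` for `v ∈ V`. -/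
theorem commutator_le_O (h : Pair V W) {a v : G} (ha : a ∈ V ⊔ W) (ha1 : a ≠ 1) (hv : v ∈ V)
    (hv1 : v ≠ 1) : ⁅O a ⊓ C v, V⁆ ≤ O v := by
  have hvA : v ∈ V ⊔ W := mem_sup_left hv
  refine le_trans (le_inf (le_inf ?_ (commutator_le_kerType h ha hvA))
    (commutator_le_kerType_other h ha hv hv1)) (kerType_inter_le h ha hvA ha1 hv1)
  refine (commutator_mono inf_le_left le_rfl).trans
    (Coprime.commutator_le_of_le_normalizer (le_sup_left.trans ((h.le_C ha).trans (C_le_normalizer_O a))))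

/-- `O(C(V))`, as a subgroup of `G`. -/
abbrev P (V : Subgroup G) : Subgroup G :=
  (Cfsg.oddCore ↥(centralizer (V : Set G))).map (centralizer (V : Set G)).subtype

/-- The subgroup `[O(C(a)), V] (O(C(a)) ∩ O(C(V)))`. -/
abbrev theta₁ (V : Subgroup G) (a : G) : Subgroup G := ⁅O a, V⁆ ⊔ (O a ⊓ P V)

theorem P_le (V : Subgroup G) : P V ≤ centralizer (V : Set G) := map_subtype_le _

theorem centralizer_le_normalizer_P (V : Subgroup G) :
    centralizer (V : Set G) ≤ normalizer (P V : Set G) := by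
  refine Core.le_normalizer_iff_conj_mem.2 fun g hg => ?_
  rintro _ ⟨y, hy, rfl⟩
  exact ⟨⟨g, hg⟩ * y * ⟨g, hg⟩⁻¹, Subgroup.Normal.conj_mem inferInstance y hy _, rfl⟩

/-- An odd subgroup of `C(V)` normalized by `C(V)` lies in `O(C(V))`. -/
theorem le_P {R : Subgroup G} (hR : R ≤ centralizer (V : Set G))
    (hn : centralizer (V : Set G) ≤ normalizer (R : Set G)) (hodd : Odd (Nat.card R)) : R ≤ P V := by
  intro r hr
  refine ⟨⟨r, hR hr⟩, ?_, rfl⟩
  refine le_sSup (s := {N : Subgroup ↥(centralizer (V : Set G)) | N.Normal ∧ (Nat.card N).Coprime 2})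
    ⟨(normal_subgroupOf_iff_le_normalizer hR).2 hn, ?_⟩ (mem_subgroupOf.2 hr : _ ∈ R.subgroupOf _)
  rw [Nat.card_congr (subgroupOfEquivOfLe hR).toEquiv]
  exact Nat.coprime_two_right.2 hodd

variable (hFT : ∀ (H : Type u) [Group H] [Finite H], Odd (Nat.card H) → Group.IsSolvable H)
include hFT

theorem fixed_commutator_le_P (h : Pair V W) {a : G} (ha : a ∈ V ⊔ W) (ha1 : a ≠ 1) :
    ⁅O a, V⁆ ⊓ centralizer (V : Set G) ≤ P V := by
  haveI : Fact (Nat.Prime 2) := ⟨Nat.prime_two⟩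
  haveI := h.hV.1
  have hVn : V ≤ normalizer (O a : Set G) :=
    le_sup_left.trans ((h.le_C ha).trans (C_le_normalizer_O a))
  have hcop : (Nat.card V).Coprime (Nat.card (O a)) := by
    rw [h.cV]
    exact Nat.Coprime.pow_left 2 (Nat.coprime_two_left.2 (odd_O a))
  have hsol : Group.IsSolvable (O a) := hFT _ (odd_O a)
  have hH : Coprime.FixedGen.Hyp V V ⁅O a, V⁆ :=
    ⟨h.hV.1, le_rfl, normalizer_commutator_ge_right _ _,
      Coprime.coprime_of_le (Coprime.commutator_le_of_le_normalizer hVn) hcop,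
      Coprime.isSolvable_of_le (Coprime.commutator_le_of_le_normalizer hVn) hsol,
      Coprime.commutator_commutator_eq hVn hcop (Or.inr hsol)⟩
  rw [Coprime.FixedGen.inf_centralizer_eq hH]
  refine iSup_le fun ⟨D, hDV, hD⟩ => ?_
  obtain ⟨v, hvD, hv1⟩ : ∃ v ∈ D, v ≠ 1 := by
    refine D.bot_or_exists_ne_one.resolve_left fun hbot => ?_
    subst hbot
    haveI := Coprime.FixedGen.subgroupOf_normal_of_comm h.hV.1 (⊥ : Subgroup G)
    haveI : IsCyclic (↥V ⧸ (⊥ : Subgroup G).subgroupOf V) := hD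
    haveI : IsCyclic V := isCyclic_of_injective
      (QuotientGroup.mk' ((⊥ : Subgroup G).subgroupOf V)) (by
        rw [← MonoidHom.ker_eq_bot_iff, QuotientGroup.ker_mk', bot_subgroupOf])
    obtain ⟨g, hg⟩ := IsCyclic.exists_generator (α := V)
    have h4 : orderOf g = 4 := by rw [orderOf_eq_card_of_forall_mem_zpowers hg, h.cV]
    have h2 : orderOf g ∣ 2 := orderOf_dvd_of_pow_eq_one (Subtype.ext (h.hV.2 g g.2))
    rw [h4] at h2
    omega
  have hvV := hDV hvD
  have h1 : ⁅⁅O a, V⁆ ⊓ centralizer (D : Set G), V⁆ ≤ O v := by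
    refine (commutator_mono ?_ le_rfl).trans (commutator_le_O h ha ha1 hvV hv1)
    exact inf_le_inf (Coprime.commutator_le_of_le_normalizer hVn)
      (centralizer_le (Set.singleton_subset_iff.2 hvD))
  have hCV : centralizer (V : Set G) ≤ C v := centralizer_le (Set.singleton_subset_iff.2 hvV)
  refine le_trans (le_inf (inf_le_right.trans h1) (inf_le_left.trans inf_le_right)) (le_P inf_le_right ?_ ?_)
  · exact (le_inf (hCV.trans (C_le_normalizer_O v)) le_normalizer).trans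
      inf_normalizer_le_normalizer_inf
  · exact (odd_O v).of_dvd_nat (card_dvd_of_le inf_le_left)

theorem theta₁_le_O {a : G} (hVn : V ≤ normalizer (O a : Set G)) : theta₁ V a ≤ O a :=
  sup_le (Coprime.commutator_le_of_le_normalizer hVn) inf_le_left

theorem theta₁_inf_centralizer_le (h : Pair V W) {a : G} (ha : a ∈ V ⊔ W) (ha1 : a ≠ 1) :
    theta₁ V a ⊓ centralizer (V : Set G) ≤ P V := by
  intro x hx
  set Q := O a ⊓ P V
  have hQn : Q ≤ normalizer ((⁅O a, V⁆ : Subgroup G) : Set G) :=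
    inf_le_left.trans (normalizer_commutator_ge_left _ _)
  have hx1 : x ∈ ⁅O a, V⁆ ⊔ Q := hx.1
  rw [← SetLike.mem_coe, coe_mul_of_right_le_normalizer_left _ Q hQn] at hx1
  obtain ⟨y, hy, q, hq, rfl⟩ := hx1
  have hyV : y ∈ centralizer (V : Set G) :=
    (Subgroup.mul_mem_cancel_right _ (P_le V hq.2)).1 hx.2
  exact Subgroup.mul_mem _ (fixed_commutator_le_P hFT h ha ha1 ⟨hy, hyV⟩) hq.2

theorem theta₁_inf_C_le_kerType (h : Pair V W) {a b : G} (ha : a ∈ V ⊔ W) (ha1 : a ≠ 1)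
    (hb : b ∈ V ⊔ W) : theta₁ V a ⊓ C b ≤ kerType b V := by
  haveI : Fact (Nat.Prime 2) := ⟨Nat.prime_two⟩
  have hA := h.le_C ha
  have hAn : V ⊔ W ≤ normalizer (O a : Set G) := hA.trans (C_le_normalizer_O a)
  have hVn : V ≤ normalizer (O a : Set G) := le_sup_left.trans hAn
  have hTO : theta₁ V a ≤ O a := theta₁_le_O hFT hVn
  set T := theta₁ V a ⊓ C b with hT
  have hVb : V ≤ C b := le_sup_left.trans (h.le_C hb)
  have hVP : V ≤ normalizer (P V : Set G) := by
    haveI := h.hV.1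
    have hVC : V ≤ centralizer (V : Set G) := fun x hx => mem_centralizer_iff.2 fun y hy =>
      h.comm_mem (mem_sup_left hy) (mem_sup_left hx)
    exact hVC.trans (centralizer_le_normalizer_P V)
  have hVT : V ≤ normalizer (T : Set G) :=
    (le_inf ((le_inf (normalizer_commutator_ge_right _ _)
      ((le_inf hVn hVP).trans inf_normalizer_le_normalizer_inf)).trans
      (normalizer_inf_normalizer_le_normalizer_sup _ _)) (hVb.trans le_normalizer)).trans inf_normalizer_le_normalizer_inf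
  have hTle : T ≤ O a := inf_le_left.trans hTO
  have hcop : (Nat.card V).Coprime (Nat.card T) := by
    rw [h.cV]
    exact Nat.Coprime.pow_left 2 (Nat.coprime_two_left.2 ((odd_O a).of_dvd_nat (card_dvd_of_le hTle)))
  rw [← Coprime.commutator_sup_centralizer_eq hVT hcop
    (Or.inr (hFT _ ((odd_O a).of_dvd_nat (card_dvd_of_le hTle))))]
  refine sup_le ((commutator_mono (le_inf hTle inf_le_right) le_rfl).trans
    (commutator_le_kerType h ha hb)) ?_
  intro x hx
  have hxb : x ∈ C b := hx.1.2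
  have hxP : x ∈ P V := theta₁_inf_centralizer_le hFT h ha ha1 ⟨hx.1.1, hx.2⟩
  refine mem_kerType hxb fun K hK hKV => ?_
  have hodd : Odd (Nat.card ↥(P V ⊓ C b)) := by
    refine Odd.of_dvd_nat ?_ ((card_dvd_of_le inf_le_left).trans (Core.card_map_dvd _ _))
    exact Nat.coprime_two_right.1 (Core.pPrimeCore_coprime 2 _)
  exact le_centralizer_of_two_group (IsPGroup.of_card (n := 2) h.cV) hodd
    (le_inf inf_le_right (inf_le_left.trans (P_le V)))
    ((le_inf (inf_le_right.trans (centralizer_le_normalizer_P V))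
      (inf_le_left.trans le_normalizer)).trans inf_normalizer_le_normalizer_inf)
    hVb hK hKV (mem_map_of_mem _ (mem_subgroupOf.2 (Subgroup.mem_inf.2 ⟨hxP, hxb⟩) :
      (⟨x, hxb⟩ : C b) ∈ (P V ⊓ C b).subgroupOf (C b)))

/-- The functor. -/
abbrev theta (V W : Subgroup G) (a : G) : Subgroup G := theta₁ V a ⊓ theta₁ W a

theorem theta_inf_C_le_O (h : Pair V W) {a b : G} (ha : a ∈ V ⊔ W) (ha1 : a ≠ 1) (hb : b ∈ V ⊔ W)
    (hb1 : b ≠ 1) : theta V W a ⊓ C b ≤ O b := by
  refine le_trans (le_inf (le_inf ?_ ?_) ?_) (kerType_inter_le h ha hb ha1 hb1)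
  · exact inf_le_left.trans (inf_le_left.trans
      (theta₁_le_O hFT (le_sup_left.trans ((h.le_C ha).trans (C_le_normalizer_O a)))))
  · exact (inf_le_inf_right _ inf_le_left).trans (theta₁_inf_C_le_kerType hFT h ha ha1 hb)
  · exact (inf_le_inf_right _ inf_le_right).trans
      (theta₁_inf_C_le_kerType hFT h.symm (by rwa [sup_comm]) ha1 (by rwa [sup_comm]))

theorem theta₁_normalized (h : Pair V W) {a : G} (ha : a ∈ V ⊔ W) :
    V ⊔ W ≤ normalizer (theta₁ V a : Set G) := by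
  have hAn : V ⊔ W ≤ normalizer (O a : Set G) := (h.le_C ha).trans (C_le_normalizer_O a)
  have hAC : V ⊔ W ≤ centralizer (V : Set G) := fun x hx => mem_centralizer_iff.2 fun y hy =>
    h.comm_mem (mem_sup_left hy) hx
  refine (le_inf ?_ ((le_inf hAn (hAC.trans (centralizer_le_normalizer_P V))).trans
    inf_normalizer_le_normalizer_inf)).trans (normalizer_inf_normalizer_le_normalizer_sup _ _)
  intro g hg
  rw [Core.mem_normalizer_iff_map_conj, Subgroup.map_commutator,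
    Core.mem_normalizer_iff_map_conj.1 (hAn hg),
    Core.mem_normalizer_iff_map_conj.1 (centralizer_le_normalizer _ (hAC hg))]

theorem theta_inf_C_le (h : Pair V W) {a b : G} (ha : a ∈ V ⊔ W) (ha1 : a ≠ 1) (hb : b ∈ V ⊔ W)
    (hb1 : b ≠ 1) : theta V W a ⊓ C b ≤ theta₁ V b := by
  haveI : Fact (Nat.Prime 2) := ⟨Nat.prime_two⟩
  set D := theta V W a ⊓ C b with hD
  have hDO : D ≤ O b := theta_inf_C_le_O hFT h ha ha1 hb hb1
  have hAD : V ⊔ W ≤ normalizer (D : Set G) :=
    (le_inf ((le_inf (theta₁_normalized hFT h ha)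
      ((sup_comm V W).le.trans (theta₁_normalized hFT h.symm (by rwa [sup_comm])))).trans
      inf_normalizer_le_normalizer_inf) ((h.le_C hb).trans le_normalizer)).trans
      inf_normalizer_le_normalizer_inf
  have hVD : V ≤ normalizer (D : Set G) := le_sup_left.trans hAD
  have hodd : Odd (Nat.card D) := (odd_O b).of_dvd_nat (card_dvd_of_le hDO)
  have hcop : (Nat.card V).Coprime (Nat.card D) := by
    rw [h.cV]
    exact Nat.Coprime.pow_left 2 (Nat.coprime_two_left.2 hodd)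
  rw [← Coprime.commutator_sup_centralizer_eq hVD hcop (Or.inr (hFT _ hodd))]
  refine sup_le_sup (commutator_mono hDO le_rfl) ?_
  intro x hx
  refine ⟨hDO hx.1, theta₁_inf_centralizer_le hFT h ha ha1 ⟨hx.1.1.1, hx.2⟩⟩

theorem isSignalizerFunctor (h : Pair V W) :
    Cfsg.IsSignalizerFunctor 2 (V ⊔ W) (theta V W) := by
  haveI : Fact (Nat.Prime 2) := ⟨Nat.prime_two⟩
  have hle : ∀ a ∈ V ⊔ W, theta V W a ≤ O a := fun a ha => inf_le_left.trans
    (theta₁_le_O hFT (le_sup_left.trans ((h.le_C ha).trans (C_le_normalizer_O a))))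
  refine ⟨fun a ha _ => (hle a ha).trans (O_le_C a), fun a ha _ hd => ?_, ?_, ?_⟩
  · exact Nat.not_even_iff_odd.2 (odd_O a) (even_iff_two_dvd.2 (hd.trans (card_dvd_of_le (hle a ha))))
  · intro a ha _ b hb x hx
    have hn : V ⊔ W ≤ normalizer (theta V W a : Set G) :=
      (le_inf (theta₁_normalized hFT h ha)
        ((sup_comm V W).le.trans (theta₁_normalized hFT h.symm (by rwa [sup_comm])))).trans
        inf_normalizer_le_normalizer_inf
    exact (Subgroup.mem_normalizer_iff.1 (hn hb) x).1 hx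
  · intro a ha ha1 b hb hb1
    refine le_inf (theta_inf_C_le hFT h ha ha1 hb hb1) ?_
    have := theta_inf_C_le hFT h.symm (a := a) (b := b) (by rwa [sup_comm]) ha1 (by rwa [sup_comm]) hb1
    rwa [theta, inf_comm (theta₁ W a)] at this

omit hFT in
theorem pair_of_isCoreSeparated {A₁ A₂ : Subgroup G} (h : Cfsg.IsCoreSeparated A₁ A₂) :
    Pair A₁ A₂ := by
  haveI : Fact (Nat.Prime 2) := ⟨Nat.prime_two⟩
  obtain ⟨h1, h2, c1, c2, -, -, hcomm, hsep⟩ := h
  refine ⟨h1, h2, c1, c2, hcomm, fun a ha ha1 K hK => ?_⟩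
  set E := Sig.pComponentOver K with hE
  have hEK : E.map (quo a) = K := Sig.map_pComponentOver hK
  have key : ∀ S : Subgroup G, ⁅E.map (C a).subtype, S⁆ ≤ O a → img a S ≤ centralizer (SetLike.coe K) := by
    intro S hS
    rintro _ ⟨s, hs, rfl⟩
    refine mem_centralizer_iff.2 fun k hk => ?_
    rw [← hEK] at hk
    obtain ⟨e, he, rfl⟩ := hk
    obtain ⟨c, hc, hce⟩ := hS (commutator_mem_commutator (mem_map_of_mem (C a).subtype he)
      (mem_subgroupOf.1 hs))
    have hce' : c = ⁅e, s⁆ := Subtype.ext (hce.trans (map_commutatorElement (C a).subtype e s).symm)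
    have := (QuotientGroup.eq_one_iff c).2 hc
    rw [hce', ← QuotientGroup.mk'_apply, map_commutatorElement,
      commutatorElement_eq_one_iff_mul_comm] at this
    exact this
  exact (hsep a ha ha1 E (Sig.isPComponent_pComponentOver hK)).imp (key A₁) (key A₂)

end Cfsg.Lib.Sig.CoreSep
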