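import Cfsg.Agent.Lib.Sig.SectionControl
import Cfsg.Agent.Lib.Core.PSolvable
import Cfsg.Agent.Lib.Fusion.Basic
import Cfsg.Prelude.Def_PLocal
import Cfsg.Prelude.Def_LocalEven

/-!
Normal p-complement criteria of Thompson's type for isomorphism-invariant p-group functors.
-/

set_option autoImplicit false
set_option linter.style.haveILetI false

namespace Cfsg.Lib.Sig

open Subgroup

universe u

variable {p : ℕ} [Fact p.Prime] {X : Type u} [Group X] [Finite X]

theorem hasNormalPComplement_normalizer_conj {U : Subgroup X} {g : X}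
    (h : Cfsg.HasNormalPComplement p
      ↥(normalizer ((U.map (MulAut.conj g).toMonoidHom : Subgroup X) : Set X))) :
    Cfsg.HasNormalPComplement p ↥(normalizer (U : Set X)) := by
  refine Fusion.hasNormalPComplement_of_injective
    (((MulAut.conj g).toMonoidHom.comp (normalizer (U : Set X)).subtype).codRestrict
      (normalizer ((U.map (MulAut.conj g).toMonoidHom : Subgroup X) : Set X))
      fun x => mem_normalizer_map_subgroup _ x.2) ?_ h
  exact fun x y hxy => Subtype.ext ((MulAut.conj g).injective (congrArg Subtype.val hxy))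

theorem hasNormalPComplement_of_normalizer_eq_top {V : Subgroup X}
    (hV : normalizer (V : Set X) = ⊤) (h : Cfsg.HasNormalPComplement p ↥(normalizer (V : Set X))) :
    Cfsg.HasNormalPComplement p X :=
  Fusion.hasNormalPComplement_of_surjective (normalizer (V : Set X)).subtype
    (fun x => ⟨⟨x, hV ▸ mem_top x⟩, rfl⟩) h

theorem hasNormalPComplement_of_quotient_pPrimeCore
    (h : Cfsg.HasNormalPComplement p (X ⧸ Cfsg.pPrimeCore p X)) :
    Cfsg.HasNormalPComplement p X := by
  set M := Cfsg.pPrimeCore p X
  set q := QuotientGroup.mk' M with hq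
  have hqs : Function.Surjective q := QuotientGroup.mk'_surjective _
  have hcop : (Nat.card q.ker).Coprime p := by
    rw [hq, QuotientGroup.ker_mk']; exact Cfsg.Lib.Core.pPrimeCore_coprime p X
  rw [Fusion.hasNormalPComplement_iff_coprime] at h
  refine Fusion.hasNormalPComplement_of_normal ((Cfsg.pResidual p (X ⧸ M)).comap q) ?_ ?_
  · rw [Cfsg.Lib.Core.card_comap_eq q hqs]
    exact hcop.mul_left h
  · obtain ⟨k, hk⟩ := Fusion.index_pResidual_eq_pow (p := p) (G := X ⧸ M)
    refine IsPGroup.of_card (n := k) ?_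
    show ((Cfsg.pResidual p (X ⧸ M)).comap q).index = p ^ k
    rw [index_comap_of_surjective _ hqs, hk]

/-- With `O_{p'} = 1` and a normal p-complement modulo `O_p`, the group is constrained. -/
theorem centralizer_pCore_le_of_complement (hM : Cfsg.pPrimeCore p X = ⊥)
    (h : Cfsg.HasNormalPComplement p (X ⧸ Cfsg.pCore p X)) :
    centralizer (Cfsg.pCore p X : Set X) ≤ Cfsg.pCore p X := by
  refine Cfsg.Lib.Core.centralizer_pCore_le_of_isPSolvable ?_ hM
  obtain ⟨k, hk⟩ := IsPGroup.iff_card.1 (Cfsg.Lib.Core.pCore_isPGroup p X)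
  refine Cfsg.Lib.Core.HasFactorChain.extension (P := Cfsg.Lib.Core.PFactor p) (Cfsg.pCore p X) (Or.inl ⟨k, hk⟩) ?_
  exact Cfsg.Lib.Core.HasFactorChain.extension (Cfsg.pResidual p (X ⧸ Cfsg.pCore p X))
    (Or.inr (Fusion.hasNormalPComplement_iff_coprime.1 h))
    (Cfsg.Lib.Core.isPSolvable_of_isPGroup Fusion.isPGroup_quotient_pResidual)

/-- A subgroup over a Sylow subgroup with a normal p-complement equals it, if `C(O_p) ≤ O_p`. -/
theorem eq_of_complement_of_le (hC : centralizer (Cfsg.pCore p X : Set X) ≤ Cfsg.pCore p X)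
    (S : Sylow p X) {L : Subgroup X} (hSL : (S : Subgroup X) ≤ L)
    (h : Cfsg.HasNormalPComplement p ↥L) : L = (S : Subgroup X) := by
  set K := (Cfsg.pResidual p ↥L).map L.subtype with hK
  have hKcop : (Nat.card ↥K).Coprime p :=
    Nat.Coprime.coprime_dvd_left (card_map_dvd _ _) (Fusion.hasNormalPComplement_iff_coprime.1 h)
  set Q := Cfsg.pCore p X
  have hQL : Q ≤ L := (Cfsg.Lib.Core.pCore_le_sylow S).trans hSL
  have hcomm : K ≤ centralizer (Q : Set X) := by
    intro x hx
    obtain ⟨y, hy, rfl⟩ := hx
    refine mem_centralizer_iff.2 fun q hq => ?_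
    have hk : (⟨q, hQL hq⟩ : ↥L) * y * (⟨q, hQL hq⟩ : ↥L)⁻¹ * y⁻¹ ∈ Cfsg.pResidual p ↥L :=
      mul_mem ((Fusion.pResidual_normal p ↥L).conj_mem y hy _) (inv_mem hy)
    have h1 : q * (y : X) * q⁻¹ * (y : X)⁻¹ ∈ K :=
      ⟨_, hk, by simp⟩
    have h2 : q * (y : X) * q⁻¹ * (y : X)⁻¹ ∈ Q := by
      have e : q * (y : X) * q⁻¹ * (y : X)⁻¹ = q * ((y : X) * q⁻¹ * (y : X)⁻¹) := by group
      rw [e]
      exact mul_mem hq (Subgroup.Normal.conj_mem inferInstance _ (inv_mem hq) _)
    have h3 : q * (y : X) * q⁻¹ * (y : X)⁻¹ = 1 := by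
      have := disjoint_of_isPGroup_coprime (Cfsg.Lib.Core.pCore_isPGroup p X) hKcop
      exact mem_bot.1 (this ▸ mem_inf.2 ⟨h2, h1⟩)
    show q * (y : X) = (y : X) * q
    calc q * (y : X) = q * (y : X) * q⁻¹ * (y : X)⁻¹ * ((y : X) * q) := by group
      _ = (y : X) * q := by rw [h3, one_mul]
  have hKbot : K = ⊥ := by
    have := disjoint_of_isPGroup_coprime (Cfsg.Lib.Core.pCore_isPGroup p X) hKcop
    exact le_bot_iff.1 (this ▸ le_inf (hcomm.trans hC) le_rfl)
  have hp : IsPGroup p ↥L := by
    rw [hK, Subgroup.map_eq_bot_iff_of_injective _ L.subtype_injective] at hKbot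
    have := Fusion.isPGroup_quotient_pResidual (p := p) (G := ↥L)
    exact this.of_injective (QuotientGroup.mk' _)
      ((MonoidHom.ker_eq_bot_iff _).1 (by rw [QuotientGroup.ker_mk', hKbot]))
  exact S.3 hp hSL

/-- Thompson's normal p-complement criterion, in functor form. -/
theorem hasNormalPComplement_of_functor {W : ∀ (Q : Type u) [Group Q], Subgroup Q}
    (hW : Cfsg.IsCharPFunctor.{u} p W) (Ctl : ∀ (Y : Type u) [Group Y], Prop)
    (hfinal : ∀ (Y : Type u) [Group Y] [Finite Y], Ctl Y →
      centralizer (Cfsg.pCore p Y : Set Y) ≤ Cfsg.pCore p Y →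
      Cfsg.HasNormalPComplement p (Y ⧸ Cfsg.pCore p Y) → ∀ T : Sylow p Y, IsCoatom (T : Subgroup Y) →
      (Cfsg.inducedFunctor W (T : Subgroup Y)).Normal) :
    ∀ (n : ℕ) (X : Type u) [Group X] [Finite X], Nat.card X ≤ n → SectionHyp p Ctl X →
      ∀ S : Sylow p X,
        Cfsg.HasNormalPComplement p
          ↥(normalizer ((Cfsg.inducedFunctor W (S : Subgroup X) : Subgroup X) : Set X)) →
        Cfsg.HasNormalPComplement p X := by
  intro n
  induction n with
  | zero => intro X _ _ h; have : 0 < Nat.card X := Nat.card_pos; omega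
  | succ n ih =>
    intro X _ _ hn hX S hS
    have h𝓕 : Cfsg.IsConjugacyFunctor p (Cfsg.inducedFunctor (G := X) W) :=
      isConjugacyFunctor_inducedFamily {W} (by rintro V rfl; exact hW) X _ ⟨W, rfl, rfl⟩
    have hWn : ∀ P : Subgroup X, IsPGroup p ↥P →
        P ≤ normalizer ((Cfsg.inducedFunctor W P : Subgroup X) : Set X) := fun P hP z hz =>
      mem_normalizer_of_map_conj (by
        rw [← (h𝓕 P hP).2.2 z, map_conj_eq_of_mem_normalizer (le_normalizer hz)])
    by_contra hcon
    -- proper subgroups with a given Sylow subgroup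
    have hproper : ∀ L : Subgroup X, L ≠ ⊤ → ∀ P : Subgroup X, P ≤ L → IsPGroup p ↥P →
        ¬ p ∣ P.relIndex L → Cfsg.HasNormalPComplement p
          ↥(normalizer ((Cfsg.inducedFunctor W P : Subgroup X) : Set X)) →
        Cfsg.HasNormalPComplement p ↥L := by
      intro L hL P hPL hP hidx hPc
      have hlt : Nat.card ↥L < Nat.card ↥(⊤ : Subgroup X) := Fusion.card_lt_card_of_lt hL.lt_top
      rw [card_top] at hlt
      let T : Sylow p ↥L := (hP.of_equiv (subgroupOfEquivOfLe hPL).symm).toSylow hidx
      have hT : (T : Subgroup ↥L).map L.subtype = P := by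
        show (P.subgroupOf L).map L.subtype = P
        exact map_subgroupOf_eq_of_le hPL
      refine ih ↥L (by omega) (hX.subgroup L) T ?_
      refine Fusion.hasNormalPComplement_of_injective
        ((L.subtype.comp (normalizer ((Cfsg.inducedFunctor W (T : Subgroup ↥L) : Subgroup ↥L) :
          Set ↥L)).subtype).codRestrict
            (normalizer ((Cfsg.inducedFunctor W P : Subgroup X) : Set X)) fun x => ?_) ?_ hPc
      · rw [← hT, inducedFunctor_map hW L.subtype T.2
          (by rw [(MonoidHom.ker_eq_bot_iff _).2 L.subtype_injective, inf_bot_eq])]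
        exact mem_normalizer_map_subgroup L.subtype x.2
      · exact fun x y hxy => Subtype.ext (Subtype.ext (congrArg Subtype.val hxy :))
    -- all p-local subgroups have normal p-complements
    suffices H : ∀ d : ℕ, ∀ U : Subgroup X, U ≤ (S : Subgroup X) → U ≠ ⊥ →
        Nat.card ↥(S : Subgroup X) < Nat.card ↥((S : Subgroup X) ⊓ normalizer (U : Set X)) + d →
        Cfsg.HasNormalPComplement p ↥(normalizer (U : Set X)) by
      refine hcon (Fusion.frobenius_local fun R hR hR1 => ?_)
      obtain ⟨x, hx⟩ := exists_conj_le_sylow S hR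
      refine hasNormalPComplement_normalizer_conj (g := x) (H (Nat.card ↥(S : Subgroup X) + 1) _ hx
        (fun e => hR1 ((Subgroup.map_eq_bot_iff_of_injective _ (MulAut.conj x).injective).1 e))
        (by omega))
    intro d
    induction d with
    | zero =>
      exact fun U _ _ h => absurd h (not_lt.2 (by
        simpa using card_le_of_le (inf_le_left :
          (S : Subgroup X) ⊓ normalizer (U : Set X) ≤ (S : Subgroup X))))
    | succ d ihd =>
      intro U₀ hU₀S hU₀ne hd₀
      obtain ⟨U, ⟨hUS, hUidx⟩, k, hk⟩ := exists_conj_sylowNormalized S hU₀S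
      obtain ⟨a, ha, ha'⟩ := exists_conj_normalizer_le S hk hUidx
      have hd : Nat.card ↥(S : Subgroup X) <
          Nat.card ↥((S : Subgroup X) ⊓ normalizer (U : Set X)) + (d + 1) := by
        have := card_le_of_le ha'
        rw [card_map_conj] at this
        omega
      have hUne : U ≠ ⊥ := by
        rw [← ha, Ne, Subgroup.map_eq_bot_iff_of_injective _ (MulAut.conj a).injective]
        exact hU₀ne
      refine hasNormalPComplement_normalizer_conj (g := a) ?_
      rw [ha]
      by_cases hUN : normalizer (U : Set X) = ⊤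
      swap
      · set P₀ := (S : Subgroup X) ⊓ normalizer (U : Set X) with hP₀def
        have hP₀ : IsPGroup p ↥P₀ := S.2.to_le inf_le_left
        refine hproper _ hUN P₀ inf_le_right hP₀ hUidx ?_
        by_cases hfull : P₀ = (S : Subgroup X)
        · rw [hfull]; exact hS
        · refine ihd _ ((h𝓕 P₀ hP₀).1.trans inf_le_left) ((h𝓕 P₀ hP₀).2.1 fun e =>
            hUne (le_bot_iff.1 (e ▸ le_inf hUS le_normalizer))) ?_
          have hlt : Nat.card ↥P₀ < Nat.card ↥((S : Subgroup X) ⊓ normalizer (P₀ : Set X)) :=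
            card_lt_card_inf_normalizer S inf_le_left hfull
          have hle : Nat.card ↥((S : Subgroup X) ⊓ normalizer (P₀ : Set X)) ≤
              Nat.card ↥((S : Subgroup X) ⊓ normalizer
                ((Cfsg.inducedFunctor W P₀ : Subgroup X) : Set X)) :=
            card_le_of_le (inf_le_inf_left _ fun z hz => mem_normalizer_of_map_conj (by
              rw [← (h𝓕 P₀ hP₀).2.2 z, map_conj_eq_of_mem_normalizer hz]))
          omega
      · exfalso
        refine hcon ?_
        haveI : U.Normal := normalizer_eq_top_iff.1 hUN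
        set Q := Cfsg.pCore p X with hQdef
        have hQne : Q ≠ ⊥ := fun e => hUne (le_bot_iff.1 (e ▸
          Cfsg.Lib.Core.le_pCore' inferInstance (S.2.to_le hUS)))
        have hSne : (S : Subgroup X) ≠ ⊥ := fun e => hUne (le_bot_iff.1 (e ▸ hUS))
        set WS := Cfsg.inducedFunctor W (S : Subgroup X) with hWS
        by_cases hnorm : normalizer (WS : Set X) = ⊤
        · exact hasNormalPComplement_of_normalizer_eq_top hnorm hS
        by_cases hM : Cfsg.pPrimeCore p X = ⊥
        swap
        · -- pass to `X / O_{p'}(X)`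
          set M := Cfsg.pPrimeCore p X with hMdef
          have hMcop : (Nat.card ↥M).Coprime p := Cfsg.Lib.Core.pPrimeCore_coprime p X
          have hlt : Nat.card (X ⧸ M) < Nat.card X := Cfsg.Lib.Core.card_quotient_lt hM
          refine hasNormalPComplement_of_quotient_pPrimeCore ?_
          refine ih (X ⧸ M) (by omega) (hX.quotient M)
            (S.mapSurjective (QuotientGroup.mk'_surjective M)) ?_
          rw [Sylow.coe_mapSurjective, inducedFunctor_map hW _ S.2 (by
            rw [QuotientGroup.ker_mk']; exact disjoint_of_isPGroup_coprime S.2 hMcop)]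
          refine Fusion.hasNormalPComplement_of_surjective
            (((QuotientGroup.mk' M).comp (normalizer (WS : Set X)).subtype).codRestrict _
              fun x => mem_normalizer_map_subgroup _ x.2) ?_ hS
          rintro ⟨y, hy⟩
          obtain ⟨y₀, rfl⟩ := QuotientGroup.mk'_surjective M y
          obtain ⟨m, hm, hmy⟩ := exists_mul_mem_normalizer M hMcop (S.2.to_le (map_subtype_le _)) hy
          refine ⟨⟨m * y₀, hmy⟩, Subtype.ext ?_⟩
          show QuotientGroup.mk' M (m * y₀) = QuotientGroup.mk' M y₀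
          rw [map_mul, show QuotientGroup.mk' M m = 1 from (QuotientGroup.eq_one_iff m).2 hm, one_mul]
        -- `X / Q` has a normal p-complement
        have hQS : Q ≤ (S : Subgroup X) := Cfsg.Lib.Core.pCore_le_sylow S
        have hlt : Nat.card (X ⧸ Q) < Nat.card X := Cfsg.Lib.Core.card_quotient_lt hQne
        set f := QuotientGroup.mk' Q with hf
        have hfs : Function.Surjective f := QuotientGroup.mk'_surjective Q
        have hquot : Cfsg.HasNormalPComplement p (X ⧸ Q) := by
          by_cases hS₁ : (S : Subgroup X).map f = ⊥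
          · exfalso
            rw [Subgroup.map_eq_bot_iff, hf, QuotientGroup.ker_mk'] at hS₁
            refine hnorm (eq_top_iff.2 fun x _ => mem_normalizer_of_map_conj ?_)
            have hSQ : (S : Subgroup X) = Q := le_antisymm hS₁ hQS
            rw [hWS, ← (h𝓕 _ S.2).2.2 x, map_conj_eq_of_mem_normalizer]
            rw [hSQ, normalizer_eq_top_iff.2 inferInstance]
            exact mem_top x
          · refine ih (X ⧸ Q) (by omega) (hX.quotient Q) (S.mapSurjective hfs) ?_
            rw [Sylow.coe_mapSurjective]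
            set W₁ := Cfsg.inducedFunctor W ((S : Subgroup X).map f) with hW₁def
            have hW₁ : W₁ ≤ (S : Subgroup X).map f ∧ W₁ ≠ ⊥ := by
              have := isConjugacyFunctor_inducedFamily {W} (by rintro V rfl; exact hW) (X ⧸ Q) _
                ⟨W, rfl, rfl⟩ _ (S.2.map f)
              exact ⟨this.1, this.2.1 hS₁⟩
            set N₁ := normalizer (W₁ : Set (X ⧸ Q)) with hN₁
            have hN₁top : N₁ ≠ ⊤ := fun e => hW₁.2 (le_bot_iff.1
              (Cfsg.Lib.Core.pCore_quotient_pCore_eq_bot (p := p) (G := X) ▸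
                Cfsg.Lib.Core.le_pCore' (normalizer_eq_top_iff.1 e) ((S.2.map f).to_le hW₁.1)))
            have hL : N₁.comap f ≠ ⊤ := fun e => hN₁top (by
              have := congrArg (Subgroup.map f) e
              rwa [map_comap_eq_self_of_surjective hfs, map_top_of_surjective _ hfs] at this)
            have hSN : (S : Subgroup X) ≤ N₁.comap f := fun s hs => mem_comap.2 (by
              have := isConjugacyFunctor_inducedFamily {W} (by rintro V rfl; exact hW) (X ⧸ Q) _
                ⟨W, rfl, rfl⟩ _ (S.2.map f)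
              exact mem_normalizer_of_map_conj (by
                rw [hW₁def, ← this.2.2 (f s),
                  map_conj_eq_of_mem_normalizer (le_normalizer (mem_map_of_mem f hs))]))
            have hc := hproper _ hL (S : Subgroup X) hSN S.2
              (fun h => S.not_dvd_index (h.trans (relIndex_dvd_index_of_le hSN))) hS
            refine Fusion.hasNormalPComplement_of_surjective
              ((f.comp (N₁.comap f).subtype).codRestrict N₁ fun x => x.2) ?_ hc
            rintro ⟨y, hy⟩
            obtain ⟨x, rfl⟩ := hfs y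
            exact ⟨⟨x, hy⟩, rfl⟩
        have hC := centralizer_pCore_le_of_complement hM hquot
        have hcoatom : IsCoatom (S : Subgroup X) := by
          refine ⟨fun e => hcon (Fusion.hasNormalPComplement_of_isPGroup
            ((e ▸ S.2 : IsPGroup p ↥(⊤ : Subgroup X)).of_equiv topEquiv)), fun L hL => ?_⟩
          by_contra hLtop
          exact hL.ne' (eq_of_complement_of_le hC S hL.le (hproper L hLtop (S : Subgroup X) hL.le S.2
            (fun h => S.not_dvd_index (h.trans (relIndex_dvd_index_of_le hL.le))) hS))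
        have hWnormal := hfinal X (hX.self hC) hC hquot S hcoatom
        exact absurd (normalizer_eq_top_iff.2 hWnormal) hnorm

end Cfsg.Lib.Sig

namespace Cfsg.Lib.Sig

open Subgroup

universe v w

theorem map_iterCommutator {Y Z : Type*} [Group Y] [Group Z] (f : Y →* Z) (A B : Subgroup Y) :
    ∀ n : ℕ, (Cfsg.iterCommutator A B n).map f = Cfsg.iterCommutator (A.map f) (B.map f) n
  | 0 => rfl
  | n + 1 => by
    show (⁅Cfsg.iterCommutator A B n, B⁆).map f = _
    rw [map_commutator, map_iterCommutator f A B n]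
    rfl

theorem isChiefFactor_map_equiv {Y Z : Type*} [Group Y] [Group Z] (e : Y ≃* Z) {U V : Subgroup Y}
    (h : Cfsg.IsChiefFactor U V) :
    Cfsg.IsChiefFactor (U.map e.toMonoidHom) (V.map e.toMonoidHom) := by
  obtain ⟨hlt, hU, hV, hmin⟩ := h
  refine ⟨(e.mapSubgroup.lt_iff_lt).2 hlt, hU.map _ e.surjective, hV.map _ e.surjective, ?_⟩
  intro N hN h1 h2
  rcases hmin (N.comap e.toMonoidHom) (hN.comap _) (map_le_iff_le_comap.1 h1)
    ((comap_mono h2).trans (comap_map_eq_self_of_injective e.injective U).le) with hh | hh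
  · exact Or.inl (by rw [← map_comap_eq_self_of_surjective (f := e.toMonoidHom) e.surjective N, ← hh])
  · exact Or.inr (by rw [← map_comap_eq_self_of_surjective (f := e.toMonoidHom) e.surjective N, ← hh])

theorem hasNormalPComplement_quotient_pCore_congr {p : ℕ} [Fact p.Prime] {Y Z : Type*} [Group Y]
    [Group Z] [Finite Y] [Finite Z] (e : Y ≃* Z)
    (h : Cfsg.HasNormalPComplement p (Z ⧸ Cfsg.pCore p Z)) :
    Cfsg.HasNormalPComplement p (Y ⧸ Cfsg.pCore p Y) :=
  (Fusion.hasNormalPComplement_congr (QuotientGroup.congr (Cfsg.pCore p Y) (Cfsg.pCore p Z) e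
    (Cfsg.Lib.Core.map_pCore_equiv e))).2 h

theorem normal_inducedFunctor_congr {p : ℕ} [Fact p.Prime]
    {W : ∀ (Q : Type v) [Group Q], Subgroup Q} (hW : Cfsg.IsCharPFunctor.{v} p W) {Y Z : Type v}
    [Group Y] [Group Z] [Finite Y] [Finite Z] (e : Y ≃* Z) (T : Sylow p Z)
    (h : (Cfsg.inducedFunctor W ((T.mapSurjective (f := e.symm.toMonoidHom) e.symm.surjective : Sylow p Y) : Subgroup Y)).Normal) :
    (Cfsg.inducedFunctor W (T : Subgroup Z)).Normal := by
  have := h.map e.toMonoidHom e.surjective
  rw [← inducedFunctor_map hW _ (Sylow.isPGroup' _)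
      (by rw [(MonoidHom.ker_eq_bot_iff _).2 e.injective, inf_bot_eq])] at this
  change (Cfsg.inducedFunctor W (((T : Subgroup Z).map e.symm.toMonoidHom).map e.toMonoidHom)).Normal at this
  rwa [Subgroup.map_map,
    show e.toMonoidHom.comp e.symm.toMonoidHom = MonoidHom.id Z from MonoidHom.ext fun z => e.apply_symm_apply z,
    Subgroup.map_id] at this

end Cfsg.Lib.Sig
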