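import Cfsg.Agent.Lib.Sig.KInf
import Cfsg.Agent.Lib.Sig.ComplementCriterion
import Cfsg.Agent.Lib.PGroup.Basic
import Cfsg.Agent.Lib.Solv.Nilpotent
import Cfsg.Prelude.Def_PLocal
import Cfsg.Prelude.Def_LocalEven
import Mathlib.GroupTheory.GroupAction.ConjAct

/-!
If a K-infinity subgroup of a Sylow p-subgroup is not normal, then some element of the Sylow subgroup
outside `O_p` acts with small degree on a critical subgroup of `O_p`.
-/

set_option autoImplicit false
set_option linter.style.haveILetI false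

namespace Cfsg.Lib.Sig

open Subgroup
open scoped commutatorElement

universe u

/-! ### Complements invariant under subnormal subgroups -/

section Semisimple

variable {G : Type*} [Group G]

theorem inf_normalizer_le_normalizer_sup (A B : Subgroup G) :
    normalizer (A : Set G) ⊓ normalizer (B : Set G) ≤ normalizer ((A ⊔ B : Subgroup G) : Set G) :=
  fun g hg => mem_normalizer_of_map_conj (by
    rw [Subgroup.map_sup, map_conj_eq_of_mem_normalizer hg.1, map_conj_eq_of_mem_normalizer hg.2])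

theorem inf_normalizer_le_normalizer_inf (A B : Subgroup G) :
    normalizer (A : Set G) ⊓ normalizer (B : Set G) ≤ normalizer ((A ⊓ B : Subgroup G) : Set G) :=
  fun g hg => mem_normalizer_of_map_conj (by
    rw [map_inf _ _ _ (MulAut.conj g).injective, map_conj_eq_of_mem_normalizer hg.1,
      map_conj_eq_of_mem_normalizer hg.2])

/-- `U` is minimal among the nontrivial subgroups normalized by `K`. -/
def IsMinimalInvariant (K U : Subgroup G) : Prop :=
  U ≠ ⊥ ∧ K ≤ normalizer (U : Set G) ∧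
    ∀ U' : Subgroup G, U' ≤ U → K ≤ normalizer (U' : Set G) → U' = ⊥ ∨ U' = U

theorem exists_isMinimalInvariant_le [Finite G] {K U : Subgroup G} (hU : U ≠ ⊥)
    (hK : K ≤ normalizer (U : Set G)) : ∃ U₀ ≤ U, IsMinimalInvariant K U₀ := by
  obtain ⟨U₀, ⟨h1, h2, h3⟩, hmin⟩ :=
    (Set.toFinite {X : Subgroup G | X ≤ U ∧ X ≠ ⊥ ∧ K ≤ normalizer (X : Set G)}).exists_minimal
      ⟨U, le_rfl, hU, hK⟩
  refine ⟨U₀, h1, h2, h3, fun U' hle hU' => ?_⟩
  by_cases h : U' = ⊥
  · exact Or.inl h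
  · exact Or.inr (le_antisymm hle (hmin ⟨hle.trans h1, h, hU'⟩ hle))

theorem le_sSup_isMinimalInvariant [Finite G] (M : Subgroup G) [M.Normal]
    (hM : ∀ N : Subgroup G, N.Normal → N ≤ M → N = ⊥ ∨ N = M) {H : Subgroup G} (hH : H.IsSubnormal) :
    M ≤ sSup {U | U ≤ M ∧ IsMinimalInvariant H U} := by
  induction hH with
  | top =>
    by_cases hbot : M = ⊥
    · rw [hbot]; exact bot_le
    refine le_sSup ⟨le_rfl, hbot, by rw [normalizer_eq_top_iff.2 ‹M.Normal›], fun U' hle hU' => ?_⟩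
    exact hM U' (normalizer_eq_top_iff.1 (top_le_iff.1 hU')) hle
  | step H K hHK hK hn ih =>
    have hKN : K ≤ normalizer (H : Set G) := (normal_subgroupOf_iff_le_normalizer hHK).1 hn
    refine ih.trans (sSup_le fun U hU => ?_)
    obtain ⟨hUM, hne, hUK, hUmin⟩ := hU
    obtain ⟨U₀, h0U, h0⟩ := exists_isMinimalInvariant_le hne (hHK.trans hUK)
    have hconj : ∀ k ∈ K, U₀.map (MulAut.conj k).toMonoidHom ≤ M ∧
        IsMinimalInvariant H (U₀.map (MulAut.conj k).toMonoidHom) ∧
        U₀.map (MulAut.conj k).toMonoidHom ≤ U := by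
      intro k hk
      have hle : U₀.map (MulAut.conj k).toMonoidHom ≤ U :=
        (map_mono h0U).trans (map_conj_eq_of_mem_normalizer (hUK hk)).le
      refine ⟨hle.trans hUM, ⟨?_, ?_, fun U' hle' hU' => ?_⟩, hle⟩
      · rw [Ne, Subgroup.map_eq_bot_iff_of_injective _ (MulAut.conj k).injective]
        exact h0.1
      · rw [← map_conj_normalizer, ← map_conj_eq_of_mem_normalizer (hKN hk)]
        exact map_mono h0.2.1
      · have h1 : U'.map (MulAut.conj k⁻¹).toMonoidHom ≤ U₀ := by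
          have := map_mono (f := (MulAut.conj k⁻¹).toMonoidHom) hle'
          rwa [map_conj_inv_map_conj] at this
        have h2 : H ≤ normalizer ((U'.map (MulAut.conj k⁻¹).toMonoidHom : Subgroup G) : Set G) := by
          rw [← map_conj_normalizer, ← map_conj_eq_of_mem_normalizer (hKN (inv_mem hk))]
          exact map_mono hU'
        have e : U' = (U'.map (MulAut.conj k⁻¹).toMonoidHom).map (MulAut.conj k).toMonoidHom := by
          rw [map_conj_map_conj, mul_inv_cancel, map_one]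
          exact (Subgroup.map_id U').symm
        rcases h0.2.2 _ h1 h2 with h | h
        · left; rw [e, h, Subgroup.map_bot]
        · right; rw [e, h]
    set J := sSup {X | ∃ k ∈ K, X = U₀.map (MulAut.conj k).toMonoidHom} with hJ
    have hJU : J ≤ U := sSup_le fun X ⟨k, hk, e⟩ => e ▸ (hconj k hk).2.2
    have hJK : K ≤ normalizer (J : Set G) := fun k hk => mem_normalizer_of_map_conj (by
      refine eq_of_le_of_card_ge ?_ (card_map_conj _ _).ge
      rw [hJ, sSup_eq_iSup, Subgroup.map_iSup]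
      refine iSup_le fun X => ?_
      rw [Subgroup.map_iSup]
      refine iSup_le ?_
      rintro ⟨k', hk', rfl⟩
      rw [map_conj_map_conj, ← sSup_eq_iSup]
      exact le_sSup ⟨k * k', mul_mem hk hk', rfl⟩)
    have hJne : J ≠ ⊥ := fun e => h0.1 (le_bot_iff.1 (e ▸ le_sSup ⟨1, one_mem K, by
      rw [map_one]; exact (Subgroup.map_id U₀).symm⟩))
    rcases hUmin J hJU hJK with h | h
    · exact absurd h hJne
    · rw [← h]
      exact sSup_le fun X ⟨k, hk, e⟩ => le_sSup (e ▸ ⟨(hconj k hk).1, (hconj k hk).2.1⟩)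

theorem exists_invariant_complement [Finite G] (M : Subgroup G) [M.Normal]
    (hcomm : ⁅M, M⁆ = ⊥) (hM : ∀ N : Subgroup G, N.Normal → N ≤ M → N = ⊥ ∨ N = M) {H : Subgroup G}
    (hH : H.IsSubnormal) {W : Subgroup G} (hWM : W ≤ M) (hW : H ≤ normalizer (W : Set G)) :
    ∃ W' ≤ M, H ≤ normalizer (W' : Set G) ∧ W ⊔ W' = M ∧ W ⊓ W' = ⊥ := by
  obtain ⟨W', ⟨h1, h2, h3⟩, hmax⟩ :=
    (Set.toFinite {X : Subgroup G | X ≤ M ∧ H ≤ normalizer (X : Set G) ∧ W ⊓ X = ⊥}).exists_maximal
      ⟨⊥, bot_le, by rw [normalizer_eq_top_iff.2 inferInstance]; exact le_top, inf_bot_eq W⟩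
  refine ⟨W', h1, h2, le_antisymm (sup_le hWM h1) ?_, h3⟩
  refine (le_sSup_isMinimalInvariant M hM hH).trans (sSup_le fun U hU => ?_)
  obtain ⟨hUM, hne, hUH, hUmin⟩ := hU
  by_contra hnle
  have hUJ : U ⊓ (W ⊔ W') = ⊥ := (hUmin _ inf_le_left
    ((le_inf hUH ((le_inf hW h2).trans (inf_normalizer_le_normalizer_sup W W'))).trans
      (inf_normalizer_le_normalizer_inf U (W ⊔ W')))).resolve_right fun e => hnle (inf_eq_left.1 e)
  have hnot : W ⊓ (W' ⊔ U) = ⊥ := by
    refine eq_bot_iff.2 fun w hw => ?_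
    obtain ⟨hwW, hwWU⟩ := mem_inf.1 hw
    obtain ⟨a, ha, b, hb, rfl⟩ := (Cfsg.Lib.Core.mem_sup_of_commute
      (le_bot_iff.1 ((commutator_mono h1 hUM).trans hcomm.le))).1 hwWU
    have hb1 : b = 1 := by
      refine mem_bot.1 (hUJ ▸ mem_inf.2 ⟨hb, ?_⟩)
      simpa using mul_mem (mem_sup_right (S := W) (inv_mem ha)) (mem_sup_left (T := W') hwW)
    subst hb1
    rw [mul_one] at hwW ⊢
    rw [← h3]
    exact mem_inf.2 ⟨hwW, ha⟩
  have hle : W' ⊔ U ≤ W' := hmax ⟨sup_le h1 hUM,
    (le_inf h2 hUH).trans (inf_normalizer_le_normalizer_sup W' U), hnot⟩ le_sup_left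
  exact hnle ((le_sup_right.trans hle).trans le_sup_right)

theorem commutator_sup_le_of_comm {M A B K : Subgroup G} (hcomm : ⁅M, M⁆ = ⊥) (hA : A ≤ M) (hB : B ≤ M)
    (hAK : ⁅A, K⁆ ≤ M) (hBK : ⁅B, K⁆ ≤ M) : ⁅A ⊔ B, K⁆ ≤ ⁅A, K⁆ ⊔ ⁅B, K⁆ := by
  refine commutator_le.2 fun x hx k hk => ?_
  obtain ⟨a, ha, b, hb, rfl⟩ := (Cfsg.Lib.Core.mem_sup_of_commute
    (le_bot_iff.1 ((commutator_mono hA hB).trans hcomm.le))).1 hx
  have hc : a * ⁅b, k⁆ = ⁅b, k⁆ * a := commutatorElement_eq_one_iff_mul_comm.1 (mem_bot.1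
    (hcomm.le (commutator_mem_commutator (hA ha) (hBK (commutator_mem_commutator hb hk)))))
  have e : ⁅a * b, k⁆ = ⁅b, k⁆ * ⁅a, k⁆ := by
    calc ⁅a * b, k⁆ = a * ⁅b, k⁆ * (k * a⁻¹ * k⁻¹) := by simp only [commutatorElement_def]; group
      _ = ⁅b, k⁆ * a * (k * a⁻¹ * k⁻¹) := by rw [hc]
      _ = ⁅b, k⁆ * ⁅a, k⁆ := by simp only [commutatorElement_def]; group
  rw [e]
  exact mul_mem (mem_sup_right (commutator_mem_commutator hb hk))
    (mem_sup_left (commutator_mem_commutator ha hk))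

theorem commutator_le_of_le_normalizer {A K : Subgroup G} (h : K ≤ normalizer (A : Set G)) :
    ⁅A, K⁆ ≤ A := by
  refine commutator_le.2 fun a ha k hk => ?_
  rw [commutatorElement_def, mul_assoc (a * k), mul_assoc a, ← mul_assoc k]
  exact mul_mem ha ((mem_normalizer_iff.1 (h hk) _).1 (inv_mem ha))

/-- An element of a subnormal subgroup acting quadratically on an invariant subgroup `W` of a minimal
normal abelian subgroup `M` with `[M, g, g] ≤ W` acts quadratically on `M`. -/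
theorem quadratic_of_invariant [Finite G] (M : Subgroup G) [M.Normal] (hcomm : ⁅M, M⁆ = ⊥)
    (hM : ∀ N : Subgroup G, N.Normal → N ≤ M → N = ⊥ ∨ N = M) {H : Subgroup G} (hH : H.IsSubnormal)
    {W : Subgroup G} (hWM : W ≤ M) (hW : H ≤ normalizer (W : Set G)) {g : G} (hg : g ∈ H)
    (h1 : ⁅⁅M, zpowers g⁆, zpowers g⁆ ≤ W) (h2 : ⁅⁅W, zpowers g⁆, zpowers g⁆ = ⊥) :
    ⁅⁅M, zpowers g⁆, zpowers g⁆ = ⊥ := by
  obtain ⟨W', hW'M, hW', hsup, hinf⟩ := exists_invariant_complement M hcomm hM hH hWM hW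
  have hz : zpowers g ≤ H := zpowers_le.2 hg
  have a1 : ⁅W, zpowers g⁆ ≤ W := commutator_le_of_le_normalizer (hz.trans hW)
  have b1 : ⁅W', zpowers g⁆ ≤ W' := commutator_le_of_le_normalizer (hz.trans hW')
  have hb : ⁅⁅W', zpowers g⁆, zpowers g⁆ = ⊥ := le_bot_iff.1 (hinf ▸ le_inf
    ((commutator_mono (commutator_mono hW'M le_rfl) le_rfl).trans h1)
    ((commutator_mono b1 le_rfl).trans b1))
  refine le_bot_iff.1 ?_
  rw [← hsup]
  refine (commutator_mono (commutator_sup_le_of_comm hcomm hWM hW'M (a1.trans hWM) (b1.trans hW'M))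
    le_rfl).trans ((commutator_sup_le_of_comm hcomm (a1.trans hWM) (b1.trans hW'M)
      ((commutator_mono a1 le_rfl).trans (a1.trans hWM))
      ((commutator_mono b1 le_rfl).trans (b1.trans hW'M))).trans ?_)
  rw [h2, hb, bot_sup_eq]

end Semisimple

/-! ### Actions on chief factors -/

section Chief

variable {G : Type*} [Group G] {p : ℕ} [Fact p.Prime]

/-- `y` acts trivially on `X` modulo `Y`. -/
def TrivOn (X Y : Subgroup G) (y : G) : Prop := ∀ x ∈ X, y * x * y⁻¹ * x⁻¹ ∈ Y

/-- The elements acting trivially on every chief factor satisfying `cond`. -/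
def chiefKer (cond : Subgroup G → Subgroup G → Prop) : Subgroup G where
  carrier := {y | ∀ X Y, Cfsg.IsChiefFactor X Y → cond X Y → TrivOn X Y y}
  one_mem' := fun X Y _ _ x _ => by simp
  mul_mem' := by
    intro y z hy hz X Y hc hd x hx
    have h1 := hc.2.2.1.conj_mem _ (hz X Y hc hd x hx) y
    have := mul_mem h1 (hy X Y hc hd x hx)
    simpa [mul_assoc] using this
  inv_mem' := by
    intro y hy X Y hc hd x hx
    have h1 := hc.2.2.1.conj_mem _ (inv_mem (hy X Y hc hd x hx)) y⁻¹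
    simpa [mul_assoc] using h1

theorem chiefKer_normal (cond : Subgroup G → Subgroup G → Prop) : (chiefKer cond).Normal := by
  refine ⟨fun y hy g X Y hc hd x hx => ?_⟩
  have h1 := hc.2.2.1.conj_mem _ (hy X Y hc hd _ (hc.2.1.conj_mem x hx g⁻¹)) g
  simpa [mul_assoc] using h1

theorem trivOn_iff_commutator_le {X Y : Subgroup G} [Y.Normal] {g : G} :
    TrivOn X Y g ↔ ⁅X, zpowers g⁆ ≤ Y := by
  constructor
  · intro h
    let N : Subgroup G :=
      { carrier := {y | TrivOn X Y y}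
        one_mem' := fun x _ => by simp
        mul_mem' := by
          intro y z hy hz x hx
          have := mul_mem (‹Y.Normal›.conj_mem _ (hz x hx) y) (hy x hx)
          simpa [mul_assoc] using this
        inv_mem' := by
          intro y hy x hx
          have := ‹Y.Normal›.conj_mem _ (inv_mem (hy x hx)) y⁻¹
          simpa [mul_assoc] using this }
    have hg : zpowers g ≤ N := zpowers_le.2 h
    refine commutator_le.2 fun x hx y hy => ?_
    have := inv_mem (hg hy x hx)
    simpa [commutatorElement_def, mul_assoc] using this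
  · intro h x hx
    have := inv_mem (h (commutator_mem_commutator hx (mem_zpowers g)))
    simpa [commutatorElement_def, mul_assoc] using this

/-- An element of order prime to p acting trivially on the chief factors between two normal subgroups of
a normal p-subgroup centralizes the larger if it centralizes the smaller. -/
theorem fixes_of_trivial_on_chief [Finite G] {N₀ N₁ : Subgroup G} (hN₁ : N₁.Normal) (hp : IsPGroup p ↥N₁)
    (hN₀ : N₀.Normal) (hle : N₀ ≤ N₁) {y : G} (hy : (orderOf y).Coprime p)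
    (hfix : ∀ x ∈ N₀, y * x * y⁻¹ = x)
    (htriv : ∀ X Y : Subgroup G, Cfsg.IsChiefFactor X Y → N₀ ≤ Y → X ≤ N₁ → TrivOn X Y y) :
    ∀ x ∈ N₁, y * x * y⁻¹ = x := by
  obtain ⟨N, ⟨hNn, h0, h1, hNfix⟩, hmax⟩ := (Set.toFinite {N : Subgroup G | N.Normal ∧ N₀ ≤ N ∧
    N ≤ N₁ ∧ ∀ x ∈ N, y * x * y⁻¹ = x}).exists_maximal ⟨N₀, hN₀, le_rfl, hle, hfix⟩
  by_cases hN : N = N₁
  · exact hN ▸ hNfix
  exfalso
  obtain ⟨X, ⟨hXn, hNX, hX1⟩, hXmin⟩ := (Set.toFinite {X : Subgroup G | X.Normal ∧ N < X ∧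
    X ≤ N₁}).exists_minimal ⟨N₁, hN₁, lt_of_le_of_ne h1 hN, le_rfl⟩
  have hc : Cfsg.IsChiefFactor X N := ⟨hNX, hXn, hNn, fun M hM hNM hMX => by
    rcases eq_or_lt_of_le hNM with h | h
    · exact Or.inl h.symm
    · exact Or.inr (le_antisymm hMX (hXmin ⟨hM, h, hMX.trans hX1⟩ hMX))⟩
  refine hNX.not_ge (hmax ⟨hXn, h0.trans hNX.le, hX1, fun x hx => ?_⟩ hNX.le)
  set c := y * x * y⁻¹ * x⁻¹ with hcdef
  have hcN : c ∈ N := htriv X N hc h0 hX1 x hx
  have hyc : y * c * y⁻¹ = c := hNfix c hcN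
  have hpow : ∀ n : ℕ, y ^ n * x * (y ^ n)⁻¹ = c ^ n * x := by
    intro n
    induction n with
    | zero => simp
    | succ n ih =>
      calc y ^ (n + 1) * x * (y ^ (n + 1))⁻¹ = y * (y ^ n * x * (y ^ n)⁻¹) * y⁻¹ := by
            rw [pow_succ' y n]; group
        _ = (y * c * y⁻¹) ^ n * (y * x * y⁻¹) := by rw [ih, conj_pow]; group
        _ = c ^ n * (c * x) := by rw [hyc, hcdef]; group
        _ = c ^ (n + 1) * x := by rw [pow_succ]; group
  have h1' := hpow (orderOf y)
  rw [pow_orderOf_eq_one, one_mul, inv_one, mul_one, eq_comm, mul_eq_right] at h1'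
  obtain ⟨k, hk⟩ := hp.exists_orderOf_eq_pow ⟨c, h1 hcN⟩
  rw [Subgroup.orderOf_mk] at hk
  have hc1 : c = 1 := orderOf_eq_one_iff.1 (Nat.eq_one_of_dvd_coprimes (hk ▸ hy.pow_right k)
    (orderOf_dvd_of_pow_eq_one h1') dvd_rfl)
  rw [hcdef, mul_inv_eq_one] at hc1
  exact hc1

theorem isPGroup_of_forall_coprime [Finite G] (K : Subgroup G)
    (h : ∀ y ∈ K, (orderOf y).Coprime p → y = 1) : IsPGroup p ↥K := by
  have hnd : ∀ q : ℕ, q.Prime → q ∣ Nat.card ↥K → q = p := by
    intro q hq hd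
    by_contra hne
    haveI := Fact.mk hq
    obtain ⟨y, hy⟩ := exists_prime_orderOf_dvd_card' q hd
    have h1 : (y : G) = 1 := h y y.2 (by
      rw [Subgroup.orderOf_coe, hy]; exact (Nat.coprime_primes hq Fact.out).2 hne)
    rw [show y = 1 from Subtype.ext h1, orderOf_one] at hy
    exact hq.ne_one hy.symm
  refine IsPGroup.of_card (n := (Nat.card ↥K).primeFactorsList.length) ?_
  exact Nat.eq_prime_pow_of_unique_prime_dvd Nat.card_pos.ne' fun hq hd => hnd _ hq hd

/-- Modulo a normal subgroup containing all its elements of order prime to p, a subgroup is a p-group. -/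
theorem isPGroup_map_mk_of_forall_coprime [Finite G] (L : Subgroup G) [L.Normal] (K : Subgroup G)
    (h : ∀ y ∈ K, (orderOf y).Coprime p → y ∈ L) : IsPGroup p ↥(K.map (QuotientGroup.mk' L)) := by
  refine isPGroup_of_forall_coprime _ fun z hz hzp => ?_
  obtain ⟨y, hy, rfl⟩ := hz
  obtain ⟨e, m, hm, hym⟩ := Nat.exists_eq_pow_mul_and_not_dvd (orderOf_pos y).ne' p
    (Fact.out : p.Prime).ne_one
  have hord : orderOf (y ^ p ^ e) = m := by
    rw [orderOf_pow' _ (pow_ne_zero e (Fact.out : p.Prime).ne_zero), hym,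
      Nat.gcd_eq_right (dvd_mul_right _ _), Nat.mul_div_cancel_left _ (pow_pos (Fact.out : p.Prime).pos e)]
  have h1 : y ^ p ^ e ∈ L := h _ (pow_mem hy _) (by
    rw [hord]; exact ((Fact.out : p.Prime).coprime_iff_not_dvd.2 hm).symm)
  have h2 : QuotientGroup.mk' L y ^ p ^ e = 1 := by
    rw [← map_pow]; exact (QuotientGroup.eq_one_iff _).2 h1
  exact orderOf_eq_one_iff.1 (Nat.eq_one_of_dvd_coprimes (hzp.pow_right e) dvd_rfl
    (orderOf_dvd_of_pow_eq_one h2))

end Chief

/-! ### Elements acting with small degree -/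

section Good

variable {G : Type*} [Group G] {p : ℕ} [Fact p.Prime]

/-- `g` acts on `A` with degree three modulo the centre, quadratically on the centre, and quadratically
on the chief factors above the centre if it centralizes those below. -/
def GoodElt (A : Subgroup G) (g : G) : Prop :=
  Cfsg.iterCommutator A (zpowers g) 3 ≤ A ⊓ centralizer (A : Set G) ∧
    ⁅⁅A ⊓ centralizer (A : Set G), zpowers g⁆, zpowers g⁆ = ⊥ ∧
    ((∀ X Y : Subgroup G, Cfsg.IsChiefFactor X Y → X ≤ A ⊓ centralizer (A : Set G) → TrivOn X Y g) →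
      ∀ X Y : Subgroup G, Cfsg.IsChiefFactor X Y → A ⊓ centralizer (A : Set G) ≤ Y → X ≤ A →
        ⁅⁅X, zpowers g⁆, zpowers g⁆ ≤ Y)

theorem goodElt_of_quadratic {A : Subgroup G} {g : G}
    (h : ⁅⁅A, zpowers g⁆, zpowers g⁆ = ⊥) : GoodElt A g :=
  ⟨by
    show ⁅⁅⁅A, zpowers g⁆, zpowers g⁆, zpowers g⁆ ≤ _
    rw [h, commutator_bot_left]; exact bot_le,
  le_bot_iff.1 ((commutator_mono (commutator_mono inf_le_left le_rfl) le_rfl).trans h.le),
  fun _ X Y _ _ hX => ((commutator_mono (commutator_mono hX le_rfl) le_rfl).trans h.le).trans bot_le⟩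

theorem center_abelian (A : Subgroup G) :
    ⁅A ⊓ centralizer (A : Set G), A ⊓ centralizer (A : Set G)⁆ = ⊥ :=
  commutator_eq_bot_iff_le_centralizer.2 (inf_le_right.trans (centralizer_le inf_le_left))

/-- Elements of a test subgroup normalized by `A`. -/
theorem goodElt_of_test [Finite G] {A B : Subgroup G} [A.Normal] (hAB : A ≤ normalizer (B : Set G))
    (h1 : ⁅A, ⁅B, B⁆⁆ = ⊥) (h2 : ⁅⁅A ⊓ centralizer (A : Set G), B⁆, B⁆ = ⊥) {g : G} (hg : g ∈ B) :
    GoodElt A g := by
  set Z := A ⊓ centralizer (A : Set G) with hZ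
  have hz : zpowers g ≤ B := zpowers_le.2 hg
  have hAB' : ⁅A, B⁆ ≤ B := by rw [commutator_comm]; exact commutator_le_of_le_normalizer hAB
  have hAgg : ⁅⁅A, zpowers g⁆, zpowers g⁆ ≤ Z := le_inf
    ((commutator_mono (commutator_le_left A _) le_rfl).trans (commutator_le_left A _))
    (((commutator_mono ((commutator_mono le_rfl hz).trans hAB') hz)).trans
      (commutator_eq_bot_iff_le_centralizer.1 (by rw [commutator_comm]; exact h1)))
  refine ⟨(commutator_mono hAgg le_rfl).trans (commutator_le_left Z _),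
    le_bot_iff.1 ((commutator_mono (commutator_mono le_rfl hz) hz).trans h2.le),
    fun _ X Y _ hY hX => ((commutator_mono (commutator_mono hX le_rfl) le_rfl).trans hAgg).trans hY⟩

/-- Elements of a member of an upper family. -/
theorem goodElt_of_upper [Finite G] {A B Q : Subgroup G} (hB : B ∈ Cfsg.kUpperStarFamily Q)
    (hAQ : A ≤ Q) {g : G} (hg : g ∈ B) : GoodElt A g := by
  refine goodElt_of_quadratic (le_bot_iff.1 ?_)
  have hz : zpowers g ≤ B := zpowers_le.2 hg
  have h : ⁅A, zpowers g⁆ ≤ B ⊓ centralizer (B : Set G) := by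
    rw [commutator_comm]; exact (commutator_mono hz hAQ).trans hB.2
  exact (commutator_mono h hz).trans
    (commutator_eq_bot_iff_le_centralizer.2 inf_le_right).le

/-- Elements outside `T` of a member of a lower family whose index contains `A`. -/
theorem exists_goodElt_of_lower [Finite G] {T A B Q S : Subgroup G} [T.Normal] [A.Normal]
    (hAp : IsPGroup p ↥A) (hAT : A ≤ T) (hA2 : ⁅A, A⁆ ≤ centralizer (A : Set G))
    (hTA : ⁅T, A⁆ ≤ A ⊓ centralizer (A : Set G))
    (hB : B ∈ Cfsg.kLowerStarFamily Q) (hAQ : A ≤ Q) (hBS : B ≤ S) (hBT : ¬ B ≤ T) :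
    ∃ g ∈ S, g ∉ T ∧ GoodElt A g := by
  set Z := A ⊓ centralizer (A : Set G) with hZdef
  have hAB : A ≤ normalizer (B : Set G) := hAQ.trans hB.2.1
  have hAB' : ⁅A, B⁆ ≤ B := by rw [commutator_comm]; exact commutator_le_of_le_normalizer hAB
  have hB2 : ⁅B, B⁆ ≤ centralizer (B : Set G) := hB.1
  by_cases hZB : B ⊓ centralizer (B : Set G) ≤ T
  swap
  · obtain ⟨z, hz, hzT⟩ := SetLike.not_le_iff_exists.1 hZB
    refine ⟨z, hBS hz.1, hzT, goodElt_of_quadratic (le_bot_iff.1 ?_)⟩
    have h1 : zpowers z ≤ centralizer (B : Set G) := zpowers_le.2 hz.2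
    have h2 : zpowers z ≤ B := zpowers_le.2 hz.1
    refine (commutator_mono ((commutator_mono le_rfl h2).trans hAB') h1).trans ?_
    rw [commutator_comm]
    exact (commutator_eq_bot_iff_le_centralizer.2 le_rfl).le
  obtain ⟨g, hg, hgT⟩ := SetLike.not_le_iff_exists.1 hBT
  have hzB : zpowers g ≤ B := zpowers_le.2 hg
  refine ⟨g, hBS hg, hgT, ?_⟩
  have hZn : Z.Normal := inferInstance
  have hBn : ∀ N : Subgroup G, N.Normal → B ≤ normalizer (N : Set G) := fun N hN => by
    rw [normalizer_eq_top_iff.2 hN]; exact le_top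
  -- the centre as a test subgroup
  have hBZ : ⁅B, Z⁆ ≤ B ⊓ centralizer (B : Set G) := by
    refine hB.2.2 Z ?_ (inf_le_left.trans hAQ) (hBn Z hZn) ?_ ?_
    · show ⁅Z, Z⁆ ≤ _
      rw [center_abelian]; exact bot_le
    · rw [center_abelian, commutator_bot_right]
    · exact le_bot_iff.1 ((commutator_mono (commutator_le_right _ Z) le_rfl).trans (center_abelian A).le)
  have h2 : ⁅⁅Z, zpowers g⁆, zpowers g⁆ = ⊥ := by
    refine le_bot_iff.1 ((commutator_mono (?_ : _ ≤ B ⊓ centralizer (B : Set G)) hzB).trans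
      (commutator_eq_bot_iff_le_centralizer.2 inf_le_right).le)
    rw [commutator_comm]; exact (commutator_mono hzB le_rfl).trans hBZ
  have hAgg : ⁅⁅A, zpowers g⁆, zpowers g⁆ ≤ ⁅B, B⁆ :=
    commutator_mono ((commutator_mono le_rfl hzB).trans hAB') hzB
  refine ⟨?_, h2, fun htriv => ?_⟩
  · refine ((commutator_mono hAgg hzB).trans ?_).trans bot_le
    exact (commutator_eq_bot_iff_le_centralizer.2 hB2).le
  -- the subgroup of elements whose commutators with `A` centralize `B`
  have hcomm : ∀ a ∈ A, ∀ x ∈ A, ⁅a, x⁆ ∈ Z := fun a ha x hx => mem_inf.2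
    ⟨mul_mem (mul_mem (mul_mem ha hx) (inv_mem ha)) (inv_mem hx), hA2 (commutator_mem_commutator ha hx)⟩
  have hfixA : ∀ a ∈ A, ∀ c ∈ Z, a * c * a⁻¹ = c := fun a ha c hc => by
    rw [mem_centralizer_iff.1 (mem_inf.1 hc).2 a ha, mul_inv_cancel_right]
  let D : Subgroup G :=
    { carrier := {a | a ∈ A ∧ ∀ x ∈ A, ⁅a, x⁆ ∈ centralizer (B : Set G)}
      one_mem' := ⟨one_mem A, fun x _ => by simp⟩
      mul_mem' := by
        rintro a b ⟨ha, ha'⟩ ⟨hb, hb'⟩
        refine ⟨mul_mem ha hb, fun x hx => ?_⟩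
        have e : ⁅a * b, x⁆ = a * ⁅b, x⁆ * a⁻¹ * ⁅a, x⁆ := by
          simp only [commutatorElement_def]; group
        rw [e, hfixA a ha _ (hcomm b hb x hx)]
        exact mul_mem (hb' x hx) (ha' x hx)
      inv_mem' := by
        rintro a ⟨ha, ha'⟩
        refine ⟨inv_mem ha, fun x hx => ?_⟩
        have e : ⁅a⁻¹, x⁆ = a⁻¹ * ⁅a, x⁆⁻¹ * a⁻¹⁻¹ := by
          simp only [commutatorElement_def]; group
        rw [e, hfixA _ (inv_mem ha) _ (inv_mem (hcomm a ha x hx))]
        exact inv_mem (ha' x hx) }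
  set L := centralizer (Z : Set G) with hL
  have hDinv : ∀ h : G, (∀ c ∈ Z, c ∈ centralizer (B : Set G) → h * c * h⁻¹ ∈ centralizer (B : Set G)) →
      ∀ a ∈ D, h * a * h⁻¹ ∈ D := by
    intro h hh a ha
    refine ⟨‹A.Normal›.conj_mem a ha.1 h, fun x hx => ?_⟩
    have hx' : h⁻¹ * x * h ∈ A := by simpa using ‹A.Normal›.conj_mem x hx h⁻¹
    have e : ⁅h * a * h⁻¹, x⁆ = h * ⁅a, h⁻¹ * x * h⁆ * h⁻¹ := by
      simp only [commutatorElement_def]; group
    rw [e]
    exact hh _ (hcomm a ha.1 _ hx') (ha.2 _ hx')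
  have hmkN : ∀ K : Subgroup G,
      (∀ h ∈ K, ∀ c ∈ Z, c ∈ centralizer (B : Set G) → h * c * h⁻¹ ∈ centralizer (B : Set G)) →
      K ≤ normalizer (D : Set G) := by
    intro K hK h hh
    refine mem_normalizer_iff.2 fun a => ⟨hDinv h (hK h hh) a, fun ha => ?_⟩
    simpa [mul_assoc] using hDinv h⁻¹ (hK h⁻¹ (inv_mem hh)) _ ha
  have hBD : B ≤ normalizer (D : Set G) := hmkN B fun h hh c _ hc => by
    rw [mem_centralizer_iff.1 hc h hh, mul_inv_cancel_right]; exact hc
  have hLD : L ≤ normalizer (D : Set G) := hmkN L fun h hh c hcZ hc => by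
    rw [← mem_centralizer_iff.1 hh c hcZ, mul_inv_cancel_right]; exact hc
  have hDA : D ≤ A := fun a ha => ha.1
  have hBD' : ⁅B, D⁆ ≤ B ⊓ centralizer (B : Set G) := by
    refine hB.2.2 D ?_ (hDA.trans hAQ) hBD ?_ ?_
    · exact (commutator_mono hDA hDA).trans (hA2.trans (centralizer_le hDA))
    · rw [commutator_comm]
      exact commutator_eq_bot_iff_le_centralizer.2
        (commutator_le.2 fun a ha x hx => ha.2 x (hDA hx))
    · refine le_bot_iff.1 ((commutator_mono ((commutator_mono hZB hDA).trans hTA) hDA).trans ?_)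
      exact (commutator_eq_bot_iff_le_centralizer.2 inf_le_right).le
  have hDgg : ⁅⁅D, zpowers g⁆, zpowers g⁆ = ⊥ := by
    refine le_bot_iff.1 ((commutator_mono (?_ : _ ≤ B ⊓ centralizer (B : Set G)) hzB).trans
      (commutator_eq_bot_iff_le_centralizer.2 inf_le_right).le)
    rw [commutator_comm]; exact (commutator_mono hzB le_rfl).trans hBD'
  have hAggD : ⁅⁅A, zpowers g⁆, zpowers g⁆ ≤ D := by
    intro u hu
    have huA : u ∈ A :=
      ((commutator_mono (commutator_le_left A _) le_rfl).trans (commutator_le_left A _)) hu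
    have huC : u ∈ centralizer (B : Set G) := hB2 (hAgg hu)
    refine ⟨huA, fun x hx => mem_centralizer_iff.2 fun b hb => ?_⟩
    have hub : b * u * b⁻¹ = u := by rw [mem_centralizer_iff.1 huC b hb, mul_inv_cancel_right]
    set c := b * x * b⁻¹ * x⁻¹ with hc
    have hcA : c ∈ A := mul_mem (‹A.Normal›.conj_mem x hx b) (inv_mem hx)
    have hcB : c ∈ B := by
      have := mul_mem hb ((mem_normalizer_iff.1 (hAB hx) _).1 (inv_mem hb))
      simpa [hc, mul_assoc] using this
    have huc : u * c = c * u := (mem_centralizer_iff.1 huC c hcB).symm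
    have hw : c * ⁅u, x⁆ * c⁻¹ = ⁅u, x⁆ := hfixA c hcA _ (hcomm u huA x hx)
    have key : b * ⁅u, x⁆ * b⁻¹ = ⁅u, x⁆ := by
      calc b * ⁅u, x⁆ * b⁻¹ = (b * u * b⁻¹) * (c * x) * (b * u * b⁻¹)⁻¹ * (c * x)⁻¹ := by
            simp only [commutatorElement_def, hc]; group
        _ = (u * c) * x * u⁻¹ * x⁻¹ * c⁻¹ := by rw [hub]; group
        _ = c * ⁅u, x⁆ * c⁻¹ := by rw [huc, commutatorElement_def]; group
        _ = ⁅u, x⁆ := hw
    exact mul_inv_eq_iff_eq_mul.1 key
  -- a subnormal subgroup containing `g` and normalizing `D`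
  set C₁ := chiefKer (fun X _ : Subgroup G => X ≤ Z) with hC₁
  haveI : C₁.Normal := chiefKer_normal _
  have hC₁L : ∀ y ∈ C₁, (orderOf y).Coprime p → y ∈ L := by
    intro y hy hyp
    refine mem_centralizer_iff.2 fun c hc => ?_
    have := fixes_of_trivial_on_chief (N₀ := ⊥) hZn (hAp.to_le inf_le_left) inferInstance bot_le hyp
      (fun x hx => by rw [mem_bot.1 hx]; simp) (fun X Y hXY _ hX => hy X Y hXY hX) c hc
    exact (mul_inv_eq_iff_eq_mul.1 this).symm
  have hLn : L.Normal := inferInstance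
  set mkL := QuotientGroup.mk' L with hmkL
  haveI : (C₁.map mkL).Normal := (inferInstance : C₁.Normal).map mkL (QuotientGroup.mk'_surjective L)
  haveI : Group.IsNilpotent ↥(C₁.map mkL) :=
    (isPGroup_map_mk_of_forall_coprime L C₁ hC₁L).isNilpotent
  set H := (zpowers (mkL g)).comap mkL with hHdef
  have hgC₁ : g ∈ C₁ := fun X Y hXY hX => htriv X Y hXY hX
  have hHsub : H.IsSubnormal := by
    refine IsSubnormal.comap _ (IsSubnormal.trans (K := C₁.map mkL) ?_ ?_ (Normal.isSubnormal inferInstance))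
    · exact zpowers_le.2 (mem_map_of_mem _ hgC₁)
    · exact Cfsg.Lib.Solv.isNilpotent_iff_forall_isSubnormal.1 inferInstance _
  have hgH : g ∈ H := mem_zpowers (mkL g)
  have hHD : H ≤ normalizer (D : Set G) := by
    rw [hHdef, ← MonoidHom.map_zpowers, comap_map_eq, hmkL, QuotientGroup.ker_mk']
    exact sup_le ((zpowers_le.2 hg).trans hBD) hLD
  -- conclusion on the chief factor
  intro X Y hXY hZY hXA
  haveI : Y.Normal := hXY.2.2.1
  haveI : X.Normal := hXY.2.1
  set mk := QuotientGroup.mk' Y with hmk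
  have hs : Function.Surjective mk := QuotientGroup.mk'_surjective Y
  have hker : mk.ker = Y := QuotientGroup.ker_mk' Y
  haveI : (X.map mk).Normal := (inferInstance : X.Normal).map mk hs
  have hcommX : ⁅X.map mk, X.map mk⁆ = ⊥ := by
    rw [← map_commutator, Subgroup.map_eq_bot_iff, hker]
    exact (commutator_mono hXA hXA).trans ((le_inf (commutator_le_left A A) hA2).trans hZY)
  have hminX : ∀ N : Subgroup (G ⧸ Y), N.Normal → N ≤ X.map mk → N = ⊥ ∨ N = X.map mk := by
    intro N hN hNM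
    rcases hXY.2.2.2 (N.comap mk) (hN.comap mk) (hker.ge.trans (ker_le_comap mk N))
        ((comap_mono hNM).trans (by rw [comap_map_eq, hker]; exact sup_le le_rfl hXY.1.le)) with h | h
    · left
      rw [← map_comap_eq_self_of_surjective hs N, h, Subgroup.map_eq_bot_iff, hker]
    · right
      rw [← map_comap_eq_self_of_surjective hs N, h]
  have hHX : H ≤ normalizer ((D ⊓ X : Subgroup G) : Set G) :=
    (le_inf hHD (by rw [normalizer_eq_top_iff.2 (inferInstance : X.Normal)]; exact le_top)).trans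
      (inf_normalizer_le_normalizer_inf D X)
  have key := quadratic_of_invariant (X.map mk) hcommX hminX (hHsub.map hs) (g := mk g)
    (W := (D ⊓ X).map mk) (map_mono inf_le_right) ((map_mono hHX).trans (le_normalizer_map mk))
    (mem_map_of_mem mk hgH) ?_ ?_
  · rwa [← MonoidHom.map_zpowers, ← map_commutator, ← map_commutator, Subgroup.map_eq_bot_iff, hker]
      at key
  · rw [← MonoidHom.map_zpowers, ← map_commutator, ← map_commutator]
    exact map_mono (le_inf ((commutator_mono (commutator_mono hXA le_rfl) le_rfl).trans hAggD)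
      ((commutator_mono (commutator_le_left X _) le_rfl).trans (commutator_le_left X _)))
  · rw [← MonoidHom.map_zpowers, ← map_commutator, ← map_commutator]
    exact le_bot_iff.1 ((map_mono ((commutator_mono (commutator_mono inf_le_left le_rfl) le_rfl).trans
      hDgg.le)).trans (Subgroup.map_bot mk).le)

/-- Extracting a chief factor on which the action is exactly quadratic. -/
theorem exists_quadratic_chiefFactor [Finite G] {A : Subgroup G} [A.Normal]
    (hAT : A ≤ Cfsg.pCore p G)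
    (hA5 : ∀ φ : MulAut ↥(Cfsg.pCore p G), (orderOf φ).Coprime p →
      (∀ a : ↥(Cfsg.pCore p G), (a : G) ∈ A → φ a = a) → φ = 1)
    (hcons : centralizer ((Cfsg.pCore p G : Subgroup G) : Set G) ≤ Cfsg.pCore p G) {g : G}
    (hgT : g ∉ Cfsg.pCore p G) (hg : GoodElt A g) :
    ∃ U V : Subgroup G, Cfsg.IsChiefFactor U V ∧ U ≤ A ∧
      ⁅⁅U, zpowers g⁆, zpowers g⁆ ≤ V ∧ ¬ ⁅U, zpowers g⁆ ≤ V := by
  set T := Cfsg.pCore p G with hT
  set Z := A ⊓ centralizer (A : Set G) with hZ
  have hTp : IsPGroup p ↥T := Cfsg.Lib.Core.pCore_isPGroup p G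
  set C := chiefKer (fun X Y : Subgroup G => X ≤ Z ∨ (Z ≤ Y ∧ X ≤ A)) with hC
  have hCp : IsPGroup p ↥C := by
    refine isPGroup_of_forall_coprime C fun y hy hyp => ?_
    have hfix : ∀ x ∈ A, y * x * y⁻¹ = x :=
      fixes_of_trivial_on_chief (N₀ := Z) ‹A.Normal› (hTp.to_le hAT) inferInstance inf_le_left hyp
        (fixes_of_trivial_on_chief (N₀ := ⊥) inferInstance (hTp.to_le (inf_le_left.trans hAT))
          inferInstance bot_le hyp (fun x hx => by rw [mem_bot.1 hx]; simp)
          (fun X Y hXY _ hX => hy X Y hXY (Or.inl hX)))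
        (fun X Y hXY hY hX => hy X Y hXY (Or.inr ⟨hY, hX⟩))
    have h1 : MulAut.conjNormal (H := T) y = 1 := hA5 _
      (hyp.coprime_dvd_left (orderOf_map_dvd _ y))
      (fun a ha => Subtype.ext (by rw [MulAut.conjNormal_apply]; exact hfix a ha))
    have hyT : y ∈ T := hcons (mem_centralizer_iff.2 fun t ht => by
      have h2 := congrArg (fun φ : MulAut ↥T => ((φ ⟨t, ht⟩ : ↥T) : G)) h1
      simp only [MulAut.conjNormal_apply, MulAut.one_apply] at h2
      exact (mul_inv_eq_iff_eq_mul.1 h2).symm)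
    obtain ⟨k, hk⟩ := hTp.exists_orderOf_eq_pow ⟨y, hyT⟩
    rw [Subgroup.orderOf_mk] at hk
    exact orderOf_eq_one_iff.1 (Nat.eq_one_of_dvd_coprimes (hk ▸ hyp.pow_right k) dvd_rfl dvd_rfl)
  have hgC : ¬ g ∈ C := fun h => hgT (Cfsg.Lib.Core.le_pCore' (chiefKer_normal _) hCp h)
  by_cases hcase : ∀ X Y : Subgroup G, Cfsg.IsChiefFactor X Y → X ≤ Z → TrivOn X Y g
  · obtain ⟨X, Y, hXY, ⟨hY, hX⟩, hnt⟩ : ∃ X Y, Cfsg.IsChiefFactor X Y ∧ (Z ≤ Y ∧ X ≤ A) ∧
        ¬ TrivOn X Y g := by
      by_contra! h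
      exact hgC fun X Y hXY hd => hd.elim (hcase X Y hXY) (h X Y hXY)
    haveI := hXY.2.2.1
    exact ⟨X, Y, hXY, hX, hg.2.2 hcase X Y hXY hY hX, fun h => hnt (trivOn_iff_commutator_le.2 h)⟩
  · push Not at hcase
    obtain ⟨X, Y, hXY, hX, hnt⟩ := hcase
    haveI := hXY.2.2.1
    exact ⟨X, Y, hXY, hX.trans inf_le_left,
      ((commutator_mono (commutator_mono hX le_rfl) le_rfl).trans hg.2.1.le).trans bot_le,
      fun h => hnt (trivOn_iff_commutator_le.2 h)⟩

end Good

/-! ### Isomorphism invariance -/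

section Transport

theorem map_classTwo_equiv {P R : Type*} [Group P] [Group R] (e : P ≃* R) {B : Subgroup P}
    (h : B ∈ Cfsg.classTwoSubgroups P) : B.map e.toMonoidHom ∈ Cfsg.classTwoSubgroups R := by
  show ⁅B.map e.toMonoidHom, B.map e.toMonoidHom⁆ ≤ centralizer ((B.map e.toMonoidHom : Subgroup R) : Set R)
  rw [← map_commutator]
  rintro _ ⟨x, hx, rfl⟩
  refine mem_centralizer_iff.2 ?_
  rintro _ ⟨y, hy, rfl⟩
  rw [← map_mul, ← map_mul, mem_centralizer_iff.1 (h hx) y hy]

theorem map_center_equiv {P R : Type*} [Group P] [Group R] (e : P ≃* R) (B : Subgroup P) :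
    (B ⊓ centralizer (B : Set P)).map e.toMonoidHom =
      B.map e.toMonoidHom ⊓ centralizer ((B.map e.toMonoidHom : Subgroup R) : Set R) := by
  rw [Subgroup.map_inf _ _ _ e.injective]
  congr 1
  ext x
  constructor
  · rintro ⟨y, hy, rfl⟩
    refine mem_centralizer_iff.2 ?_
    rintro _ ⟨z, hz, rfl⟩
    rw [← map_mul, ← map_mul, mem_centralizer_iff.1 hy z hz]
  · intro hx
    obtain ⟨y, rfl⟩ := e.surjective x
    refine ⟨y, mem_centralizer_iff.2 fun z hz => e.injective ?_, rfl⟩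
    rw [map_mul, map_mul]
    exact mem_centralizer_iff.1 hx _ (mem_map_of_mem e.toMonoidHom hz)

theorem map_kUpper_equiv {P R : Type*} [Group P] [Group R] (e : P ≃* R) {B Q : Subgroup P}
    (h : B ∈ Cfsg.kUpperStarFamily Q) :
    B.map e.toMonoidHom ∈ Cfsg.kUpperStarFamily (Q.map e.toMonoidHom) :=
  ⟨map_classTwo_equiv e h.1, by rw [← map_commutator, ← map_center_equiv]; exact map_mono h.2⟩

theorem map_kLower_equiv {P R : Type*} [Group P] [Group R] (e : P ≃* R) {B Q : Subgroup P}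
    (h : B ∈ Cfsg.kLowerStarFamily Q) :
    B.map e.toMonoidHom ∈ Cfsg.kLowerStarFamily (Q.map e.toMonoidHom) := by
  refine ⟨map_classTwo_equiv e h.1, (map_mono h.2.1).trans (le_normalizer_map _),
    fun A hA hAQ hN h1 h2 => ?_⟩
  have he : A = (A.map e.symm.toMonoidHom).map e.toMonoidHom := by
    rw [Subgroup.map_map, show e.toMonoidHom.comp e.symm.toMonoidHom = MonoidHom.id R from
      MonoidHom.ext e.apply_symm_apply, Subgroup.map_id]
  have hB : (B.map e.toMonoidHom).map e.symm.toMonoidHom = B := by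
    rw [Subgroup.map_map, show e.symm.toMonoidHom.comp e.toMonoidHom = MonoidHom.id P from
      MonoidHom.ext e.symm_apply_apply, Subgroup.map_id]
  rw [he, ← map_commutator, ← map_commutator, Subgroup.map_eq_bot_iff_of_injective _ e.injective]
    at h1
  rw [he, ← map_center_equiv, ← map_commutator, ← map_commutator,
    Subgroup.map_eq_bot_iff_of_injective _ e.injective] at h2
  rw [he, ← map_commutator, ← map_center_equiv]
  refine map_mono (h.2.2 _ (map_classTwo_equiv e.symm hA) ?_ ?_ h1 h2)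
  · rw [← Subgroup.map_le_map_iff_of_injective (f := e.toMonoidHom) e.injective, ← he]; exact hAQ
  · exact hB.ge.trans ((map_mono hN).trans (le_normalizer_map _))

theorem map_sSup_kUpper_equiv {P R : Type*} [Group P] [Group R] (e : P ≃* R) (Q : Subgroup P) :
    (sSup (Cfsg.kUpperStarFamily Q)).map e.toMonoidHom =
      sSup (Cfsg.kUpperStarFamily (Q.map e.toMonoidHom)) := by
  have key : ∀ {P R : Type _} [Group P] [Group R] (e : P ≃* R) (Q : Subgroup P),
      (sSup (Cfsg.kUpperStarFamily Q)).map e.toMonoidHom ≤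
        sSup (Cfsg.kUpperStarFamily (Q.map e.toMonoidHom)) := fun e Q => map_le_iff_le_comap.2
    (sSup_le fun B hB => map_le_iff_le_comap.1 (le_sSup (map_kUpper_equiv e hB)))
  refine le_antisymm (key e Q) (sSup_le fun B hB => ?_)
  have := map_kUpper_equiv e.symm hB
  rw [Subgroup.map_map, show e.symm.toMonoidHom.comp e.toMonoidHom = MonoidHom.id P from
      MonoidHom.ext e.symm_apply_apply, Subgroup.map_id] at this
  have h2 := map_mono (f := e.toMonoidHom) (le_sSup this)
  rwa [Subgroup.map_map, show e.toMonoidHom.comp e.symm.toMonoidHom = MonoidHom.id R from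
      MonoidHom.ext e.apply_symm_apply, Subgroup.map_id] at h2

theorem map_sSup_kLower_equiv {P R : Type*} [Group P] [Group R] (e : P ≃* R) (Q : Subgroup P) :
    (sSup (Cfsg.kLowerStarFamily Q)).map e.toMonoidHom =
      sSup (Cfsg.kLowerStarFamily (Q.map e.toMonoidHom)) := by
  refine le_antisymm (map_le_iff_le_comap.2
    (sSup_le fun B hB => map_le_iff_le_comap.1 (le_sSup (map_kLower_equiv e hB)))) (sSup_le fun B hB => ?_)
  have := map_kLower_equiv e.symm hB
  rw [Subgroup.map_map, show e.symm.toMonoidHom.comp e.toMonoidHom = MonoidHom.id P from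
      MonoidHom.ext e.symm_apply_apply, Subgroup.map_id] at this
  have h2 := map_mono (f := e.toMonoidHom) (le_sSup this)
  rwa [Subgroup.map_map, show e.toMonoidHom.comp e.symm.toMonoidHom = MonoidHom.id R from
      MonoidHom.ext e.apply_symm_apply, Subgroup.map_id] at h2

theorem map_kSeqOdd_equiv {P R : Type*} [Group P] [Group R] (e : P ≃* R) :
    ∀ n : ℕ, (Cfsg.kSeqOdd P n).map e.toMonoidHom = Cfsg.kSeqOdd R n
  | 0 => Subgroup.map_top_of_surjective _ e.surjective
  | n + 1 => by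
    show (sSup (Cfsg.kUpperStarFamily (sSup (Cfsg.kLowerStarFamily (Cfsg.kSeqOdd P n))))).map
      e.toMonoidHom = _
    rw [map_sSup_kUpper_equiv, map_sSup_kLower_equiv, map_kSeqOdd_equiv e n]
    rfl

theorem map_kSeqEven_equiv {P R : Type*} [Group P] [Group R] (e : P ≃* R) (n : ℕ) :
    (Cfsg.kSeqEven P n).map e.toMonoidHom = Cfsg.kSeqEven R n := by
  unfold Cfsg.kSeqEven
  rw [map_sSup_kLower_equiv, map_kSeqOdd_equiv]

theorem map_kInfLower_equiv {P R : Type u} [Group P] [Group R] (e : P ≃* R) :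
    (Cfsg.kInfLower P).map e.toMonoidHom = Cfsg.kInfLower R := by
  unfold Cfsg.kInfLower
  rw [Subgroup.map_iSup]
  exact iSup_congr fun n => map_kSeqEven_equiv e n

theorem map_kInfUpper_equiv {P R : Type u} [Group P] [Group R] (e : P ≃* R) :
    (Cfsg.kInfUpper P).map e.toMonoidHom = Cfsg.kInfUpper R := by
  unfold Cfsg.kInfUpper
  rw [Subgroup.map_iInf _ e.injective]
  exact iInf_congr fun n => map_kSeqOdd_equiv e n

theorem abelian_normal_le_kInf {P : Type u} [Group P] (A : Subgroup P) [A.Normal]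
    (hA : IsMulCommutative ↥A) : A ≤ Cfsg.kInfLower P ∧ A ≤ Cfsg.kInfUpper P := by
  refine ⟨(le_sSup (abelian_normal_mem_kFamilies A hA _).2.1).trans (le_iSup (Cfsg.kSeqEven P) 0),
    le_iInf fun n => ?_⟩
  cases n with
  | zero => exact le_top
  | succ n => exact le_sSup (abelian_normal_mem_kFamilies A hA _).2.2

theorem center_le_kInf (P : Type u) [Group P] :
    center P ≤ Cfsg.kInfLower P ∧ center P ≤ Cfsg.kInfUpper P :=
  abelian_normal_le_kInf _ ⟨⟨fun a b => Subtype.ext (mem_center_iff.1 b.2 (a : P))⟩⟩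

theorem isCharPFunctor_kInfLower (p : ℕ) [Fact p.Prime] : Cfsg.IsCharPFunctor.{u} p Cfsg.kInfLower := by
  refine ⟨fun Q _ _ hQ hne => ?_, fun Q R _ _ _ _ φ => map_kInfLower_equiv φ⟩
  haveI := hne
  haveI := hQ.center_nontrivial
  exact fun e => (nontrivial_iff_ne_bot (center Q)).1 inferInstance
    (le_bot_iff.1 ((center_le_kInf Q).1.trans e.le))

theorem isCharPFunctor_kInfUpper (p : ℕ) [Fact p.Prime] : Cfsg.IsCharPFunctor.{u} p Cfsg.kInfUpper := by
  refine ⟨fun Q _ _ hQ hne => ?_, fun Q R _ _ _ _ φ => map_kInfUpper_equiv φ⟩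
  haveI := hne
  haveI := hQ.center_nontrivial
  exact fun e => (nontrivial_iff_ne_bot (center Q)).1 inferInstance
    (le_bot_iff.1 ((center_le_kInf Q).2.trans e.le))

theorem normal_inducedFunctor_of_normal {p : ℕ} {G : Type u} [Group G] [Finite G]
    {W : ∀ (Q : Type u) [Group Q], Subgroup Q} (hW : Cfsg.IsCharPFunctor.{u} p W) (T : Subgroup G)
    [T.Normal] (hT : IsPGroup p ↥T) : (Cfsg.inducedFunctor W T).Normal := by
  haveI : (W ↥T).Characteristic := characteristic_iff_map_eq.2 fun φ => hW.2 ↥T ↥T hT φ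
  exact ConjAct.normal_of_characteristic_of_normal

end Transport

/-! ### The main alternative -/

theorem kInf_normal_or_exists_goodElt {G : Type u} [Group G] [Finite G] {p : ℕ} [Fact p.Prime]
    (S : Sylow p G) (A : Subgroup G) [A.Normal] (hAT : A ≤ Cfsg.pCore p G)
    (hA2 : ⁅A, A⁆ ≤ centralizer (A : Set G))
    (hTA : ⁅Cfsg.pCore p G, A⁆ ≤ A ⊓ centralizer (A : Set G)) :
    ((Cfsg.inducedFunctor Cfsg.kInfLower (S : Subgroup G)).Normal ∧
        (Cfsg.inducedFunctor Cfsg.kInfUpper (S : Subgroup G)).Normal) ∨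
      ∃ g : G, g ∈ (S : Subgroup G) ∧ g ∉ Cfsg.pCore p G ∧ GoodElt A g := by
  rw [or_iff_not_imp_right]
  intro hno
  set T := Cfsg.pCore p G with hT
  have hTS : T ≤ (S : Subgroup G) := Cfsg.Lib.Core.pCore_le_sylow S
  have hTp : IsPGroup p ↥T := Cfsg.Lib.Core.pCore_isPGroup p G
  have hcan : ∀ g ∈ (S : Subgroup G), GoodElt A g → g ∈ T := fun g hg h =>
    by_contra fun hgT => hno ⟨g, hg, hgT, h⟩
  set O : ℕ → Subgroup G := fun n => (Cfsg.kSeqOdd ↥(S : Subgroup G) n).map (S : Subgroup G).subtype with hO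
  set E : ℕ → Subgroup G := fun n => (Cfsg.kSeqEven ↥(S : Subgroup G) n).map (S : Subgroup G).subtype with hE
  have hAE : ∀ n, A ≤ E n := by
    intro n
    show A ≤ (sSup (Cfsg.kLowerStarFamily (Cfsg.kSeqOdd ↥(S : Subgroup G) n))).map (S : Subgroup G).subtype
    rw [map_sSup_kLower]
    refine le_sSup ⟨⟨hA2, ?_, fun B _ hBO hN h1 h2 => ?_⟩, hAT.trans hTS⟩
    · rw [normalizer_eq_top_iff.2 ‹A.Normal›]; exact le_top
    · refine (commutator_mono le_rfl (fun b hb => hcan b ?_ (goodElt_of_test hN h1 h2 hb))).trans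
        ((commutator_comm A T).le.trans hTA)
      exact map_subtype_le _ (hBO hb)
  have hOT : ∀ n, O (n + 1) ≤ T := by
    intro n
    show (Cfsg.kSeqOdd ↥(S : Subgroup G) (n + 1)).map (S : Subgroup G).subtype ≤ T
    rw [kSeqOdd_succ_eq, map_sSup_kUpper]
    exact sSup_le fun B hB b hb => hcan b (hB.2 hb) (goodElt_of_upper hB.1 (hAE n) hb)
  have hET : ∀ n, E n ≤ T := by
    intro n
    induction n with
    | zero =>
      show (sSup (Cfsg.kLowerStarFamily (Cfsg.kSeqOdd ↥(S : Subgroup G) 0))).map (S : Subgroup G).subtype ≤ T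
      rw [map_sSup_kLower]
      refine sSup_le fun B hB => by_contra fun hBT => hno ?_
      refine exists_goodElt_of_lower (Q := (Cfsg.kSeqOdd ↥(S : Subgroup G) 0).map (S : Subgroup G).subtype)
        (hTp.to_le hAT) hAT hA2 hTA hB.1 ?_ hB.2 hBT
      show A ≤ (⊤ : Subgroup ↥(S : Subgroup G)).map (S : Subgroup G).subtype
      rw [← MonoidHom.range_eq_map, range_subtype]
      exact hAT.trans hTS
    | succ n ih =>
      show (sSup (Cfsg.kLowerStarFamily (Cfsg.kSeqOdd ↥(S : Subgroup G) (n + 1)))).map (S : Subgroup G).subtype ≤ T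
      rw [map_sSup_kLower]
      refine sSup_le fun B hB => by_contra fun hBT => hno ?_
      refine exists_goodElt_of_lower (Q := O (n + 1)) (hTp.to_le hAT) hAT hA2 hTA hB.1 ?_ hB.2 hBT
      show A ≤ (Cfsg.kSeqOdd ↥(S : Subgroup G) (n + 1)).map (S : Subgroup G).subtype
      rw [kSeqOdd_succ_eq, map_sSup_kUpper]
      refine le_sSup ⟨⟨hA2, ?_⟩, hAT.trans hTS⟩
      exact (commutator_comm A (E n)).le.trans ((commutator_mono ih le_rfl).trans hTA)
  set Q := T.subgroupOf (S : Subgroup G) with hQ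
  have hQn : ∀ n, Cfsg.kSeqEven ↥(S : Subgroup G) n ≤ Q ∧ Cfsg.kSeqOdd ↥(S : Subgroup G) (n + 1) ≤ Q :=
    fun n => ⟨map_le_iff_le_comap.1 (hET n), map_le_iff_le_comap.1 (hOT n)⟩
  have h := kSeq_interleave hQn
  let e : ↥Q ≃* ↥T := subgroupOfEquivOfLe hTS
  have hmap : ∀ X : Subgroup ↥Q, (X.map Q.subtype).map (S : Subgroup G).subtype =
      (X.map e.toMonoidHom).map T.subtype := fun X => by
    rw [Subgroup.map_map, Subgroup.map_map]; rfl
  constructor
  · have e1 : (Cfsg.kInfLower ↥Q).map Q.subtype = Cfsg.kInfLower ↥(S : Subgroup G) := by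
      refine le_antisymm ?_ (iSup_le fun n => (h n).2.2.1.trans
        (Subgroup.map_mono (le_iSup (Cfsg.kSeqEven ↥Q) n)))
      rw [Cfsg.kInfLower, Subgroup.map_iSup]
      exact iSup_le fun n => (h n).2.2.2.trans (le_iSup (Cfsg.kSeqEven ↥(S : Subgroup G)) (n + 1))
    show ((Cfsg.kInfLower ↥(S : Subgroup G)).map (S : Subgroup G).subtype).Normal
    rw [← e1, hmap, map_kInfLower_equiv]
    exact normal_inducedFunctor_of_normal (isCharPFunctor_kInfLower p) T hTp
  · have e1 : (Cfsg.kInfUpper ↥Q).map Q.subtype = Cfsg.kInfUpper ↥(S : Subgroup G) := by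
      rw [Cfsg.kInfUpper, Subgroup.map_iInf _ Q.subtype_injective]
      exact le_antisymm (le_iInf fun n => (iInf_le _ n).trans (h n).2.1)
        (le_iInf fun n => (iInf_le (Cfsg.kSeqOdd ↥(S : Subgroup G)) (n + 1)).trans (h n).1)
    show ((Cfsg.kInfUpper ↥(S : Subgroup G)).map (S : Subgroup G).subtype).Normal
    rw [← e1, hmap, map_kInfUpper_equiv]
    exact normal_inducedFunctor_of_normal (isCharPFunctor_kInfUpper p) T hTp

end Cfsg.Lib.Sig
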