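import Cfsg.Agent.Lib.FusionSys.FailureTwo
import Cfsg.Agent.Lib.Sig.KInfTheorem
import Cfsg.Agent.Lib.Sig.PConstrained
import Cfsg.Agent.Lib.Sig.SectionControl
import Cfsg.Agent.Lib.Invol.BaerSuzuki
import Cfsg.Agent.Lib.Thompson.Transport
import Cfsg.Agent.S2759

/-!
Offenders on elementary abelian 2-groups over groups with abelian Sylow 2-subgroups and no section
isomorphic to the symmetric group on three letters generate 2-groups in pairs.
-/

set_option autoImplicit false
set_option linter.style.haveILetI false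

namespace Cfsg.Lib.Sig.AbelianFF

open Subgroup Cfsg.Lib.FusionSys

universe u

/-- A quadratic offender, best among its subgroups. -/
structure IsBestOffender {V : Type u} [CommGroup V] (A : Subgroup (MulAut V)) : Prop where
  invol : ∀ a ∈ A, a * a = 1
  quad : ∀ a ∈ A, ∀ b ∈ A, ∀ v : V, b (a v * v) = a v * v
  best : ∀ D : Subgroup (MulAut V), D ≤ A →
    Nat.card ↥D * Nat.card ↥(fixedOf (D : Set (MulAut V))) ≤
      Nat.card ↥A * Nat.card ↥(fixedOf (A : Set (MulAut V)))

/-- All 2-subgroups are commutative. -/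
def AbelTwo (X : Type*) [Group X] : Prop :=
  ∀ P : Subgroup X, IsPGroup 2 ↥P → ∀ x ∈ P, ∀ y ∈ P, x * y = y * x

theorem AbelTwo.of_injective {X Y : Type*} [Group X] [Group Y] (h : AbelTwo Y) {f : X →* Y}
    (hf : Function.Injective f) : AbelTwo X := fun P hP x hx y hy => hf (by
  rw [map_mul, map_mul]
  exact h _ (hP.map f) _ (mem_map_of_mem f hx) _ (mem_map_of_mem f hy))

theorem AbelTwo.of_surjective {X Y : Type*} [Group X] [Finite X] [Group Y] (h : AbelTwo X) {f : X →* Y}
    (hf : Function.Surjective f) : AbelTwo Y := by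
  haveI : Fact (Nat.Prime 2) := ⟨Nat.prime_two⟩
  haveI : Finite Y := Finite.of_surjective f hf
  intro P hP x hx y hy
  obtain ⟨R, hR⟩ := hP.exists_le_sylow
  obtain ⟨S, rfl⟩ := Sylow.mapSurjective_surjective hf 2 R
  obtain ⟨x', hx', rfl⟩ := hR hx
  obtain ⟨y', hy', rfl⟩ := hR hy
  rw [← map_mul, ← map_mul, h _ S.2 x' hx' y' hy']

theorem not_three_dvd_orderOf {X : Type*} [Group X] [Finite X]
    (h3 : ¬ Cfsg.Involves (Equiv.Perm (Fin 3)) X) {a b : X} (ha : a * a = 1) (hb : b * b = 1) :
    ¬ 3 ∣ orderOf (a * b) := by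
  intro h
  set n := orderOf (a * b) with hn
  set y := (a * b) ^ (n / 3) with hy
  have hyo : orderOf y = 3 := by
    rw [hy, orderOf_pow_orderOf_div (orderOf_pos _).ne' h]
  have hinv : a * y * a⁻¹ = y⁻¹ := by
    rw [hy, ← conj_pow, ← inv_pow]
    congr 1
    rw [mul_inv_rev, inv_eq_of_mul_eq_one_right ha, inv_eq_of_mul_eq_one_right hb, ← mul_assoc a a, ha,
      one_mul]
  have hnot : a ∉ zpowers y := by
    intro hay
    have hcomm : a * y * a⁻¹ = y := by
      obtain ⟨k, hk⟩ := mem_zpowers_iff.1 hay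
      rw [← hk]
      group
    rw [hcomm] at hinv
    have h2 : y ^ 2 = 1 := by rw [pow_two]; exact mul_eq_one_iff_eq_inv.2 hinv
    have := orderOf_dvd_of_pow_eq_one h2
    rw [hyo] at this
    norm_num at this
  obtain ⟨e⟩ := Cfsg.Lib.TwoGroup.equiv_dihedral ha hinv hnot
  rw [hyo] at e
  obtain ⟨e'⟩ := Cfsg.Agent.S2759.dihedral_three
  exact h3 (involves_iff_exists_hom.2 ⟨_, (e.trans e').toMonoidHom, (e.trans e').surjective⟩)

section Fixed

variable {V : Type u} [CommGroup V]

theorem mem_fixedOf {A : Subgroup (MulAut V)} {v : V} :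
    v ∈ fixedOf (A : Set (MulAut V)) ↔ ∀ a ∈ A, a v = v := Iff.rfl

theorem map_fixedOf_conj (A : Subgroup (MulAut V)) (c : MulAut V) :
    fixedOf ((A.map (MulAut.conj c).toMonoidHom : Subgroup (MulAut V)) : Set (MulAut V)) =
      (fixedOf (A : Set (MulAut V))).map c.toMonoidHom := by
  ext v
  constructor
  · intro h
    refine ⟨c⁻¹ v, fun a ha => ?_, MulAut.apply_inv_self _ _ _⟩
    apply c.injective
    have := h _ (mem_map_of_mem (MulAut.conj c).toMonoidHom ha)
    rw [MulAut.apply_inv_self]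
    simpa [MulAut.mul_apply] using this
  · rintro ⟨w, hw, rfl⟩ _ ⟨a, ha, rfl⟩
    show c (a (c⁻¹ (c w))) = c w
    rw [MulAut.inv_apply_self, hw a ha]

theorem IsBestOffender.conj {A : Subgroup (MulAut V)} (hA : IsBestOffender A) (c : MulAut V) :
    IsBestOffender (A.map (MulAut.conj c).toMonoidHom) := by
  refine ⟨?_, ?_, ?_⟩
  · rintro _ ⟨a, ha, rfl⟩
    rw [← map_mul, hA.invol a ha, map_one]
  · rintro _ ⟨a, ha, rfl⟩ _ ⟨b, hb, rfl⟩ v
    show c (b (c⁻¹ (c (a (c⁻¹ v)) * v))) = c (a (c⁻¹ v)) * v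
    rw [map_mul c⁻¹, MulAut.inv_apply_self, hA.quad a ha b hb (c⁻¹ v), map_mul,
      MulAut.apply_inv_self]
  · intro D hD
    have h1 : D.map (MulAut.conj c⁻¹).toMonoidHom ≤ A := by
      rintro _ ⟨d, hd, rfl⟩
      obtain ⟨a, ha, rfl⟩ := hD hd
      simpa [mul_assoc] using ha
    have h2 := hA.best _ h1
    rw [map_fixedOf_conj, card_map_of_injective (MulAut.conj c⁻¹).injective,
      card_map_of_injective c⁻¹.injective] at h2
    rwa [map_fixedOf_conj, card_map_of_injective (MulAut.conj c).injective,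
      card_map_of_injective c.injective]

/-- The restriction of a group of automorphisms to an invariant subgroup. -/
def restrict (L : Subgroup (MulAut V)) (W : Subgroup V) (hW : ∀ x ∈ L, ∀ w ∈ W, x w ∈ W) :
    ↥L →* MulAut ↥W where
  toFun x :=
    { toFun := fun w => ⟨(x : MulAut V) w, hW x x.2 w w.2⟩
      invFun := fun w => ⟨(x : MulAut V)⁻¹ w, hW _ (inv_mem x.2) w w.2⟩
      left_inv := fun w => Subtype.ext (MulAut.inv_apply_self _ _ _)
      right_inv := fun w => Subtype.ext (MulAut.apply_inv_self _ _ _)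
      map_mul' := fun a b => Subtype.ext (map_mul (x : MulAut V) (a : V) (b : V)) }
  map_one' := rfl
  map_mul' _ _ := rfl

theorem card_sup_mul_card_inf [Finite V] (H K : Subgroup V) :
    Nat.card ↥(H ⊔ K) * Nat.card ↥(H ⊓ K) = Nat.card ↥H * Nat.card ↥K := by
  have h1 := relIndex_mul_relIndex (⊥ : Subgroup V) (H ⊓ K) H bot_le inf_le_left
  have h2 := relIndex_mul_relIndex (⊥ : Subgroup V) K (H ⊔ K) bot_le le_sup_right
  rw [relIndex_bot_left, relIndex_bot_left] at h1 h2
  rw [inf_relIndex_left] at h1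
  rw [relIndex_sup_right] at h2
  rw [← h1, ← h2]
  ring

/-- Best offenders restrict to invariant subgroups. -/
theorem IsBestOffender.restrict [Finite V] {A : Subgroup (MulAut V)} (hA : IsBestOffender A)
    {L : Subgroup (MulAut V)} (hAL : A ≤ L) (W : Subgroup V) (hW : ∀ x ∈ L, ∀ w ∈ W, x w ∈ W) :
    IsBestOffender ((A.subgroupOf L).map (AbelianFF.restrict L W hW)) := by
  set r := AbelianFF.restrict L W hW with hr
  refine ⟨?_, ?_, ?_⟩
  · rintro _ ⟨a, ha, rfl⟩
    rw [← map_mul, show a * a = 1 from Subtype.ext (hA.invol _ ha), map_one]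
  · rintro _ ⟨a, ha, rfl⟩ _ ⟨b, hb, rfl⟩ w
    exact Subtype.ext (hA.quad _ ha _ hb _)
  · intro D hD
    set A₀ := A.subgroupOf L with hA₀
    set D₀ := D.comap r ⊓ A₀ with hD₀
    set Dh := D₀.map L.subtype with hDh
    have hDhA : Dh ≤ A := by rintro _ ⟨x, hx, rfl⟩; exact hx.2
    have hDm : D₀.map r = D := by
      refine le_antisymm (map_le_iff_le_comap.2 inf_le_left) fun d hd => ?_
      obtain ⟨a, ha, rfl⟩ := hD hd
      exact mem_map_of_mem r ⟨hd, ha⟩
    have hkerle : r.ker ⊓ A₀ ≤ D₀ := le_inf (inf_le_left.trans (r.ker_le_comap D)) inf_le_right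
    have hcard : ∀ X : Subgroup ↥L, r.ker ⊓ A₀ ≤ X → X ≤ A₀ →
        Nat.card ↥X = Nat.card ↥(r.ker ⊓ A₀ : Subgroup ↥L) * Nat.card ↥(X.map r) := by
      intro X hKX hXA
      have h := relIndex_mul_relIndex (⊥ : Subgroup ↥L) (r.ker ⊓ X) X bot_le inf_le_right
      rw [relIndex_bot_left, relIndex_bot_left, inf_relIndex_right, relIndex_ker] at h
      rw [← h, show r.ker ⊓ X = r.ker ⊓ A₀ from le_antisymm (inf_le_inf_left _ hXA)
        (le_inf inf_le_left hKX)]
    have hcD := hcard D₀ hkerle inf_le_right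
    rw [hDm] at hcD
    have hcA := hcard A₀ inf_le_right le_rfl
    have hDhcard : Nat.card ↥Dh = Nat.card ↥D₀ := card_map_of_injective L.subtype_injective
    have hAcard : Nat.card ↥A = Nat.card ↥A₀ := (Nat.card_congr (subgroupOfEquivOfLe hAL).toEquiv).symm
    set FA := fixedOf (A : Set (MulAut V)) with hFA
    set FD := (fixedOf (D : Set (MulAut ↥W))).map W.subtype with hFD
    have hsub : FD ⊔ FA ≤ fixedOf (Dh : Set (MulAut V)) := by
      refine sup_le ?_ fun v hv d hd => hv d (hDhA hd)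
      rintro _ ⟨w, hw, rfl⟩ _ ⟨d, hd, rfl⟩
      exact congrArg Subtype.val (hw (r d) hd.1)
    have hinf : FD ⊓ FA = (fixedOf ((A₀.map r : Subgroup (MulAut ↥W)) : Set (MulAut ↥W))).map W.subtype := by
      refine le_antisymm ?_ (le_inf (map_mono fun w hw d hd => hw d (hD hd)) ?_)
      · rintro _ ⟨⟨w, _, rfl⟩, hw⟩
        refine mem_map_of_mem _ ?_
        rintro _ ⟨a, ha, rfl⟩
        exact Subtype.ext (hw _ ha)
      · rintro _ ⟨w, hw, rfl⟩ a ha
        exact congrArg Subtype.val (hw _ (mem_map_of_mem r (show (⟨a, hAL ha⟩ : ↥L) ∈ A₀ from ha)))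
    have hbest := hA.best Dh hDhA
    rw [hDhcard, hcD, hAcard, hcA] at hbest
    have h5 := card_sup_mul_card_inf FD FA
    rw [hinf, card_map_of_injective W.subtype_injective, hFD,
      card_map_of_injective W.subtype_injective] at h5
    set fD := Nat.card ↥(fixedOf (D : Set (MulAut ↥W))) with hfD
    set fW := Nat.card ↥(fixedOf ((A₀.map r : Subgroup (MulAut ↥W)) : Set (MulAut ↥W))) with hfW
    set k := Nat.card ↥(r.ker ⊓ A₀ : Subgroup ↥L)
    set cD := Nat.card ↥D
    set cA := Nat.card ↥(A₀.map r)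
    set fA := Nat.card ↥FA with hfA
    set s := Nat.card ↥(FD ⊔ FA)
    have hle : s ≤ Nat.card ↥(fixedOf (Dh : Set (MulAut V))) := Subgroup.card_le_of_le hsub
    have hpos : 0 < k * fA := Nat.mul_pos Nat.card_pos Nat.card_pos
    refine Nat.le_of_mul_le_mul_left ?_ hpos
    calc k * fA * (cD * fD) = k * cD * (fD * fA) := by ring
      _ = k * cD * s * fW := by rw [← h5]; ring
      _ ≤ k * cA * fA * fW := Nat.mul_le_mul_right _ ((Nat.mul_le_mul_left _ hle).trans hbest)
      _ = k * fA * (cA * fW) := by ring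

end Fixed

section Pair

variable {V : Type u} [CommGroup V]

theorem mul_apply_self_eq (hV : ∀ v : V, v * v = 1) (v w : V) : v * (v * w) = w := by
  rw [← mul_assoc, hV, one_mul]

theorem apply_apply_invol {a : MulAut V} (ha : a * a = 1) (v : V) : a (a v) = v := by
  rw [← MulAut.mul_apply, ha, MulAut.one_apply]

theorem eq_one_of_fix {y : MulAut V} {m : ℕ} (hV : ∀ v : V, v * v = 1) (hm : Odd m) (hy : y ^ m = 1)
    (W : Subgroup V) (hW : ∀ w ∈ W, y w = w) (hd : ∀ v, v * y v ∈ W) : y = 1 := by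
  refine MulEquiv.ext fun v => ?_
  set d := v * y v with hd'
  have hyd : y d = d := hW d (hd v)
  have hyv : y v = v * d := (mul_apply_self_eq hV v (y v)).symm
  have hpow : ∀ n : ℕ, (y ^ n) v = v * d ^ n := by
    intro n
    induction n with
    | zero => simp
    | succ n ih => rw [pow_succ', MulAut.mul_apply, ih, map_mul, map_pow, hyd, hyv, pow_succ', mul_assoc]
  have h3 := hpow m
  rw [hy, MulAut.one_apply] at h3
  obtain ⟨j, rfl⟩ := hm
  have hd1 : d ^ (2 * j + 1) = 1 := mul_eq_left.1 h3.symm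
  rw [pow_succ, pow_mul, pow_two, hV, one_pow, one_mul] at hd1
  rw [hyv, hd1, mul_one, MulAut.one_apply]

theorem isPGroup_of_restrict [Finite V] {L : Subgroup (MulAut V)} (W : Subgroup V)
    (hW : ∀ x ∈ L, ∀ w ∈ W, x w ∈ W) (h : IsPGroup 2 ↥(restrict L W hW).range)
    (hL : ∀ y ∈ L, (∀ w ∈ W, y w = w) → ∀ m : ℕ, Odd m → y ^ m = 1 → y = 1) :
    IsPGroup 2 ↥L := by
  haveI : Fact (Nat.Prime 2) := ⟨Nat.prime_two⟩
  refine Cfsg.Lib.Sig.isPGroup_of_forall_coprime L fun y hy hcop => ?_
  have hodd : Odd (orderOf y) := Nat.coprime_two_right.1 hcop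
  refine hL y hy (fun w hw => ?_) _ hodd (pow_orderOf_eq_one y)
  set x : ↥(restrict L W hW).range := ⟨_, ⟨⟨y, hy⟩, rfl⟩⟩ with hx
  obtain ⟨k, hk⟩ := h x
  have h1 : x ^ orderOf y = 1 := by
    apply Subtype.ext
    show (restrict L W hW ⟨y, hy⟩) ^ orderOf y = 1
    rw [← map_pow, show (⟨y, hy⟩ : ↥L) ^ orderOf y = 1 from Subtype.ext (pow_orderOf_eq_one y), map_one]
  have h2 : x = 1 := orderOf_eq_one_iff.1 (Nat.eq_one_of_dvd_coprimes
    ((Nat.coprime_two_left.2 hodd).pow_left k) (orderOf_dvd_of_pow_eq_one hk) (orderOf_dvd_of_pow_eq_one h1))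
  have h3 := congrArg Subtype.val h2
  exact congrArg Subtype.val (DFunLike.congr_fun h3 ⟨w, hw⟩)

/-- Two best offenders generate a 2-group. -/
theorem pair_isPGroup : ∀ (n m : ℕ) (V : Type u) [CommGroup V] [Finite V], Nat.card V ≤ n →
    (∀ v : V, v * v = 1) → ∀ A B : Subgroup (MulAut V), Nat.card ↥(A ⊔ B) ≤ m →
      IsBestOffender A → IsBestOffender B → AbelTwo ↥(A ⊔ B) →
      ¬ Cfsg.Involves (Equiv.Perm (Fin 3)) ↥(A ⊔ B) → IsPGroup 2 ↥(A ⊔ B) := by
  haveI : Fact (Nat.Prime 2) := ⟨Nat.prime_two⟩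
  intro n
  induction n with
  | zero => intro m V _ _ h; have : 0 < Nat.card V := Nat.card_pos; omega
  | succ n ih =>
    intro m
    induction m with
    | zero => intro V _ _ _ _ A B h; have : 0 < Nat.card ↥(A ⊔ B) := Nat.card_pos; omega
    | succ m ihm =>
      intro V _ _ hn hV A B hm hA hB hab h3
      set J := A ⊔ B with hJ
      have hAJ : A ≤ J := le_sup_left
      have hBJ : B ≤ J := le_sup_right
      -- passing to an invariant subgroup
      have hres : ∀ (W : Subgroup V) (hW : ∀ x ∈ J, ∀ w ∈ W, x w ∈ W), W ≠ ⊤ →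
          IsPGroup 2 ↥(restrict J W hW).range := by
        intro W hW hWtop
        have hlt : Nat.card ↥W < Nat.card V := Cfsg.Lib.Core.lt_card_of_ne_top hWtop
        set r := restrict J W hW with hr
        set A₁ := (A.subgroupOf J).map r
        set B₁ := (B.subgroupOf J).map r
        have hsup : A₁ ⊔ B₁ = r.range := by
          rw [← Subgroup.map_sup, ← subgroupOf_sup hAJ hBJ, subgroupOf_self, ← MonoidHom.range_eq_map]
        have hf : Function.Surjective r.rangeRestrict := r.rangeRestrict_surjective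
        have h := ih (Nat.card ↥(A₁ ⊔ B₁)) ↥W (by omega)
          (fun w => Subtype.ext (hV w)) A₁ B₁ le_rfl (hA.restrict hAJ W hW) (hB.restrict hBJ W hW)
          (hsup.symm ▸ hab.of_surjective hf)
          (fun hi => h3 (Cfsg.Lib.FusionSys.involves_of_surjective hf (hsup ▸ hi)))
        rwa [hsup] at h
      set U := fixedOf (A : Set (MulAut V)) with hU
      set U' := fixedOf (B : Set (MulAut V)) with hU'
      have hquadA : ∀ a ∈ A, ∀ v, a v * v ∈ U := fun a ha v b hb => hA.quad a ha b hb v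
      have hquadB : ∀ a ∈ B, ∀ v, a v * v ∈ U' := fun a ha v b hb => hB.quad a ha b hb v
      have hstab : ∀ x ∈ J, ∀ v, v * x v ∈ U ⊔ U' := by
        intro x hx
        rw [hJ, sup_eq_closure] at hx
        induction hx using Subgroup.closure_induction with
        | mem a ha =>
          intro v
          rw [mul_comm]
          rcases ha with ha | ha
          · exact mem_sup_left (hquadA a ha v)
          · exact mem_sup_right (hquadB a ha v)
        | one => intro v; rw [MulAut.one_apply, hV]; exact one_mem _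
        | mul a b _ _ iha ihb =>
          intro v
          rw [MulAut.mul_apply, show v * a (b v) = v * b v * (b v * a (b v)) by
            rw [mul_assoc v, mul_apply_self_eq hV]]
          exact mul_mem (ihb v) (iha _)
        | inv a _ iha =>
          intro v
          have := iha (a⁻¹ v)
          rwa [MulAut.apply_inv_self, mul_comm] at this
      by_cases hWtop : U ⊔ U' = ⊤
      swap
      · have hW : ∀ x ∈ J, ∀ w ∈ U ⊔ U', x w ∈ U ⊔ U' := fun x hx w hw => by
          have := mul_mem hw (hstab x hx w)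
          rwa [mul_apply_self_eq hV] at this
        exact isPGroup_of_restrict _ hW (hres _ hW hWtop) fun y hy hfix k hk hyk =>
          eq_one_of_fix hV hk hyk _ hfix (hstab y hy)
      -- elements of one offender centralizing the other
      by_cases hD : ∃ a ∈ J, a ≠ 1 ∧ a * a = 1 ∧ (∀ v w : V, a (a v * v) = a v * v) ∧
          (∀ x ∈ J, a * x = x * a)
      · obtain ⟨a, haJ, ha1, haa, -, hcent⟩ := hD
        let W : Subgroup V := fixedOf ({a} : Set (MulAut V))
        have hWmem : ∀ v, v ∈ W ↔ a v = v := fun v => ⟨fun h => h a rfl, fun h b hb => by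
          rw [Set.mem_singleton_iff] at hb; rw [hb]; exact h⟩
        have hW : ∀ x ∈ J, ∀ w ∈ W, x w ∈ W := fun x hx w hw => (hWmem _).2 (by
          rw [← MulAut.mul_apply, hcent x hx, MulAut.mul_apply, (hWmem w).1 hw])
        have hne : W ≠ ⊤ := fun e => ha1 (MulEquiv.ext fun v => (hWmem v).1 (e ▸ mem_top v))
        refine isPGroup_of_restrict _ hW (hres W hW hne) fun y hy hfix k hk hyk =>
          eq_one_of_fix hV hk hyk W hfix fun v => (hWmem _).2 ?_
        have h1 : y (a v * v) = a v * v := hfix _ ((hWmem _).2 (by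
          rw [map_mul, apply_apply_invol haa, mul_comm]))
        have h2 : a (y v) * y v = a v * v := by
          rw [← MulAut.mul_apply, hcent y hy, MulAut.mul_apply, ← map_mul, h1]
        rw [map_mul]
        calc a v * a (y v) = a v * (a (y v) * y v * y v) := by rw [mul_assoc (a (y v)), hV, mul_one]
          _ = a v * (a v * v * y v) := by rw [h2]
          _ = v * y v := by rw [mul_assoc (a v), mul_apply_self_eq hV]
      push Not at hD
      by_cases hC : U' ≤ U
      · -- then `A` is trivial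
        have hUtop : U = ⊤ := top_le_iff.1 (hWtop.ge.trans (sup_le le_rfl hC))
        have hA1 : A = ⊥ := (eq_bot_iff_forall _).2 fun a ha => MulEquiv.ext fun v =>
          (hUtop ▸ mem_top v : v ∈ U) a ha
        rw [hJ, hA1, bot_sup_eq]
        exact fun ⟨x, hx⟩ => ⟨1, Subtype.ext (by simpa [pow_two] using hB.invol x hx)⟩
      exfalso
      set C := U ⊓ U' with hCdef
      have hCfix : ∀ c ∈ C, ∀ x ∈ J, x c = c := by
        intro c hc x hx
        rw [hJ, sup_eq_closure] at hx
        induction hx using Subgroup.closure_induction with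
        | mem a ha =>
          rcases ha with ha | ha
          · exact hc.1 a ha
          · exact hc.2 a ha
        | one => rfl
        | mul a b _ _ iha ihb => rw [MulAut.mul_apply, ihb, iha]
        | inv a _ iha => conv_lhs => rw [← iha, MulAut.inv_apply_self]
      -- conjugates inside a point stabilizer commute
      have hkey : ∀ (A' B' : Subgroup (MulAut V)), A' ⊔ B' = J → IsBestOffender B' →
          ∀ w ∈ fixedOf (B' : Set (MulAut V)), w ∉ C →
          ∀ a ∈ A', a * a = 1 → a w * w ∈ C → (∀ x ∈ A', a * x = x * a) → ∀ x ∈ J, a * x = x * a := by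
        intro A' B' hAB hB' w hw hwC a ha haa hc hcA
        have hA'J : A' ≤ J := hAB ▸ le_sup_left
        have hB'J : B' ≤ J := hAB ▸ le_sup_right
        have hw' : a w = w * (a w * w) := by
          rw [mul_comm (a w), mul_apply_self_eq hV]
        set B'' := B'.map (MulAut.conj a).toMonoidHom with hB''
        have hB''J : B'' ≤ J := by
          rintro _ ⟨b, hb, rfl⟩
          exact mul_mem (mul_mem (hA'J ha) (hB'J hb)) (inv_mem (hA'J ha))
        have hfix'' : ∀ b ∈ B' ⊔ B'', b w = w := by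
          intro b hb
          rw [sup_eq_closure] at hb
          induction hb using Subgroup.closure_induction with
          | mem b hb =>
            rcases hb with hb | hb
            · exact hw b hb
            · obtain ⟨b₀, hb₀, rfl⟩ := hb
              show a (b₀ (a⁻¹ w)) = w
              rw [inv_eq_of_mul_eq_one_right haa, hw', map_mul, hw b₀ hb₀,
                hCfix _ hc b₀ (hB'J hb₀), ← hw', apply_apply_invol haa]
          | one => rfl
          | mul a b _ _ iha ihb => rw [MulAut.mul_apply, ihb, iha]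
          | inv a _ iha => conv_lhs => rw [← iha, MulAut.inv_apply_self]
        have hle : B' ⊔ B'' ≤ J := sup_le hB'J hB''J
        have hne : B' ⊔ B'' ≠ J := by
          intro e
          refine hwC ⟨fun b hb => hfix'' b (e ▸ hAJ hb), fun b hb => hfix'' b (e ▸ hBJ hb)⟩
        have hlt : Nat.card ↥(B' ⊔ B'') < Nat.card ↥J :=
          Cfsg.Lib.Fusion.card_lt_card_of_lt (lt_of_le_of_ne hle hne)
        have hp := ihm V hn hV B' B'' (by omega) hB' (hB'.conj a)
          (hab.of_injective (inclusion_injective hle))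
          (fun hi => h3 (Cfsg.Lib.FusionSys.involves_of_injective (inclusion_injective hle) hi))
        -- `a` normalizes this 2-group
        set P := B' ⊔ B'' with hP
        have hnorm : a ∈ normalizer (P : Set (MulAut V)) := by
          refine Cfsg.Lib.Sig.mem_normalizer_of_map_conj ?_
          rw [hP, Subgroup.map_sup, hB'', Cfsg.Lib.Sig.map_conj_map_conj, haa,
            Cfsg.Lib.Sig.map_conj_one, sup_comm]
        have hZp : IsPGroup 2 ↥(zpowers a) := by
          rintro ⟨z, hz⟩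
          obtain ⟨j, rfl⟩ := mem_zpowers_iff.1 hz
          refine ⟨1, Subtype.ext ?_⟩
          show (a ^ j) ^ 2 ^ 1 = 1
          rw [pow_one, pow_two, ← zpow_add, ← two_mul, zpow_mul, zpow_two, haa, one_zpow]
        have hPa : IsPGroup 2 ↥(P ⊔ zpowers a) :=
          IsPGroup.to_sup_of_normal_left' hp hZp (zpowers_le.2 hnorm)
        have hleJ : P ⊔ zpowers a ≤ J := sup_le hle (zpowers_le.2 (hA'J ha))
        have hcB : ∀ b ∈ B', a * b = b * a := fun b hb => congrArg Subtype.val
          (hab ((P ⊔ zpowers a).subgroupOf J) (hPa.of_equiv (subgroupOfEquivOfLe hleJ).symm)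
            ⟨a, hA'J ha⟩ (mem_sup_right (mem_zpowers a)) ⟨b, hB'J hb⟩ (mem_sup_left (mem_sup_left hb)))
        intro x hx
        rw [← hAB, sup_eq_closure] at hx
        have : J ≤ centralizer ({a} : Set (MulAut V)) := by
          rw [← hAB]
          refine sup_le (fun y hy => mem_centralizer_iff.2 ?_) (fun y hy => mem_centralizer_iff.2 ?_)
          · rintro _ rfl; exact hcA y hy
          · rintro _ rfl; exact hcB y hy
        exact mem_centralizer_iff.1 (this (hAB ▸ (sup_eq_closure A' B').symm ▸ hx)) a rfl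
      have hAcomm : ∀ (A' : Subgroup (MulAut V)), IsBestOffender A' → ∀ a ∈ A', ∀ x ∈ A',
          a * x = x * a := fun A' hA' a ha x hx => by
        have h1 := hA'.invol _ (A'.mul_mem ha hx)
        have h2 : (a * x)⁻¹ = a * x := inv_eq_of_mul_eq_one_right h1
        rw [mul_inv_rev, inv_eq_of_mul_eq_one_right (hA'.invol a ha),
          inv_eq_of_mul_eq_one_right (hA'.invol x hx)] at h2
        exact h2.symm
      have hinjA : ∀ w ∈ U', w ∉ C → ∀ a ∈ A, a w * w ∈ C → a = 1 := fun w hw hwC a ha hc => by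
        by_contra ha1
        obtain ⟨x, hx, hne⟩ := hD a (hAJ ha) ha1 (hA.invol a ha) (fun v _ => hquadA a ha v a ha)
        exact hne (hkey A B rfl hB w hw hwC a ha (hA.invol a ha) hc (hAcomm A hA a ha) x hx)
      have hinjB : ∀ v ∈ U, v ∉ C → ∀ b ∈ B, b v * v ∈ C → b = 1 := fun v hv hvC b hb hc => by
        by_contra hb1
        obtain ⟨x, hx, hne⟩ := hD b (hBJ hb) hb1 (hB.invol b hb) (fun v _ => hquadB b hb v b hb)
        exact hne (hkey B A (sup_comm B A) hA v hv hvC b hb (hB.invol b hb) hc (hAcomm B hB b hb) x hx)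
      haveI hCn : ∀ X : Subgroup V, (C.subgroupOf X).Normal := fun X => inferInstance
      -- the two pairings
      have hbij : ∀ (A' B' : Subgroup (MulAut V)) (U₁ U₂ : Subgroup V),
          IsBestOffender A' → IsBestOffender B' → A' ≤ J → U₁ = fixedOf (A' : Set (MulAut V)) →
          U₂ = fixedOf (B' : Set (MulAut V)) → U₁ ⊔ U₂ = ⊤ → U₁ ⊓ U₂ = C →
          ∀ w : V, (∀ a ∈ A', a w * w ∈ C → a = 1) → ∀ (hmem : ∀ a ∈ A', a w * w ∈ U₁),
            Nat.card ↥A' ≤ C.relIndex U₁ ∧ C.relIndex U₁ ≤ Nat.card ↥B' ∧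
            (Nat.card ↥B' ≤ Nat.card ↥A' → ∀ v ∈ U₁, ∃ a ∈ A', a w * w * v ∈ C) := by
        intro A' B' U₁ U₂ hA' hB' hA'J e₁ e₂ htop hinf w hinj hmem
        let g : ↥A' →* ↥U₁ ⧸ C.subgroupOf U₁ := MonoidHom.mk'
          (fun a => QuotientGroup.mk ⟨(a : MulAut V) w * w, hmem a a.2⟩) fun a b => by
            rw [← QuotientGroup.mk_mul]
            congr 1
            apply Subtype.ext
            show (a : MulAut V) ((b : MulAut V) w) * w =
              (a : MulAut V) w * w * ((b : MulAut V) w * w)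
            have h := hmem b b.2
            rw [e₁] at h
            have h2 := h a a.2
            rw [map_mul] at h2
            calc (a : MulAut V) ((b : MulAut V) w) * w
                = (a : MulAut V) ((b : MulAut V) w) * (a : MulAut V) w * ((a : MulAut V) w * w) := by
                  rw [mul_assoc, mul_apply_self_eq hV]
              _ = _ := by rw [h2, mul_comm]
        have hg : Function.Injective g := by
          rw [injective_iff_map_eq_one]
          intro a ha
          exact Subtype.ext (hinj a a.2 (mem_subgroupOf.1 ((QuotientGroup.eq_one_iff _).1 ha)))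
        have hidx : C.relIndex U₁ = Nat.card (↥U₁ ⧸ C.subgroupOf U₁) := rfl
        have h1 : Nat.card ↥A' ≤ C.relIndex U₁ := hidx ▸ Nat.card_le_card_of_injective g hg
        have h2 : C.relIndex U₁ ≤ Nat.card ↥B' := by
          rw [← hinf, inf_relIndex_left, show U₂.relIndex U₁ = U₂.relIndex (U₁ ⊔ U₂) from
            (relIndex_sup_right U₁ U₂).symm, htop, relIndex_top_right]
          have := hB'.best ⊥ bot_le
          rw [card_bot, one_mul, ← e₂, show fixedOf ((⊥ : Subgroup (MulAut V)) : Set (MulAut V)) = ⊤ from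
            eq_top_iff.2 fun v _ b hb => by rw [mem_bot.1 hb]; rfl, card_top, ← card_mul_index U₂,
            mul_comm] at this
          exact Nat.le_of_mul_le_mul_right this Nat.card_pos
        refine ⟨h1, h2, fun hle v hv => ?_⟩
        have hcard : Nat.card ↥A' = Nat.card (↥U₁ ⧸ C.subgroupOf U₁) := hidx ▸
          le_antisymm h1 (h2.trans hle)
        obtain ⟨a, ha⟩ := (hg.bijective_of_nat_card_le hcard.ge).2 (QuotientGroup.mk ⟨v, hv⟩)
        refine ⟨a, a.2, ?_⟩
        have h4 := mem_subgroupOf.1 (QuotientGroup.eq.1 ha)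
        simp only [coe_mul, coe_inv] at h4
        rwa [inv_eq_of_mul_eq_one_right (hV _)] at h4
      obtain ⟨w, hw, hwU⟩ := SetLike.not_le_iff_exists.1 hC
      have hwC : w ∉ C := fun h => hwU h.1
      obtain ⟨hA_le, hle_B, hsA⟩ := hbij A B U U' hA hB hAJ rfl rfl hWtop rfl w
        (hinjA w hw hwC) (fun a ha => hquadA a ha w)
      by_cases hU1 : U ≤ U'
      · have hcA : Nat.card ↥A = 1 := by
          refine le_antisymm ?_ Nat.card_pos
          rw [show C.relIndex U = 1 from relIndex_eq_one.2 (le_inf le_rfl hU1)] at hA_le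
          exact hA_le
        have hA1 : A = ⊥ := eq_bot_of_card_eq _ hcA
        exact hwU fun a ha => by rw [hA1, SetLike.mem_coe, mem_bot] at ha; rw [ha]; rfl
      obtain ⟨v, hv, hvU⟩ := SetLike.not_le_iff_exists.1 hU1
      have hvC : v ∉ C := fun h => hvU h.2
      obtain ⟨hB_le, hle_A, hsB⟩ := hbij B A U' U hB hA hBJ rfl rfl (sup_comm U U' ▸ hWtop)
        (inf_comm U' U) v (hinjB v hv hvC) (fun b hb => hquadB b hb v)
      obtain ⟨a, ha, hac⟩ := hsA (hB_le.trans hle_A) v hv
      obtain ⟨b, hb, hbc⟩ := hsB (hA_le.trans hle_B) w hw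
      set x := a * b with hx
      have hxJ : x ∈ J := mul_mem (hAJ ha) (hBJ hb)
      obtain ⟨c₁, hc₁⟩ : ∃ c, c = a w * w * v := ⟨_, rfl⟩
      obtain ⟨c₂, hc₂⟩ : ∃ c, c = b v * v * w := ⟨_, rfl⟩
      rw [← hc₁] at hac
      rw [← hc₂] at hbc
      have hexp : ∀ p q r : V, p * q * r * (q * r) = p := fun p q r => by
        rw [mul_assoc p q r, mul_assoc p, hV, mul_one]
      have haw : a w = c₁ * (w * v) := by rw [hc₁, hexp]
      have hbv : b v = c₂ * (v * w) := by rw [hc₂, hexp]
      have hcancel : ∀ p q : V, p * (p * q) = q := mul_apply_self_eq hV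
      have hxv : x v = c₂ * c₁ * w := by
        rw [hx, MulAut.mul_apply, hbv, map_mul, map_mul, hCfix _ hbc a (hAJ ha), hv a ha, haw]
        simp [mul_comm, mul_left_comm, hV, hcancel]
      have hxw : x w = c₁ * (w * v) := by rw [hx, MulAut.mul_apply, hw b hb, haw]
      have hcx₁ : x c₁ = c₁ := hCfix _ hac x hxJ
      have hcx₂ : x c₂ = c₂ := hCfix _ hbc x hxJ
      have hxxv : x (x v) = c₂ * (w * v) := by
        rw [hxv, map_mul, map_mul, hcx₁, hcx₂, hxw]
        simp [mul_comm, mul_left_comm, hV, hcancel]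
      have hx3 : (x ^ 3) v = v := by
        rw [show x ^ 3 = x * x * x from by rw [pow_succ, pow_two], MulAut.mul_apply, MulAut.mul_apply,
          hxxv, map_mul, map_mul, hcx₂, hxw, hxv]
        simp [mul_comm, mul_left_comm, hV, hcancel]
      refine not_three_dvd_orderOf h3 (a := (⟨a, hAJ ha⟩ : ↥J)) (b := ⟨b, hBJ hb⟩)
        (Subtype.ext (hA.invol a ha)) (Subtype.ext (hB.invol b hb)) ?_
      rw [← Subgroup.orderOf_coe]
      show 3 ∣ orderOf x
      have hiter : ∀ q : ℕ, (x ^ (3 * q)) v = v := by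
        intro q
        induction q with
        | zero => rw [mul_zero, pow_zero, MulAut.one_apply]
        | succ q ihq => rw [Nat.mul_succ, pow_add, MulAut.mul_apply, hx3, ihq]
      by_contra hnd
      obtain ⟨k, hk⟩ := exists_pow_eq_self_of_coprime (n := 3) (x := x)
        (Nat.prime_three.coprime_iff_not_dvd.2 hnd)
      have h0 := hiter k
      rw [pow_mul, hk, hxv] at h0
      have h1 : v * w = c₂ * c₁ := by
        rw [← h0]
        simp [mul_comm, mul_left_comm, hV, hcancel]
      refine hwU ?_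
      have h2 := U.mul_mem hv (h1 ▸ (mul_mem hbc hac).1 : v * w ∈ U)
      rwa [mul_apply_self_eq hV] at h2

end Pair

section Application

open scoped commutatorElement

/-- An automorphism of odd order fixing the involutions of an abelian 2-group fixes the group. -/
theorem odd_fixes_of_omega {X : Type*} [Group X] {Z : Subgroup X}
    (hZc : ∀ a ∈ Z, ∀ b ∈ Z, a * b = b * a) (hZ : IsPGroup 2 ↥Z) {x : X} {m : ℕ} (hm : Odd m)
    (hxm : x ^ m = 1) (hxZ : ∀ z ∈ Z, x * z * x⁻¹ ∈ Z)
    (h : ∀ z ∈ Z, z * z = 1 → x * z * x⁻¹ = z) : ∀ z ∈ Z, x * z * x⁻¹ = z := by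
  have key : ∀ (k : ℕ), ∀ z ∈ Z, z ^ 2 ^ k = 1 → x * z * x⁻¹ = z := by
    intro k
    induction k with
    | zero => intro z _ hz; rw [pow_zero, pow_one] at hz; simp [hz]
    | succ k ih =>
      intro z hz hzk
      have h2 : x * z ^ 2 * x⁻¹ = z ^ 2 := ih _ (pow_mem hz 2) (by rw [← pow_mul, ← pow_succ', hzk])
      set d := z⁻¹ * (x * z * x⁻¹) with hd
      have hdZ : d ∈ Z := mul_mem (inv_mem hz) (hxZ z hz)
      have hc : Commute z⁻¹ (x * z * x⁻¹) := hZc _ (inv_mem hz) _ (hxZ z hz)
      have hdd : d * d = 1 := by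
        rw [← pow_two, hd, hc.mul_pow, conj_pow, h2, inv_pow, inv_mul_cancel]
      have hxd := h d hdZ hdd
      have hxz : x * z * x⁻¹ = z * d := by rw [hd, mul_inv_cancel_left]
      have hn : ∀ n : ℕ, x ^ n * z * (x ^ n)⁻¹ = z * d ^ n := by
        intro n
        induction n with
        | zero => simp
        | succ n ihn =>
          calc x ^ (n + 1) * z * (x ^ (n + 1))⁻¹ = x * (x ^ n * z * (x ^ n)⁻¹) * x⁻¹ := by
                rw [pow_succ']; group
            _ = x * z * x⁻¹ * (x * d * x⁻¹) ^ n := by rw [ihn, conj_pow]; group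
            _ = z * d ^ (n + 1) := by rw [hxd, hxz, pow_succ', mul_assoc]
      have h3 := hn m
      rw [hxm] at h3
      obtain ⟨j, rfl⟩ := hm
      simp only [inv_one, one_mul, mul_one] at h3
      have hd1 : d ^ (2 * j + 1) = 1 := mul_eq_left.1 h3.symm
      rw [pow_succ, pow_mul, pow_two, hdd, one_pow, one_mul] at hd1
      rw [hxz, hd1, mul_one]
  intro z hz
  obtain ⟨k, hk⟩ := hZ ⟨z, hz⟩
  exact key k z hz (congrArg Subtype.val hk)

/-- In an S₄-free group with `C(O_2) ≤ O_2` and Sylow 2-subgroups of class at most two the elementary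
Thompson subgroup of a Sylow 2-subgroup is normal. -/
theorem thompson_normal_of_class_two {X : Type u} [Group X] [Finite X]
    (hcons : centralizer ((Cfsg.pCore 2 X : Subgroup X) : Set X) ≤ Cfsg.pCore 2 X)
    (hfree : ¬ Cfsg.Involves (Equiv.Perm (Fin 4)) X) (S : Sylow 2 X)
    (hcl : Subgroup.lowerCentralSeries (S : Subgroup X) 2 = ⊥) :
    (Cfsg.thompsonSubgroupOf 2 (S : Subgroup X)).Normal := by
  haveI : Fact (Nat.Prime 2) := ⟨Nat.prime_two⟩
  set Q := Cfsg.pCore 2 X with hQ
  have hQS : Q ≤ (S : Subgroup X) := Cfsg.Lib.Core.pCore_le_sylow S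
  have hQp := Cfsg.Lib.Core.pCore_isPGroup 2 X
  have hcl' : ⁅⁅(S : Subgroup X), (S : Subgroup X)⁆, (S : Subgroup X)⁆ = ⊥ := hcl
  set Z := Q ⊓ centralizer (Q : Set X) with hZ
  have hZc : ∀ a ∈ Z, ∀ b ∈ Z, a * b = b * a := fun a ha b hb => mem_centralizer_iff.1 hb.2 a ha.1
  haveI hZn : Z.Normal := inferInstance
  let V : Subgroup X :=
    { carrier := {z | z ∈ Z ∧ z * z = 1}
      one_mem' := ⟨one_mem _, one_mul 1⟩
      mul_mem' := fun {a b} ha hb => ⟨mul_mem ha.1 hb.1, by
        rw [mul_assoc a b, ← mul_assoc b a b, ← hZc a ha.1 b hb.1, mul_assoc a b b, hb.2, mul_one, ha.2]⟩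
      inv_mem' := fun {a} ha => ⟨inv_mem ha.1, by rw [← mul_inv_rev, ha.2, inv_one]⟩ }
  haveI hVn : V.Normal := ⟨fun v hv g => ⟨hZn.conj_mem v hv.1 g, by
    rw [show g * v * g⁻¹ * (g * v * g⁻¹) = g * (v * v) * g⁻¹ by group, hv.2]; group⟩⟩
  have hVQ : V ≤ Q := fun v hv => hv.1.1
  have hVp : IsPGroup 2 ↥V := hQp.to_le hVQ
  letI : CommGroup ↥V := { (inferInstance : Group ↥V) with
    mul_comm := fun a b => Subtype.ext (hZc a a.2.1 b b.2.1) }
  have hV2 : ∀ v : ↥V, v * v = 1 := fun v => Subtype.ext v.2.2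
  -- the action
  set ρ : X →* MulAut ↥V := MulAut.conjNormal with hρ
  have hker : ∀ g, ρ g = 1 ↔ g ∈ centralizer (V : Set X) := by
    intro g
    constructor
    · intro h
      refine mem_centralizer_iff.2 fun v hv => ?_
      have := congrArg Subtype.val (DFunLike.congr_fun h (⟨v, hv⟩ : ↥V))
      rw [MulAut.conjNormal_apply] at this
      exact (mul_inv_eq_iff_eq_mul.1 this).symm
    · intro h
      refine MulEquiv.ext fun v => Subtype.ext ?_
      rw [MulAut.conjNormal_apply]
      show g * (v : X) * g⁻¹ = v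
      rw [← mem_centralizer_iff.1 h v v.2, mul_inv_cancel_right]
  -- no section `S₃`
  have hS3 : ¬ Cfsg.Involves (Equiv.Perm (Fin 3)) ↥ρ.range := by
    intro hi
    refine hfree (Cfsg.Agent.S2759.result.2 ⟨V, hVp, ?_⟩)
    have hNV : ∀ g : X, g ∈ normalizer (V : Set X) := fun g => by
      rw [normalizer_eq_top_iff.2 hVn]; exact mem_top g
    let ι : X →* ↥(normalizer (V : Set X)) ⧸ (centralizer (V : Set X)).subgroupOf (normalizer (V : Set X)) :=
      (QuotientGroup.mk' _).comp ((MonoidHom.id X).codRestrict _ hNV)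
    have hι : ι.ker = ρ.ker := by
      ext g
      rw [MonoidHom.mem_ker, MonoidHom.mem_ker, hker]
      exact (QuotientGroup.eq_one_iff _).trans mem_subgroupOf
    have hιs : Function.Surjective ι := fun y => by
      obtain ⟨⟨g, hg⟩, rfl⟩ := QuotientGroup.mk'_surjective _ y
      exact ⟨g, rfl⟩
    let e : ↥ρ.range ≃* (↥(normalizer (V : Set X)) ⧸
        (centralizer (V : Set X)).subgroupOf (normalizer (V : Set X))) :=
      ((QuotientGroup.quotientKerEquivRange ρ).symm.trans
        (QuotientGroup.quotientMulEquivOfEq hι.symm)).trans (QuotientGroup.quotientKerEquivOfSurjective ι hιs)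
    exact Cfsg.Lib.FusionSys.involves_of_injective (f := e.toMonoidHom) e.injective hi
  -- the stabilizer of `Q / Z`
  let R : Subgroup X :=
    { carrier := {g | ∀ q ∈ Q, g * q * g⁻¹ * q⁻¹ ∈ Z}
      one_mem' := fun q _ => by simp
      mul_mem' := by
        intro a b ha hb q hq
        have := mul_mem (hZn.conj_mem _ (hb q hq) a) (ha q hq)
        simpa [mul_assoc] using this
      inv_mem' := by
        intro a ha q hq
        have := hZn.conj_mem _ (inv_mem (ha q hq)) a⁻¹
        have h2 := ha (a⁻¹ * q * a⁻¹⁻¹) ((inferInstance : Q.Normal).conj_mem q hq a⁻¹)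
        have h3 := inv_mem h2
        simpa [mul_assoc] using h3 }
  have hRmem : ∀ g, g ∈ R ↔ ∀ q ∈ Q, g * q * g⁻¹ * q⁻¹ ∈ Z := fun g => Iff.rfl
  haveI hRn : R.Normal := ⟨fun g hg h q hq => by
    have := hZn.conj_mem _ (hg _ ((inferInstance : Q.Normal).conj_mem q hq h⁻¹)) h
    simpa [mul_assoc] using this⟩
  have hSR : (S : Subgroup X) ≤ R := by
    intro s hs q hq
    refine ⟨Q.mul_mem ((inferInstance : Q.Normal).conj_mem q hq s) (Q.inv_mem hq), ?_⟩
    refine mem_centralizer_iff.2 fun r hr => ?_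
    have h1 : ⁅⁅s, q⁆, r⁆ ∈ (⊥ : Subgroup X) := hcl' ▸ commutator_mem_commutator
      (commutator_mem_commutator hs (hQS hq)) (hQS hr)
    rw [mem_bot, commutatorElement_eq_one_iff_mul_comm] at h1
    exact h1.symm
  -- the kernel
  set K := R ⊓ centralizer (V : Set X) with hK
  haveI : K.Normal := inferInstance
  have hKp : IsPGroup 2 ↥K := Cfsg.Lib.Sig.isPGroup_of_forall_coprime K fun x hx hcop => by
    have hm : Odd (orderOf x) := Nat.coprime_two_right.1 hcop
    have hxZ := odd_fixes_of_omega hZc (hQp.to_le inf_le_left) hm (pow_orderOf_eq_one x)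
      (fun z hz => hZn.conj_mem z hz x) fun z hz hzz => by
        rw [← mem_centralizer_iff.1 hx.2 z ⟨hz, hzz⟩, mul_inv_cancel_right]
    have hxQ : x ∈ centralizer (Q : Set X) := by
      refine mem_centralizer_iff.2 fun q hq => ?_
      set d := x * q * x⁻¹ * q⁻¹ with hd
      have hxd : x * d * x⁻¹ = d := hxZ d (hx.1 q hq)
      have hxq : x * q * x⁻¹ = d * q := by rw [hd]; group
      have hdQ : d ∈ Q := (hx.1 q hq).1
      clear_value d
      have hn : ∀ n : ℕ, x ^ n * q * (x ^ n)⁻¹ = d ^ n * q := by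
        intro n
        induction n with
        | zero => simp
        | succ n ihn =>
          calc x ^ (n + 1) * q * (x ^ (n + 1))⁻¹ = x * (x ^ n * q * (x ^ n)⁻¹) * x⁻¹ := by
                rw [pow_succ']; group
            _ = (x * d * x⁻¹) ^ n * (x * q * x⁻¹) := by rw [ihn, conj_pow]; group
            _ = d ^ (n + 1) * q := by rw [hxd, hxq, pow_succ, mul_assoc]
      have h3 := hn (orderOf x)
      rw [pow_orderOf_eq_one] at h3
      simp only [inv_one, one_mul, mul_one] at h3
      have hdm : d ^ orderOf x = 1 := mul_eq_right.1 h3.symm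
      obtain ⟨k, hk⟩ := hQp ⟨d, hdQ⟩
      have hd1 : d = 1 := orderOf_eq_one_iff.1 (Nat.eq_one_of_dvd_coprimes
        ((Nat.coprime_two_left.2 hm).pow_left k)
        (orderOf_dvd_of_pow_eq_one (congrArg Subtype.val hk :)) (orderOf_dvd_of_pow_eq_one hdm))
      rw [hd1, one_mul] at hxq
      exact (mul_inv_eq_iff_eq_mul.1 hxq).symm
    obtain ⟨k, hk⟩ := hQp ⟨x, hcons hxQ⟩
    exact orderOf_eq_one_iff.1 (Nat.eq_one_of_dvd_coprimes (hcop.symm.pow_left k)
      (orderOf_dvd_of_pow_eq_one (congrArg Subtype.val hk :)) dvd_rfl)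
  have hKQ : K ≤ Q := Cfsg.Lib.Core.le_pCore' inferInstance hKp
  have hQV : Q ≤ centralizer (V : Set X) := fun q hq => mem_centralizer_iff.2 fun v hv =>
    (mem_centralizer_iff.1 hv.1.2 q hq).symm
  have hAbS : ∀ P : Subgroup ↥ρ.range, IsPGroup 2 ↥P → ∀ a ∈ P, ∀ b ∈ P, a * b = b * a := by
    intro P hP
    haveI : Finite ↥ρ.range := Finite.of_surjective ρ.rangeRestrict ρ.rangeRestrict_surjective
    obtain ⟨T, hT⟩ := hP.exists_le_sylow
    obtain ⟨g, hg⟩ := MulAction.exists_smul_eq ↥ρ.range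
      (S.mapSurjective (f := ρ.rangeRestrict) ρ.rangeRestrict_surjective) T
    have hTc : ∀ a ∈ (T : Subgroup ↥ρ.range), ∀ b ∈ (T : Subgroup ↥ρ.range), a * b = b * a := by
      rw [← hg]
      intro a ha b hb
      erw [Sylow.coe_subgroup_smul, Sylow.coe_mapSurjective] at ha hb
      obtain ⟨_, ⟨s, hs, rfl⟩, rfl⟩ := ha
      obtain ⟨_, ⟨t, ht, rfl⟩, rfl⟩ := hb
      have h1 : ρ ⁅s, t⁆ = 1 := (hker _).2 (mem_centralizer_iff.2 fun v hv => by
        have h2 : ⁅⁅s, t⁆, v⁆ ∈ (⊥ : Subgroup X) := hcl' ▸ commutator_mem_commutator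
          (commutator_mem_commutator hs ht) (hQS (hVQ hv))
        rw [mem_bot, commutatorElement_eq_one_iff_mul_comm] at h2
        exact h2.symm)
      have key : ρ.rangeRestrict s * ρ.rangeRestrict t = ρ.rangeRestrict t * ρ.rangeRestrict s := by
        apply Subtype.ext
        show ρ s * ρ t = ρ t * ρ s
        rw [← map_mul, ← map_mul, show s * t = ⁅s, t⁆ * (t * s) by rw [commutatorElement_def]; group,
          map_mul, h1, one_mul]
      exact ((map_mul _ _ _).symm.trans (congrArg _ key)).trans (map_mul _ _ _)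
    exact fun a ha b hb => hTc a (hT ha) b (hT hb)
  -- each largest elementary abelian subgroup lies in `Q`
  have hmain : ∀ A ∈ Cfsg.maxElementaryAbelianSubgroups 2 X, A ≤ (S : Subgroup X) → A ≤ Q := by
    intro A hA hAS
    suffices hAC : A ≤ centralizer (V : Set X) from (le_inf (hAS.trans hSR) hAC).trans hKQ
    by_contra hnC
    set Ab := A.map ρ with hAb
    have hAbne : Ab ≠ ⊥ := fun e => hnC fun a ha => (hker a).1 (by
      have := mem_map_of_mem ρ ha
      rwa [← hAb, e, mem_bot] at this)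
    -- offender inequality
    set A₀ := A ⊓ centralizer (V : Set X) with hA₀
    have hel : Cfsg.IsElementaryAbelian 2 (closure ((A₀ : Set X) ∪ (V : Set X))) := by
      refine Cfsg.Lib.Thompson.isEA_closure ?_ ?_
      · rintro a (ha | ha) b (hb | hb)
        · exact Cfsg.Lib.Thompson.isEA_commute hA.1 ha.1 hb.1
        · exact (mem_centralizer_iff.1 ha.2 b hb).symm
        · exact mem_centralizer_iff.1 hb.2 a ha
        · exact hZc a ha.1 b hb.1
      · rintro a (ha | ha)
        · exact hA.1.2 a ha.1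
        · rw [pow_two]; exact ha.2
    have hsup := hA.2 _ hel
    rw [Subgroup.closure_union, closure_eq, closure_eq] at hsup
    have hA₀V : A₀ ⊓ V = A ⊓ V := le_antisymm (inf_le_inf_right _ inf_le_left)
      (le_inf (le_inf inf_le_left (fun v hv => mem_centralizer_iff.2 fun w hw => hZc w hw.1 v hv.2.1))
        inf_le_right)
    have hc1 : Nat.card ↥(A₀ ⊔ V) * Nat.card ↥(A₀ ⊓ V) = Nat.card ↥A₀ * Nat.card ↥V := by
      have h1 := relIndex_mul_relIndex (⊥ : Subgroup X) (A₀ ⊓ V) A₀ bot_le inf_le_left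
      have h2 := relIndex_mul_relIndex (⊥ : Subgroup X) V (A₀ ⊔ V) bot_le le_sup_right
      rw [relIndex_bot_left, relIndex_bot_left] at h1 h2
      rw [inf_relIndex_left] at h1
      rw [relIndex_sup_right] at h2
      rw [← h1, ← h2]
      ring
    have hc2 : Nat.card ↥A = Nat.card ↥A₀ * Nat.card ↥Ab := by
      have h := relIndex_mul_relIndex (⊥ : Subgroup X) A₀ A bot_le inf_le_left
      rw [relIndex_bot_left, relIndex_bot_left, hA₀, inf_relIndex_left,
        show centralizer (V : Set X) = ρ.ker from SetLike.ext fun g => (hker g).symm, relIndex_ker] at h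
      rw [← h, show ρ.ker = centralizer (V : Set X) from SetLike.ext fun g => hker g]
    have hfix : Nat.card ↥(A ⊓ V) ≤ Nat.card ↥(fixedOf (Ab : Set (MulAut ↥V))) := by
      refine Nat.card_le_card_of_injective
        (fun x : ↥(A ⊓ V) => (⟨⟨x, x.2.2⟩, ?_⟩ : ↥(fixedOf (Ab : Set (MulAut ↥V))))) ?_
      · rintro _ ⟨a, ha, rfl⟩
        apply Subtype.ext
        rw [MulAut.conjNormal_apply]
        show a * (x : X) * a⁻¹ = x
        rw [(Cfsg.Lib.Thompson.isEA_commute hA.1 ha x.2.1).eq, mul_inv_cancel_right]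
      · intro x y h
        exact Subtype.ext (congrArg (fun z : ↥(fixedOf (Ab : Set (MulAut ↥V))) => ((z : ↥V) : X)) h)
    have hoff : Nat.card ↥V ≤ Nat.card ↥Ab * Nat.card ↥(fixedOf (Ab : Set (MulAut ↥V))) := by
      refine le_trans ?_ (Nat.mul_le_mul_left _ hfix)
      refine Nat.le_of_mul_le_mul_left ?_ (Nat.card_pos : 0 < Nat.card ↥A₀)
      rw [← hc1, ← hA₀V, ← mul_assoc, ← hc2]
      exact Nat.mul_le_mul_right _ hsup
    -- a best subgroup
    obtain ⟨B, ⟨hBA, hBne⟩, hBmax⟩ := Set.exists_max_image {D : Subgroup (MulAut ↥V) | D ≤ Ab ∧ D ≠ ⊥}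
      (fun D => Nat.card ↥D * Nat.card ↥(fixedOf (D : Set (MulAut ↥V)))) (Set.toFinite _) ⟨Ab, le_rfl, hAbne⟩
    have hquad : ∀ a ∈ A, ∀ b ∈ A, ∀ v : ↥V, ρ b (ρ a v * v) = ρ a v * v := by
      intro a ha b hb v
      apply Subtype.ext
      rw [MulAut.conjNormal_apply]
      set w : X := ((ρ a v * v : ↥V) : X) with hw
      have hwS : w ∈ ⁅(S : Subgroup X), (S : Subgroup X)⁆ := by
        rw [hw, Subgroup.coe_mul, MulAut.conjNormal_apply]
        have := commutator_mem_commutator (hAS ha) (hQS (hVQ v.2))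
        rwa [commutatorElement_def, inv_eq_of_mul_eq_one_right (a := (v : X)) v.2.2] at this
      have h2 : ⁅w, b⁆ ∈ (⊥ : Subgroup X) := hcl' ▸ commutator_mem_commutator hwS (hAS hb)
      rw [mem_bot, commutatorElement_eq_one_iff_mul_comm] at h2
      rw [← h2, mul_inv_cancel_right]
    have hbest : IsBestOffender B := by
      refine ⟨fun x hx => ?_, fun x hx y hy v => ?_, fun D hD => ?_⟩
      · obtain ⟨a, ha, rfl⟩ := hBA hx
        rw [← map_mul, ← pow_two, hA.1.2 a ha, map_one]
      · obtain ⟨a, ha, rfl⟩ := hBA hx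
        obtain ⟨b, hb, rfl⟩ := hBA hy
        exact hquad a ha b hb v
      · by_cases hD1 : D = ⊥
        · subst hD1
          refine le_trans ?_ (hoff.trans (hBmax Ab ⟨le_rfl, hAbne⟩))
          rw [card_bot, one_mul]
          exact card_le_card_group _
        · exact hBmax D ⟨hD.trans hBA, hD1⟩
    obtain ⟨⟨β, hβ⟩, hβ1⟩ := ne_bot_iff_exists_ne_one.1 hBne
    obtain ⟨a, ha, rfl⟩ := hBA hβ
    refine hβ1 (Subtype.ext ((hker a).2 ?_))
    -- conjugates of `a` generate 2-groups in `R`
    have hpair : ∀ r : ↥R, IsPGroup 2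
        ↥(zpowers (⟨a, hSR (hAS ha)⟩ : ↥R) ⊔
          (zpowers (⟨a, hSR (hAS ha)⟩ : ↥R)).map (MulAut.conj r).toMonoidHom) := by
      intro r
      set B' := B.map (MulAut.conj (ρ r)).toMonoidHom with hB'
      have hBr : B ≤ ρ.range := hBA.trans (Subgroup.map_le_range ρ A)
      have hB'r : B' ≤ ρ.range := by
        rintro _ ⟨b, hb, rfl⟩
        exact mul_mem (mul_mem ⟨r, rfl⟩ (hBr hb)) (inv_mem ⟨r, rfl⟩)
      have hp := pair_isPGroup (Nat.card ↥V) (Nat.card ↥(B ⊔ B')) ↥V le_rfl hV2 B B' le_rfl hbest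
        (hbest.conj _) (AbelTwo.of_injective hAbS (inclusion_injective (sup_le hBr hB'r)))
        (fun hi => hS3 (Cfsg.Lib.FusionSys.involves_of_injective
          (inclusion_injective (sup_le hBr hB'r)) hi))
      set σ : ↥R →* MulAut ↥V := ρ.comp R.subtype with hσ
      have hσk : IsPGroup 2 ↥σ.ker := by
        refine hKp.of_injective ((R.subtype.comp σ.ker.subtype).codRestrict K fun x => ⟨x.1.2, (hker _).1 x.2⟩) ?_
        intro x y h
        exact Subtype.ext (Subtype.ext (congrArg (fun z : ↥K => (z : X)) h))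
      refine (hp.comap_of_ker_isPGroup σ hσk).to_le (sup_le ?_ ?_)
      · rw [zpowers_le]
        exact mem_sup_left hβ
      · rw [MonoidHom.map_zpowers, zpowers_le, mem_comap]
        refine mem_sup_right ⟨ρ a, hβ, ?_⟩
        simp [hσ]
    obtain ⟨N, hN, hNp, haN⟩ := Cfsg.Lib.Invol.baerSuzuki (p := 2) (zpowers (⟨a, hSR (hAS ha)⟩ : ↥R))
      (IsPGroup.to_le (S.2.of_equiv (subgroupOfEquivOfLe hSR).symm)
        (zpowers_le.2 (mem_subgroupOf.2 (hAS ha)))) hpair
    have h1 : (⟨a, hSR (hAS ha)⟩ : ↥R) ∈ Cfsg.pCore 2 ↥R :=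
      Cfsg.Lib.Core.le_pCore' hN hNp (haN (mem_zpowers _))
    exact hQV (Cfsg.Lib.Core.pCore_map_le_of_isSubnormal (p := 2) (H := R) hRn.isSubnormal
      (mem_map_of_mem R.subtype h1))
  obtain ⟨A₁, hA₁, hA₁S⟩ := Cfsg.Lib.Thompson.exists_maxEA_le_sylow (p := 2) S
  have heq : Cfsg.thompsonSubgroupOf 2 (S : Subgroup X) = Cfsg.thompsonSubgroupOf 2 Q := by
    rw [Cfsg.Lib.Thompson.thompsonSubgroupOf_eq _ ⟨A₁, hA₁, hA₁S⟩,
      Cfsg.Lib.Thompson.thompsonSubgroupOf_eq _ ⟨A₁, hA₁, hmain A₁ hA₁ hA₁S⟩]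
    congr 1
    ext A
    exact ⟨fun h => ⟨h.1, hmain A h.1 h.2⟩, fun h => ⟨h.1, h.2.trans hQS⟩⟩
  rw [heq]
  refine normalizer_eq_top_iff.1 (top_le_iff.1 ?_)
  rw [← normalizer_eq_top_iff.2 (inferInstance : Q.Normal)]
  exact Cfsg.Lib.Thompson.normalizer_le_normalizer_thompsonSubgroupOf Q

/-- `G = N(J) O_{2'}` for 2-constrained S₄-free groups with Sylow 2-subgroups of class at most two. -/
theorem normalizer_sup_eq_top_of_class_two {X : Type u} [Group X] [Finite X]
    (hcon : Cfsg.IsPConstrained 2 X) (hfree : ¬ Cfsg.Involves (Equiv.Perm (Fin 4)) X) (S : Sylow 2 X)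
    (hcl : Subgroup.lowerCentralSeries (S : Subgroup X) 2 = ⊥) :
    normalizer ((Cfsg.thompsonSubgroupOf 2 (S : Subgroup X)) : Set X) ⊔ Cfsg.pPrimeCore 2 X = ⊤ := by
  haveI : Fact (Nat.Prime 2) := ⟨Nat.prime_two⟩
  set M := Cfsg.pPrimeCore 2 X
  have hMcop : (Nat.card ↥M).Coprime 2 := Cfsg.Lib.Core.pPrimeCore_coprime 2 X
  set f := QuotientGroup.mk' M with hf
  have hfs : Function.Surjective f := QuotientGroup.mk'_surjective M
  have hn := thompson_normal_of_class_two (Cfsg.Lib.Sig.isPConstrained_iff.1 hcon)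
    (fun h => hfree (Cfsg.Lib.FusionSys.involves_of_surjective hfs h)) (S.mapSurjective (f := f) hfs)
    (by rw [Sylow.coe_mapSurjective, ← Subgroup.map_lowerCentralSeries, hcl, Subgroup.map_bot])
  have hdisj : (S : Subgroup X) ⊓ f.ker = ⊥ := by
    rw [hf, QuotientGroup.ker_mk']
    exact Cfsg.Lib.Sig.disjoint_of_isPGroup_coprime S.2 hMcop
  have hinj : Set.InjOn f (S : Subgroup X) := fun x hx y hy hxy => by
    have h1 : x * y⁻¹ ∈ (S : Subgroup X) ⊓ f.ker :=
      ⟨(S : Subgroup X).mul_mem hx ((S : Subgroup X).inv_mem hy), MonoidHom.mem_ker.2 (by rw [map_mul, map_inv, hxy, mul_inv_cancel])⟩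
    rw [hdisj, mem_bot, mul_inv_eq_one] at h1
    exact h1
  rw [Sylow.coe_mapSurjective, ← Cfsg.Lib.Thompson.map_thompsonSubgroupOf f _ hinj] at hn
  refine eq_top_iff.2 fun x _ => ?_
  obtain ⟨m, hm, hmx⟩ := Cfsg.Lib.Sig.exists_mul_mem_normalizer M hMcop
    (S.2.to_le (Cfsg.Lib.Thompson.thompsonSubgroupOf_le _)) (x := x)
    (by rw [normalizer_eq_top_iff.2 hn]; exact mem_top _)
  have := mul_mem (mem_sup_right (inv_mem hm) : m⁻¹ ∈ normalizer
    ((Cfsg.thompsonSubgroupOf 2 (S : Subgroup X)) : Set X) ⊔ M) (mem_sup_left hmx)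
  rwa [inv_mul_cancel_left] at this

end Application

end Cfsg.Lib.Sig.AbelianFF
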