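import Cfsg.Agent.Lib.FusionSys.GroupModelQd
import Cfsg.Agent.Lib.Linear.GLTwo
import Cfsg.Agent.Lib.Sig.Small
import Cfsg.Agent.Lib.Core.Cores
import Cfsg.Prelude.Def_ConjugacyFunctors

/-!
In `Qd(p)` no nontrivial characteristic subgroup of a Sylow subgroup controls fusion.
-/

set_option autoImplicit false
set_option linter.style.haveILetI false

namespace Cfsg.Lib.Sig.QdFusion

open Subgroup Matrix Cfsg Cfsg.Lib.Local Cfsg.Lib.Linear.Two
open scoped MatrixGroups

universe u

variable (p : ℕ) [hp : Fact p.Prime]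

/-- Lower transvection. -/
def lowT (x : ZMod p) : SL(2, ZMod p) := ⟨!![1, 0; x, 1], by simp⟩

theorem lowT_mul (x y : ZMod p) : lowT p x * lowT p y = lowT p (x + y) := by
  apply Subtype.ext
  show (!![1, 0; x, 1] : Matrix (Fin 2) (Fin 2) (ZMod p)) * !![1, 0; y, 1] = !![1, 0; x + y, 1]
  ext i j
  fin_cases i <;> fin_cases j <;> simp [Matrix.mul_apply, Fin.sum_univ_two]

theorem lowT_pow (x : ZMod p) (n : ℕ) : lowT p x ^ n = lowT p (n * x) := by
  induction n with
  | zero =>
    simp only [pow_zero, Nat.cast_zero, zero_mul]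
    apply Subtype.ext
    simp [lowT, Matrix.one_fin_two]
  | succ n ih => rw [pow_succ, ih, lowT_mul, Nat.cast_succ, add_mul, one_mul]

theorem decomp {M : SL(2, ZMod p)} (hc : M 1 0 ≠ 0) :
    M = ut (Multiplicative.ofAdd ((M 0 0 - 1) / M 1 0)) * lowT p (M 1 0) *
      ut (Multiplicative.ofAdd ((M 1 1 - 1) / M 1 0)) := by
  have hd := M.2
  rw [det_fin_two] at hd
  apply Subtype.ext
  show (M : Matrix (Fin 2) (Fin 2) (ZMod p)) =
    (ut (Multiplicative.ofAdd ((M 0 0 - 1) / M 1 0)) : Matrix (Fin 2) (Fin 2) (ZMod p)) *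
      !![1, 0; M 1 0, 1] *
      (ut (Multiplicative.ofAdd ((M 1 1 - 1) / M 1 0)) : Matrix (Fin 2) (Fin 2) (ZMod p))
  rw [ut_coe, ut_coe]
  ext i j
  fin_cases i <;> fin_cases j <;>
    simp [Matrix.mul_apply, Fin.sum_univ_two, div_mul_cancel₀ _ hc] <;> field_simp <;>
    first | linear_combination hd | linear_combination -hd | ring

/-- A subgroup of `SL₂(p)` containing the unitriangular group is triangular or everything. -/
theorem triangular_or_top {H : Subgroup SL(2, ZMod p)} (hU : UT (ZMod p) ≤ H) :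
    (∀ g ∈ H, g 1 0 = 0) ∨ H = ⊤ := by
  rw [or_iff_not_imp_left]
  intro h
  push Not at h
  obtain ⟨g, hg, hc⟩ := h
  have hut : ∀ x, ut x ∈ H := fun x => hU ⟨x, rfl⟩
  have hL : lowT p (g 1 0) ∈ H := by
    have e := decomp p hc
    rw [e] at hg
    exact (mul_mem_cancel_left (hut _)).1 ((mul_mem_cancel_right (hut _)).1 hg)
  have hLx : ∀ x, lowT p x ∈ H := fun x => by
    have := pow_mem hL (x / g 1 0).val
    rwa [lowT_pow, ZMod.natCast_zmod_val, div_mul_cancel₀ _ hc] at this
  have key : ∀ M : SL(2, ZMod p), M 1 0 ≠ 0 → M ∈ H := fun M hM => by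
    rw [decomp p hM]
    exact mul_mem (mul_mem (hut _) (hLx _)) (hut _)
  refine eq_top_iff.2 fun M _ => ?_
  by_cases hM : M 1 0 = 0
  · refine (mul_mem_cancel_right (hLx 1)).1 (key _ ?_)
    have hd := M.2
    rw [det_fin_two, hM, mul_zero, sub_zero] at hd
    show (M.1 * !![1, 0; 1, 1] : Matrix (Fin 2) (Fin 2) (ZMod p)) 1 0 ≠ 0
    simp [Matrix.mul_apply, Fin.sum_univ_two, hM]
    exact fun e => one_ne_zero (α := ZMod p) (by rw [← hd, e, mul_zero])
  · exact key M hM

theorem sl_normal_pGroup_eq_bot {N : Subgroup SL(2, ZMod p)} [N.Normal] (hN : IsPGroup p ↥N) :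
    N = ⊥ := by
  have hle : N ≤ UT (ZMod p) := by
    have hmax := ((isPGroup_UT p).toSylow (not_dvd_index_UT (F := ZMod p) p)).is_maximal'
      (Q := N ⊔ UT (ZMod p)) (hN.to_sup_of_normal_left (isPGroup_UT p)) le_sup_right
    exact le_sup_left.trans hmax.le
  refine (eq_bot_iff_forall _).2 fun g hg => ?_
  obtain ⟨h0, h1, h2⟩ := mem_UT.1 (hle hg)
  let w : SL(2, ZMod p) := ⟨!![0, 1; -1, 0], by simp⟩
  obtain ⟨-, -, h5⟩ := mem_UT.1 (hle (Normal.conj_mem inferInstance g hg w))
  have h3 : g 0 1 = 0 := by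
    have e : w * g * w⁻¹ * w = w * g := inv_mul_cancel_right _ _
    have e' : ((w * g * w⁻¹).1 * !![0, 1; -1, 0] : Matrix (Fin 2) (Fin 2) (ZMod p)) 1 1 =
        (!![0, 1; -1, 0] * g.1 : Matrix (Fin 2) (Fin 2) (ZMod p)) 1 1 :=
      congrArg (fun X : SL(2, ZMod p) => X.1 1 1) e
    generalize w * g * w⁻¹ = k at e' h5
    simpa [Matrix.mul_apply, Fin.sum_univ_two, h5, h1, eq_comm] using e'
  apply Subtype.ext
  ext i j
  fin_cases i <;> fin_cases j <;> simp [h0, h1, h2, h3]

theorem conj_mem_UT {g h : SL(2, ZMod p)} (hg : g 1 0 = 0) (hh : h ∈ UT (ZMod p)) :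
    g * h * g⁻¹ ∈ UT (ZMod p) := by
  obtain ⟨h0, h1, h2⟩ := mem_UT.1 hh
  have hd := g.2
  rw [det_fin_two, hg, mul_zero, sub_zero] at hd
  refine mem_UT.2 ⟨?_, ?_, ?_⟩ <;>
    simp [SpecialLinearGroup.coe_mul, SpecialLinearGroup.coe_inv, adjugate_fin_two,
      Matrix.mul_apply, Fin.sum_univ_two, h0, h1, h2, hg] <;>
    first | linear_combination hd | linear_combination -hd | ring

/-- The standard Sylow subgroup. -/
def std : Subgroup ↥(qd p) := (UT (ZMod p)).comap (QdGroup.block p)

theorem isPGroup_std : IsPGroup p ↥(std p) :=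
  (isPGroup_UT p).comap_of_ker_isPGroup _ (IsPGroup.of_card (n := 2) (QdGroup.card_ker_block p))

theorem not_dvd_index_std : ¬ p ∣ (std p).index := by
  rw [std, index_comap_of_surjective _ (QdGroup.block_surjective p)]
  exact not_dvd_index_UT p

theorem ker_le_std : (QdGroup.block p).ker ≤ std p := fun x hx => by
  show QdGroup.block p x ∈ UT (ZMod p)
  rw [MonoidHom.mem_ker.1 hx]
  exact one_mem _

/-- The three coordinates of an element of the standard Sylow subgroup. -/
theorem std_spec (u : ↥(std p)) :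
    u.1 = QdGroup.affine p (ut (Multiplicative.ofAdd ((u.1.1 : Matrix (Fin 3) (Fin 3) (ZMod p)) 0 1)))
      ((u.1.1 : Matrix (Fin 3) (Fin 3) (ZMod p)) 0 2, (u.1.1 : Matrix (Fin 3) (Fin 3) (ZMod p)) 1 2) := by
  obtain ⟨h20, h21, h22⟩ := QdGroup.row_two p u.1.2
  obtain ⟨h00, h11, h10⟩ := mem_UT.1 (mem_comap.1 u.2)
  simp only [QdGroup.block_coe, Matrix.cons_val', Matrix.cons_val_zero, Matrix.cons_val_one,
    Matrix.of_apply] at h00 h11 h10
  apply Subtype.ext
  apply Subtype.ext
  ext i j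
  fin_cases i <;> fin_cases j <;> simp [QdGroup.affine_coe, ut_coe, h20, h21, h22, h00, h11, h10]

/-- The automorphism exchanging the two elementary abelian maximal subgroups. -/
def flip (u : ↥(std p)) : ↥(std p) :=
  ⟨QdGroup.affine p (ut (Multiplicative.ofAdd ((u.1.1 : Matrix (Fin 3) (Fin 3) (ZMod p)) 1 2)))
      ((u.1.1 : Matrix (Fin 3) (Fin 3) (ZMod p)) 0 1 * (u.1.1 : Matrix (Fin 3) (Fin 3) (ZMod p)) 1 2 -
        (u.1.1 : Matrix (Fin 3) (Fin 3) (ZMod p)) 0 2, (u.1.1 : Matrix (Fin 3) (Fin 3) (ZMod p)) 0 1), by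
    show QdGroup.block p _ ∈ UT (ZMod p)
    rw [QdGroup.block_affine]
    exact ⟨_, rfl⟩⟩

theorem flip_flip (u : ↥(std p)) : flip p (flip p u) = u := by
  apply Subtype.ext
  conv_rhs => rw [std_spec p u]
  show QdGroup.affine p _ _ = _
  simp [flip, QdGroup.affine_coe, ut_coe, mul_comm]

theorem flip_mul (u v : ↥(std p)) : flip p (u * v) = flip p u * flip p v := by
  apply Subtype.ext
  obtain ⟨h20, h21, h22⟩ := QdGroup.row_two p u.1.2
  obtain ⟨k20, k21, k22⟩ := QdGroup.row_two p v.1.2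
  obtain ⟨h00, h11, h10⟩ := mem_UT.1 (mem_comap.1 u.2)
  obtain ⟨k00, k11, k10⟩ := mem_UT.1 (mem_comap.1 v.2)
  simp only [QdGroup.block_coe, Matrix.cons_val', Matrix.cons_val_zero, Matrix.cons_val_one,
    Matrix.of_apply] at h00 h11 h10 k00 k11 k10
  apply Subtype.ext
  apply Subtype.ext
  ext i j
  fin_cases i <;> fin_cases j <;>
    simp [flip, QdGroup.affine_coe, ut_coe, SpecialLinearGroup.coe_mul, Matrix.mul_apply,
      Fin.sum_univ_three, h20, h21, h22, h00, h11, h10, k20, k21, k22, k00, k11, k10] <;> ring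

/-- The automorphism `flip` as a `MulEquiv`. -/
def flipEquiv : ↥(std p) ≃* ↥(std p) :=
  { toFun := flip p, invFun := flip p, left_inv := flip_flip p, right_inv := flip_flip p,
    map_mul' := flip_mul p }

theorem characteristic_map_equiv {A B : Type*} [Group A] [Group B] (e : A ≃* B) (C : Subgroup A)
    [C.Characteristic] : (C.map e.toMonoidHom).Characteristic := by
  refine characteristic_iff_map_eq.2 fun φ => ?_
  have h := characteristic_iff_map_eq.1 (inferInstance : C.Characteristic) ((e.trans φ).trans e.symm)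
  conv_rhs => rw [← h]
  rw [Subgroup.map_map, Subgroup.map_map]
  congr 1
  ext x
  simp

theorem normalizer_std_le {M : ↥(qd p)} (h : (QdGroup.block p M) 1 0 = 0) :
    M ∈ normalizer (std p : Set ↥(qd p)) := by
  refine mem_normalizer_of_map_conj (eq_of_le_of_card_ge ?_ (card_map_conj _ _).ge)
  rintro _ ⟨x, hx, rfl⟩
  show QdGroup.block p (M * x * M⁻¹) ∈ UT (ZMod p)
  rw [map_mul, map_mul, map_inv]
  exact conj_mem_UT p h hx

theorem normalizer_le_map_characteristic {A : Type*} [Group A] [Finite A] (H : Subgroup A)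
    (C : Subgroup ↥H) [hCc : C.Characteristic] :
    normalizer (H : Set A) ≤ normalizer ((C.map H.subtype : Subgroup A) : Set A) := by
  intro g hg
  have hmap := map_conj_eq_of_mem_normalizer hg
  let φ : ↥H ≃* ↥H := ((MulAut.conj g).subgroupMap H).trans (MulEquiv.subgroupCongr hmap)
  have h := congrArg (Subgroup.map H.subtype) (characteristic_iff_map_eq.1 hCc φ)
  refine mem_normalizer_of_map_conj ?_
  conv_rhs => rw [← h]
  rw [Subgroup.map_map, Subgroup.map_map]
  rfl

theorem normalizer_char_std (C : Subgroup ↥(std p)) (hC : C ≠ ⊥) [hCc : C.Characteristic] :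
    normalizer ((C.map (std p).subtype : Subgroup ↥(qd p)) : Set ↥(qd p)) =
        normalizer (std p : Set ↥(qd p)) ∧
      normalizer (std p : Set ↥(qd p)) ≠ ⊤ := by
  set Cb := C.map (std p).subtype with hCb
  set V := (QdGroup.block p).ker with hV
  have hge : normalizer (std p : Set ↥(qd p)) ≤ normalizer (Cb : Set ↥(qd p)) :=
    normalizer_le_map_characteristic _ C
  have hnn : normalizer (Cb : Set ↥(qd p)) ≠ ⊤ := by
    intro htop
    haveI : Cb.Normal := normalizer_eq_top_iff.1 htop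
    have hCp : IsPGroup p ↥Cb := (isPGroup_std p).to_le (map_subtype_le _)
    haveI := (inferInstance : Cb.Normal).map (QdGroup.block p) (QdGroup.block_surjective p)
    have hle : Cb ≤ V := by
      rw [hV, ← Subgroup.map_eq_bot_iff]
      exact sl_normal_pGroup_eq_bot p (hCp.map _)
    have hlin : ∀ (A : SL(2, ZMod p)) (v : ZMod p × ZMod p),
        QdGroup.affine p A 0 * QdGroup.affine p 1 v * (QdGroup.affine p A 0)⁻¹ =
          QdGroup.affine p 1 (A 0 0 * v.1 + A 0 1 * v.2, A 1 0 * v.1 + A 1 1 * v.2) := by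
      intro A v
      rw [mul_inv_eq_iff_eq_mul, QdGroup.affine_mul, QdGroup.affine_mul]
      simp
    have hmem : ∀ M ∈ V, ∃ v, M = QdGroup.affine p 1 v := fun M hM => by
      have e := std_spec p ⟨M, ker_le_std p hM⟩
      have h01 : (M.1 : Matrix (Fin 3) (Fin 3) (ZMod p)) 0 1 = 0 := by
        have := congrArg (fun X : SL(2, ZMod p) => (X : Matrix (Fin 2) (Fin 2) (ZMod p)) 0 1)
          (MonoidHom.mem_ker.1 hM)
        simpa [QdGroup.block_coe] using this
      simp only [h01] at e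
      rw [show Multiplicative.ofAdd (0 : ZMod p) = 1 from rfl, map_one] at e
      exact ⟨_, e⟩
    have hCb0 : Cb ≠ ⊥ := fun e => hC ((map_eq_bot_iff_of_injective _ (subtype_injective _)).1 e)
    obtain ⟨⟨c, hc⟩, hc1'⟩ := ne_bot_iff_exists_ne_one.1 hCb0
    have hc1 : c ≠ 1 := fun e => hc1' (Subtype.ext e)
    obtain ⟨v, rfl⟩ := hmem c (hle hc)
    -- all translations are in `Cb`
    have hadd : ∀ a b : ZMod p × ZMod p, QdGroup.affine p 1 a * QdGroup.affine p 1 b =
        QdGroup.affine p 1 (a + b) := fun a b => by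
      rw [QdGroup.affine_mul, one_mul]
      congr 1
      simp [Prod.ext_iff, add_comm]
    have hsmul : ∀ (a : ZMod p × ZMod p), QdGroup.affine p 1 a ∈ Cb → ∀ x : ZMod p,
        QdGroup.affine p 1 (x • a) ∈ Cb := by
      intro a ha x
      have : ∀ n : ℕ, QdGroup.affine p 1 ((n : ZMod p) • a) = QdGroup.affine p 1 a ^ n := by
        intro n
        induction n with
        | zero => simp [Prod.zero_eq_mk]; exact QdGroup.affine_one p
        | succ n ih => rw [pow_succ, ← ih, hadd, Nat.cast_succ, add_smul, one_smul]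
      rw [← ZMod.natCast_zmod_val x, this]
      exact pow_mem ha _
    have hA : ∀ (A : SL(2, ZMod p)), QdGroup.affine p 1
        (A 0 0 * v.1 + A 0 1 * v.2, A 1 0 * v.1 + A 1 1 * v.2) ∈ Cb := fun A => by
      rw [← hlin]; exact Normal.conj_mem inferInstance _ hc _
    have hv : v.1 ≠ 0 ∨ v.2 ≠ 0 := by
      by_contra! h
      exact hc1 (by rw [show v = (0, 0) from Prod.ext h.1 h.2]; exact QdGroup.affine_one p)
    -- a vector with nonzero first coordinate
    obtain ⟨w, hw, hw1⟩ : ∃ w, QdGroup.affine p 1 w ∈ Cb ∧ w.1 ≠ 0 := by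
      by_cases h1 : v.1 = 0
      · exact ⟨_, hA (ut (Multiplicative.ofAdd 1)), by
          simpa [ut_coe, h1] using hv.resolve_left (not_not.2 h1)⟩
      · exact ⟨v, hc, h1⟩
    have hA' : ∀ (A : SL(2, ZMod p)), QdGroup.affine p 1
        (A 0 0 * w.1 + A 0 1 * w.2, A 1 0 * w.1 + A 1 1 * w.2) ∈ Cb := fun A => by
      rw [← hlin]; exact Normal.conj_mem inferInstance _ hw _
    have he2 : QdGroup.affine p 1 ((0 : ZMod p), (1 : ZMod p)) ∈ Cb := by
      have h1 := hA' (lowT p (1 / w.1))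
      simp [lowT, div_mul_cancel₀ _ hw1] at h1
      have h2 : QdGroup.affine p 1 (-w.1, -w.2) ∈ Cb := by
        have := hsmul w hw (-1)
        rw [show ((-w.1, -w.2) : ZMod p × ZMod p) = -w from rfl]
        simpa using this
      have := mul_mem h1 h2
      rw [hadd] at this
      simpa [inv_mul_cancel₀ hw1] using this
    let y : ↥(std p) := ⟨QdGroup.affine p 1 ((0 : ZMod p), (1 : ZMod p)), ker_le_std p (QdGroup.block_affine p 1 _)⟩
    have hy : y ∈ C := (mem_map_iff_mem (std p).subtype_injective).1 he2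
    have h2 : flip p y ∈ C := by
      have e := characteristic_iff_map_eq.1 hCc (flipEquiv p)
      rw [← e]; exact mem_map_of_mem _ hy
    have h3 := MonoidHom.mem_ker.1 (hle (mem_map_of_mem (std p).subtype h2))
    have h4 := congrArg (fun X : SL(2, ZMod p) => (X : Matrix (Fin 2) (Fin 2) (ZMod p)) 0 1) h3
    simp [y, flip, QdGroup.block_coe, QdGroup.affine_coe, ut_coe] at h4
  refine ⟨le_antisymm (fun M hM => ?_) hge, fun e => hnn (top_le_iff.1 (e.ge.trans hge))⟩
  refine normalizer_std_le p ?_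
  have hU : UT (ZMod p) ≤ (normalizer (Cb : Set ↥(qd p))).map (QdGroup.block p) := by
    intro g hg
    obtain ⟨x, rfl⟩ := QdGroup.block_surjective p g
    exact mem_map_of_mem _ (hge (le_normalizer hg))
  rcases triangular_or_top p hU with h | h
  · exact h _ (mem_map_of_mem _ hM)
  · exfalso
    refine hnn (top_le_iff.1 ?_)
    have := congrArg (Subgroup.comap (QdGroup.block p)) h
    rw [comap_map_eq, comap_top, sup_eq_left.2 (((ker_le_std p).trans le_normalizer).trans hge)] at this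
    exact this.ge

theorem normalizer_char_eq {Y : Type u} [Group Y] [Finite Y] (e : Y ≃* ↥(qd p)) (T : Sylow p Y)
    (C : Subgroup ↥(T : Subgroup Y)) (hC : C ≠ ⊥) [C.Characteristic] :
    normalizer ((C.map (T : Subgroup Y).subtype : Subgroup Y) : Set Y) =
        normalizer ((T : Subgroup Y) : Set Y) ∧
      normalizer ((T : Subgroup Y) : Set Y) ≠ ⊤ := by
  obtain ⟨g, hg⟩ := MulAction.exists_smul_eq ↥(qd p) (T.mapSurjective (f := e.toMonoidHom) e.surjective)
    ((isPGroup_std p).toSylow (not_dvd_index_std p))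
  set f : Y ≃* ↥(qd p) := e.trans (MulAut.conj g) with hf
  have hT : (T : Subgroup Y).map f.toMonoidHom = std p := by
    have h := congrArg Sylow.toSubgroup hg
    erw [Sylow.coe_subgroup_smul, Sylow.coe_mapSurjective] at h
    exact (Subgroup.map_map (T : Subgroup Y) (MulAut.conj g).toMonoidHom e.toMonoidHom).symm.trans h
  let φ : ↥(T : Subgroup Y) ≃* ↥(std p) := (f.subgroupMap _).trans (MulEquiv.subgroupCongr hT)
  haveI := characteristic_map_equiv φ C
  have hC' : C.map φ.toMonoidHom ≠ ⊥ := fun h => hC ((map_eq_bot_iff_of_injective _ φ.injective).1 h)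
  obtain ⟨h1, h2⟩ := normalizer_char_std p (C.map φ.toMonoidHom) hC'
  have hCf : (C.map (T : Subgroup Y).subtype).map f.toMonoidHom =
      (C.map φ.toMonoidHom).map (std p).subtype := by
    rw [Subgroup.map_map, Subgroup.map_map]
    rfl
  have key : ∀ H : Subgroup Y, (normalizer (H : Set Y)).map f.toMonoidHom =
      normalizer ((H.map f.toMonoidHom : Subgroup ↥(qd p)) : Set ↥(qd p)) := fun H =>
    map_equiv_normalizer_eq H f
  constructor
  · refine map_injective (f := f.toMonoidHom) f.injective ?_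
    rw [key, key, hCf, hT, h1]
  · intro h
    apply h2
    rw [← hT, ← key, h, map_top_of_surjective _ f.surjective]

/-- A set inside every Sylow subgroup with a conjugation not realised in a Sylow normalizer. -/
theorem exists_not_realized {Y : Type u} [Group Y] [Finite Y] (e : Y ≃* ↥(qd p)) (T : Sylow p Y)
    (hT : normalizer ((T : Subgroup Y) : Set Y) ≠ ⊤) :
    ∃ (A : Set Y) (h : Y), (∀ T' : Sylow p Y, A ⊆ ((T' : Subgroup Y) : Set Y) ∧
      (fun a => h * a * h⁻¹) '' A ⊆ ((T' : Subgroup Y) : Set Y)) ∧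
      ∀ x ∈ normalizer ((T : Subgroup Y) : Set Y), ¬ ∀ a ∈ A, x * a * x⁻¹ = h * a * h⁻¹ := by
  obtain ⟨h, -, hh⟩ := SetLike.exists_of_lt (lt_top_iff_ne_top.2 hT)
  set V := ((QdGroup.block p).ker).comap e.toMonoidHom with hV
  haveI : V.Normal := (MonoidHom.normal_ker _).comap _
  have hVp : IsPGroup p ↥V :=
    IsPGroup.comap_of_injective (IsPGroup.of_card (n := 2) (QdGroup.card_ker_block p)) _ e.injective
  have hle : ∀ T' : Sylow p Y, V ≤ (T' : Subgroup Y) := fun T' =>
    le_sup_left.trans (T'.is_maximal' (hVp.to_sup_of_normal_left T'.2) le_sup_right).le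
  refine ⟨V, h, fun T' => ⟨hle T', ?_⟩, fun x hx hxA => hh ?_⟩
  · rintro _ ⟨a, ha, rfl⟩
    exact hle T' (Normal.conj_mem inferInstance a ha h)
  · have hcomm : h⁻¹ * x ∈ V := by
      refine MonoidHom.mem_ker.2 (Cfsg.Lib.FusionSys.block_eq_one_of_comm p _ fun z hz => ?_)
      obtain ⟨a, rfl⟩ := e.surjective z
      have h1 := hxA a hz
      show e (h⁻¹ * x) * e a = e a * e (h⁻¹ * x)
      rw [← map_mul, ← map_mul]
      congr 1
      calc h⁻¹ * x * a = h⁻¹ * (x * a * x⁻¹) * x := by group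
        _ = a * (h⁻¹ * x) := by rw [h1]; group
    have := mul_mem hx (inv_mem (le_normalizer (hle T hcomm) : h⁻¹ * x ∈ normalizer ((T : Subgroup Y) : Set Y)))
    simpa using this

theorem normalizer_inducedFunctor_eq {Y : Type u} [Group Y] [Finite Y] (e : Y ≃* ↥(qd p))
    {W : ∀ (Q : Type u) [Group Q], Subgroup Q} (hW : Cfsg.IsCharPFunctor.{u} p W) (T : Sylow p Y) :
    normalizer ((Cfsg.inducedFunctor W (T : Subgroup Y) : Subgroup Y) : Set Y) =
        normalizer ((T : Subgroup Y) : Set Y) ∧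
      normalizer ((T : Subgroup Y) : Set Y) ≠ ⊤ := by
  haveI : (W ↥(T : Subgroup Y)).Characteristic :=
    characteristic_iff_map_eq.2 fun φ => hW.2 _ _ T.2 φ
  have hdvd : p ∣ Nat.card Y := by
    rw [Nat.card_congr e.toEquiv]
    exact dvd_trans (by rw [QdGroup.card_ker_block]; exact dvd_pow_self p two_ne_zero)
      (card_subgroup_dvd_card (QdGroup.block p).ker)
  haveI : Nontrivial ↥(T : Subgroup Y) :=
    (nontrivial_iff_ne_bot _).2 (T.ne_bot_of_dvd_card hdvd)
  exact normalizer_char_eq p e T _ (hW.1 _ T.2 inferInstance)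

end Cfsg.Lib.Sig.QdFusion
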