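import Cfsg.Prelude.Def_Local
import Cfsg.Agent.Lib.PGroup.OddOmega
import Cfsg.Agent.Lib.PGroup.ClassTwo
import Cfsg.Agent.Lib.Coprime.Generation
import Cfsg.Agent.Lib.Coprime.PGroupAction
import Cfsg.Agent.Lib.Sig.PConstrained

/-!
# Coprime operators on `p`-groups, `p` odd, centralizing the fixed points of a `p`-element

If a `p'`-group `Q` and a `p`-element `a` normalizing `Q` act on a `p`-group `P`, `p` odd, and `Q`
centralizes the elements of order `p` fixed by `a`, then `Q` centralizes `P`.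
-/

set_option autoImplicit false

namespace Cfsg.Lib.Sig.FixedOmega

open Subgroup
open scoped commutatorElement

/-- A group of class at most two and odd exponent `p`, with Baer's commutative multiplication. -/
def Baer (P : Type*) := P

section Baer

variable {P : Type*} [Group P] {p : ℕ} (hp : p % 2 = 1)
  (hG : commutator P ≤ center P) (he : ∀ x : P, x ^ p = 1)

include hp hG he

theorem half_comm (x y : P) : x * y * ⁅y, x⁆ ^ ((p + 1) / 2) = y * x * ⁅x, y⁆ ^ ((p + 1) / 2) := by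
  have h1 : y * x = x * y * ⁅y, x⁆ := by
    rw [PGroup.commutatorElement_comm_of_central hG y x (x * y)]
    simp [commutatorElement_def, mul_assoc]
  have h2 : ⁅x, y⁆ = ⁅y, x⁆⁻¹ := (commutatorElement_inv y x).symm
  rw [h1, h2, inv_pow, mul_assoc (x * y) ⁅y, x⁆, mul_right_inj, eq_mul_inv_iff_mul_eq,
    ← pow_add, show (p + 1) / 2 + (p + 1) / 2 = p + 1 by omega, pow_succ, he, one_mul]

/-- Baer's abelian group structure. -/
@[reducible] def baerCommGroup : CommGroup (Baer P) where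
  mul := fun (x y : P) => (x * y * ⁅y, x⁆ ^ ((p + 1) / 2) : P)
  one := (1 : P)
  inv := fun (x : P) => (x⁻¹ : P)
  mul_assoc x y z := by
    change P at x y z
    show (x * y * ⁅y, x⁆ ^ _) * z * ⁅z, x * y * ⁅y, x⁆ ^ _⁆ ^ _ =
      x * (y * z * ⁅z, y⁆ ^ _) * ⁅y * z * ⁅z, y⁆ ^ _, x⁆ ^ _
    set h := (p + 1) / 2
    have hc : ∀ (u v g : P) (k : ℕ), g * ⁅u, v⁆ ^ k = ⁅u, v⁆ ^ k * g := fun u v g k =>
      ((show Commute g ⁅u, v⁆ from PGroup.commutatorElement_comm_of_central hG u v g).pow_right k).eq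
    have hr : ∀ (w u v : P) (k : ℕ), ⁅w, ⁅u, v⁆ ^ k⁆ = 1 := fun w u v k =>
      commutatorElement_eq_one_iff_mul_comm.2 (hc u v w k)
    have hl : ∀ (w u v : P) (k : ℕ), ⁅⁅u, v⁆ ^ k, w⁆ = 1 := fun w u v k =>
      commutatorElement_eq_one_iff_mul_comm.2 (hc u v w k).symm
    rw [PGroup.commutatorElement_mul_right hG z (x * y), PGroup.commutatorElement_mul_right hG z x y, hr, mul_one,
      PGroup.commutatorElement_mul_left hG (y * z), PGroup.commutatorElement_mul_left hG y z x, hl, mul_one]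
    have hcm : ∀ a b : P, (a * b) = b * a → (a * b) ^ h = a ^ h * b ^ h := fun a b hab =>
      Commute.mul_pow hab h
    rw [hcm _ _ (PGroup.commutatorElement_comm_of_central hG z y _),
      hcm _ _ (PGroup.commutatorElement_comm_of_central hG z x _)]
    set A := ⁅y, x⁆ ^ h with hA
    set B := ⁅z, x⁆ ^ h with hB
    set C := ⁅z, y⁆ ^ h with hC
    have cA : ∀ g, g * A = A * g := fun g => hc y x g h
    have cB : ∀ g, g * B = B * g := fun g => hc z x g h
    calc x * y * A * z * (B * C) = x * y * (A * z) * (B * C) := by group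
      _ = x * y * (z * A) * (B * C) := by rw [cA]
      _ = x * y * z * (A * B * C) := by group
      _ = x * y * z * (C * (A * B)) := by rw [← mul_assoc C, cA C, mul_assoc A C, cB C, ← mul_assoc A]
      _ = x * (y * z * C) * (A * B) := by group
  one_mul x := by
    change P at x
    show (1 : P) * x * ⁅x, (1 : P)⁆ ^ _ = x
    simp
  mul_one x := by
    change P at x
    show x * (1 : P) * ⁅(1 : P), x⁆ ^ _ = x
    simp
  inv_mul_cancel x := by
    change P at x
    show x⁻¹ * x * ⁅x, x⁻¹⁆ ^ _ = (1 : P)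
    simp [commutatorElement_def]
  mul_comm x y := half_comm hp hG he x y

end Baer

/-- The averaging argument in an abelian `p`-group. -/
theorem trivial_of_fixed_abelian {V : Type*} [CommGroup V] [Finite V] {p : ℕ} [Fact p.Prime]
    (hV : IsPGroup p V) (R : Subgroup (MulAut V)) (hR : (Nat.card R).Coprime p) {α : MulAut V}
    (hα : IsPGroup p (zpowers α)) (hαR : α ∈ normalizer (R : Set (MulAut V)))
    (h : ∀ w, α w = w → ∀ σ ∈ R, σ w = w) : ∀ σ ∈ R, ∀ w, σ w = w := by
  classical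
  haveI : Finite (MulAut V) := Finite.of_injective (fun σ : MulAut V => (σ : V → V)) DFunLike.coe_injective
  haveI := Fintype.ofFinite R
  let N : V →* V :=
    { toFun := fun v => ∏ σ : R, (σ : MulAut V) v
      map_one' := by simp
      map_mul' := fun u v => by simp [Finset.prod_mul_distrib] }
  have hfix : ∀ v, ∀ τ ∈ R, τ (N v) = N v := by
    intro v τ hτ
    show τ (∏ σ : R, (σ : MulAut V) v) = ∏ σ : R, (σ : MulAut V) v
    rw [map_prod]
    exact Fintype.prod_equiv (Equiv.mulLeft (⟨τ, hτ⟩ : R)) _ _ fun σ => rfl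
  have hNα : ∀ β ∈ normalizer (R : Set (MulAut V)), ∀ v, N (β v) = β (N v) := by
    intro β hβ v
    show ∏ σ : R, (σ : MulAut V) (β v) = β (∏ σ : R, (σ : MulAut V) v)
    rw [map_prod]
    let e : R ≃ R :=
      { toFun := fun σ => ⟨β⁻¹ * σ * β, (mem_normalizer_iff''.1 hβ σ).1 σ.2⟩
        invFun := fun σ => ⟨β * σ * β⁻¹, (mem_normalizer_iff.1 hβ σ).1 σ.2⟩
        left_inv := fun σ => Subtype.ext (by simp [mul_assoc])
        right_inv := fun σ => Subtype.ext (by simp [mul_assoc]) }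
    refine Fintype.prod_equiv e _ _ fun σ => ?_
    show (σ : MulAut V) (β v) = β ((β⁻¹ * σ * β) v)
    simp [MulAut.mul_apply]
  by_cases hker : N.ker = ⊥
  · intro σ hσ w
    obtain ⟨v, rfl⟩ := (Finite.injective_iff_surjective.1 ((MonoidHom.ker_eq_bot_iff N).1 hker)) w
    exact hfix v σ hσ
  exfalso
  let S : SubMulAction (zpowers α) V :=
    { carrier := N.ker
      smul_mem' := fun β v hv => by
        show N ((β : MulAut V) v) = 1
        rw [hNα _ (zpowers_le.2 hαR β.2), show N v = 1 from hv, map_one] }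
  have hdvd : p ∣ Nat.card S := by
    obtain ⟨k, hk⟩ := IsPGroup.iff_card.1 (hV.to_subgroup N.ker)
    show p ∣ Nat.card N.ker
    rw [hk]
    refine dvd_pow_self p fun hk0 => hker ?_
    exact card_eq_one.1 (by rw [hk, hk0, pow_zero])
  have h1 : (⟨1, one_mem N.ker⟩ : S) ∈ MulAction.fixedPoints (zpowers α) S := fun β =>
    Subtype.ext (map_one (β : MulAut V))
  obtain ⟨⟨w, hw⟩, hwfix, hw1⟩ := hα.exists_fixed_point_of_prime_dvd_card_of_fixed_point S hdvd h1
  have hwα : α w = w := congrArg Subtype.val (hwfix ⟨α, mem_zpowers α⟩)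
  have hNw : N w = w ^ Nat.card R := by
    show ∏ σ : R, (σ : MulAut V) w = _
    rw [Finset.prod_congr rfl (fun (σ : R) _ => h w hwα σ σ.2), Finset.prod_const, Finset.card_univ,
      Nat.card_eq_fintype_card]
  obtain ⟨k, hk⟩ := hV w
  apply hw1
  refine Subtype.ext ?_
  show (1 : V) = w
  have hn : w ^ Nat.card R = 1 := by rw [← hNw]; exact hw
  have := (pow_gcd_eq_one (a := w)).2 ⟨hn, hk⟩
  rw [(hR.pow_right k).gcd_eq_one, pow_one] at this
  exact this.symm

/-- The class two exponent `p` case. -/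
theorem trivial_of_fixed {P : Type*} [Group P] [Finite P] {p : ℕ} [Fact p.Prime] (hp2 : p ≠ 2)
    (hP : IsPGroup p P) (hG : commutator P ≤ center P) (he : ∀ x : P, x ^ p = 1)
    (R : Subgroup (MulAut P)) (hR : (Nat.card R).Coprime p) {α : MulAut P}
    (hα : IsPGroup p (zpowers α)) (hαR : α ∈ normalizer (R : Set (MulAut P)))
    (h : ∀ w, α w = w → ∀ σ ∈ R, σ w = w) : ∀ σ ∈ R, ∀ w, σ w = w := by
  have hp : p % 2 = 1 := ((Fact.out : p.Prime).eq_two_or_odd).resolve_left hp2
  letI : CommGroup (Baer P) := baerCommGroup hp hG he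
  haveI : Finite (Baer P) := inferInstanceAs (Finite P)
  let ψ : MulAut P →* MulAut (Baer P) :=
    { toFun := fun σ =>
        { toEquiv := σ.toEquiv
          map_mul' := fun x y => by
            change P at x y
            show σ (x * y * ⁅y, x⁆ ^ ((p + 1) / 2)) = σ x * σ y * ⁅σ y, σ x⁆ ^ ((p + 1) / 2)
            rw [map_mul, map_mul, map_pow, map_commutatorElement] }
      map_one' := rfl
      map_mul' := fun σ τ => rfl }
  let toP : Baer P → P := fun w => w
  have hpow : ∀ (w : Baer P) (n : ℕ), toP (w ^ n) = toP w ^ n := by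
    intro w n
    induction n with
    | zero => rw [pow_zero, pow_zero]; rfl
    | succ n ih =>
      rw [pow_succ, pow_succ (toP w)]
      show toP (w ^ n) * toP w * ⁅toP w, toP (w ^ n)⁆ ^ ((p + 1) / 2) = _
      rw [ih, commutatorElement_eq_one_iff_mul_comm.2 (Commute.self_pow (toP w) n).eq, one_pow, mul_one]
  have hV : IsPGroup p (Baer P) := fun w => ⟨1, show toP (w ^ p ^ 1) = (1 : P) by rw [hpow, pow_one]; exact he (toP w)⟩
  have hinj : Function.Injective ψ := fun σ τ hst => MulEquiv.ext fun x => DFunLike.congr_fun hst x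
  haveI : Finite (MulAut P) := Finite.of_injective (fun σ : MulAut P => (σ : P → P)) DFunLike.coe_injective
  have hres := trivial_of_fixed_abelian hV (R.map ψ)
    (by rw [card_map_of_injective hinj]; exact hR) (α := ψ α)
    (by rw [← MonoidHom.map_zpowers]; exact hα.map ψ)
    (le_normalizer_map ψ ⟨α, hαR, rfl⟩)
    (fun w hw σ hσ => by
      obtain ⟨τ, hτ, rfl⟩ := hσ
      exact h w hw τ hτ)
  intro σ hσ w
  exact hres _ (mem_map_of_mem ψ hσ) w

variable {X : Type*} [Group X] [Finite X] {p : ℕ} [hp : Fact p.Prime]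

/-- A `p'`-group `Q` centralizing the elements of order `p` fixed by a `p`-element `a` normalizing it
centralizes a `p`-group, for odd `p`. -/
theorem le_centralizer_of_fixed_omega (hp2 : p ≠ 2) {Q : Subgroup X} (hQ : (Nat.card Q).Coprime p)
    {a : X} (ha : IsPGroup p (zpowers a)) (haQ : a ∈ normalizer (Q : Set X)) :
    ∀ P : Subgroup X, IsPGroup p P → Q ≤ normalizer (P : Set X) → a ∈ normalizer (P : Set X) →
      (∀ w ∈ P, w ^ p = 1 → w * a = a * w → ∀ q ∈ Q, q * w = w * q) → Q ≤ centralizer (P : Set X) := by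
  intro P
  induction P using WellFoundedLT.induction with
  | _ P ih =>
  intro hP hQP haP h
  have hsub : ∀ D : Subgroup X, D < P → Q ≤ normalizer (D : Set X) → a ∈ normalizer (D : Set X) →
      Q ≤ centralizer (D : Set X) := fun D hD h1 h2 =>
    ih D hD (hP.to_le hD.le) h1 h2 fun w hw => h w (hD.le hw)
  have hcop : (Nat.card Q).Coprime (Nat.card P) := by
    obtain ⟨n, hn⟩ := IsPGroup.iff_card.1 hP
    rw [hn]; exact hQ.pow_right n
  haveI : Group.IsNilpotent P := hP.isNilpotent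
  have hconj : ∀ {g : X}, g ∈ normalizer (P : Set X) →
      g ∈ normalizer ((closure {x : X | x ∈ P ∧ x ^ p = 1} : Subgroup X) : Set X) := by
    intro g hg
    rw [Cfsg.Lib.Core.mem_normalizer_iff_map_conj, MonoidHom.map_closure]
    refine congrArg Subgroup.closure (Set.ext fun x => ⟨?_, fun hx => ?_⟩)
    · rintro ⟨y, ⟨hy, hy1⟩, rfl⟩
      exact ⟨(mem_normalizer_iff.1 hg y).1 hy, by rw [← map_pow, hy1, map_one]⟩
    · refine ⟨g⁻¹ * x * g, ⟨(mem_normalizer_iff''.1 hg x).1 hx.1, ?_⟩, by simp [mul_assoc]⟩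
      have h2 := conj_pow (a := g⁻¹) (b := x) (i := p)
      rw [inv_inv] at h2
      rw [h2, hx.2]; group
  set T := closure {x : X | x ∈ P ∧ x ^ p = 1} with hT
  have hTP : T ≤ P := (closure_le _).2 fun x hx => hx.1
  rcases eq_or_lt_of_le hTP with hTe | hTlt
  swap
  · refine PGroup.le_centralizer_of_centralizes_omega hp2 Q P hP hQP hcop fun x hx hx1 q hq => ?_
    exact (mem_centralizer_iff.1 (hsub T hTlt (fun q hq => hconj (hQP hq)) (hconj haP) hq) x
      (subset_closure ⟨hx, hx1⟩)).symm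
  by_cases hne : P = ⊥
  · intro q _
    rw [mem_centralizer_iff]
    intro x hx
    rw [hne, SetLike.mem_coe, mem_bot] at hx
    rw [hx, one_mul, mul_one]
  have hcomm : ∀ (U V : Subgroup X) {g : X}, g ∈ normalizer (U : Set X) → g ∈ normalizer (V : Set X) →
      g ∈ normalizer ((⁅U, V⁆ : Subgroup X) : Set X) := fun U V g hU hV => by
    rw [Cfsg.Lib.Core.mem_normalizer_iff_map_conj, Subgroup.map_commutator,
      Cfsg.Lib.Core.map_conj_eq_of_mem_normalizer hU, Cfsg.Lib.Core.map_conj_eq_of_mem_normalizer hV]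
  have hPQ : ⁅P, Q⁆ ≤ P := Cfsg.Lib.Coprime.commutator_le_of_le_normalizer hQP
  by_cases htop : ⁅P, Q⁆ = P
  swap
  · have hc := hsub _ (lt_of_le_of_ne hPQ htop)
      (fun q hq => hcomm P Q (hQP hq) (le_normalizer hq)) (hcomm P Q haP haQ)
    have h1 : ⁅⁅P, Q⁆, Q⁆ = ⊥ := commutator_eq_bot_iff_le_centralizer.2 (le_centralizer_iff.1 hc)
    rw [Cfsg.Lib.Coprime.commutator_commutator_eq hQP hcop (Or.inr inferInstance)] at h1
    exact le_centralizer_iff.1 (commutator_eq_bot_iff_le_centralizer.1 h1)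
  set D := ⁅P, P⁆ with hD
  have hDlt : D < P := PGroup.commutator_lt_of_isPGroup hP hP le_normalizer hne
  have hDQ : ⁅D, Q⁆ = ⊥ := commutator_eq_bot_iff_le_centralizer.2 (le_centralizer_iff.1
    (hsub D hDlt (fun q hq => hcomm P P (hQP hq) (hQP hq)) (hcomm P P haP haP)))
  have hcentral : ⁅P, D⁆ = ⊥ := by
    have h1 : ⁅⁅Q, D⁆, P⁆ = ⊥ := by rw [commutator_comm Q D, hDQ, commutator_bot_left]
    have hDP : ⁅D, P⁆ ≤ D := commutator_mono (commutator_le_self P) le_rfl
    have h2 : ⁅⁅D, P⁆, Q⁆ = ⊥ := le_bot_iff.1 (hDQ ▸ commutator_mono hDP le_rfl)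
    have h3 := commutator_commutator_eq_bot_of_rotate h1 h2
    rwa [htop] at h3
  have hG : commutator P ≤ center P := fun z hz => mem_center_iff.2 fun x => Subtype.ext (by
    have hzD : (z : X) ∈ D := by rw [hD, ← map_subtype_commutator P]; exact ⟨z, hz, rfl⟩
    exact (mem_centralizer_iff.1 (commutator_eq_bot_iff_le_centralizer.1 hcentral x.2) z hzD).symm)
  have hp3 : 2 < p := by have := hp.out.two_le; omega
  let Ω : Subgroup P :=
    { carrier := {x | x ^ p = 1}
      one_mem' := one_pow p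
      mul_mem' := fun {x y} (hx : x ^ p = 1) (hy : y ^ p = 1) => by
        show (x * y) ^ p = 1
        obtain ⟨k, hk⟩ : p ∣ p.choose 2 := Nat.Prime.dvd_choose_self hp.out (by norm_num) hp3
        rw [PGroup.mul_pow_of_class_two hG, hx, hy, hk, pow_mul,
          ← PGroup.commutatorElement_pow_left hG, hy]
        simp
      inv_mem' := fun {x} (hx : x ^ p = 1) => by
        show x⁻¹ ^ p = 1
        rw [inv_pow, hx, inv_one] }
  have he : ∀ x : P, x ^ p = 1 := by
    intro x
    have hle : T ≤ Ω.map P.subtype := (closure_le _).2 fun y hy =>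
      ⟨⟨y, hy.1⟩, Subtype.ext hy.2, rfl⟩
    obtain ⟨y, hy, hyx⟩ := hle (hTe.ge x.2)
    rw [← P.subtype_injective hyx]
    exact hy
  set R := (Q.subgroupOf (normalizer (P : Set X))).map P.normalizerMonoidHom with hR
  have hres := trivial_of_fixed hp2 hP hG he R ?_ (α := P.normalizerMonoidHom ⟨a, haP⟩) ?_ ?_ ?_
  · intro q hq
    rw [mem_centralizer_iff]
    intro x hx
    have h1 : q * x * q⁻¹ = x := congrArg Subtype.val
      (hres _ (mem_map_of_mem _ (show (⟨q, hQP hq⟩ : normalizer (P : Set X)) ∈ Q.subgroupOf _ from hq)) ⟨x, hx⟩)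
    exact ((mul_inv_eq_iff_eq_mul.1 h1)).symm
  · refine Nat.Coprime.coprime_dvd_left ((Cfsg.Lib.Core.card_map_dvd _ _).trans ?_) hQ
    rw [Nat.card_congr (subgroupOfEquivOfLe hQP).toEquiv]
  · rw [← MonoidHom.map_zpowers]
    refine IsPGroup.map ?_ _
    obtain ⟨n, hn⟩ := IsPGroup.iff_card.1 ha
    exact IsPGroup.of_card (n := n) (by rw [Nat.card_zpowers, Subgroup.orderOf_mk, ← Nat.card_zpowers, hn])
  · refine le_normalizer_map _ ⟨⟨a, haP⟩, ?_, rfl⟩
    rw [SetLike.mem_coe, mem_normalizer_iff]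
    intro n
    exact mem_normalizer_iff.1 haQ n
  · rintro w hw σ ⟨⟨q, hqN⟩, hq, rfl⟩
    have hwa : a * (w : X) * a⁻¹ = w := congrArg Subtype.val hw
    have hw1 : (w : X) ^ p = 1 := by simpa using congrArg Subtype.val (he w)
    have h1 := h w w.2 hw1 (mul_inv_eq_iff_eq_mul.1 hwa).symm q hq
    exact Subtype.ext (by show q * (w : X) * q⁻¹ = w; rw [h1, mul_inv_cancel_right])

/-- Invariant `p'`-subgroups of a group with `C(O_p) ≤ O_p`, `p` odd. -/
theorem eq_bot_of_invariant (hp2 : p ≠ 2)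
    (hC : centralizer (Cfsg.pCore p X : Set X) ≤ Cfsg.pCore p X) {A Q : Subgroup X} [IsMulCommutative A]
    (hA : IsPGroup p A) (hΩ : ∀ x ∈ centralizer (A : Set X), orderOf x = p → x ∈ A)
    (hQ : (Nat.card Q).Coprime p) (hAQ : A ≤ normalizer (Q : Set X)) : Q = ⊥ := by
  set P := Cfsg.pCore p X with hPdef
  have hP : IsPGroup p P := Cfsg.Lib.Core.pCore_isPGroup p X
  have hn : P.Normal := inferInstance
  have hnP : ∀ H : Subgroup X, H ≤ normalizer (P : Set X) := fun H => by
    rw [normalizer_eq_top_iff.2 hn]; exact le_top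
  set A0 := A ⊓ P with hA0
  have hQA0 : Q ≤ centralizer (A0 : Set X) := by
    intro q hq
    rw [mem_centralizer_iff]
    intro u hu
    have h1 : u * q * u⁻¹ * q⁻¹ ∈ P ⊓ Q := by
      refine ⟨?_, Q.mul_mem ((mem_normalizer_iff.1 (hAQ hu.1) q).1 hq) (Q.inv_mem hq)⟩
      rw [show u * q * u⁻¹ * q⁻¹ = u * (q * u⁻¹ * q⁻¹) by group]
      exact P.mul_mem hu.2 (hn.conj_mem _ (P.inv_mem hu.2) q)
    rw [Cfsg.Lib.Sig.disjoint_of_isPGroup_coprime hP hQ, mem_bot, mul_inv_eq_one, mul_inv_eq_iff_eq_mul] at h1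
    exact h1
  have hAc : ∀ {B : Subgroup X}, B ≤ A → A ≤ centralizer (B : Set X) := fun {B} hB a ha =>
    mem_centralizer_iff.2 fun b hb => congrArg Subtype.val (mul_comm' (⟨b, hB hb⟩ : A) ⟨a, ha⟩)
  have hAN : ∀ {B : Subgroup X}, B ≤ A → A ≤ normalizer (centralizer (B : Set X) : Set X) :=
    fun {B} hB => (hAc hB).trans le_normalizer
  suffices hfix : P ⊓ centralizer (A0 : Set X) ≤ centralizer (Q : Set X) by
    have h := Cfsg.Lib.Coprime.commutator_eq_bot_of_AxB P A0 Q hP (hA.to_le inf_le_left) hQ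
      (hnP _) (hnP _) hQA0 hfix
    have hQC : Q ≤ centralizer (P : Set X) :=
      le_centralizer_iff.1 (commutator_eq_bot_iff_le_centralizer.1 h)
    exact le_bot_iff.1 ((le_inf (hQC.trans hC) le_rfl).trans
      (Cfsg.Lib.Sig.disjoint_of_isPGroup_coprime hP hQ).le)
  set P0 := P ⊓ centralizer (A0 : Set X) with hP0
  rw [le_centralizer_iff]
  have hcop : (Nat.card A).Coprime (Nat.card Q) := by
    obtain ⟨n, hn⟩ := IsPGroup.iff_card.1 hA
    rw [hn]; exact hQ.symm.pow_left n
  refine (Cfsg.Lib.Coprime.le_iSup_centralizer_cocyclic Q hAQ hcop).trans (iSup₂_le fun B hB => ?_)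
  obtain ⟨hBA, a, ha, hBa⟩ := hB
  set Q1 := Q ⊓ centralizer (B : Set X) with hQ1
  have hQ1c : (Nat.card Q1).Coprime p := Cfsg.Lib.Core.coprime_card_of_le inf_le_left hQ
  have hAQ1 : A ≤ normalizer (Q1 : Set X) := (le_inf hAQ (hAN hBA)).trans inf_normalizer_le_normalizer_inf
  have hQ1n : Q1 ≤ normalizer (centralizer (A0 : Set X) : Set X) :=
    (inf_le_left.trans hQA0).trans le_normalizer
  have hQ1P0 : Q1 ≤ normalizer (P0 : Set X) :=
    (le_inf (hnP _) hQ1n).trans inf_normalizer_le_normalizer_inf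
  have hAP0 : A ≤ normalizer (P0 : Set X) :=
    (le_inf (hnP _) (hAN inf_le_left)).trans inf_normalizer_le_normalizer_inf
  have h := Cfsg.Lib.Coprime.commutator_eq_bot_of_AxB P0 B Q1 (hP.to_le inf_le_left) (hA.to_le hBA)
    hQ1c (hBA.trans hAP0) hQ1P0 inf_le_right ?_
  · exact le_centralizer_iff.1 (commutator_eq_bot_iff_le_centralizer.1 h)
  rw [le_centralizer_iff]
  refine le_centralizer_of_fixed_omega hp2 hQ1c (hA.to_le (zpowers_le.2 ha)) (hAQ1 ha) _
    ((hP.to_le inf_le_left).to_le inf_le_left) ?_ ?_ ?_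
  · exact (le_inf hQ1P0 ((inf_le_right : Q1 ≤ centralizer (B : Set X)).trans le_normalizer)).trans
      inf_normalizer_le_normalizer_inf
  · exact ((le_inf hAP0 (hAN hBA)).trans inf_normalizer_le_normalizer_inf) ha
  · intro w hw hw1 hwa q hq
    have hwA : w ∈ centralizer (A : Set X) := by
      have hle : A ≤ centralizer ({w} : Set X) := by
        rw [← hBa]
        refine sup_le (fun b hb => mem_centralizer_singleton_iff.2 (mem_centralizer_iff.1 hw.2 b hb))
          (zpowers_le.2 (mem_centralizer_singleton_iff.2 hwa.symm))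
      exact mem_centralizer_iff.2 fun u hu => mem_centralizer_singleton_iff.1 (hle hu)
    rcases (Nat.dvd_prime hp.out).1 (orderOf_dvd_of_pow_eq_one hw1) with h1 | h1
    · rw [orderOf_eq_one_iff.1 h1, one_mul, mul_one]
    · exact (mem_centralizer_iff.1 (hQA0 hq.1) w ⟨hΩ w hwA h1, hw.1.1⟩).symm

/-- Invariant `p'`-subgroups of a `p`-constrained group, `p` odd. -/
theorem le_pPrimeCore_of_invariant (hp2 : p ≠ 2) (hX : Cfsg.IsPConstrained p X) {A Q : Subgroup X}
    [IsMulCommutative A] (hA : IsPGroup p A)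
    (hΩ : ∀ x ∈ centralizer (A : Set X), orderOf x = p → x ∈ A)
    (hQ : (Nat.card Q).Coprime p) (hAQ : A ≤ normalizer (Q : Set X)) : Q ≤ Cfsg.pPrimeCore p X := by
  set N := Cfsg.pPrimeCore p X with hN
  set f := QuotientGroup.mk' N with hf
  haveI : IsMulCommutative (A.map f) := ⟨⟨fun u v => by
    obtain ⟨b, hb, hbu⟩ := u.2
    obtain ⟨c, hc, hcv⟩ := v.2
    refine Subtype.ext ?_
    rw [Subgroup.coe_mul, Subgroup.coe_mul, ← hbu, ← hcv, ← map_mul, ← map_mul,
      show b * c = c * b from congrArg Subtype.val (mul_comm' (⟨b, hb⟩ : A) ⟨c, hc⟩)]⟩⟩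
  have h := eq_bot_of_invariant (X := X ⧸ N) hp2 (Cfsg.Lib.Sig.isPConstrained_iff.1 hX) (hA.map f)
    (Q := Q.map f) ?_ (Nat.Coprime.coprime_dvd_left (Cfsg.Lib.Core.card_map_dvd f Q) hQ)
    ((map_mono hAQ).trans (le_normalizer_map f))
  · rwa [Subgroup.map_eq_bot_iff, hf, QuotientGroup.ker_mk'] at h
  intro y hy hyo
  rw [Cfsg.Lib.Sig.centralizer_map_mk' N (Cfsg.Lib.Core.pPrimeCore_coprime p X) hA] at hy
  obtain ⟨x, hx, rfl⟩ := hy
  obtain ⟨j, m, hm, hxo⟩ := Nat.exists_eq_pow_mul_and_not_dvd (orderOf_pos x).ne' p hp.out.ne_one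
  have hx1 : (x ^ m) ^ p ^ j = 1 := by rw [← pow_mul, mul_comm, ← hxo, pow_orderOf_eq_one]
  have hxp : (x ^ m) ^ p ∈ N := by
    have h0 := pow_orderOf_eq_one (f x)
    rw [hyo] at h0
    rw [← QuotientGroup.eq_one_iff (N := N), ← QuotientGroup.mk'_apply, map_pow, map_pow, ← pow_mul,
      mul_comm, pow_mul, h0, one_pow]
  have hxp1 : (x ^ m) ^ p = 1 := by
    have h2 : orderOf ((x ^ m) ^ p) ∣ p ^ j := orderOf_dvd_of_pow_eq_one (by
      rw [← pow_mul, mul_comm, pow_mul, hx1, one_pow])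
    have h3 : (orderOf ((x ^ m) ^ p)).Coprime p := by
      refine Nat.Coprime.coprime_dvd_left ?_ (Cfsg.Lib.Core.pPrimeCore_coprime p X)
      rw [← Subgroup.orderOf_mk ((x ^ m) ^ p) hxp]
      exact orderOf_dvd_natCard _
    exact orderOf_eq_one_iff.1 (Nat.Coprime.eq_one_of_dvd (h3.pow_right j) h2)
  have hcop : Nat.Coprime p m := hp.out.coprime_iff_not_dvd.2 hm
  have hxm1 : x ^ m ≠ 1 := fun h1 => by
    have h2 : orderOf (f x) ∣ m := orderOf_dvd_of_pow_eq_one (by rw [← map_pow, h1, map_one])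
    rw [hyo] at h2
    exact hm h2
  have hxmA : x ^ m ∈ A := hΩ _ (pow_mem hx m) (orderOf_eq_prime hxp1 hxm1)
  obtain ⟨n, hn⟩ := exists_pow_eq_self_of_coprime (n := m) (x := f x) (by rw [hyo]; exact hcop.symm)
  refine ⟨(x ^ m) ^ n, pow_mem hxmA n, ?_⟩
  rw [map_pow, map_pow, hn]

end Cfsg.Lib.Sig.FixedOmega
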