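import Cfsg.Agent.Lib.Sig.CentralPair
import Cfsg.Agent.Lib.Sig.SectionControl
import Cfsg.Agent.Lib.Sig.PLocal
import Cfsg.Agent.Lib.Sig.ExtendedLayer
import Cfsg.Agent.Lib.Kazarin.Radical
import Cfsg.Agent.Lib.ZStar.Fusion

/-!
Automorphisms centralizing a Sylow subgroup: the commutators of two of them control fusion, and for
the prime two their 2-parts are trivial on a core-free group.
-/

set_option autoImplicit false
set_option linter.style.haveILetI false

namespace Cfsg.Lib.Sig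


open Subgroup
open scoped commutatorElement

universe u

variable {G : Type u} [Group G] [Finite G] {p : ℕ} [Fact p.Prime]

/-- On a fully normalized subgroup an element of the normalizer agrees with an element normalizing
the Sylow subgroup of the centralizer. -/
theorem exists_agree_sup_centralizer (S : Sylow p G) {V : Subgroup G} (hV : V ∈ sylowNormalized S)
    {m : G} (hm : m ∈ normalizer (V : Set G)) :
    ∃ n : G, (V ⊔ ((S : Subgroup G) ⊓ centralizer (V : Set G))).map (MulAut.conj n).toMonoidHom ≤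
      (S : Subgroup G) ∧ ∀ a ∈ V, n * a * n⁻¹ = m * a * m⁻¹ := by
  set C := centralizer (V : Set G) with hC
  set R := (S : Subgroup G) ⊓ C with hR
  have hCN : C ≤ normalizer (V : Set G) := centralizer_le_normalizer _
  have hCm : ∀ y ∈ normalizer (V : Set G), C.map (MulAut.conj y).toMonoidHom = C := fun y hy => by
    rw [hC, map_centralizer_equiv, Cfsg.Lib.Core.map_conj_eq_of_mem_normalizer hy]
  have hidx : ¬ p ∣ R.relIndex C := by
    have h := not_dvd_relIndex_inf (S := (S : Subgroup G) ⊓ normalizer (V : Set G)) inf_le_right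
      (S.2.to_le inf_le_left) hV.2 hCN fun h hh n hn => by
        rw [← hCm h hh]; exact conj_mem_map_conj hn
    rwa [inf_assoc, inf_eq_right.2 hCN] at h
  obtain ⟨c, hc, hle⟩ := exists_conj_le_of_relIndex (inf_le_right : R ≤ C) (S.2.to_le inf_le_left)
    hidx (R := R.map (MulAut.conj m).toMonoidHom)
    ((map_mono inf_le_right).trans (hCm m hm).le) ((S.2.to_le inf_le_left).map _)
  rw [map_conj_map_conj] at hle
  have heq : ∀ a ∈ V, (c * m) * a * (c * m)⁻¹ = m * a * m⁻¹ := fun a ha => by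
    have h1 := mem_centralizer_iff.1 hc _ ((mem_normalizer_iff.1 hm a).1 ha)
    calc c * m * a * (c * m)⁻¹ = c * (m * a * m⁻¹) * c⁻¹ := by group
      _ = _ := by rw [← h1, mul_inv_cancel_right]
  refine ⟨c * m, ?_, heq⟩
  rw [Subgroup.map_sup]
  refine sup_le ?_ (hle.trans inf_le_left)
  rintro _ ⟨a, ha, rfl⟩
  show (c * m) * a * (c * m)⁻¹ ∈ (S : Subgroup G)
  rw [heq a ha]
  exact hV.1 ((mem_normalizer_iff.1 hm a).1 ha)

/-- A centric fully normalized subgroup has a centralizer with normal p-complement over its centre. -/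
theorem centralizer_le_sup_pPrimeCore (S : Sylow p G) {V : Subgroup G}
    (hV : V ∈ sylowNormalized S) (hc : (S : Subgroup G) ⊓ centralizer (V : Set G) ≤ V) :
    centralizer (V : Set G) ≤ ((S : Subgroup G) ⊓ centralizer (V : Set G)) ⊔
      (Cfsg.pPrimeCore p ↥(centralizer (V : Set G))).map (centralizer (V : Set G)).subtype := by
  set W := centralizer (V : Set G) with hW
  set R := (S : Subgroup G) ⊓ W with hR
  have hCN : W ≤ normalizer (V : Set G) := centralizer_le_normalizer _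
  have hidx : ¬ p ∣ R.relIndex W := by
    have h := not_dvd_relIndex_inf (S := (S : Subgroup G) ⊓ normalizer (V : Set G)) inf_le_right
      (S.2.to_le inf_le_left) hV.2 hCN fun h hh n hn => by
        have e : W.map (MulAut.conj h).toMonoidHom = W := by
          rw [hW, map_centralizer_equiv, Cfsg.Lib.Core.map_conj_eq_of_mem_normalizer hh]
        rw [← e]; exact conj_mem_map_conj hn
    rwa [inf_assoc, inf_eq_right.2 hCN] at h
  have hRp : IsPGroup p ↥(R.subgroupOf W) :=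
    (S.2.to_le inf_le_left : IsPGroup p ↥R).of_equiv (subgroupOfEquivOfLe inf_le_right).symm
  let P : Sylow p ↥W := hRp.toSylow hidx
  have hcomp := Cfsg.Lib.Fusion.hasNormalPComplement_of_normalizer_le_centralizer P fun x _ => by
    refine mem_centralizer_iff.2 fun y hy => Subtype.ext ?_
    exact mem_centralizer_iff.1 x.2 y (hc (mem_subgroupOf.1 hy))
  intro w hw
  haveI := Cfsg.Lib.Fusion.pResidual_normal p ↥W
  have h1 : (⟨w, hw⟩ : ↥W) ∈ (P : Subgroup ↥W) ⊔ Cfsg.pResidual p ↥W := by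
    rw [Cfsg.Lib.Fusion.sylow_sup_pResidual P]; exact mem_top _
  obtain ⟨r, hr, h, hh, e⟩ := mem_sup_of_normal_right.1 h1
  rw [show w = (r : G) * h from (congrArg Subtype.val e).symm]
  refine mul_mem (mem_sup_left (mem_subgroupOf.1 hr)) (mem_sup_right (mem_map_of_mem _ ?_))
  exact Cfsg.Lib.Core.le_pPrimeCore' inferInstance
    (Cfsg.Lib.Fusion.hasNormalPComplement_iff_coprime.1 hcomp) hh

/-- Two automorphisms centralizing a Sylow subgroup: their commutators, when p-elements, control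
fusion by their fixed points. -/
theorem exists_fixed_agree (S : Sylow p G) (A : Subgroup (MulAut G))
    (hA : ∀ a ∈ A, ∀ s ∈ (S : Subgroup G), a s = s) {d : MulAut G} (hd : d ∈ ⁅A, A⁆)
    (hdp : IsPGroup p ↥(zpowers d)) :
    ∀ T : Subgroup G, T ≤ (S : Subgroup G) → ∀ g : G,
      T.map (MulAut.conj g).toMonoidHom ≤ (S : Subgroup G) →
        ∃ u, d u = u ∧ ∀ x ∈ T, u * x * u⁻¹ = g * x * g⁻¹ := by
  let Rel : Set G → G → Prop := fun B g => ∃ u, d u = u ∧ ∀ x ∈ B, u * x * u⁻¹ = g * x * g⁻¹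
  refine rel_of_local S ∅ (fun _ h => absurd h (Set.notMem_empty _)) (sylowNormalized S)
    (fun V hV => hV) (fun T hT => exists_conj_sylowNormalized S hT) Rel (fun _ => True)
    ?_ ?_ ?_ ?_ (fun _ _ _ _ _ _ _ _ _ => trivial) (fun _ _ _ _ => trivial)
  · rintro B B' g hBB' ⟨u, hu, he⟩
    exact ⟨u, hu, fun x hx => he x (hBB' hx)⟩
  · rintro B g h ⟨u, hu, he⟩ ⟨v, hv, he'⟩
    refine ⟨v * u, by rw [map_mul, hu, hv], fun x hx => ?_⟩
    calc v * u * x * (v * u)⁻¹ = v * (u * x * u⁻¹) * v⁻¹ := by group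
      _ = h * (g * x * g⁻¹) * h⁻¹ := by rw [he x hx]; exact he' _ ⟨x, hx, rfl⟩
      _ = h * g * x * (h * g)⁻¹ := by group
  · exact fun g => ⟨1, map_one d, fun x hx => by
      rw [SetLike.mem_coe, mem_bot] at hx; subst hx; simp⟩
  intro V hV hVS _ hIH m hm
  set W := centralizer (V : Set G) with hW
  by_cases hc : (S : Subgroup G) ⊓ W ≤ V
  swap
  · obtain ⟨n, hn, he⟩ := exists_agree_sup_centralizer S hV hm
    obtain ⟨u, hu, hue⟩ := hIH _ (sup_le hVS inf_le_left)
      (Fusion.card_lt_card_of_lt (left_lt_sup.2 hc)) n hn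
    exact ⟨u, hu, fun x hx => (hue x (mem_sup_left hx)).trans (he x hx)⟩
  set H := (Cfsg.pPrimeCore p ↥W).map W.subtype with hH
  have hWH := centralizer_le_sup_pPrimeCore S hV hc
  set M := normalizer (V : Set G) with hM
  have hMW : ∀ y ∈ M, ∀ w ∈ W, y * w * y⁻¹ ∈ W := fun y hy w hw => by
    have e : W.map (MulAut.conj y).toMonoidHom = W := by
      rw [hW, map_centralizer_equiv, Cfsg.Lib.Core.map_conj_eq_of_mem_normalizer hy]
    rw [← e]; exact conj_mem_map_conj hw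
  have hMH : M ≤ normalizer (H : Set G) := fun y hy =>
    Cfsg.Lib.Core.normalizer_le_normalizer_map_char (H := W) (Cfsg.pPrimeCore p ↥W) (mem_normalizer_fintype fun w hw => hMW y hy w hw)
  have hHW : H ≤ W := map_subtype_le _
  have hAV : ∀ a ∈ A, ∀ v ∈ V, a v = v := fun a ha v hv => hA a ha v (hVS hv)
  have hAM : ∀ a ∈ A, ∀ y ∈ M, a y ∈ M := fun a ha y hy =>
    mem_normalizer_fintype fun v hv => by
      have : a (y * v * y⁻¹) = a y * v * (a y)⁻¹ := by rw [map_mul, map_mul, map_inv, hAV a ha v hv]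
      rw [← this, hAV a ha _ ((mem_normalizer_iff.1 hy v).1 hv)]
      exact (mem_normalizer_iff.1 hy v).1 hv
  have hAW : ∀ a ∈ A, ∀ y ∈ M, y⁻¹ * a y ∈ W := fun a ha y hy => mem_centralizer_iff.2 fun v hv => by
    have h1 : a y * v * (a y)⁻¹ = y * v * y⁻¹ := by
      rw [← hAV a ha (y * v * y⁻¹) ((mem_normalizer_iff.1 hy v).1 hv), map_mul, map_mul, map_inv,
        hAV a ha v hv]
    calc v * (y⁻¹ * a y) = y⁻¹ * (y * v * y⁻¹) * a y := by group
      _ = y⁻¹ * (a y * v * (a y)⁻¹) * a y := by rw [h1]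
      _ = y⁻¹ * a y * v := by group
  have hAH : ∀ a ∈ A, ∀ z ∈ H, a z ∈ H := by
    intro a ha z hz
    have e : W.map a.toMonoidHom = W := by
      rw [hW, map_centralizer_equiv]
      congr 2
      exact eq_of_le_of_card_ge (by rintro _ ⟨v, hv, rfl⟩; exact (hAV a ha v hv).symm ▸ hv)
        (card_map_of_injective a.injective).ge
    have h2 : H.map a.toMonoidHom = H := by rw [hH, map_pPrimeCore_subtype_equiv, e]
    rw [← h2]; exact mem_map_of_mem _ hz
  have hAWH : ∀ a ∈ A, ∀ w ∈ W, w⁻¹ * a w ∈ H := by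
    intro a ha w hw
    obtain ⟨r, hr, h, hh, rfl⟩ := (Cfsg.Lib.Core.mem_sup_of_le_normalizer
      (fun r hr => hMH (centralizer_le_normalizer _ (mem_inf.1 hr).2))).1 (hWH hw)
    rw [map_mul, hA a ha r hr.1, mul_inv_rev, mul_assoc, inv_mul_cancel_left]
    exact mul_mem (inv_mem hh) (hAH a ha h hh)
  -- commutators of `A` are trivial on `M` modulo `H`
  have htriv : ∀ a ∈ A, ∀ b ∈ A, ∀ y ∈ M, y⁻¹ * ⁅a, b⁆ y ∈ H := by
    intro a ha b hb y hy
    have key : ∀ a ∈ A, ∀ b ∈ A, ∀ y ∈ M,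
        (y * (y⁻¹ * a y) * (y⁻¹ * b y))⁻¹ * a (b y) ∈ H := by
      intro a ha b hb y hy
      have h1 := hAWH a ha _ (hAW b hb y hy)
      have e : (y * (y⁻¹ * a y) * (y⁻¹ * b y))⁻¹ * a (b y) = (y⁻¹ * b y)⁻¹ * a (y⁻¹ * b y) := by
        rw [map_mul, map_inv]; group
      rw [e]; exact h1
    have hcomm : ∀ z ∈ M, (a (b z))⁻¹ * b (a z) ∈ H := by
      intro z hz
      have h1 := key a ha b hb z hz
      have h2 := key b hb a ha z hz
      have h3 : (z * (z⁻¹ * a z) * (z⁻¹ * b z))⁻¹ * (z * (z⁻¹ * b z) * (z⁻¹ * a z)) ∈ H := by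
        obtain ⟨r, hr, h, hh, he⟩ := (Cfsg.Lib.Core.mem_sup_of_le_normalizer
          (fun r hr => hMH (centralizer_le_normalizer _ (mem_inf.1 hr).2))).1 (hWH (hAW a ha z hz))
        obtain ⟨r', hr', h', hh', he'⟩ := (Cfsg.Lib.Core.mem_sup_of_le_normalizer
          (fun r hr => hMH (centralizer_le_normalizer _ (mem_inf.1 hr).2))).1 (hWH (hAW b hb z hz))
        rw [← he, ← he']
        have hrr : r' * r = r * r' := (mem_centralizer_iff.1 hr.2 r' (hc hr'))
        have e : (z * (r * h) * (r' * h'))⁻¹ * (z * (r' * h') * (r * h)) =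
            h'⁻¹ * (r'⁻¹ * h⁻¹ * r') * (r'⁻¹ * r⁻¹ * (r' * r)) * (r⁻¹ * h' * r) * h := by group
        rw [e, hrr]
        have hn : ∀ s ∈ (S : Subgroup G) ⊓ W, ∀ k ∈ H, s⁻¹ * k * s ∈ H := fun s hs k hk =>
          (mem_normalizer_iff''.1 (hMH (centralizer_le_normalizer _ (mem_inf.1 hs).2)) k).1 hk
        refine mul_mem (mul_mem (mul_mem (mul_mem (inv_mem hh') (hn r' hr' _ (inv_mem hh))) ?_)
          (hn r hr _ hh')) hh
        simp [mul_assoc]
      have e : (a (b z))⁻¹ * b (a z) = ((z * (z⁻¹ * a z) * (z⁻¹ * b z))⁻¹ * a (b z))⁻¹ *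
          ((z * (z⁻¹ * a z) * (z⁻¹ * b z))⁻¹ * (z * (z⁻¹ * b z) * (z⁻¹ * a z))) *
          ((z * (z⁻¹ * b z) * (z⁻¹ * a z))⁻¹ * b (a z)) := by group
      rw [e]
      exact mul_mem (mul_mem (inv_mem h1) h3) h2
    have := hcomm (a⁻¹ (b⁻¹ y)) (hAM _ (inv_mem ha) _ (hAM _ (inv_mem hb) _ hy))
    rw [show b (a (a⁻¹ (b⁻¹ y))) = y by simp] at this
    have e : y⁻¹ * ⁅a, b⁆ y = ((a (b (a⁻¹ (b⁻¹ y))))⁻¹ * y)⁻¹ := by
      rw [mul_inv_rev, inv_inv, commutatorElement_def]; rfl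
    rw [e]; exact inv_mem this
  have hdtriv : ∀ y ∈ M, d y ∈ M ∧ y⁻¹ * d y ∈ H := by
    have hstab : d ∈ A ∧ ∀ y ∈ M, y⁻¹ * d y ∈ H := by
      refine closure_induction (p := fun e _ => e ∈ A ∧ ∀ y ∈ M, y⁻¹ * e y ∈ H) ?_ ?_ ?_ ?_ hd
      · rintro _ ⟨a, ha, b, hb, rfl⟩
        exact ⟨commutator_le_self A (commutator_mem_commutator ha hb), htriv a ha b hb⟩
      · exact ⟨one_mem _, fun y _ => by simp⟩
      · rintro e f - - ⟨he, he'⟩ ⟨hf, hf'⟩
        refine ⟨mul_mem he hf, fun y hy => ?_⟩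
        have h1 := mul_mem (hf' y hy) (he' (f y) (hAM f hf y hy))
        rw [mul_assoc, mul_inv_cancel_left] at h1
        exact h1
      · rintro e - ⟨he, he'⟩
        refine ⟨inv_mem he, fun y hy => ?_⟩
        have h1 := inv_mem (he' (e⁻¹ y) (hAM _ (inv_mem he) y hy))
        simpa using h1
    exact fun y hy => ⟨hAM d hstab.1 y hy, hstab.2 y hy⟩
  -- a fixed point in the coset `m H`
  haveI : Fintype G := Fintype.ofFinite G
  set K := zpowers d
  set Z := {z : G | z ∈ M ∧ m⁻¹ * z ∈ H} with hZ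
  have hHM : H ≤ M := hHW.trans (centralizer_le_normalizer _)
  have hdA : ∀ z ∈ Z, d z ∈ Z := fun z hz => ⟨(hdtriv z hz.1).1, by
    simpa [mul_assoc] using mul_mem hz.2 (hdtriv z hz.1).2⟩
  have hKZ : ∀ k ∈ K, ∀ z ∈ Z, k z ∈ Z := by
    intro k hk z hz
    obtain ⟨n, rfl⟩ := mem_zpowers_iff.1 hk
    have hnat : ∀ i : ℕ, (d ^ i) z ∈ Z := by
      intro i
      induction i with
      | zero => simpa using hz
      | succ i ih => rw [pow_succ']; exact hdA _ ih
    obtain ⟨i, hi⟩ : d ^ n ∈ Submonoid.powers d :=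
      (isOfFinOrder_of_finite d).mem_powers_iff_mem_zpowers.2 (zpow_mem (mem_zpowers d) n)
    rw [← hi]; exact hnat i
  let _ : MulAction ↥K ↥Z :=
    { smul := fun k z => ⟨(k : MulAut G) (z : G), hKZ k k.2 z z.2⟩
      one_smul := fun z => Subtype.ext rfl
      mul_smul := fun k l z => Subtype.ext rfl }
  have hZc : Nat.card ↥Z = Nat.card ↥H := Nat.card_congr
    { toFun := fun z => ⟨m⁻¹ * z, z.2.2⟩
      invFun := fun h => ⟨m * h, mul_mem hm (hHM h.2), by simp⟩
      left_inv := fun z => Subtype.ext (by simp)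
      right_inv := fun h => Subtype.ext (by simp) }
  have hndvd : ¬ p ∣ Nat.card ↥Z := by
    rw [hZc, hH, Cfsg.Lib.Core.card_map_subtype]
    exact Cfsg.Lib.Core.pPrimeCore_not_dvd p _
  obtain ⟨⟨u, huM, huH⟩, hu⟩ := hdp.nonempty_fixed_point_of_prime_not_dvd_card ↥Z hndvd
  refine ⟨u, congrArg Subtype.val (hu ⟨d, mem_zpowers d⟩), fun x hx => ?_⟩
  have h1 : x * (m⁻¹ * u) = (m⁻¹ * u) * x := mem_centralizer_iff.1 (hHW huH) x hx
  calc u * x * u⁻¹ = m * ((m⁻¹ * u) * x) * u⁻¹ := by group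
    _ = m * x * m⁻¹ := by rw [← h1]; group

/-- For the prime two, a 2-element in the derived group of the centralizer of a Sylow 2-subgroup of
a core-free normal subgroup centralizes that subgroup. -/
theorem mem_centralizer_of_mem_commutator_centralizer {E : Type u} [Group E] [Finite E]
    {S : Subgroup E} [S.Normal] (hO : Cfsg.pPrimeCore 2 ↥S = ⊥) (T : Sylow 2 ↥S) {d : E}
    (hd : d ∈ ⁅centralizer (((T : Subgroup ↥S).map S.subtype : Subgroup E) : Set E),
      centralizer (((T : Subgroup ↥S).map S.subtype : Subgroup E) : Set E)⁆)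
    (hdp : IsPGroup 2 ↥(zpowers d)) : d ∈ centralizer (S : Set E) := by
  haveI : Fact (Nat.Prime 2) := ⟨Nat.prime_two⟩
  set T' := (T : Subgroup ↥S).map S.subtype with hT'
  set C := centralizer (T' : Set E) with hC
  set φ : E →* MulAut ↥S := MulAut.conjNormal with hφ
  have hφapp : ∀ (e : E) (s : ↥S), ((φ e s : ↥S) : E) = e * s * e⁻¹ := fun e s => by
    simp [hφ]
  have hfix : ∀ a ∈ C.map φ, ∀ s ∈ (T : Subgroup ↥S), a s = s := by
    rintro _ ⟨e, he, rfl⟩ s hs
    refine Subtype.ext ?_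
    have h1 : (s : E) * e = e * s := mem_centralizer_iff.1 he (s : E) ⟨s, hs, rfl⟩
    rw [hφapp, ← h1, mul_inv_cancel_right]
  have hφd : φ d ∈ ⁅C.map φ, C.map φ⁆ := by rw [← map_commutator]; exact mem_map_of_mem φ hd
  have hφdp : IsPGroup 2 ↥(zpowers (φ d)) := by
    rw [← MonoidHom.map_zpowers]; exact hdp.map φ
  have key := exists_fixed_agree T (C.map φ) hfix hφd hφdp
  have hdC : d ∈ C := commutator_le_self C hd
  have hcommT : ∀ t ∈ T', t * d = d * t := fun t ht => mem_centralizer_iff.1 hdC t ht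
  -- the group `S⟨d⟩`
  set E' := S ⊔ zpowers d with hE'
  set P₀ := T' ⊔ zpowers d with hP₀
  have hT'S : T' ≤ S := map_subtype_le _
  have hP₀le : P₀ ≤ E' := sup_le_sup_right hT'S _
  have hnT : zpowers d ≤ normalizer (T' : Set E) := zpowers_le.2 (centralizer_le_normalizer _ hdC)
  have hP₀p : IsPGroup 2 ↥P₀ := by
    rw [hP₀, sup_comm]; exact hdp.to_sup_of_normal_right' (T.2.map _) hnT
  have hdec : ∀ y ∈ P₀, ∃ t ∈ T', ∃ z ∈ zpowers d, y = t * z := fun y hy => by
    rw [hP₀, sup_comm] at hy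
    obtain ⟨z, hz, t, ht, rfl⟩ := (Cfsg.Lib.Core.mem_sup_of_le_normalizer hnT).1 hy
    obtain ⟨k, rfl⟩ := mem_zpowers_iff.1 hz
    exact ⟨t, ht, _, hz, ((Commute.zpow_right (hcommT t ht : Commute t d) k).eq).symm⟩
  have hE'dec : ∀ y ∈ E', ∃ s ∈ S, ∃ z ∈ zpowers d, y = s * z := fun y hy => by
    obtain ⟨s, hs, z, hz, rfl⟩ := mem_sup_of_normal_left.1 hy
    exact ⟨s, hs, z, hz, rfl⟩
  -- `P₀` is a Sylow subgroup
  set P₁ := P₀.subgroupOf E' with hP₁
  have hidx : ¬ 2 ∣ P₁.index := by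
    have h1 : P₀.relIndex E' ∣ T'.relIndex S := by
      have e1 : E' = P₀ ⊔ S := le_antisymm
        (sup_le le_sup_right ((le_sup_right : zpowers d ≤ P₀).trans le_sup_left))
        (sup_le hP₀le le_sup_left)
      rw [e1, Cfsg.Lib.Kazarin.relIndex_sup_of_normal]
      exact relIndex_dvd_of_le_left S le_sup_left
    intro h
    refine T.not_dvd_index (h.trans (h1.trans ?_))
    rw [hT', relIndex, subgroupOf, comap_map_eq_self_of_injective S.subtype_injective]
  let P : Sylow 2 ↥E' := ((hP₀p.of_equiv (subgroupOfEquivOfLe hP₀le).symm).toSylow hidx)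
  have hdP₀ : d ∈ P₀ := mem_sup_right (mem_zpowers d)
  set d' : ↥E' := ⟨d, hP₀le hdP₀⟩ with hd'
  have hPmem : ∀ y : ↥E', y ∈ (P : Subgroup ↥E') ↔ (y : E) ∈ P₀ := fun y => mem_subgroupOf
  -- powers of `d` are not fused
  let Rel : Set ↥E' → ↥E' → Prop := fun B g => ∀ y ∈ zpowers d', y ∈ B → g * y * g⁻¹ = y
  have hRel : ∀ U : Subgroup ↥E', U ≤ (P : Subgroup ↥E') → ∀ g : ↥E',
      U.map (MulAut.conj g).toMonoidHom ≤ (P : Subgroup ↥E') → Rel (U : Set ↥E') g := by
    refine rel_of_local P ∅ (fun _ h => absurd h (Set.notMem_empty _)) (sylowNormalized P)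
      (fun V hV => hV) (fun T hT => exists_conj_sylowNormalized P hT) Rel (fun _ => True)
      (fun hBB' h y hy hyB => h y hy (hBB' hyB)) ?_ ?_ ?_ (fun _ _ _ _ _ _ _ _ _ => trivial)
      (fun _ _ _ _ => trivial)
    · intro B g h hg hh y hy hyB
      have h1 := hh y hy ⟨y, hyB, hg y hy hyB⟩
      calc h * g * y * (h * g)⁻¹ = h * (g * y * g⁻¹) * h⁻¹ := by group
        _ = y := by rw [hg y hy hyB, h1]
    · intro g y _ hyB
      rw [SetLike.mem_coe, mem_bot] at hyB
      rw [hyB]; simp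
    intro V hV hVP _ hIH m hm y hy hyV
    have hdcomm : ∀ r ∈ (P : Subgroup ↥E'), r * d' = d' * r := fun r hr => by
      obtain ⟨t, ht, z₁, hz₁, e⟩ := hdec _ ((hPmem r).1 hr)
      obtain ⟨j, rfl⟩ := mem_zpowers_iff.1 hz₁
      refine Subtype.ext ?_
      show (r : E) * d = d * r
      rw [e, mul_assoc, (Commute.zpow_left (Commute.refl d) j).eq, ← mul_assoc, hcommT t ht, mul_assoc]
    by_cases hc : (P : Subgroup ↥E') ⊓ centralizer (V : Set ↥E') ≤ V
    swap
    · obtain ⟨n, hn, he⟩ := exists_agree_sup_centralizer P hV hm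
      rw [← he y hyV]
      exact hIH _ (sup_le hVP inf_le_left) (Fusion.card_lt_card_of_lt (left_lt_sup.2 hc)) n hn
        y hy (mem_sup_left hyV)
    have hd'V : d' ∈ V := hc (mem_inf.2 ⟨(hPmem d').2 hdP₀, mem_centralizer_iff.2 fun v hv =>
      hdcomm v (hVP hv)⟩)
    suffices hmd : m * d' * m⁻¹ = d' by
      obtain ⟨i, rfl⟩ := mem_zpowers_iff.1 hy
      rw [← conj_zpow, hmd]
    -- `V = D⟨d⟩` with `D = V ∩ S`
    have hdV : ∀ z ∈ zpowers d', z ∈ V := fun z hz => zpowers_le.2 hd'V hz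
    obtain ⟨s, hs, z, hz, hmsz⟩ := hE'dec m m.2
    have hsE : s ∈ E' := mem_sup_left hs
    set s' : ↥E' := ⟨s, hsE⟩
    obtain ⟨z', hz', hzz'⟩ : ∃ z' ∈ zpowers d', (z' : E) = z := by
      obtain ⟨k, rfl⟩ := mem_zpowers_iff.1 hz
      exact ⟨d' ^ k, zpow_mem (mem_zpowers _) k, by simp [hd']⟩
    have hms : m = s' * z' := Subtype.ext (by rw [hmsz, ← hzz']; rfl)
    have hsV : s' ∈ normalizer (V : Set ↥E') := by
      have := mul_mem hm (inv_mem (le_normalizer (hdV z' hz')))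
      rwa [hms, mul_inv_cancel_right] at this
    suffices hsd : s' * d' * s'⁻¹ = d' by
      obtain ⟨k, rfl⟩ := mem_zpowers_iff.1 hz'
      rw [hms]
      calc s' * d' ^ k * d' * (s' * d' ^ k)⁻¹ = s' * (d' ^ k * d' * (d' ^ k)⁻¹) * s'⁻¹ := by group
        _ = d' := by rw [show d' ^ k * d' * (d' ^ k)⁻¹ = d' by group]; exact hsd
    set D₀ := ((V.map E'.subtype) ⊓ S).subgroupOf S with hD₀
    have hVT : ∀ y ∈ V, (y : E) ∈ S → (y : E) ∈ T' := fun y hy hyS => by
      obtain ⟨t, ht, w, hw, e⟩ := hdec _ ((hPmem y).1 (hVP hy))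
      have hwS : w ∈ S := by
        have := mul_mem (inv_mem (hT'S ht)) hyS
        rwa [e, inv_mul_cancel_left] at this
      -- `S ∩ P₀ = T'`
      have h4 : IsPGroup 2 ↥((S ⊓ P₀).subgroupOf S) :=
        (hP₀p.to_le inf_le_right : IsPGroup 2 ↥(S ⊓ P₀)).of_equiv (subgroupOfEquivOfLe inf_le_left).symm
      have h5 : (T : Subgroup ↥S) ≤ (S ⊓ P₀).subgroupOf S := fun t ht =>
        mem_subgroupOf.2 ⟨t.2, mem_sup_left (mem_map_of_mem _ ht)⟩
      exact ⟨⟨y, hyS⟩, (T.3 h4 h5) ▸ mem_subgroupOf.2 ⟨hyS, (hPmem y).1 (hVP hy)⟩, rfl⟩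
    have hD₀T : D₀ ≤ (T : Subgroup ↥S) := fun x hx => by
      obtain ⟨⟨y, hy, hye⟩, -⟩ := mem_inf.1 (mem_subgroupOf.1 hx)
      have hyS : (y : E) ∈ S := by rw [show (y : E) = x from hye]; exact x.2
      obtain ⟨t, ht, hte⟩ := hVT y hy hyS
      rwa [show x = t from Subtype.ext (hye.symm.trans hte.symm)]
    have hconjV : D₀.map (MulAut.conj (⟨s, hs⟩ : ↥S)).toMonoidHom ≤ (T : Subgroup ↥S) := by
      refine le_trans ?_ hD₀T
      rintro _ ⟨x, hx, rfl⟩
      obtain ⟨⟨y, hy, hye⟩, -⟩ := mem_inf.1 (mem_subgroupOf.1 hx)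
      refine mem_subgroupOf.2 (mem_inf.2 ⟨⟨s' * y * s'⁻¹, (mem_normalizer_iff.1 hsV y).1 hy, ?_⟩,
        ((MulAut.conj (⟨s, hs⟩ : ↥S)).toMonoidHom x).2⟩)
      simp [s', ← hye]
    obtain ⟨u, hu, hue⟩ := key D₀ hD₀T ⟨s, hs⟩ hconjV
    have hud : (u : E) * d * (u : E)⁻¹ = d := by
      have h1 : d * u * d⁻¹ = u := by rw [← hφapp]; exact congrArg Subtype.val hu
      calc (u : E) * d * (u : E)⁻¹ = (d * u * d⁻¹) * d * (u : E)⁻¹ := by rw [h1]
        _ = d := by group
    set u' : ↥E' := ⟨u, mem_sup_left u.2⟩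
    have hVgen : ∀ y ∈ V, ∃ a ∈ V, ∃ w ∈ zpowers d', (a : E) ∈ S ∧ y = a * w := fun y hy => by
      obtain ⟨a, ha, w, hw, e⟩ := hE'dec y y.2
      obtain ⟨k, rfl⟩ := mem_zpowers_iff.1 hw
      refine ⟨y * (d' ^ k)⁻¹, mul_mem hy (inv_mem (hdV _ (zpow_mem (mem_zpowers _) k))), d' ^ k,
        zpow_mem (mem_zpowers _) k, ?_, by group⟩
      have h1 : ((y * (d' ^ k)⁻¹ : ↥E') : E) = a := by simp [e, hd']
      rw [h1]; exact ha
    have hagree : ∀ a ∈ V, (a : E) ∈ S → (u : E) * a * (u : E)⁻¹ = s * a * s⁻¹ := fun a ha haS => by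
      have := hue ⟨a, haS⟩ (mem_subgroupOf.2 ⟨⟨a, ha, rfl⟩, haS⟩)
      simpa using congrArg Subtype.val this
    have huN : u' ∈ normalizer (V : Set ↥E') := mem_normalizer_fintype fun y hy => by
      obtain ⟨a, ha, w, hw, haS, rfl⟩ := hVgen y hy
      have hw' : u' * w * u'⁻¹ = w := by
        obtain ⟨k, rfl⟩ := mem_zpowers_iff.1 hw
        rw [← conj_zpow, show u' * d' * u'⁻¹ = d' from Subtype.ext (by simpa [u', hd'] using hud)]
      have e : u' * (a * w) * u'⁻¹ = (s' * a * s'⁻¹) * w := by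
        have e1 : u' * a * u'⁻¹ = s' * a * s'⁻¹ := Subtype.ext (by simpa [u', s'] using hagree a ha haS)
        calc u' * (a * w) * u'⁻¹ = (u' * a * u'⁻¹) * (u' * w * u'⁻¹) := by group
          _ = _ := by rw [e1, hw']
      show u' * (a * w) * u'⁻¹ ∈ V
      rw [e]
      exact mul_mem ((mem_normalizer_iff.1 hsV a).1 ha) (hdV w hw)
    set c := u'⁻¹ * s' with hcdef
    have hcN : c ∈ normalizer (V : Set ↥E') := mul_mem (inv_mem huN) hsV
    -- the subgroup of `N(V) ∩ S` centralizing `V ∩ S`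
    set W := normalizer (V : Set ↥E') ⊓ (centralizer ((V.map E'.subtype ⊓ S : Subgroup E) : Set E) ⊓ S).comap E'.subtype with hW
    have hcW : c ∈ W := by
      refine mem_inf.2 ⟨hcN, mem_comap.2 (mem_inf.2 ⟨mem_centralizer_iff.2 ?_, ?_⟩)⟩
      · rintro _ ⟨⟨a, ha, rfl⟩, haS⟩
        have := hagree a ha haS
        show (a : E) * ((u : E)⁻¹ * s) = (u : E)⁻¹ * s * a
        calc (a : E) * ((u : E)⁻¹ * s) = (u : E)⁻¹ * ((u : E) * a * (u : E)⁻¹) * s := by group
          _ = _ := by rw [this]; group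
      · exact mul_mem (inv_mem u.2) hs
    have hWn : ∀ h ∈ normalizer (V : Set ↥E'), ∀ n ∈ W, h * n * h⁻¹ ∈ W := by
      intro h hh n hn
      obtain ⟨hn1, hn2, hn3⟩ := hn
      refine mem_inf.2 ⟨mul_mem (mul_mem hh hn1) (inv_mem hh), mem_comap.2 (mem_inf.2
        ⟨mem_centralizer_iff.2 ?_, (inferInstance : S.Normal).conj_mem _ hn3 (h : E)⟩)⟩
      rintro _ ⟨⟨a, ha, rfl⟩, haS⟩
      have h1 := mem_centralizer_iff.1 hn2 ((h⁻¹ * a * h : ↥E') : E)
        ⟨⟨_, (mem_normalizer_iff''.1 hh a).1 ha, rfl⟩, by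
          simpa using (inferInstance : S.Normal).conj_mem _ haS (h : E)⁻¹⟩
      simp only [Subgroup.coe_subtype, Subgroup.coe_mul, Subgroup.coe_inv] at h1 ⊢
      calc (a : E) * ((h : E) * n * (h : E)⁻¹) = h * (((h : E)⁻¹ * a * h) * n) * (h : E)⁻¹ := by group
        _ = _ := by rw [h1]; group
    have hWidx := not_dvd_relIndex_inf (S := (P : Subgroup ↥E') ⊓ normalizer (V : Set ↥E'))
      inf_le_right (P.2.to_le inf_le_left) hV.2 (inf_le_left : W ≤ _) hWn
    -- the Sylow subgroup of `W` centralizes `V`, so lies in `V`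
    set R := ((P : Subgroup ↥E') ⊓ normalizer (V : Set ↥E')) ⊓ W with hR
    have hRV : R ≤ V := fun r hr => by
      obtain ⟨⟨hrP, -⟩, -, hr2, hr3⟩ := hr
      refine hc (mem_inf.2 ⟨hrP, mem_centralizer_iff.2 fun y hy => ?_⟩)
      obtain ⟨a, ha, w, hw, haS, rfl⟩ := hVgen y hy
      obtain ⟨k, rfl⟩ := mem_zpowers_iff.1 hw
      have h1 : a * r = r * a := Subtype.ext (mem_centralizer_iff.1 hr2 (a : E) ⟨⟨a, ha, rfl⟩, haS⟩)
      have h2 : Commute r d' := hdcomm r hrP
      calc a * d' ^ k * r = a * (r * d' ^ k) := by rw [mul_assoc, ← (h2.zpow_right k).eq]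
        _ = r * (a * d' ^ k) := by rw [← mul_assoc, h1, mul_assoc]
    have hRn : (R.subgroupOf W).Normal := (normal_subgroupOf_iff_le_normalizer inf_le_right).2
      fun w hw => mem_normalizer_fintype fun r hr => by
        have hc' : (r : E) * w = w * r := mem_centralizer_iff.1 (mem_inf.1 (mem_comap.1 (mem_inf.1 hw).2)).1 (r : E)
          ⟨⟨r, hRV hr, rfl⟩, (mem_inf.1 (mem_comap.1 (mem_inf.1 (mem_inf.1 hr).2).2)).2⟩
        have : w * r * w⁻¹ = r := Subtype.ext (by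
          show (w : E) * r * (w : E)⁻¹ = r
          rw [← hc', mul_inv_cancel_right])
        show w * r * w⁻¹ ∈ R
        rw [this]; exact hr
    have hck : c ^ (R.relIndex W) ∈ R :=
      mem_subgroupOf.1 (Subgroup.pow_index_mem (R.subgroupOf W) ⟨c, hcW⟩)
    set e := c * d' * c⁻¹ * d'⁻¹ with hedef
    have heV : e ∈ V := mul_mem ((mem_normalizer_iff.1 hcN d').1 hd'V) (inv_mem hd'V)
    have hcS : (c : E) ∈ S := (mem_inf.1 (mem_comap.1 (mem_inf.1 hcW).2)).2
    have heS : (e : E) ∈ S := by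
      have h1 := mul_mem hcS ((inferInstance : S.Normal).conj_mem _ (inv_mem hcS) d)
      simpa [hedef, hd', mul_assoc] using h1
    have hce : c * e = e * c := Subtype.ext (mem_centralizer_iff.1
      (mem_inf.1 (mem_comap.1 (mem_inf.1 hcW).2)).1 (e : E) ⟨⟨e, heV, rfl⟩, heS⟩).symm
    have hpow : ∀ i : ℕ, c ^ i * d' * (c ^ i)⁻¹ = e ^ i * d' := by
      intro i
      induction i with
      | zero => simp
      | succ i ih =>
        calc c ^ (i + 1) * d' * (c ^ (i + 1))⁻¹ = c * (c ^ i * d' * (c ^ i)⁻¹) * c⁻¹ := by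
              rw [pow_succ']; group
          _ = (c * e ^ i * c⁻¹) * (c * d' * c⁻¹) := by rw [ih]; group
          _ = e ^ i * (e * d') := by
              rw [(Commute.pow_right hce i).eq, mul_inv_cancel_right, hedef]; group
          _ = e ^ (i + 1) * d' := by rw [pow_succ]; group
    have he1 : e ^ (R.relIndex W) = 1 := by
      have hcr := hpow (R.relIndex W)
      have hcomm2 : c ^ (R.relIndex W) * d' * (c ^ (R.relIndex W))⁻¹ = d' := by
        rw [hdcomm _ (hVP (hRV hck)), mul_inv_cancel_right]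
      rw [hcomm2] at hcr
      exact (mul_eq_right.1 hcr.symm)
    obtain ⟨j, hj⟩ := P.2 ⟨e, hVP heV⟩
    have he : e = 1 := by
      rw [← orderOf_eq_one_iff]
      refine Nat.eq_one_of_dvd_coprimes (a := R.relIndex W) (b := 2 ^ j) ?_
        (orderOf_dvd_of_pow_eq_one he1) (orderOf_dvd_of_pow_eq_one (congrArg Subtype.val hj))
      exact (Nat.Coprime.pow_right j ((Nat.prime_two.coprime_iff_not_dvd.2 hWidx).symm))
    have hcd : c * d' * c⁻¹ = d' := mul_inv_eq_one.1 he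
    calc s' * d' * s'⁻¹ = u' * (c * d' * c⁻¹) * u'⁻¹ := by rw [hcdef]; group
      _ = d' := by rw [hcd]; exact Subtype.ext (by simpa [u', hd'] using hud)
  have hclosed : Cfsg.Lib.ZStar.PowersClosed (P : Subgroup ↥E') d' := fun y hy g hg =>
    hRel (zpowers y) (zpowers_le.2 ((zpowers_le.2 ((hPmem d').2 hdP₀)) hy)) g
      (by rw [MonoidHom.map_zpowers]; exact zpowers_le.2 hg) y hy (mem_zpowers y)
  refine mem_centralizer_iff.2 fun x hx => ?_
  set x' : ↥E' := ⟨x, mem_sup_left hx⟩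
  have h1 := Cfsg.Lib.ZStar.commutator_mem_oddCore_of_powersClosed P ((hPmem d').2 hdP₀) hclosed x'
  have h2 : x * d * x⁻¹ * d⁻¹ ∈ S := by
    have := mul_mem hx ((inferInstance : S.Normal).conj_mem _ (inv_mem hx) d)
    simpa [mul_assoc] using this
  have hsn : (S.subgroupOf E').IsSubnormal := (inferInstance : (S.subgroupOf E').Normal).isSubnormal
  have h3 : x' * d' * x'⁻¹ * d'⁻¹ ∈ S.subgroupOf E' := mem_subgroupOf.2 h2
  obtain ⟨w, hw, hwe⟩ := (Cfsg.Lib.Core.pPrimeCore_map_eq_inf_of_isSubnormal (p := 2) hsn).ge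
    ⟨h1, h3⟩
  have h4 : Cfsg.pPrimeCore 2 ↥(S.subgroupOf E') = ⊥ := by
    rw [← Cfsg.Lib.Core.map_pPrimeCore_equiv (p := 2) (subgroupOfEquivOfLe (le_sup_left : S ≤ E')).symm,
      hO, Subgroup.map_bot]
  rw [SetLike.mem_coe, h4, mem_bot] at hw
  rw [hw, map_one] at hwe
  have h5 : x * d * x⁻¹ * d⁻¹ = 1 := (congrArg Subtype.val hwe).symm
  exact mul_inv_eq_iff_eq_mul.1 (mul_inv_eq_one.1 h5)

end Cfsg.Lib.Sig
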