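import Cfsg.Prelude.Def_PLocal
import Cfsg.Prelude.Def_LocalEven
import Cfsg.Prelude.Def_Transfer
import Cfsg.Prelude.Def_TwoFusion
import Cfsg.Agent.Lib.Sig.AutSylow
import Cfsg.Agent.Lib.Sig.PConstrained

/-!
Conjugates of the socle of the centre of a Sylow subgroup under a triple factorization of the
constrained sections.
-/

set_option autoImplicit false
set_option linter.style.haveILetI false

namespace Cfsg.Lib.Sig

open Subgroup

universe u

variable {G : Type u} [Group G] {p : ℕ}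

/-- `Ω₁Z(P)`. -/
local notation "Ω₁Z[" P "]" =>
  Cfsg.omegaOne p (P ⊓ Subgroup.centralizer ((P : Subgroup _) : Set _))

/-- The factorization `Y = C(Ω₁Z(T)) N(W(T))` of the constrained sections of `G`. -/
def CentralFactorization (p : ℕ) (W : ∀ (Q : Type u) [Group Q], Subgroup Q) (G : Type u) [Group G] :
    Prop :=
  ∀ (K R : Subgroup G) [(R.subgroupOf K).Normal],
    centralizer (Cfsg.pCore p (↥K ⧸ R.subgroupOf K) : Set (↥K ⧸ R.subgroupOf K)) ≤
        Cfsg.pCore p (↥K ⧸ R.subgroupOf K) →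
      ∀ T : Sylow p (↥K ⧸ R.subgroupOf K), ∀ x : (↥K ⧸ R.subgroupOf K),
        ∃ a ∈ centralizer
            ((Cfsg.omegaOne p ((T : Subgroup (↥K ⧸ R.subgroupOf K)) ⊓
              centralizer ((T : Subgroup (↥K ⧸ R.subgroupOf K)) : Set (↥K ⧸ R.subgroupOf K))) :
              Subgroup (↥K ⧸ R.subgroupOf K)) :
              Set (↥K ⧸ R.subgroupOf K)),
          ∃ b ∈ normalizer
            ((Cfsg.inducedFunctor W (T : Subgroup (↥K ⧸ R.subgroupOf K)) :
              Subgroup (↥K ⧸ R.subgroupOf K)) : Set (↥K ⧸ R.subgroupOf K)), x = a * b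

theorem mem_omegaOne_center {P : Subgroup G} {z : G} (hz : z ∈ Ω₁Z[P]) :
    z ∈ P ∧ z ∈ centralizer (P : Set G) ∧ z ^ p = 1 := by
  induction hz using closure_induction with
  | mem x hx => exact ⟨hx.1.1, hx.1.2, hx.2⟩
  | one => exact ⟨one_mem _, one_mem _, one_pow _⟩
  | mul x y _ _ hx hy =>
    have hc : Commute x y := (mem_centralizer_iff.1 hy.2.1 x hx.1)
    exact ⟨mul_mem hx.1 hy.1, mul_mem hx.2.1 hy.2.1, by rw [hc.mul_pow, hx.2.2, hy.2.2, one_mul]⟩
  | inv x _ hx => exact ⟨inv_mem hx.1, inv_mem hx.2.1, by rw [inv_pow, hx.2.2, inv_one]⟩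

variable [Finite G] [Fact p.Prime]

theorem omegaOne_center_conj_mem {W : ∀ (Q : Type u) [Group Q], Subgroup Q}
    (hW : Cfsg.IsCharPFunctor.{u} p W) (hfac : CentralFactorization p W G) (S : Sylow p G)
    {B : Subgroup G}
    (hB : ∀ m ∈ normalizer ((Cfsg.inducedFunctor W (S : Subgroup G) : Subgroup G) : Set G),
      ∀ z ∈ Ω₁Z[(S : Subgroup G)], m * z * m⁻¹ ∈ B)
    (U : Subgroup G) :
    U ≤ (S : Subgroup G) → (S : Subgroup G) ≤ normalizer (U : Set G) → Ω₁Z[(S : Subgroup G)] ≤ U →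
      ∀ n ∈ normalizer (U : Set G), ∀ z ∈ Ω₁Z[(S : Subgroup G)], n * z * n⁻¹ ∈ B := by
  induction U using WellFoundedGT.induction with
  | _ U ih =>
  intro hUS hSU hZU n hn z hz
  set C := centralizer (U : Set G) with hC
  have hCN : C ≤ normalizer (U : Set G) := centralizer_le_normalizer _
  have hVn : U ∈ sylowNormalized S := ⟨hUS, by
    rw [inf_eq_left.2 hSU]
    exact fun h => S.not_dvd_index (h.trans (relIndex_dvd_index_of_le hSU))⟩
  by_cases hc : (S : Subgroup G) ⊓ C ≤ U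
  swap
  · obtain ⟨m, hmle, hagree⟩ := exists_agree_sup_centralizer S hVn hn
    set V := U ⊔ ((S : Subgroup G) ⊓ C) with hV
    have hCm : ∀ y ∈ normalizer (U : Set G), C.map (MulAut.conj y).toMonoidHom = C := fun y hy => by
      rw [hC, map_centralizer_equiv, Cfsg.Lib.Core.map_conj_eq_of_mem_normalizer hy]
    have hmU : m ∈ normalizer (U : Set G) := mem_normalizer_of_map_conj (eq_of_le_of_card_ge (by
      rintro _ ⟨a, ha, rfl⟩
      show m * a * m⁻¹ ∈ U
      rw [hagree a ha]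
      exact (mem_normalizer_iff.1 hn a).1 ha) (card_map_conj _ _).ge)
    have hmV : m ∈ normalizer (V : Set G) := mem_normalizer_of_map_conj (eq_of_le_of_card_ge (by
      rw [hV, Subgroup.map_sup, map_conj_eq_of_mem_normalizer hmU]
      refine sup_le le_sup_left (le_trans ?_ le_sup_right)
      refine le_inf ((map_mono le_sup_right).trans (hV ▸ hmle)) ?_
      exact (map_mono inf_le_right).trans (hCm m hmU).le) (card_map_conj _ _).ge)
    have hSV : (S : Subgroup G) ≤ normalizer (V : Set G) := fun s hs =>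
      mem_normalizer_of_map_conj (by
        rw [hV, Subgroup.map_sup, map_inf _ _ _ (MulAut.conj s).injective, hCm s (hSU hs),
          map_conj_eq_of_mem_normalizer (hSU hs),
          map_conj_eq_of_mem_normalizer (le_normalizer hs)])
    rw [← hagree z (hZU hz)]
    exact ih V (left_lt_sup.2 hc) (sup_le hUS inf_le_left) hSV (hZU.trans le_sup_left) m hmV z hz
  set K := normalizer (U : Set G) with hK
  set M := (Cfsg.pPrimeCore p ↥C).map C.subtype with hM
  have hCnorm : (C.subgroupOf K).Normal := ⟨fun c hc' k => by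
    rw [mem_subgroupOf] at hc' ⊢
    show (k : G) * c * (k : G)⁻¹ ∈ C
    have : C.map (MulAut.conj (k : G)).toMonoidHom = C := by
      rw [hC, map_centralizer_equiv, Cfsg.Lib.Core.map_conj_eq_of_mem_normalizer k.2]
    rw [← this]; exact conj_mem_map_conj hc'⟩
  haveI hMn : (M.subgroupOf K).Normal := Cfsg.Lib.Core.subgroupOf_map_char_normal hCN hCnorm _
  have hMK : M ≤ K := (map_subtype_le _).trans hCN
  have hMcop : (Nat.card ↥M).Coprime p := by
    rw [hM, card_map_of_injective C.subtype_injective]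
    exact Cfsg.Lib.Core.pPrimeCore_coprime p _
  have hM'cop : (Nat.card ↥(M.subgroupOf K)).Coprime p := by
    rw [Nat.card_congr (subgroupOfEquivOfLe hMK).toEquiv]; exact hMcop
  have hUM : U ⊓ M = ⊥ := disjoint_of_isPGroup_coprime (S.2.to_le hUS) hMcop
  set f := QuotientGroup.mk' (M.subgroupOf K) with hf
  have hU'p : IsPGroup p ↥(U.subgroupOf K) :=
    (S.2.to_le hUS).of_equiv (subgroupOfEquivOfLe le_normalizer).symm
  have hCY : centralizer (((U.subgroupOf K).map f : Subgroup (↥K ⧸ M.subgroupOf K)) :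
      Set (↥K ⧸ M.subgroupOf K)) ≤ (U.subgroupOf K).map f := by
    rw [hf, centralizer_map_mk' _ hM'cop hU'p]
    rintro _ ⟨x, hx, rfl⟩
    have hxC : (x : G) ∈ C := mem_centralizer_iff.2 fun a ha => by
      have h := mem_centralizer_iff.1 hx ⟨a, le_normalizer ha⟩ (mem_subgroupOf.2 ha)
      exact congrArg Subtype.val h
    have h1 : C ≤ U ⊔ M :=
      (centralizer_le_sup_pPrimeCore S hVn hc).trans (sup_le_sup_right hc _)
    obtain ⟨a, ha, m, hm, hxe⟩ := (Subgroup.mem_sup_of_normal_right (s := U.subgroupOf K)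
      (t := M.subgroupOf K) (x := x)).1 (by
        rw [← Subgroup.subgroupOf_sup le_normalizer hMK]
        exact mem_subgroupOf.2 (h1 hxC))
    exact ⟨a, ha, by rw [← hxe, map_mul]; simp [(QuotientGroup.eq_one_iff m).2 hm]⟩
  haveI : ((U.subgroupOf K).map f).Normal :=
    Subgroup.Normal.map inferInstance f (QuotientGroup.mk'_surjective _)
  have hUO : (U.subgroupOf K).map f ≤ Cfsg.pCore p _ :=
    Cfsg.Lib.Core.le_pCore' inferInstance (hU'p.map f)
  have hconstr := ((centralizer_le hUO).trans hCY).trans hUO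
  let T : Sylow p (↥K ⧸ M.subgroupOf K) :=
    (S.subtype hSU).mapSurjective (f := f) (QuotientGroup.mk'_surjective _)
  have hTeq : (T : Subgroup (↥K ⧸ M.subgroupOf K)) = ((S : Subgroup G).subgroupOf K).map f := rfl
  have hzK : z ∈ K := le_normalizer (hZU hz)
  obtain ⟨hzS, hzC, hzp⟩ := mem_omegaOne_center hz
  have hzT : f ⟨z, hzK⟩ ∈ Ω₁Z[(T : Subgroup (↥K ⧸ M.subgroupOf K))] := by
    refine Subgroup.subset_closure ⟨mem_inf.2 ⟨hTeq ▸ mem_map_of_mem f (mem_subgroupOf.2 hzS),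
      mem_centralizer_iff.2 ?_⟩, ?_⟩
    · rw [hTeq]
      rintro _ ⟨s, hs, rfl⟩
      rw [← map_mul, ← map_mul]
      exact congrArg f (Subtype.ext (mem_centralizer_iff.1 hzC s (mem_subgroupOf.1 hs)))
    · rw [← map_pow]
      exact (congrArg f (Subtype.ext hzp : (⟨z, hzK⟩ : ↥K) ^ p = 1)).trans (map_one f)
  obtain ⟨a, ha, b, hb, hab⟩ := hfac K M hconstr T (f ⟨n, hn⟩)⁻¹
  have hS'p : IsPGroup p ↥((S : Subgroup G).subgroupOf K) :=
    S.2.of_equiv (subgroupOfEquivOfLe hSU).symm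
  rw [hTeq, inducedFunctor_map hW f hS'p (by
    rw [hf, QuotientGroup.ker_mk']; exact disjoint_of_isPGroup_coprime hS'p hM'cop)] at hb
  obtain ⟨k₀, hk₀⟩ := QuotientGroup.mk'_surjective (M.subgroupOf K) b⁻¹
  obtain ⟨m, hm, hmk⟩ := exists_mul_mem_normalizer (M.subgroupOf K) hM'cop
    (hS'p.to_le (map_subtype_le _)) (x := k₀) (by rw [hk₀]; exact inv_mem hb)
  set k := m * k₀ with hk
  have hfk : f k = b⁻¹ := by
    rw [hk, map_mul, hk₀, show f m = 1 from (QuotientGroup.eq_one_iff m).2 hm, one_mul]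
  have hkN : (k : G) ∈ normalizer ((Cfsg.inducedFunctor W (S : Subgroup G) : Subgroup G) : Set G) := by
    have h : (k : G) ∈ normalizer (((Cfsg.inducedFunctor W ((S : Subgroup G).subgroupOf K)).map
        K.subtype : Subgroup G) : Set G) := mem_normalizer_map_subgroup K.subtype hmk
    rwa [← inducedFunctor_map hW K.subtype hS'p (by
      rw [(MonoidHom.ker_eq_bot_iff _).2 K.subtype_injective, inf_bot_eq]),
      subgroupOf_map_subtype, inf_eq_left.2 hSU] at h
  have heq : f (⟨n, hn⟩ * ⟨z, hzK⟩ * ⟨n, hn⟩⁻¹) = f (k * ⟨z, hzK⟩ * k⁻¹) := by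
    simp only [map_mul, map_inv, hfk, inv_inv]
    have e : f ⟨n, hn⟩ = b⁻¹ * a⁻¹ := by rw [← mul_inv_rev, ← hab, inv_inv]
    rw [e, mul_inv_rev, inv_inv, inv_inv]
    have h2 : f ⟨z, hzK⟩ * a = a * f ⟨z, hzK⟩ := mem_centralizer_iff.1 ha _ hzT
    calc b⁻¹ * a⁻¹ * f ⟨z, hzK⟩ * (a * b) = b⁻¹ * (a⁻¹ * (f ⟨z, hzK⟩ * a)) * b := by group
      _ = b⁻¹ * f ⟨z, hzK⟩ * b := by rw [h2, inv_mul_cancel_left]
  have hmemM := (QuotientGroup.eq.1 heq : _ ∈ M.subgroupOf K)
  rw [mem_subgroupOf] at hmemM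
  simp only [Subgroup.coe_mul, Subgroup.coe_inv] at hmemM
  have h1 : n * z * n⁻¹ ∈ U := (mem_normalizer_iff.1 hn z).1 (hZU hz)
  have h2 : (k : G) * z * (k : G)⁻¹ ∈ U := (mem_normalizer_iff.1 k.2 z).1 (hZU hz)
  have h3 := hUM ▸ mem_inf.2 ⟨mul_mem (inv_mem h1) h2, hmemM⟩
  rw [mem_bot, inv_mul_eq_one] at h3
  rw [h3]
  exact hB _ hkN z hz

end Cfsg.Lib.Sig
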