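import Cfsg.Agent.Lib.PGroup.NormalSq
import Cfsg.Agent.Lib.PGroup.OddNormalElementary
import Cfsg.Agent.Lib.Core.Basic
import Cfsg.Prelude.Def_CaseTheorems
import Cfsg.Prelude.Def_Balance

/-!
# Commuting graphs of elementary abelian subgroups in p-groups of rank above two
-/

set_option autoImplicit false

namespace Cfsg.Lib.Sig.RankThree

open Subgroup Cfsg.Lib Cfsg.Lib.PGroup
open scoped commutatorElement

variable {P : Type*} [Group P] [Finite P] {p : ℕ} [hp : Fact p.Prime]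

omit [Finite P] hp in
theorem elementary_sup {A B : Subgroup P} (hA : Cfsg.IsElementaryAbelian p A)
    (hB : Cfsg.IsElementaryAbelian p B) (h : ∀ a ∈ A, ∀ b ∈ B, a * b = b * a) :
    Cfsg.IsElementaryAbelian p (A ⊔ B) := by
  have hAB : ⁅A, B⁆ = ⊥ := Core.commutator_eq_bot_iff_forall.2 h
  refine ⟨⟨⟨fun x y => Subtype.ext ?_⟩⟩, fun x hx => ?_⟩
  · obtain ⟨a, ha, b, hb, e⟩ := (Core.mem_sup_of_commute hAB).1 x.2
    obtain ⟨a', ha', b', hb', e'⟩ := (Core.mem_sup_of_commute hAB).1 y.2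
    show (x : P) * y = y * x
    rw [← e, ← e']
    have c1 : Commute a a' := congrArg Subtype.val (hA.1.is_comm.comm (⟨a, ha⟩ : A) ⟨a', ha'⟩)
    have c2 : Commute b b' := congrArg Subtype.val (hB.1.is_comm.comm (⟨b, hb⟩ : B) ⟨b', hb'⟩)
    exact ((c1.mul_right (h a ha b' hb')).mul_left ((Commute.symm (h a' ha' b hb)).mul_right c2)).eq
  · obtain ⟨a, ha, b, hb, rfl⟩ := (Core.mem_sup_of_commute hAB).1 hx
    rw [(show Commute a b from h a ha b hb).mul_pow, hA.2 a ha, hB.2 b hb, one_mul]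

omit [Finite P] hp in
theorem commute_of_mem {A : Subgroup P} (hA : Cfsg.IsElementaryAbelian p A) {a b : P} (ha : a ∈ A) (hb : b ∈ A) :
    a * b = b * a := congrArg Subtype.val (hA.1.is_comm.comm (⟨a, ha⟩ : A) ⟨b, hb⟩)

theorem pow_succ_le {j k : ℕ} (h : p ^ k < p ^ j) : p ^ (k + 1) ≤ p ^ j :=
  Nat.pow_le_pow_right hp.out.pos ((Nat.pow_lt_pow_iff_right hp.out.one_lt).1 h)

/-- Rank above `k` in a subgroup, seen in the group. -/
theorem not_rankLE_iff (hP : IsPGroup p P) {H : Subgroup P} {k : ℕ} :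
    ¬ Cfsg.PRankLE p k ↥H ↔
      ∃ E : Subgroup P, E ≤ H ∧ Cfsg.IsElementaryAbelian p E ∧ p ^ (k + 1) ≤ Nat.card ↥E := by
  constructor
  · intro h
    simp only [Cfsg.PRankLE, not_forall, not_le] at h
    obtain ⟨A, hA, hA2, hAc⟩ := h
    refine ⟨A.map H.subtype, map_subtype_le A, ⟨⟨⟨?_⟩⟩, ?_⟩, ?_⟩
    · rintro ⟨_, a, ha, rfl⟩ ⟨_, b, hb, rfl⟩
      exact Subtype.ext (congrArg Subtype.val (congrArg Subtype.val (hA.is_comm.comm (⟨a, ha⟩ : A) ⟨b, hb⟩)) :)
    · rintro _ ⟨a, ha, rfl⟩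
      exact congrArg Subtype.val (hA2 a ha)
    · rw [Core.card_map_subtype]
      obtain ⟨j, hj⟩ := IsPGroup.iff_card.1 ((hP.to_subgroup H).to_subgroup A)
      rw [hj] at hAc ⊢
      exact pow_succ_le hAc
  · rintro ⟨E, hEH, hE, hEc⟩ h
    have h1 := h (E.subgroupOf H) ⟨⟨fun a b => Subtype.ext (Subtype.ext (commute_of_mem hE
      (mem_subgroupOf.1 a.2) (mem_subgroupOf.1 b.2)))⟩⟩ fun a ha => Subtype.ext (hE.2 _ (mem_subgroupOf.1 ha))
    rw [Nat.card_congr (subgroupOfEquivOfLe hEH).toEquiv] at h1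
    exact absurd (hEc.trans h1) (not_le.2 (Nat.pow_lt_pow_right hp.out.one_lt (Nat.lt_succ_self k)))

theorem exists_elementary_of_not_rankLE (hP : IsPGroup p P) {k : ℕ} (h : ¬ Cfsg.PRankLE p k P) :
    ∃ E : Subgroup P, Cfsg.IsElementaryAbelian p E ∧ p ^ (k + 1) ≤ Nat.card ↥E := by
  simp only [Cfsg.PRankLE, not_forall, not_le] at h
  obtain ⟨A, hA, hA2, hAc⟩ := h
  obtain ⟨j, hj⟩ := IsPGroup.iff_card.1 (hP.to_subgroup A)
  refine ⟨A, ⟨hA, hA2⟩, ?_⟩
  rw [hj] at hAc ⊢
  exact pow_succ_le hAc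

/-- The conjugates of a nontrivial element of a normal subgroup number fewer than its order. -/
theorem index_centralizer_lt {B : Subgroup P} [hB : B.Normal] {u : P} (hu : u ∈ B) (hu1 : u ≠ 1) :
    (centralizer ({u} : Set P)).index < Nat.card ↥B := by
  classical
  set C := centralizer ({u} : Set P)
  have := Fintype.ofFinite (P ⧸ C)
  have := Fintype.ofFinite ↥B
  let f : P ⧸ C → ↥B := Quotient.lift (fun g : P => (⟨g * u * g⁻¹, hB.conj_mem u hu g⟩ : ↥B)) fun g g' hgg => by
    have hc : g⁻¹ * g' ∈ C := QuotientGroup.leftRel_apply.1 hgg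
    refine Subtype.ext ?_
    show g * u * g⁻¹ = g' * u * g'⁻¹
    calc g * u * g⁻¹ = g * (u * (g⁻¹ * g')) * g'⁻¹ := by group
      _ = g * (g⁻¹ * g' * u) * g'⁻¹ := by rw [mem_centralizer_singleton_iff.1 hc]
      _ = g' * u * g'⁻¹ := by group
  have hinj : Function.Injective f := by
    intro x y
    induction x using QuotientGroup.induction_on with
    | _ g => ?_
    induction y using QuotientGroup.induction_on with
    | _ g' => ?_
    intro h
    have h2 : g * u * g⁻¹ = g' * u * g'⁻¹ := congrArg Subtype.val h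
    refine QuotientGroup.eq.2 (mem_centralizer_singleton_iff.2 ?_)
    calc g⁻¹ * g' * u = g⁻¹ * (g' * u * g'⁻¹) * g' := by group
      _ = u * (g⁻¹ * g') := by rw [← h2]; group
  rw [index, Nat.card_eq_fintype_card, Nat.card_eq_fintype_card]
  refine Fintype.card_lt_of_injective_of_notMem f hinj (b := 1) ?_
  rintro ⟨x, hx⟩
  induction x using QuotientGroup.induction_on with
  | _ g =>
    have h2 : g * u * g⁻¹ = 1 := congrArg Subtype.val hx
    exact hu1 (by simpa using h2)

theorem index_le_of_lt (hP : IsPGroup p P) {C : Subgroup P} {k : ℕ} (h : C.index < p ^ (k + 1)) :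
    C.index ≤ p ^ k := by
  obtain ⟨j, hj⟩ := hP.index C
  rw [hj] at h ⊢
  exact Nat.pow_le_pow_right hp.out.pos (Nat.lt_succ_iff.1 ((Nat.pow_lt_pow_iff_right hp.out.one_lt).1 h))

omit hp in
theorem card_le_card_inf_mul_index (E C : Subgroup P) :
    Nat.card ↥E ≤ Nat.card ↥(E ⊓ C : Subgroup P) * C.index := by
  have h1 := Core.card_mul_relIndex (inf_le_left : E ⊓ C ≤ E)
  rw [inf_relIndex_left] at h1
  have h2 : C.relIndex E ≤ C.relIndex ⊤ := relIndex_le_of_le_right le_top (by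
    rw [relIndex_top_right]; exact index_ne_zero_of_finite)
  rw [relIndex_top_right] at h2
  calc Nat.card ↥E = Nat.card ↥(E ⊓ C : Subgroup P) * C.relIndex E := h1.symm
    _ ≤ _ := Nat.mul_le_mul_left _ h2

theorem eq_of_card_sq {U X : Subgroup P} (hX : X ≤ U) (hU : Nat.card ↥U = p ^ 2) (h : p < Nat.card ↥X) :
    X = U := by
  refine eq_of_le_of_card_ge hX ?_
  obtain ⟨j, hj, e⟩ := (Nat.dvd_prime_pow hp.out).1 (hU ▸ card_dvd_of_le hX)
  rw [e] at h ⊢
  rw [hU]
  have h2 : 1 < j := by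
    by_contra hc
    have h3 : p ^ j ≤ p ^ 1 := Nat.pow_le_pow_right hp.out.pos (by omega)
    rw [pow_one] at h3
    omega
  exact Nat.pow_le_pow_right hp.out.pos h2

theorem lt_card_sup_zpowers {z u : P} (hz : orderOf z = p) (hu : u ∉ zpowers z) :
    p < Nat.card ↥(zpowers z ⊔ zpowers u : Subgroup P) := by
  have h : Nat.card ↥(zpowers z) < Nat.card ↥(zpowers z ⊔ zpowers u : Subgroup P) := by
    rcases lt_or_ge (Nat.card ↥(zpowers z)) (Nat.card ↥(zpowers z ⊔ zpowers u : Subgroup P)) with h | h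
    · exact h
    · exact absurd ((eq_of_le_of_card_ge le_sup_left h).symm ▸ mem_sup_right (mem_zpowers u) : u ∈ zpowers z) hu
  rwa [Nat.card_zpowers, hz] at h

/-- A normal four-group, or its analogue, has centralizer of index at most `p`. -/
theorem index_centralizer_le (hP : IsPGroup p P) {U : Subgroup P} [U.Normal] (hU : Nat.card ↥U = p ^ 2) :
    (centralizer (U : Set P)).index ≤ p := by
  have hne : U ≠ ⊥ := fun h => by
    rw [h, card_bot] at hU
    exact absurd hU.symm (Nat.one_lt_pow two_ne_zero hp.out.one_lt).ne'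
  obtain ⟨z, hzU, hzc, hzo⟩ := exists_mem_center_orderOf_eq hP hne
  have hZU : zpowers z ≤ U := zpowers_le.2 hzU
  obtain ⟨u, hu, huz⟩ := SetLike.exists_of_lt (lt_of_le_of_ne hZU fun e => by
    have h := congrArg (fun K : Subgroup P => Nat.card ↥K) e
    simp only [Nat.card_zpowers, hzo, hU] at h
    exact absurd h (by have := hp.out.two_le; nlinarith))
  have hgen : zpowers z ⊔ zpowers u = U :=
    eq_of_card_sq (sup_le hZU (zpowers_le.2 hu)) hU (lt_card_sup_zpowers hzo huz)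
  have hCU : centralizer ({u} : Set P) ≤ centralizer (U : Set P) := by
    refine le_centralizer_iff.2 ?_
    rw [← hgen]
    refine sup_le (zpowers_le.2 (mem_centralizer_iff.2 fun g _ => mem_center_iff.1 hzc g))
      (zpowers_le.2 (mem_centralizer_iff.2 fun g hg => mem_centralizer_singleton_iff.1 hg))
  refine le_trans (Nat.le_of_dvd (Nat.pos_of_ne_zero index_ne_zero_of_finite) (index_dvd_of_le hCU)) ?_
  have h := index_le_of_lt hP (k := 1) ((index_centralizer_lt hu fun e => huz (e ▸ one_mem _)).trans_eq hU)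
  rwa [pow_one] at h

/-- Chains of commuting elementary abelian subgroups of order at least `p²`. -/
def Link (p : ℕ) (A B : Subgroup P) : Prop :=
  Cfsg.IsElementaryAbelian p A ∧ p ^ 2 ≤ Nat.card ↥A ∧ Cfsg.IsElementaryAbelian p B ∧ p ^ 2 ≤ Nat.card ↥B ∧
    ∀ a ∈ A, ∀ b ∈ B, a * b = b * a

theorem exists_normal_four (hP : IsPGroup p P) (hrk : ¬ Cfsg.PRankLE p 2 P) :
    ∃ U : Subgroup P, U.Normal ∧ Cfsg.IsElementaryAbelian p U ∧ Nat.card ↥U = p ^ 2 := by
  by_contra hno
  obtain ⟨a, han, hcase⟩ := NormalSq.cyclic_or_three_mod_four hP hno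
  obtain ⟨E, hE, hEc⟩ := exists_elementary_of_not_rankLE hP hrk
  have hidx : (zpowers a).index ≤ p := by
    rcases hcase with h | ⟨h2, x, k, -, -, -, -, h⟩
    · rw [h, index_top]; exact hp.out.one_le
    · rw [h, h2]
  have hi : Nat.card ↥(E ⊓ zpowers a : Subgroup P) ≤ p := by
    haveI : IsCyclic ↥(E ⊓ zpowers a : Subgroup P) :=
      isCyclic_of_injective (Subgroup.inclusion inf_le_right) (Subgroup.inclusion_injective _)
    obtain ⟨g, hg⟩ := IsCyclic.exists_generator (α := ↥(E ⊓ zpowers a : Subgroup P))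
    rw [← orderOf_eq_card_of_forall_mem_zpowers hg]
    exact Nat.le_of_dvd hp.out.pos (orderOf_dvd_of_pow_eq_one (Subtype.ext (hE.2 _ g.2.1)))
  have h3 := (hEc.trans (card_le_card_inf_mul_index E (zpowers a))).trans (Nat.mul_le_mul hi hidx)
  have h4 : p * p < p ^ (2 + 1) := by
    rw [show p * p = p ^ 2 by ring]; exact Nat.pow_lt_pow_right hp.out.one_lt (Nat.lt_succ_self 2)
  omega

/-- The commuting graph on noncyclic elementary abelian subgroups, around a normal one of order `p²`. -/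
theorem link_iff (hP : IsPGroup p P) (hrk : ¬ Cfsg.PRankLE p 2 P) {U : Subgroup P} [U.Normal]
    (hU : Cfsg.IsElementaryAbelian p U) (hUc : Nat.card ↥U = p ^ 2) {X : Subgroup P}
    (hX : Cfsg.IsElementaryAbelian p X) (hXc : p ^ 2 ≤ Nat.card ↥X) :
    Relation.ReflTransGen (Link p) X U ↔ ¬ Cfsg.PRankLE p 2 ↥(centralizer (X : Set P)) := by
  have hidx := index_centralizer_le hP hUc
  have hbig : ∀ E : Subgroup P, p ^ (2 + 1) ≤ Nat.card ↥E →
      p ^ 2 ≤ Nat.card ↥(E ⊓ centralizer (U : Set P) : Subgroup P) := by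
    intro E hE
    refine Nat.le_of_mul_le_mul_right (c := p) ?_ hp.out.pos
    calc p ^ 2 * p = p ^ (2 + 1) := by ring
      _ ≤ Nat.card ↥E := hE
      _ ≤ Nat.card ↥(E ⊓ centralizer (U : Set P) : Subgroup P) * (centralizer (U : Set P)).index :=
        card_le_card_inf_mul_index _ _
      _ ≤ _ := Nat.mul_le_mul_left _ hidx
  constructor
  · intro hlink
    by_contra hX2
    have hiso : ∀ B : Subgroup P, Relation.ReflTransGen (Link p) X B → B = X := by
      intro B hB
      induction hB with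
      | refl => rfl
      | @tail B C _ h ih =>
        rw [ih] at h
        have hc : X ⊔ C ≤ centralizer (X : Set P) := sup_le
          (fun y hy => mem_centralizer_iff.2 fun x hx => commute_of_mem hX hx hy)
          (fun y hy => mem_centralizer_iff.2 fun x hx => h.2.2.2.2 x hx y hy)
        have hle : Nat.card ↥(X ⊔ C : Subgroup P) ≤ p ^ 2 := by
          have hq := mt (not_rankLE_iff hP).2 (not_not.2 hX2)
          push Not at hq
          have hlt := hq (X ⊔ C) hc (elementary_sup hX h.2.2.1 h.2.2.2.2)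
          obtain ⟨j, hj⟩ := IsPGroup.iff_card.1 (hP.to_subgroup (X ⊔ C))
          rw [hj] at hlt ⊢
          exact Nat.pow_le_pow_right hp.out.pos
            (Nat.lt_succ_iff.1 ((Nat.pow_lt_pow_iff_right hp.out.one_lt).1 hlt))
        have e1 : X = X ⊔ C := eq_of_le_of_card_ge le_sup_left (hle.trans hXc)
        have e2 : C = X ⊔ C := eq_of_le_of_card_ge le_sup_right (hle.trans h.2.2.2.1)
        exact e2.trans e1.symm
    have hXU := hiso U hlink
    rw [← hXU] at hiso hX2
    obtain ⟨E, hE, hEc⟩ := exists_elementary_of_not_rankLE hP hrk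
    set E0 := E ⊓ centralizer (U : Set P) with hE0
    have hE0el : Cfsg.IsElementaryAbelian p E0 :=
      ⟨⟨⟨fun a b => Subtype.ext (commute_of_mem hE a.2.1 b.2.1)⟩⟩, fun a ha => hE.2 a ha.1⟩
    have hlinkE : Link p U E0 := ⟨hU, hUc.ge, hE0el, hbig E hEc,
      fun a ha b hb => mem_centralizer_iff.1 hb.2 a ha⟩
    have hEU : E0 = U := hiso E0 (Relation.ReflTransGen.single hlinkE)
    have hUE : U ≤ E := hEU.ge.trans inf_le_left
    exact (not_rankLE_iff hP).2 ⟨E, fun y hy => mem_centralizer_iff.2 fun x hx =>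
      commute_of_mem hE (hUE hx) hy, hE, hEc⟩ hX2
  · intro h
    obtain ⟨E, hEC, hE, hEc⟩ := (not_rankLE_iff hP).1 h
    set E0 := E ⊓ centralizer (U : Set P) with hE0
    have hE0el : Cfsg.IsElementaryAbelian p E0 :=
      ⟨⟨⟨fun a b => Subtype.ext (commute_of_mem hE a.2.1 b.2.1)⟩⟩, fun a ha => hE.2 a ha.1⟩
    have hE2 : p ^ 2 ≤ Nat.card ↥E := (Nat.pow_le_pow_right hp.out.pos (Nat.le_succ 2)).trans hEc
    refine Relation.ReflTransGen.head ⟨hX, hXc, hE, hE2, fun a ha b hb => mem_centralizer_iff.1 (hEC hb) a ha⟩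
      (Relation.ReflTransGen.head ⟨hE, hE2, hE0el, hbig E hEc, fun a ha b hb => commute_of_mem hE ha hb.1⟩
        (Relation.ReflTransGen.single ⟨hE0el, hbig E hEc, hU, hUc.ge,
          fun a ha b hb => (mem_centralizer_iff.1 ha.2 b hb).symm⟩))

end Cfsg.Lib.Sig.RankThree
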