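import Cfsg.Agent.Lib.Fusion.Alperin

/-!
# Alperin's fusion theorem with factors of `p`-power order
-/

set_option autoImplicit false

namespace Cfsg.Lib.Sig

open Subgroup Cfsg.Lib.Fusion

variable {G : Type*} [Group G] {p : ℕ}

/-- A link all of whose steps lie in `N(P)` or are `p`-elements. -/
def PLinked (P : Sylow p G) (D : Subgroup G) (g : G) : Prop :=
  ∃ l : List (Sylow p G × G), Chain P l D ∧ chainProd l = g ∧
    ∀ b ∈ l, (b.1 : Subgroup G) = (P : Subgroup G) ∨ ∃ k : ℕ, orderOf b.2 = p ^ k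

theorem PLinked.mono {P : Sylow p G} {D E : Subgroup G} {g : G} (hg : PLinked P E g) (hle : D ≤ E) :
    PLinked P D g := by
  obtain ⟨l, h1, h2, h3⟩ := hg
  exact ⟨l, h1.mono hle, h2, h3⟩

theorem PLinked.one (P : Sylow p G) (D : Subgroup G) : PLinked P D 1 :=
  ⟨[], trivial, rfl, by simp⟩

theorem PLinked.mul {P : Sylow p G} {D : Subgroup G} {g h : G}
    (hg : PLinked P D g) (hh : PLinked P (conjR g D) h) : PLinked P D (g * h) := by
  obtain ⟨l, h1, rfl, h2⟩ := hg
  obtain ⟨l', h3, rfl, h4⟩ := hh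
  refine ⟨l ++ l', h1.append h3, by simp [chainProd], fun b hb => ?_⟩
  rcases List.mem_append.mp hb with hb | hb
  exacts [h2 b hb, h4 b hb]

theorem PLinked.step {P Q : Sylow p G} {D : Subgroup G} {x : G} (h1 : IsTame P Q)
    (h2 : x ∈ normalizer (((P : Subgroup G) ⊓ (Q : Subgroup G) : Subgroup G) : Set G))
    (h3 : D ≤ (P : Subgroup G) ⊓ (Q : Subgroup G))
    (h4 : (Q : Subgroup G) = (P : Subgroup G) ∨ ∃ k : ℕ, orderOf x = p ^ k) : PLinked P D x :=
  ⟨[(Q, x)], ⟨h1, h2, h3, trivial⟩, by simp [chainProd], by simpa using h4⟩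

theorem exists_pow_orderOf [Finite G] [Fact p.Prime] {U : Subgroup G} (hU : IsPGroup p U) {x : G}
    (hx : x ∈ U) : ∃ k : ℕ, orderOf x = p ^ k := by
  obtain ⟨j, hj⟩ := hU ⟨x, hx⟩
  obtain ⟨i, -, hi⟩ := (Nat.dvd_prime_pow (Fact.out : p.Prime)).mp
    (orderOf_dvd_of_pow_eq_one (congrArg Subtype.val hj) : orderOf x ∣ p ^ j)
  exact ⟨i, hi⟩

theorem pLinked_step [Finite G] [Fact p.Prime] {P Q : Sylow p G} (ht : IsTame P Q) {x : G}
    (hx : x ∈ normalizer (((P : Subgroup G) ⊓ (Q : Subgroup G) : Subgroup G) : Set G))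
    (hbig : ∀ (D' : Subgroup G) (g' : G), Nat.card ↥((P : Subgroup G) ⊓ (Q : Subgroup G)) < Nat.card D' →
      D' ≤ (P : Subgroup G) → conjR g' D' ≤ (P : Subgroup G) → PLinked P D' g') :
    PLinked P ((P : Subgroup G) ⊓ (Q : Subgroup G)) x := by
  classical
  set E := (P : Subgroup G) ⊓ (Q : Subgroup G) with hE
  rcases eq_or_lt_of_le (inf_le_left : E ≤ (P : Subgroup G)) with hEP | hEP
  · have hQP : (Q : Subgroup G) = (P : Subgroup G) := by
      refine (eq_of_le_of_card_ge (inf_eq_left.mp hEP) ?_).symm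
      rw [Sylow.card_eq_multiplicity, Sylow.card_eq_multiplicity]
    exact PLinked.step ht hx le_rfl (Or.inl hQP)
  set N := normalizer (E : Set G) with hN
  set R := closure {u : G | u ∈ N ∧ ∃ k : ℕ, orderOf u = p ^ k} with hR
  set T := (P : Subgroup G) ⊓ N with hT
  have hRN : R ≤ N := (closure_le _).mpr fun u hu => hu.1
  have hRlink : ∀ r ∈ R, PLinked P E r := by
    intro r hr
    induction hr using closure_induction with
    | mem u hu => exact PLinked.step ht hu.1 le_rfl (Or.inr hu.2)
    | one => exact PLinked.one P E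
    | mul u v hu _ h1 h2 =>
      exact h1.mul (by rw [conjR_eq_of_mem_normalizer (hRN hu)]; exact h2)
    | inv u hu h1 =>
      have h2 : PLinked P E (u ^ (orderOf u - 1)) := by
        have : ∀ n : ℕ, PLinked P E (u ^ n) := by
          intro n
          induction n with
          | zero => simpa using PLinked.one P E
          | succ n ih =>
            rw [pow_succ]
            exact ih.mul (by rw [conjR_eq_of_mem_normalizer (N.pow_mem (hRN hu) n)]; exact h1)
        exact this _
      have e : u⁻¹ = u ^ (orderOf u - 1) := by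
        refine inv_eq_of_mul_eq_one_right ?_
        rw [← pow_succ', Nat.sub_add_cancel (orderOf_pos u), pow_orderOf_eq_one]
      rwa [e]
  have hTp : IsPGroup p T := P.2.to_inf_left
  have hnd : ¬ p ∣ (T.subgroupOf N).index := ht.1
  let TS : Sylow p N := (hTp.of_equiv (subgroupOfEquivOfLe inf_le_right).symm).toSylow hnd
  have hpR : ∀ S : Sylow p N, (S : Subgroup N) ≤ R.subgroupOf N := by
    intro S u hu
    refine subset_closure ⟨u.2, ?_⟩
    obtain ⟨k, hk⟩ := exists_pow_orderOf S.2 hu
    exact ⟨k, by rw [orderOf_injective N.subtype N.subtype_injective]; exact hk⟩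
  obtain ⟨r, hr⟩ := MulAction.exists_smul_eq (R.subgroupOf N) (TS.subtype (hpR TS))
    (((⟨x, hx⟩ : N) • TS).subtype (hpR _))
  rw [Sylow.smul_subtype] at hr
  have hr' : (r : N) • TS = (⟨x, hx⟩ : N) • TS := Sylow.subtype_injective hr
  have hy : ∀ t ∈ T, ((r : N) : G)⁻¹ * x * t * x⁻¹ * ((r : N) : G) ∈ T := by
    intro t ht'
    have h1 : (⟨x, hx⟩ : N) * ⟨t, ht'.2⟩ * (⟨x, hx⟩ : N)⁻¹ ∈ (((⟨x, hx⟩ : N) • TS : Sylow p N) : Subgroup N) := by
      rw [Sylow.coe_subgroup_smul]
      exact smul_mem_pointwise_smul _ _ _ (show (⟨t, ht'.2⟩ : N) ∈ T.subgroupOf N from ht')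
    rw [← hr', Sylow.coe_subgroup_smul] at h1
    obtain ⟨s, hs, hse⟩ := h1
    have h2 : ((r : N) : G) * (s : G) * ((r : N) : G)⁻¹ = x * t * x⁻¹ := congrArg Subtype.val hse
    have h3 : (s : G) = ((r : N) : G)⁻¹ * x * t * x⁻¹ * ((r : N) : G) := by
      calc (s : G) = ((r : N) : G)⁻¹ * (((r : N) : G) * (s : G) * ((r : N) : G)⁻¹) * ((r : N) : G) := by group
        _ = _ := by rw [h2]; group
    rw [← h3]
    exact hs
  set y := ((r : N) : G)⁻¹ * x with hy'
  have hyT : y ∈ normalizer (T : Set G) := by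
    refine le_normalizer_of_conj_mem fun t ht' => ?_
    have := hy t ht'
    simpa [hy', mul_assoc] using this
  have hlt : Nat.card E < Nat.card T := card_lt_card_of_lt (lt_inf_normalizer P.2 hEP)
  have hylink : PLinked P E y :=
    (hbig T y hlt inf_le_left (by rw [conjR_eq_of_mem_normalizer hyT]; exact inf_le_left)).mono
      (le_inf inf_le_left le_normalizer)
  have h := (hRlink _ r.2).mul (h := y)
    (by rw [conjR_eq_of_mem_normalizer (hRN r.2)]; exact hylink)
  simpa [hy'] using h

/-- Alperin's fusion theorem with `p`-power factors. -/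
theorem alperin_pFactors [Finite G] [Fact p.Prime] (P : Sylow p G) (D : Subgroup G) (g : G)
    (hD : D ≤ (P : Subgroup G)) (hDg : conjR g D ≤ (P : Subgroup G)) : PLinked P D g := by
  classical
  induction hn : Nat.card G - Nat.card D using Nat.strong_induction_on generalizing D g with
  | _ m ih =>
  subst hn
  obtain ⟨l, hl, rfl⟩ := alperin P D g hD hDg
  have main : ∀ (l : List (Sylow p G × G)) (E : Subgroup G), Nat.card D = Nat.card E → Chain P l E →
      PLinked P E (chainProd l) := by
    intro l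
    induction l with
    | nil => exact fun E _ _ => PLinked.one P E
    | cons b l ih' =>
      intro E hE hc
      obtain ⟨h1, h2, h3, h4⟩ := hc
      have hs : PLinked P E b.2 := by
        refine (pLinked_step h1 h2 fun D' g' hlt hle hle' => ih _ ?_ D' g' hle hle' rfl).mono h3
        have h5 := card_le_card_group D'
        have h6 := card_le_of_le h3
        omega
      have h7 : chainProd (b :: l) = b.2 * chainProd l := by simp [chainProd]
      rw [h7]
      exact hs.mul (ih' _ (hE.trans (card_conjR b.2 E).symm) h4)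
  exact main l D rfl hl

theorem chain_prefix {P : Sylow p G} {l : List (Sylow p G × G)} {D : Subgroup G} (hl : Chain P l D) :
    ∀ i : Fin l.length, IsTame P (l.get i).1 ∧
      (l.get i).2 ∈ normalizer (((P : Subgroup G) ⊓ ((l.get i).1 : Subgroup G) : Subgroup G) : Set G) ∧
      conjR ((l.map Prod.snd).take i.val).prod D ≤ (P : Subgroup G) ⊓ ((l.get i).1 : Subgroup G) := by
  induction l generalizing D with
  | nil => exact fun i => i.elim0
  | cons b l ih =>
    obtain ⟨h1, h2, h3, h4⟩ := hl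
    intro i
    refine Fin.cases ?_ (fun j => ?_) i
    · exact ⟨h1, h2, by simpa [conjR_one] using h3⟩
    · obtain ⟨g1, g2, g3⟩ := ih h4 j
      refine ⟨g1, g2, ?_⟩
      simpa [conjR_conjR] using g3

end Cfsg.Lib.Sig
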