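import Cfsg.Prelude.Def_Balance
import Cfsg.Agent.Lib.Sig.BBalance
import Cfsg.Agent.Lib.Sig.PComponent
import Cfsg.Agent.Lib.QuasiCentral
import Cfsg.Agent.Lib.Coprime.Action
import Cfsg.Agent.Lib.Core.Layer

/-!
2-components of the centralizer of an involution in a group with the B-property.
-/

set_option autoImplicit false
set_option linter.style.haveILetI false

namespace Cfsg.Lib.Sig.BPropertyComponent

open Subgroup
open scoped commutatorElement

variable {X : Type*} [Group X] [Finite X]

theorem hasBProperty_congr {Y : Type*} [Group Y] [Finite Y] (e : X ≃* Y) (h : Cfsg.HasBProperty X) :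
    Cfsg.HasBProperty Y := by
  intro t ht
  haveI : Fact (Nat.Prime 2) := ⟨Nat.prime_two⟩
  set s := e.symm t with hs
  have hso : orderOf s = 2 := by rw [hs, ← ht]; exact MulEquiv.orderOf_eq e.symm t
  have hC : (centralizer ({s} : Set X)).map e.toMonoidHom = centralizer ({t} : Set Y) := by
    ext y
    rw [mem_map_equiv, mem_centralizer_singleton_iff, mem_centralizer_singleton_iff, hs,
      ← map_mul, ← map_mul, e.symm.injective.eq_iff]
  let eC : ↥(centralizer ({s} : Set X)) ≃* ↥(centralizer ({t} : Set Y)) :=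
    ((centralizer ({s} : Set X)).equivMapOfInjective e.toMonoidHom e.injective).trans
      (MulEquiv.subgroupCongr hC)
  have h1 := map_mono (f := e.toMonoidHom) (h s hso)
  have hcomp : e.toMonoidHom.comp (centralizer ({s} : Set X)).subtype =
      (centralizer ({t} : Set Y)).subtype.comp eC.toMonoidHom := MonoidHom.ext fun _ => rfl
  have hL : (Cfsg.pLayer 2 ↥(centralizer ({s} : Set X))).map eC.toMonoidHom =
      Cfsg.pLayer 2 ↥(centralizer ({t} : Set Y)) := by
    refine le_antisymm (map_le_iff_le_comap.2 (sSup_le fun K hK => map_le_iff_le_comap.1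
      (le_sSup (BBalance.isPComponent_map_equiv eC hK)))) (sSup_le fun K hK => ?_)
    intro k hk
    exact mem_map_equiv.2 ((le_sSup (BBalance.isPComponent_map_equiv eC.symm hK) :
      K.map eC.symm.toMonoidHom ≤ _) (mem_map_of_mem eC.symm.toMonoidHom hk))
  rw [map_map, hcomp, ← map_map, map_commutator, hL,
    show (Cfsg.oddCore ↥(centralizer ({s} : Set X))).map eC.toMonoidHom =
      Cfsg.oddCore ↥(centralizer ({t} : Set Y)) from Cfsg.Lib.Core.map_pPrimeCore_equiv eC,
    show (Cfsg.oddCore X).map e.toMonoidHom = Cfsg.oddCore Y from Cfsg.Lib.Core.map_pPrimeCore_equiv e]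
    at h1
  exact h1

theorem pLayer_normal : (Cfsg.pLayer 2 X).Normal := by
  haveI : Fact (Nat.Prime 2) := ⟨Nat.prime_two⟩
  refine ⟨fun x hx g => ?_⟩
  have h : (Cfsg.pLayer 2 X).map (MulAut.conj g).toMonoidHom ≤ Cfsg.pLayer 2 X :=
    map_le_iff_le_comap.2 (sSup_le fun K hK => map_le_iff_le_comap.1
      (le_sSup (BBalance.isPComponent_map_equiv (MulAut.conj g) hK)))
  exact h (mem_map_of_mem (MulAut.conj g).toMonoidHom hx)

variable (hB : Cfsg.HasBProperty X) {t : X} (ht : orderOf t = 2)
include hB ht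

/-- The image of a 2-component modulo the core is centralized by the image of the local core. -/
theorem commutator_map_core {K : Subgroup ↥(centralizer ({t} : Set X))}
    (hK : Cfsg.IsPComponent 2 K) :
    ⁅K.map ((QuotientGroup.mk' (Cfsg.oddCore X)).comp (centralizer ({t} : Set X)).subtype),
      (Cfsg.oddCore ↥(centralizer ({t} : Set X))).map
        ((QuotientGroup.mk' (Cfsg.oddCore X)).comp (centralizer ({t} : Set X)).subtype)⁆ = ⊥ := by
  rw [← map_commutator, ← map_map, Subgroup.map_eq_bot_iff, QuotientGroup.ker_mk']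
  exact (map_mono (commutator_mono (le_sSup hK) le_rfl)).trans (hB t ht)

theorem map_ne_bot {K : Subgroup ↥(centralizer ({t} : Set X))} (hK : Cfsg.IsPComponent 2 K) :
    K.map ((QuotientGroup.mk' (Cfsg.oddCore X)).comp (centralizer ({t} : Set X)).subtype) ≠ ⊥ := by
  haveI : Fact (Nat.Prime 2) := ⟨Nat.prime_two⟩
  intro h
  rw [← map_map, Subgroup.map_eq_bot_iff, QuotientGroup.ker_mk'] at h
  have h2 := dvd_card_pComponent hK
  rw [← card_map_of_injective (f := (centralizer ({t} : Set X)).subtype) (subtype_injective _)] at h2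
  exact absurd (h2.trans (card_dvd_of_le h))
    (Nat.prime_two.coprime_iff_not_dvd.1 (Cfsg.Lib.Core.pPrimeCore_coprime 2 X).symm)

theorem exists_lift {z : X}
    (hz : (z : X ⧸ Cfsg.oddCore X) * (t : X ⧸ Cfsg.oddCore X) = (t : X ⧸ Cfsg.oddCore X) * z) :
    ∃ c ∈ centralizer ({t} : Set X), (c : X ⧸ Cfsg.oddCore X) = z := by
  set O := Cfsg.oddCore X with hO
  have hcard : Nat.card ↥(zpowers t) = 2 := by rw [Nat.card_zpowers, ht]
  have hcop : (Nat.card ↥(zpowers t)).Coprime (Nat.card ↥O) := by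
    rw [hcard]; exact (Cfsg.Lib.Core.pPrimeCore_coprime 2 X).symm
  have hB' : (zpowers t).map (MulAut.conj z).toMonoidHom ≤ O ⊔ zpowers t := by
    rw [MonoidHom.map_zpowers, zpowers_le]
    show z * t * z⁻¹ ∈ O ⊔ zpowers t
    rw [show z * t * z⁻¹ = z * t * z⁻¹ * t⁻¹ * t by group]
    refine mul_mem (mem_sup_left ((QuotientGroup.eq_one_iff _).1 ?_)) (mem_sup_right (mem_zpowers t))
    simp only [QuotientGroup.mk_mul, QuotientGroup.mk_inv]
    rw [hz, mul_inv_cancel_right, mul_inv_cancel]
  obtain ⟨n, hn, he⟩ := Cfsg.Lib.Coprime.exists_conj_of_coprime O (zpowers t)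
    ((zpowers t).map (MulAut.conj z).toMonoidHom) le_normalizer_of_normal hcop
    (Or.inl inferInstance) hB' (Cfsg.Lib.Coprime.card_map_conj _ _)
  refine ⟨n⁻¹ * z, ?_, ?_⟩
  · obtain ⟨b, hb, hbe⟩ := he.le (mem_map_of_mem (MulAut.conj z).toMonoidHom (mem_zpowers t))
    have hbe' : n * b * n⁻¹ = z * t * z⁻¹ := hbe
    obtain ⟨k, rfl⟩ := hb
    have hord : orderOf (t ^ k) = 2 := by
      have := congrArg orderOf (show MulAut.conj n (t ^ k) = MulAut.conj z t from hbe)
      rwa [MulEquiv.orderOf_eq, MulEquiv.orderOf_eq, ht] at this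
    have htk : t ^ k = t := by
      rcases Int.even_or_odd' k with ⟨j, rfl | rfl⟩
      · rw [zpow_mul, show (2 : ℤ) = ((2 : ℕ) : ℤ) from rfl, zpow_natCast,
          show t ^ 2 = 1 from orderOf_dvd_iff_pow_eq_one.1 (dvd_of_eq ht), one_zpow, orderOf_one] at hord
        omega
      · rw [zpow_add, zpow_mul, show (2 : ℤ) = ((2 : ℕ) : ℤ) from rfl, zpow_natCast,
          show t ^ 2 = 1 from orderOf_dvd_iff_pow_eq_one.1 (dvd_of_eq ht), one_zpow, one_mul, zpow_one]
    simp only [htk] at hbe'
    rw [mem_centralizer_singleton_iff]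
    calc n⁻¹ * z * t = n⁻¹ * (z * t * z⁻¹) * z := by group
      _ = n⁻¹ * (n * t * n⁻¹) * z := by rw [hbe']
      _ = t * (n⁻¹ * z) := by group
  · rw [QuotientGroup.mk_mul, QuotientGroup.mk_inv, (QuotientGroup.eq_one_iff n).2 hn, inv_one, one_mul]

/-- A 2-component of the centralizer maps onto a component of the centralizer modulo the core. -/
theorem isComponent_image {K : Subgroup ↥(centralizer ({t} : Set X))}
    (hK : Cfsg.IsPComponent 2 K) :
    Cfsg.IsComponent
      ((K.map ((QuotientGroup.mk' (Cfsg.oddCore X)).comp (centralizer ({t} : Set X)).subtype)).subgroupOf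
        (centralizer ({QuotientGroup.mk' (Cfsg.oddCore X) t} : Set (X ⧸ Cfsg.oddCore X)))) := by
  haveI : Fact (Nat.Prime 2) := ⟨Nat.prime_two⟩
  set f := (QuotientGroup.mk' (Cfsg.oddCore X)).comp (centralizer ({t} : Set X)).subtype with hf
  set CQ := centralizer ({QuotientGroup.mk' (Cfsg.oddCore X) t} : Set (X ⧸ Cfsg.oddCore X)) with hCQ
  let φ : ↥(centralizer ({t} : Set X)) →* ↥CQ := f.codRestrict CQ fun w =>
    mem_centralizer_singleton_iff.2 (by
      show ((w : X) : X ⧸ Cfsg.oddCore X) * (t : X ⧸ Cfsg.oddCore X) = (t : X ⧸ Cfsg.oddCore X) * (w : X)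
      rw [← QuotientGroup.mk_mul, ← QuotientGroup.mk_mul, mem_centralizer_singleton_iff.1 w.2])
  have hφ : Function.Surjective φ := fun y => by
    obtain ⟨z, hz⟩ := QuotientGroup.mk_surjective (y : X ⧸ Cfsg.oddCore X)
    obtain ⟨c, hc, hce⟩ := exists_lift hB ht (z := z)
      (by rw [hz]; exact mem_centralizer_singleton_iff.1 y.2)
    exact ⟨⟨c, hc⟩, Subtype.ext (hce.trans hz)⟩
  have hmap : (K.map φ).map CQ.subtype = K.map f := by rw [map_map]; rfl
  have heq : (K.map f).subgroupOf CQ = K.map φ := by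
    rw [← hmap, subgroupOf, comap_map_eq_self_of_injective (subtype_injective _)]
  rw [heq]
  refine ⟨hK.1.map hφ, ?_⟩
  set M := K.map φ with hM
  have hne : M ≠ ⊥ := fun h => map_ne_bot hB ht hK (by rw [← hmap, h, Subgroup.map_bot])
  have hperf : ⁅M, M⁆ = M := by rw [hM, ← map_commutator, pComponent_perfect hK]
  refine Cfsg.Lib.Core.quasisimple_of_central (QuotientGroup.mk'_surjective (Cfsg.pPrimeCore 2 ↥M))
    (Subgroup.isPerfect_iff.2 hperf) ?_ (BBalance.quotient_qs_of_map φ hK hne)
  rw [QuotientGroup.ker_mk']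
  have hsn : M.IsSubnormal := hK.1.map hφ
  have hcore : (Cfsg.pPrimeCore 2 ↥CQ) ≤ (Cfsg.oddCore ↥(centralizer ({t} : Set X))).map φ := by
    have hker : (Nat.card ↥φ.ker).Coprime 2 := by
      refine Nat.Coprime.coprime_dvd_left ?_ (Cfsg.Lib.Core.pPrimeCore_coprime 2 X)
      rw [← card_map_of_injective (f := (centralizer ({t} : Set X)).subtype) (subtype_injective _)]
      refine card_dvd_of_le ?_
      rintro _ ⟨w, hw, rfl⟩
      exact (QuotientGroup.eq_one_iff _).1 (congrArg Subtype.val (MonoidHom.mem_ker.1 hw))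
    intro y hy
    obtain ⟨w, rfl⟩ := hφ y
    refine mem_map_of_mem φ ?_
    refine Cfsg.Lib.Core.le_pPrimeCore' (N := (Cfsg.pPrimeCore 2 ↥CQ).comap φ) inferInstance ?_ hy
    rw [Cfsg.Lib.Core.card_comap_eq φ hφ]
    exact Nat.Coprime.mul_left hker (Cfsg.Lib.Core.pPrimeCore_coprime 2 _)
  have h0 : ⁅M, (Cfsg.oddCore ↥(centralizer ({t} : Set X))).map φ⁆ = ⊥ := by
    apply map_injective (f := CQ.subtype) (subtype_injective _)
    rw [map_commutator, Subgroup.map_bot, hmap, map_map]
    exact commutator_map_core hB ht hK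
  intro z hz
  rw [mem_center_iff]
  intro m
  refine Subtype.ext ?_
  have hzc : (z : ↥CQ) ∈ (Cfsg.oddCore ↥(centralizer ({t} : Set X))).map φ :=
    hcore (Cfsg.Lib.Core.pPrimeCore_map_le_of_isSubnormal hsn (mem_map_of_mem M.subtype hz))
  exact Cfsg.Lib.Core.commutator_eq_bot_iff_forall.1 h0 m m.2 z hzc

/-- Odd-order subgroups invariant under a 2-component are centralized modulo the core. -/
theorem commutator_le_core {K : Subgroup ↥(centralizer ({t} : Set X))}
    (hK : Cfsg.IsPComponent 2 K) {E : Subgroup ↥(centralizer ({t} : Set X))}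
    (hodd : Odd (Nat.card ↥E)) (hinv : K ≤ normalizer (E : Set ↥(centralizer ({t} : Set X)))) :
    ⁅K.map (centralizer ({t} : Set X)).subtype, E.map (centralizer ({t} : Set X)).subtype⁆ ≤
      Cfsg.oddCore X := by
  haveI : Fact (Nat.Prime 2) := ⟨Nat.prime_two⟩
  set g := QuotientGroup.mk' (Cfsg.oddCore ↥(centralizer ({t} : Set X))) with hg
  have hL : Cfsg.IsComponent (K.map g) := hK.2.1
  have h1 : ⁅K, E⁆ ≤ Cfsg.oddCore ↥(centralizer ({t} : Set X)) := by
    set A := K.map g
    set H := E.map g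
    have hAH : A ≤ normalizer (H : Set (↥(centralizer ({t} : Set X)) ⧸ Cfsg.oddCore ↥(centralizer ({t} : Set X)))) :=
      (map_mono hinv).trans (le_normalizer_map g)
    have hn : (H.subgroupOf (A ⊔ H)).Normal :=
      (normal_subgroupOf_iff_le_normalizer le_sup_right).2 (sup_le hAH le_normalizer)
    have h0 : ⁅A, H⁆ = ⊥ := by
      rcases Cfsg.Lib.Core.component_le_or_commute (Cfsg.Lib.Core.IsComponent.subgroupOf hL le_sup_left)
        hn.isSubnormal with h | h
      · have hAle : A ≤ H := by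
          have := map_mono (f := (A ⊔ H).subtype) h
          rwa [map_subgroupOf_eq_of_le le_sup_left, map_subgroupOf_eq_of_le le_sup_right] at this
        have h2 : 2 ∣ Nat.card ↥H :=
          (dvd_card_component Cfsg.Lib.Core.pPrimeCore_quotient_eq_bot hL).trans (card_dvd_of_le hAle)
        exact absurd (h2.trans (card_map_dvd E g)) (Nat.two_dvd_ne_zero.2 (Nat.odd_iff.1 hodd))
      · have := congrArg (Subgroup.map (A ⊔ H).subtype) h
        rwa [map_commutator, map_subgroupOf_eq_of_le le_sup_left, map_subgroupOf_eq_of_le le_sup_right,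
          Subgroup.map_bot] at this
    rw [← map_commutator, Subgroup.map_eq_bot_iff, hg, QuotientGroup.ker_mk'] at h0
    exact h0
  set f := (QuotientGroup.mk' (Cfsg.oddCore X)).comp (centralizer ({t} : Set X)).subtype with hf
  have hperf : ⁅K.map f, K.map f⁆ = K.map f := by rw [← map_commutator, pComponent_perfect hK]
  have h2 : ⁅E.map f, K.map f⁆ = ⊥ := by
    refine Cfsg.Lib.Core.commutator_eq_bot_of_perfect hperf (le_bot_iff.1 ?_)
    have hle : ⁅E.map f, K.map f⁆ ≤ (Cfsg.oddCore ↥(centralizer ({t} : Set X))).map f := by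
      rw [← map_commutator, commutator_comm]; exact map_mono h1
    exact (commutator_mono hle le_rfl).trans
      (le_of_eq ((commutator_comm _ _).trans (commutator_map_core hB ht hK)))
  rw [← map_commutator, ← QuotientGroup.ker_mk' (Cfsg.oddCore X), ← Subgroup.map_eq_bot_iff, map_map,
    map_commutator, commutator_comm]
  exact h2

end Cfsg.Lib.Sig.BPropertyComponent
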