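import Cfsg.Agent.Lib.Sig.Transitivity
import Cfsg.Agent.Lib.Coprime.Generation
import Cfsg.Agent.Lib.Core.Cores
import Cfsg.Prelude.Def_Local

/-!
# The k-balanced functor is a signalizer functor when its values are solvable
-/

set_option autoImplicit false

namespace Cfsg.Lib.Sig.BalancedFunctor

open Subgroup Cfsg.Lib
open scoped commutatorElement

variable {G : Type*} [Group G] [Finite G] {p k : ℕ} [hp : Fact p.Prime] {A : Subgroup G}

/-- Balance of `A` restricted to the subgroups of order `p ^ k`. -/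
def Bal (p k : ℕ) (A : Subgroup G) : Prop :=
  ∀ D : Subgroup G, D ≤ A → Nat.card ↥D = p ^ k → ∀ c ∈ A, c ≠ 1 →
    Cfsg.signalizerDelta p D ⊓ centralizer {c} ≤ Cfsg.centralizerPPrimeCore p c

omit [Finite G] hp in
theorem commute_of_mem (hA : Cfsg.IsElementaryAbelian p A) {b c : G} (hb : b ∈ A) (hc : c ∈ A) :
    b * c = c * b := by
  have := hA.1
  exact congrArg Subtype.val (mul_comm' (⟨b, hb⟩ : A) ⟨c, hc⟩)

omit [Finite G] hp in
theorem le_normalizer_core (hA : Cfsg.IsElementaryAbelian p A) {c : G} (hc : c ∈ A) :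
    A ≤ normalizer (Cfsg.centralizerPPrimeCore p c : Set G) := by
  rw [Core.le_normalizer_iff_conj_mem]
  rintro b hb _ ⟨r, hr, rfl⟩
  exact ⟨_, (inferInstance : (Cfsg.pPrimeCore p _).Normal).conj_mem r hr
    ⟨b, mem_centralizer_singleton_iff.2 (commute_of_mem hA hb hc)⟩, rfl⟩

omit [Finite G] hp in
theorem le_normalizer_delta (hA : Cfsg.IsElementaryAbelian p A) {D : Subgroup G} (hD : D ≤ A) :
    A ≤ normalizer (Cfsg.signalizerDelta p D : Set G) := by
  rw [Core.le_normalizer_iff_conj_mem]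
  intro b hb x hx
  simp only [Cfsg.signalizerDelta, mem_iInf] at hx ⊢
  exact fun a => (mem_normalizer_iff.1 (le_normalizer_core hA (hD a.2.1) hb) x).1 (hx a)

omit [Finite G] hp in
theorem le_normalizer_inf {X Y : Subgroup G} (hX : A ≤ normalizer (X : Set G))
    (hY : A ≤ normalizer (Y : Set G)) : A ≤ normalizer ((X ⊓ Y : Subgroup G) : Set G) :=
  (le_inf hX hY).trans inf_normalizer_le_normalizer_inf

omit [Finite G] hp in
theorem le_normalizer_centralizer (hA : Cfsg.IsElementaryAbelian p A) {D : Subgroup G} (hD : D ≤ A) :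
    A ≤ normalizer (centralizer (D : Set G) : Set G) := fun _ hb =>
  le_normalizer (mem_centralizer_iff.2 fun _ hd => (commute_of_mem hA hb (hD hd)).symm)

omit [Finite G] hp in
theorem le_normalizer_centralizer_singleton (hA : Cfsg.IsElementaryAbelian p A) {a : G} (ha : a ∈ A) :
    A ≤ normalizer (centralizer ({a} : Set G) : Set G) := fun _ hb =>
  le_normalizer (mem_centralizer_singleton_iff.2 (commute_of_mem hA hb ha))

omit [Finite G] hp in
theorem delta_anti {D B : Subgroup G} (h : D ≤ B) :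
    Cfsg.signalizerDelta p B ≤ Cfsg.signalizerDelta p D :=
  le_iInf fun d => iInf_le (fun b : {b : G // b ∈ B ∧ b ≠ 1} => Cfsg.centralizerPPrimeCore p (b : G))
    ⟨d, h d.2.1, d.2.2⟩

omit [Finite G] hp in
/-- A point of `Δ(D)` fixed by `B` lies in `Δ(B)`. -/
theorem Bal.ext (hb : Bal p k A) {D B : Subgroup G} (hD : D ≤ A) (hDc : Nat.card ↥D = p ^ k)
    (hB : B ≤ A) : Cfsg.signalizerDelta p D ⊓ centralizer (B : Set G) ≤ Cfsg.signalizerDelta p B :=
  le_iInf fun c => (inf_le_inf_left _ (centralizer_le (Set.singleton_subset_iff.2 c.2.1))).trans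
    (hb D hD hDc c (hB c.2.1) c.2.2)

/-- `U B`: the part of `C(a) ∩ C(B)` lying in `Δ(B)`. -/
def U (p : ℕ) (a : G) (B : Subgroup G) : Subgroup G :=
  Cfsg.signalizerDelta p B ⊓ centralizer {a} ⊓ centralizer (B : Set G)

theorem exists_pow_le {M : Subgroup G} (hA : Cfsg.IsElementaryAbelian p A) (hMA : M ≤ A)
    (hM : p ^ k ≤ Nat.card ↥M) : ∃ D : Subgroup G, D ≤ M ∧ Nat.card ↥D = p ^ k := by
  have hMp : IsPGroup p ↥M := fun x => ⟨1, Subtype.ext (by simpa using hA.2 x (hMA x.2))⟩
  obtain ⟨j, hj⟩ := IsPGroup.iff_card.1 hMp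
  obtain ⟨K, hK⟩ := Sylow.exists_subgroup_card_pow_prime (G := M) p (n := k)
    (hj ▸ pow_dvd_pow p ((Nat.pow_le_pow_iff_right hp.out.one_lt).1 (hj ▸ hM)))
  exact ⟨K.map M.subtype, map_subtype_le K, by rw [Core.card_map_subtype, hK]⟩

omit hp in
theorem card_mul_le {B B' : Subgroup G} (hB : B ≤ A) (hB' : B' ≤ A) :
    Nat.card ↥B * Nat.card ↥B' ≤ Nat.card ↥A * Nat.card ↥(B ⊓ B' : Subgroup G) := by
  have h1 := Core.card_mul_relIndex (inf_le_left : B ⊓ B' ≤ B)
  have h2 := Core.card_mul_relIndex hB'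
  rw [inf_relIndex_left] at h1
  have h3 : B'.relIndex B ≤ B'.relIndex A :=
    relIndex_le_of_le_right hB fun h0 => by rw [h0, mul_zero] at h2; exact Nat.card_pos.ne h2
  calc Nat.card ↥B * Nat.card ↥B' = Nat.card ↥(B ⊓ B' : Subgroup G) * B'.relIndex B * Nat.card ↥B' := by rw [h1]
    _ ≤ Nat.card ↥(B ⊓ B' : Subgroup G) * B'.relIndex A * Nat.card ↥B' :=
      Nat.mul_le_mul_right _ (Nat.mul_le_mul_left _ h3)
    _ = Nat.card ↥A * Nat.card ↥(B ⊓ B' : Subgroup G) := by rw [← h2]; ring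

theorem exists_common {B B' : Subgroup G} (hA : Cfsg.IsElementaryAbelian p A)
    (hAk : p ^ (k + 2) ≤ Nat.card ↥A) (hB : B ∈ Coprime.cocyclic A) (hB' : B' ∈ Coprime.cocyclic A) :
    ∃ D : Subgroup G, D ≤ B ∧ D ≤ B' ∧ Nat.card ↥D = p ^ k := by
  have h1 := card_le_mul_of_cocyclic hA hB
  have h2 := card_le_mul_of_cocyclic hA hB'
  have h3 := card_mul_le hB.1 hB'.1
  have h4 : p ^ k ≤ Nat.card ↥(B ⊓ B' : Subgroup G) := by
    have h5 : Nat.card ↥A * Nat.card ↥A ≤ Nat.card ↥A * (p ^ 2 * Nat.card ↥(B ⊓ B' : Subgroup G)) := by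
      calc Nat.card ↥A * Nat.card ↥A ≤ (p * Nat.card ↥B) * (p * Nat.card ↥B') := Nat.mul_le_mul h1 h2
        _ = p ^ 2 * (Nat.card ↥B * Nat.card ↥B') := by ring
        _ ≤ p ^ 2 * (Nat.card ↥A * Nat.card ↥(B ⊓ B' : Subgroup G)) := Nat.mul_le_mul_left _ h3
        _ = _ := by ring
    have h6 := hAk.trans (Nat.le_of_mul_le_mul_left h5 Nat.card_pos)
    rw [pow_add, mul_comm] at h6
    exact Nat.le_of_mul_le_mul_left h6 (pow_pos hp.out.pos 2)
  obtain ⟨D, hD, hDc⟩ := exists_pow_le hA ((inf_le_left : B ⊓ B' ≤ B).trans hB.1) h4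
  exact ⟨D, hD.trans inf_le_left, hD.trans inf_le_right, hDc⟩

/-- A solvable group generated by its parts in the `U B` has all its fixed points there. -/
theorem fixed_le (hA : Cfsg.IsElementaryAbelian p A) (hAk : p ^ (k + 2) ≤ Nat.card ↥A) (hb : Bal p k A)
    {a : G} (ha : a ∈ A) : ∀ N : Subgroup G, Group.IsSolvable ↥N →
      (Nat.card ↥A).Coprime (Nat.card ↥N) → A ≤ normalizer (N : Set G) → N ≤ centralizer {a} →
      N ≤ ⨆ B : {B : Subgroup G // B ∈ Coprime.cocyclic A}, N ⊓ U p a B →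
      ∀ B ∈ Coprime.cocyclic A, N ⊓ centralizer (B : Set G) ≤ Cfsg.signalizerDelta p B := by
  intro N
  induction N using WellFoundedLT.induction with
  | ind N ih =>
    intro hsol hcop hAN hNa hgen B hB
    by_cases hbot : N = ⊥
    · rw [hbot, bot_inf_eq]; exact bot_le
    haveI := hA.1
    have hsolA : Group.IsSolvable ↥A := Group.isSolvable_of_comm fun a b => mul_comm' a b
    set N' := ⁅N, N⁆ with hN'
    have hlt : N' < N := by
      refine lt_of_le_of_ne (commutator_le_self N) fun he => ?_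
      have h1 : Group.IsPerfect ↥N := Subgroup.isPerfect_iff.2 he
      haveI : Nontrivial ↥N := (nontrivial_iff_ne_bot N).2 hbot
      haveI := hsol
      exact Group.IsPerfect.not_isSolvable ↥N inferInstance
    have hNN' : N ≤ normalizer (N' : Set G) := normalizer_commutator_ge_right N N |>.trans' le_rfl
    have hAN' : A ≤ normalizer (N' : Set G) := by
      rw [Core.le_normalizer_iff_conj_mem]
      intro b hb x hx
      have h := mem_map_of_mem (MulAut.conj b).toMonoidHom hx
      rw [hN', map_commutator, Core.map_conj_eq_of_mem_normalizer (hAN hb)] at h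
      exact h
    set V := ⨆ B : {B : Subgroup G // B ∈ Coprime.cocyclic A}, N' ⊓ U p a B with hV
    have hVN' : V ≤ N' := iSup_le fun _ => inf_le_left
    have hT : ∀ D : Subgroup G, D ≤ A → Nat.card ↥D = p ^ k →
        N' ⊓ Cfsg.signalizerDelta p D ⊓ centralizer (D : Set G) ≤ V := by
      intro D hD hDc
      set T := N' ⊓ Cfsg.signalizerDelta p D ⊓ centralizer (D : Set G) with hTd
      refine (Coprime.le_iSup_centralizer_cocyclic T (le_normalizer_inf (le_normalizer_inf hAN'
        (le_normalizer_delta hA hD)) (le_normalizer_centralizer hA hD))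
        (Coprime.coprime_of_le ((inf_le_left.trans inf_le_left).trans hlt.le) hcop)).trans
        (iSup₂_le fun B'' hB'' => le_trans ?_ (le_iSup (fun B : {B : Subgroup G // B ∈ Coprime.cocyclic A} =>
          N' ⊓ U p a B) ⟨B'', hB''⟩))
      refine le_inf (inf_le_left.trans (inf_le_left.trans inf_le_left)) (le_inf (le_inf ?_ ?_) inf_le_right)
      · exact (inf_le_inf_right _ (inf_le_left.trans inf_le_right)).trans (hb.ext hD hDc hB''.1)
      · exact inf_le_left.trans (inf_le_left.trans (inf_le_left.trans (hlt.le.trans hNa)))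
    have hcomm : ∀ B₁ ∈ Coprime.cocyclic A, ∀ B₂ ∈ Coprime.cocyclic A, ∀ x ∈ N ⊓ U p a B₁,
        ∀ y ∈ N ⊓ U p a B₂, ⁅x, y⁆ ∈ V := by
      intro B₁ hB₁ B₂ hB₂ x hx y hy
      obtain ⟨D, hD₁, hD₂, hDc⟩ := exists_common hA hAk hB₁ hB₂
      refine hT D (hD₁.trans hB₁.1) hDc ⟨⟨commutator_mem_commutator hx.1 hy.1, ?_⟩, ?_⟩
      · have h1 := delta_anti (p := p) hD₁ hx.2.1.1
        have h2 := delta_anti (p := p) hD₂ hy.2.1.1
        exact Subgroup.mul_mem _ (Subgroup.mul_mem _ (Subgroup.mul_mem _ h1 h2) (Subgroup.inv_mem _ h1)) (Subgroup.inv_mem _ h2)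
      · have h1 := centralizer_le (SetLike.coe_subset_coe.2 hD₁) hx.2.2
        have h2 := centralizer_le (SetLike.coe_subset_coe.2 hD₂) hy.2.2
        exact Subgroup.mul_mem _ (Subgroup.mul_mem _ (Subgroup.mul_mem _ h1 h2) (Subgroup.inv_mem _ h1)) (Subgroup.inv_mem _ h2)
    have hNV : N ≤ normalizer (V : Set G) := by
      refine hgen.trans (iSup_le fun B₂ => ?_)
      rw [Core.le_normalizer_iff_conj_mem]
      intro y hy v hv
      have hmap : V.map (MulAut.conj y).toMonoidHom ≤ V := by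
        rw [hV, Subgroup.map_iSup]
        refine iSup_le fun B₁ => ?_
        rintro _ ⟨x, hx, rfl⟩
        have h1 : x ∈ V := mem_iSup_of_mem B₁ hx
        have h2 := hcomm B₂ B₂.2 B₁ B₁.2 y hy x ⟨hlt.le hx.1, hx.2⟩
        have h3 := mul_mem h2 h1
        rw [commutatorElement_def, inv_mul_cancel_right] at h3
        exact h3
      exact hmap (mem_map_of_mem _ hv)
    -- `N' = V`
    have hN'V : N' ≤ V := by
      set M := normalizer (V : Set G) with hM
      set f := QuotientGroup.mk' (V.subgroupOf M) with hf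
      have hc : ∀ x ∈ N, ∀ y ∈ N, ⁅x, y⁆ ∈ V := by
        have hcl : ∀ x (hx : x ∈ N), ∀ y (hy : y ∈ N), f ⟨x, hNV hx⟩ * f ⟨y, hNV hy⟩ = f ⟨y, hNV hy⟩ * f ⟨x, hNV hx⟩ := by
          set N₁ := N.subgroupOf M with hN₁
          have h1 : N₁ ≤ ⨆ B : {B : Subgroup G // B ∈ Coprime.cocyclic A}, (N ⊓ U p a B).subgroupOf M := by
            intro z hz
            have h2 : (z : G) ∈ (⨆ B : {B : Subgroup G // B ∈ Coprime.cocyclic A}, (N ⊓ U p a B).subgroupOf M).map M.subtype := by
              rw [Subgroup.map_iSup]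
              refine le_trans hgen (iSup_mono fun B => ?_) hz
              rw [map_subgroupOf_eq_of_le (inf_le_left.trans hNV)]
            obtain ⟨w, hw, hwz⟩ := h2
            exact (Subtype.ext hwz : w = z) ▸ hw
          have h3 : N₁.map f ≤ centralizer (N₁.map f : Set (↥M ⧸ V.subgroupOf M)) := by
            refine le_trans (map_mono h1) ?_
            rw [Subgroup.map_iSup]
            refine iSup_le fun B₁ => le_centralizer_iff.1 (le_trans (map_mono h1) ?_)
            rw [Subgroup.map_iSup]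
            refine iSup_le fun B₂ => ?_
            rintro _ ⟨y, hy, rfl⟩
            refine mem_centralizer_iff.2 ?_
            rintro _ ⟨x, hx, rfl⟩
            have h4 : ⁅x, y⁆ ∈ V.subgroupOf M := mem_subgroupOf.2 (hcomm B₁ B₁.2 B₂ B₂.2 _ (mem_subgroupOf.1 hx) _ (mem_subgroupOf.1 hy))
            rw [← commutatorElement_eq_one_iff_mul_comm, ← map_commutatorElement]
            exact (QuotientGroup.eq_one_iff _).2 h4
          intro x hx y hy
          exact (mem_centralizer_iff.1 (h3 ⟨⟨y, hNV hy⟩, mem_subgroupOf.2 hy, rfl⟩) _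
            ⟨⟨x, hNV hx⟩, mem_subgroupOf.2 hx, rfl⟩)
        intro x hx y hy
        have h1 := commutatorElement_eq_one_iff_mul_comm.2 (hcl x hx y hy)
        rw [← map_commutatorElement] at h1
        exact mem_subgroupOf.1 ((QuotientGroup.eq_one_iff _).1 h1)
      exact commutator_le.2 hc
    have hfix' := ih N' hlt (Coprime.isSolvable_of_le hlt.le hsol) (Coprime.coprime_of_le hlt.le hcop) hAN'
      (hlt.le.trans hNa) hN'V B hB
    -- `N = [N,B] (N ∩ U B)`
    have hBN : B ≤ normalizer (N : Set G) := hB.1.trans hAN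
    have hcopB : (Nat.card ↥B).Coprime (Nat.card ↥N) := hcop.coprime_dvd_left (card_dvd_of_le hB.1)
    have hsplit : N ≤ ⁅N, B⁆ ⊔ (N ⊓ U p a B) := by
      refine hgen.trans (iSup_le fun B₂ x hx => ?_)
      obtain ⟨D, hD₁, hD₂, hDc⟩ := exists_common hA hAk hB B₂.2
      set Y := N ⊓ U p a B₂
      have hAY : A ≤ normalizer (Y : Set G) := le_normalizer_inf hAN (le_normalizer_inf (le_normalizer_inf
        (le_normalizer_delta hA B₂.2.1) (le_normalizer_centralizer_singleton hA ha))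
        (le_normalizer_centralizer hA B₂.2.1))
      obtain ⟨n, hn, c, hc, rfl⟩ := Coprime.le_commutator_sup_centralizer (A := B) (G := Y)
        (hB.1.trans hAY) (Coprime.coprime_of_le inf_le_left hcopB)
        (Or.inl (Coprime.isSolvable_of_le hB.1 hsolA)) hx
      refine mul_mem (mem_sup_left (commutator_mono inf_le_left le_rfl hn)) (mem_sup_right ?_)
      exact ⟨hc.1.1, ⟨hb.ext (hD₁.trans hB.1) hDc hB.1 ⟨delta_anti hD₂ hc.1.2.1.1, hc.2⟩, hc.1.2.1.2⟩, hc.2⟩
    rintro x ⟨hxN, hxB⟩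
    obtain ⟨u, hu, r, hr, rfl⟩ := (Core.mem_sup_of_le_normalizer (A := N ⊓ U p a B) (B := ⁅N, B⁆)
      (inf_le_left.trans (normalizer_commutator_ge_left N B))).1 (sup_comm ⁅N, B⁆ _ ▸ hsplit hxN)
    have hrN : r ∈ N := Coprime.commutator_le_of_le_normalizer hBN hr
    have hrB : r ∈ centralizer (B : Set G) := by
      have h := Subgroup.mul_mem _ (Subgroup.inv_mem _ hu.2.2) hxB
      rwa [inv_mul_cancel_left] at h
    have hrN' : r ∈ N' := by
      set M := normalizer (N' : Set G) with hM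
      have hBM : B ≤ M := hB.1.trans hAN'
      set f := QuotientGroup.mk' (N'.subgroupOf M) with hf
      set N₁ := (N.subgroupOf M).map f with hN₁
      set B₁ := (B.subgroupOf M).map f with hB₁
      haveI : IsMulCommutative ↥N₁ := by
        refine ⟨⟨?_⟩⟩
        rintro ⟨_, x, hx, rfl⟩ ⟨_, y, hy, rfl⟩
        refine Subtype.ext ?_
        show f x * f y = f y * f x
        rw [← commutatorElement_eq_one_iff_mul_comm, ← map_commutatorElement]
        exact (QuotientGroup.eq_one_iff _).2 (mem_subgroupOf.2 (commutator_mem_commutator hx hy))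
      have hBn : B₁ ≤ normalizer (N₁ : Set (↥M ⧸ N'.subgroupOf M)) := by
        refine le_trans (map_mono fun z hz => ?_) (le_normalizer_map f)
        exact mem_normalizer_iff.2 fun y => mem_normalizer_iff.1 (hBN hz) (y : G)
      have hcop₁ : (Nat.card ↥B₁).Coprime (Nat.card ↥N₁) := by
        refine Nat.Coprime.coprime_dvd_right ?_ (Nat.Coprime.coprime_dvd_left ?_ hcopB)
        · exact (Core.card_map_dvd f _).trans (Nat.card_congr (subgroupOfEquivOfLe hNN').toEquiv).dvd
        · exact (Core.card_map_dvd f _).trans (Nat.card_congr (subgroupOfEquivOfLe hBM).toEquiv).dvd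
      have h1 : f ⟨r, hNN' hrN⟩ ∈ ⁅N₁, B₁⁆ := by
        rw [hN₁, hB₁, ← map_commutator]
        refine mem_map_of_mem f ?_
        have h2 : ⁅N.subgroupOf M, B.subgroupOf M⁆.map M.subtype = ⁅N, B⁆ := by
          rw [map_commutator, map_subgroupOf_eq_of_le hNN', map_subgroupOf_eq_of_le hBM]
        obtain ⟨w, hw, hwr⟩ := h2.ge hr
        exact (Subtype.ext hwr : w = ⟨r, hNN' hrN⟩) ▸ hw
      have h2 : f ⟨r, hNN' hrN⟩ ∈ centralizer (B₁ : Set (↥M ⧸ N'.subgroupOf M)) := by
        refine mem_centralizer_iff.2 ?_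
        rintro _ ⟨b, hb', rfl⟩
        rw [← map_mul, ← map_mul]
        exact congrArg f (Subtype.ext (mem_centralizer_iff.1 hrB b hb'))
      exact mem_subgroupOf.1 ((QuotientGroup.eq_one_iff _).1
        (disjoint_def.1 (Coprime.disjoint_commutator_centralizer hBn hcop₁) h1 h2))
    exact Subgroup.mul_mem _ hu.2.1.1 (hfix' ⟨hrN', hrB⟩)

omit hp in
theorem coprime_of_le_core (hp' : p.Prime) (hA : Cfsg.IsElementaryAbelian p A) {X : Subgroup G} {a : G}
    (hX : X ≤ Cfsg.centralizerPPrimeCore p a) : (Nat.card ↥A).Coprime (Nat.card ↥X) := by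
  haveI := Fact.mk hp'
  obtain ⟨n, hn⟩ := (IsPGroup.iff_card (p := p)).1
    (fun x : ↥A => ⟨1, Subtype.ext (by simpa using hA.2 x x.2)⟩)
  rw [hn]
  refine (Nat.Coprime.symm ?_).pow_left n
  refine Nat.Coprime.coprime_dvd_left (card_dvd_of_le hX) ?_
  rw [Cfsg.centralizerPPrimeCore, Core.card_map_subtype]
  exact Core.pPrimeCore_coprime p _

/-- The k-balanced functor (over the subgroups of order `p ^ k`) with solvable values. -/
theorem isSignalizerFunctor (hk : 1 ≤ k) (hA : Cfsg.IsElementaryAbelian p A)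
    (hAk : p ^ (k + 2) ≤ Nat.card ↥A) (hb : Bal p k A)
    (hsolv : ∀ a ∈ A, a ≠ 1 → Group.IsSolvable ↥(Cfsg.centralizerPPrimeCore p a)) :
    Cfsg.IsSignalizerFunctor p A (fun a => ⨆ D : {D : Subgroup G // D ≤ A ∧ Nat.card ↥D = p ^ k},
      Cfsg.signalizerDelta p (D : Subgroup G) ⊓ centralizer {a}) := by
  set θ := fun a : G => ⨆ D : {D : Subgroup G // D ≤ A ∧ Nat.card ↥D = p ^ k},
      Cfsg.signalizerDelta p (D : Subgroup G) ⊓ centralizer {a} with hθ
  have hle : ∀ a ∈ A, a ≠ 1 → θ a ≤ Cfsg.centralizerPPrimeCore p a := fun a ha ha1 =>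
    iSup_le fun D => hb D D.2.1 D.2.2 a ha ha1
  have hC : ∀ a : G, θ a ≤ centralizer {a} := fun a => iSup_le fun _ => inf_le_right
  have hAθ : ∀ a ∈ A, A ≤ normalizer (θ a : Set G) := fun a ha =>
    (le_iInf fun D : {D : Subgroup G // D ≤ A ∧ Nat.card ↥D = p ^ k} =>
      le_normalizer_inf (le_normalizer_delta hA D.2.1) (le_normalizer_centralizer_singleton hA ha)).trans
      (iInf_normalizer_le_normalizer_iSup _)
  haveI := hA.1
  have hgen : ∀ a ∈ A, a ≠ 1 → θ a ≤ ⨆ B : {B : Subgroup G // B ∈ Coprime.cocyclic A}, θ a ⊓ U p a B := by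
    intro a ha ha1
    refine iSup_le fun D => ?_
    set Y := Cfsg.signalizerDelta p (D : Subgroup G) ⊓ centralizer {a}
    refine (Coprime.le_iSup_centralizer_cocyclic Y
      (le_normalizer_inf (le_normalizer_delta hA D.2.1) (le_normalizer_centralizer_singleton hA ha))
      (coprime_of_le_core hp.out hA (hb D D.2.1 D.2.2 a ha ha1))).trans (iSup₂_le fun B hB => le_trans ?_
        (le_iSup (fun B : {B : Subgroup G // B ∈ Coprime.cocyclic A} => θ a ⊓ U p a B) ⟨B, hB⟩))
    refine le_inf (inf_le_left.trans (le_iSup (fun D : {D : Subgroup G // D ≤ A ∧ Nat.card ↥D = p ^ k} =>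
      Cfsg.signalizerDelta p (D : Subgroup G) ⊓ centralizer {a}) D)) (le_inf (le_inf ?_ ?_) inf_le_right)
    · exact (inf_le_inf_right _ inf_le_left).trans (hb.ext D.2.1 D.2.2 hB.1)
    · exact inf_le_left.trans inf_le_right
  refine ⟨fun a _ _ => hC a, fun a ha ha1 => ?_, fun a ha _ b hb' x hx =>
    (mem_normalizer_iff.1 (hAθ a ha hb') x).1 hx, fun a ha ha1 b hb' hb1 => ?_⟩
  · have h := coprime_of_le_core hp.out hA (hle a ha ha1)
    intro hd
    have h1 : p ∣ Nat.card ↥A := by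
      obtain ⟨n, hn⟩ := (IsPGroup.iff_card (p := p)).1
        (fun x : ↥A => ⟨1, Subtype.ext (by simpa using hA.2 x x.2)⟩)
      rw [hn] at hAk ⊢
      exact dvd_pow_self p (by have := (Nat.pow_le_pow_iff_right hp.out.one_lt).1 hAk; omega)
    exact hp.out.ne_one (Nat.eq_one_of_dvd_coprimes h h1 hd)
  · have hfix := fixed_le hA hAk hb ha (θ a) (Coprime.isSolvable_of_le (hle a ha ha1) (hsolv a ha ha1))
      (coprime_of_le_core hp.out hA (hle a ha ha1)) (hAθ a ha) (hC a) (hgen a ha ha1)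
    set T := θ a ⊓ centralizer {b}
    refine (Coprime.le_iSup_centralizer_cocyclic T
      (le_normalizer_inf (hAθ a ha) (le_normalizer_centralizer_singleton hA hb'))
      (coprime_of_le_core hp.out hA (inf_le_left.trans (hle a ha ha1)))).trans (iSup₂_le fun B hB => ?_)
    obtain ⟨D, hD, -, hDc⟩ := exists_common hA hAk hB hB
    refine le_trans (le_inf ?_ (inf_le_left.trans inf_le_right)) (le_iSup (fun D : {D : Subgroup G // D ≤ A ∧ Nat.card ↥D = p ^ k} =>
      Cfsg.signalizerDelta p (D : Subgroup G) ⊓ centralizer {b}) ⟨D, hD.trans hB.1, hDc⟩)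
    exact (inf_le_inf_right _ inf_le_left).trans ((hfix B hB).trans (delta_anti hD))

end Cfsg.Lib.Sig.BalancedFunctor
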