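import Cfsg.Agent.Lib.Sig.ConjFamily

/-!
Local-to-global control of fusion and transfer by a conjugacy functor together with a central
functor.
-/

set_option autoImplicit false

namespace Cfsg.Lib.Sig

open Subgroup

variable {G : Type*} [Group G] {p : ℕ}

/-- A p-element of `N` centralizing a Sylow p-subgroup of `N` lies in it. -/
theorem mem_of_centralizes_sylow [Finite G] [Fact p.Prime] {N Q : Subgroup G} (hQN : Q ≤ N)
    (hQ : IsPGroup p ↥Q) (hidx : ¬ p ∣ Q.relIndex N) {y : G} (hyN : y ∈ N)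
    (hy : IsPGroup p ↥(zpowers y)) (hyc : y ∈ centralizer (Q : Set G)) : y ∈ Q := by
  have hnorm : zpowers y ≤ normalizer (Q : Set G) := zpowers_le.2 (mem_normalizer_iff.2 fun z => by
    refine ⟨fun hz => ?_, fun hz => ?_⟩
    · rw [← mem_centralizer_iff.1 hyc z hz, mul_inv_cancel_right]; exact hz
    · have h := mem_centralizer_iff.1 hyc _ hz
      have h' : y * z * y⁻¹ = z := by
        have h2 : y * z = y * (y * z * y⁻¹) := by rw [← h]; group
        exact (mul_left_cancel h2).symm
      rwa [h'] at hz)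
  have hR : IsPGroup p ↥(zpowers y ⊔ Q) := hy.to_sup_of_normal_right' hQ hnorm
  obtain ⟨c, hc, hcle⟩ := exists_conj_le_of_relIndex hQN hQ hidx
    (sup_le (zpowers_le.2 hyN) hQN) hR
  have heq : Q = zpowers y ⊔ Q := eq_of_le_of_card_ge le_sup_right (by
    rw [← card_map_conj _ c]; exact card_le_of_le hcle)
  rw [heq]
  exact mem_sup_left (mem_zpowers y)

/-- `V` contains every p-element centralizing `N_S(V)`. -/
def CentIn (p : ℕ) (S V : Subgroup G) : Prop :=
  ∀ y : G, IsPGroup p ↥(zpowers y) →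
    y ∈ centralizer ((S ⊓ normalizer (V : Set G) : Subgroup G) : Set G) → y ∈ V

theorem center_le_of_centIn {S V : Subgroup G} (hS : IsPGroup p ↥S) (h : CentIn p S V) :
    S ⊓ centralizer (S : Set G) ≤ V := fun y hy =>
  h y (hS.to_le (zpowers_le.2 hy.1)) (centralizer_le inf_le_left hy.2)

theorem centIn_map [Finite G] {S V V' : Subgroup G} {a : G} (hVV' : V.map (MulAut.conj a).toMonoidHom = V')
    (ha : (S ⊓ normalizer (V : Set G)).map (MulAut.conj a).toMonoidHom ≤ S ⊓ normalizer (V' : Set G))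
    (h : CentIn p S V) : CentIn p S V' := by
  intro y hy hyc
  have hmem : a⁻¹ * y * a ∈ V := by
    refine h _ ?_ (mem_centralizer_iff.2 fun z hz => ?_)
    · have : zpowers (a⁻¹ * y * a) = (zpowers y).map (MulAut.conj a⁻¹).toMonoidHom := by
        rw [MonoidHom.map_zpowers]; simp
      rw [this]
      exact hy.map _
    · have hc := mem_centralizer_iff.1 hyc _ (ha (conj_mem_map_conj hz))
      calc z * (a⁻¹ * y * a) = a⁻¹ * (a * z * a⁻¹ * y) * a := by group
        _ = a⁻¹ * (y * (a * z * a⁻¹)) * a := by rw [hc]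
        _ = a⁻¹ * y * a * z := by group
  rw [← hVV']
  exact mem_map_conj_iff.2 hmem

/-- For `U` with Sylow normalizer, not containing all p-elements centralizing `N_S(U)`, conjugation by
an element of `N(U)` agrees on `U` with conjugation by an element normalizing a larger subgroup. -/
theorem exists_larger_of_not_centIn [Finite G] [Fact p.Prime] (S : Sylow p G) {U : Subgroup G}
    (hU : U ≤ (S : Subgroup G))
    (hidx : ¬ p ∣ ((S : Subgroup G) ⊓ normalizer (U : Set G)).relIndex (normalizer (U : Set G)))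
    (h : ¬ CentIn p (S : Subgroup G) U) {m : G} (hm : m ∈ normalizer (U : Set G)) :
    ∃ U' : Subgroup G, U ≤ U' ∧ U' ≤ (S : Subgroup G) ∧ Nat.card ↥U < Nat.card ↥U' ∧
      ∃ m' : G, U'.map (MulAut.conj m').toMonoidHom ≤ (S : Subgroup G) ∧
        ∀ a ∈ U, m' * a * m'⁻¹ = m * a * m⁻¹ := by
  set N := normalizer (U : Set G) with hN
  set Q := (S : Subgroup G) ⊓ N with hQ
  set C := centralizer (U : Set G) with hC
  have hQp : IsPGroup p ↥Q := S.2.to_le inf_le_left
  have hUQ : U ≤ Q := le_inf hU le_normalizer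
  have hCN : C ≤ N := by
    intro c hc
    refine mem_normalizer_of_map_conj (le_antisymm ?_ ?_)
    · rintro _ ⟨z, hz, rfl⟩
      have hcz := mem_centralizer_iff.1 hc z hz
      show c * z * c⁻¹ ∈ U
      rw [← hcz, mul_inv_cancel_right]; exact hz
    · intro z hz
      rw [mem_map_conj_iff]
      have hcz := mem_centralizer_iff.1 hc z hz
      rw [mul_assoc, hcz, inv_mul_cancel_left]; exact hz
  have hconj : ∀ n ∈ N, ∀ c ∈ C, n * c * n⁻¹ ∈ C := by
    intro n hn c hc
    refine mem_centralizer_iff.2 fun u hu => ?_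
    have := mem_centralizer_iff.1 hc (n⁻¹ * u * n) ((mem_normalizer_iff''.1 hn u).1 hu)
    calc u * (n * c * n⁻¹) = n * ((n⁻¹ * u * n) * c) * n⁻¹ := by group
      _ = n * (c * (n⁻¹ * u * n)) * n⁻¹ := by rw [this]
      _ = n * c * n⁻¹ * u := by group
  -- `Q ⊓ C` is a Sylow subgroup of `C`
  have hsyl : ∀ R : Subgroup G, IsPGroup p ↥R → R ≤ C → Q ⊓ C ≤ R → R = Q ⊓ C := by
    intro R hR hRC hle
    obtain ⟨k, hk, hkle⟩ := exists_conj_le_of_relIndex (inf_le_right : Q ≤ N) hQp hidx
      (hRC.trans hCN) hR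
    refine (eq_of_le_of_card_ge hle ?_).symm
    rw [← card_map_conj R k]
    refine card_le_of_le (le_inf hkle ?_)
    rintro _ ⟨r, hr, rfl⟩
    exact hconj k hk r (hRC hr)
  obtain ⟨R, hR⟩ := ((hQp.to_le inf_le_left : IsPGroup p ↥(Q ⊓ C)).of_equiv
    (subgroupOfEquivOfLe (inf_le_right : Q ⊓ C ≤ C)).symm).exists_le_sylow
  have hRQ : (R : Subgroup ↥C).map C.subtype = Q ⊓ C :=
    hsyl _ (R.2.map _) (map_subtype_le _) (fun z hz => ⟨⟨z, hz.2⟩, hR (mem_subgroupOf.2 hz), rfl⟩)
  have hidxC : ¬ p ∣ (Q ⊓ C).relIndex C := by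
    rw [← hRQ, relIndex, subgroupOf, comap_map_eq_self_of_injective (subtype_injective _)]
    exact R.not_dvd_index
  have hQm : ((Q ⊓ C).map (MulAut.conj m).toMonoidHom) ≤ C := by
    rintro _ ⟨r, hr, rfl⟩
    exact hconj m hm r hr.2
  obtain ⟨c, hc, hcle⟩ := exists_conj_le_of_relIndex (inf_le_right : Q ⊓ C ≤ C)
    (hQp.to_le inf_le_left) hidxC hQm ((hQp.to_le inf_le_left).map _)
  rw [map_conj_map_conj] at hcle
  have hcm : ∀ a ∈ U, c * m * a * (c * m)⁻¹ = m * a * m⁻¹ := fun a ha => by
    have h1 := mem_centralizer_iff.1 hc (m * a * m⁻¹) ((mem_normalizer_iff.1 hm a).1 ha)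
    calc c * m * a * (c * m)⁻¹ = c * (m * a * m⁻¹) * c⁻¹ := by group
      _ = m * a * m⁻¹ := by rw [← h1, mul_inv_cancel_right]
  refine ⟨U ⊔ Q ⊓ C, le_sup_left, sup_le hU (inf_le_left.trans inf_le_left), ?_, c * m, ?_, hcm⟩
  · obtain ⟨y, hy⟩ := not_forall.1 h
    obtain ⟨hy1, hy2, hy3⟩ : IsPGroup p ↥(zpowers y) ∧ y ∈ centralizer (Q : Set G) ∧ y ∉ U := by
      push Not at hy; exact hy
    have hyC : y ∈ C := centralizer_le hUQ hy2
    have hyQ : y ∈ Q := mem_of_centralizes_sylow inf_le_right hQp hidx (hCN hyC) hy1 hy2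
    exact Fusion.card_lt_card_of_lt
      (SetLike.lt_iff_le_and_exists.2 ⟨le_sup_left, y, mem_sup_right ⟨hyQ, hyC⟩, hy3⟩)
  · rw [Subgroup.map_sup]
    refine sup_le ?_ (hcle.trans (inf_le_left.trans inf_le_left))
    rw [map_conj_eq_of_mem_normalizer (mul_mem (hCN hc) hm)]
    exact hU

theorem exists_conj_eq_of_relIndex [Finite G] [Fact p.Prime] {H P T : Subgroup G}
    (hPH : P ≤ H) (hP : IsPGroup p ↥P) (hidx : ¬ p ∣ P.relIndex H) (hTH : T ≤ H)
    (hT : IsPGroup p ↥T) (hTidx : ¬ p ∣ T.relIndex H) :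
    ∃ k ∈ H, T.map (MulAut.conj k).toMonoidHom = P := by
  obtain ⟨k, hk, hkle⟩ := exists_conj_le_of_relIndex hPH hP hidx hTH hT
  obtain ⟨k', hk', hk'le⟩ := exists_conj_le_of_relIndex hTH hT hTidx hPH hP
  refine ⟨k, hk, eq_of_le_of_card_ge hkle ?_⟩
  rw [card_map_conj, ← card_map_conj P k']
  exact card_le_of_le hk'le

theorem map_conj_centralizer (H : Subgroup G) (g : G) :
    (centralizer (H : Set G)).map (MulAut.conj g).toMonoidHom =
      centralizer ((H.map (MulAut.conj g).toMonoidHom : Subgroup G) : Set G) := by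
  ext x
  simp only [mem_map_conj_iff, mem_centralizer_iff, SetLike.mem_coe]
  constructor
  · intro h z hz
    have := h _ hz
    calc z * x = g * ((g⁻¹ * z * g) * (g⁻¹ * x * g)) * g⁻¹ := by group
      _ = g * ((g⁻¹ * x * g) * (g⁻¹ * z * g)) * g⁻¹ := by rw [this]
      _ = x * z := by group
  · intro h z hz
    have := h (g * z * g⁻¹) (by simpa [mul_assoc] using hz)
    calc z * (g⁻¹ * x * g) = g⁻¹ * ((g * z * g⁻¹) * x) * g := by group
      _ = g⁻¹ * (x * (g * z * g⁻¹)) * g := by rw [this]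
      _ = g⁻¹ * x * g * z := by group

theorem FusionReach.congr {gens S A : Set G} {g h : G} (hg : FusionReach gens S A g)
    (e : ∀ a ∈ A, g * a * g⁻¹ = h * a * h⁻¹) : FusionReach gens S A h :=
  ⟨hg.choose, hg.choose_spec.1, fun a ha => (hg.choose_spec.2 a ha).trans (e a ha)⟩

theorem FusionSteps.exists_list {gens S A : Set G} {g : G} (h : FusionSteps gens S A g)
    (hinv : ∀ x ∈ gens, x⁻¹ ∈ gens) :
    ∃ l : List G, (∀ x ∈ l, x ∈ gens) ∧ l.prod = g⁻¹ ∧
      ∀ k ≤ l.length, (fun a => ((l.take k).prod)⁻¹ * a * (l.take k).prod) '' A ⊆ S := by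
  induction h with
  | refl hA =>
    refine ⟨[], by simp, by simp, fun k _ => ?_⟩
    simpa using hA
  | @step g x _ hx hA ih =>
    obtain ⟨l, hl, hprod, hpre⟩ := ih
    refine ⟨l ++ [x⁻¹], ?_, by simp [hprod], fun k hk => ?_⟩
    · intro y hy
      rcases List.mem_append.1 hy with hy | hy
      · exact hl y hy
      · rw [List.mem_singleton.1 hy]; exact hinv x hx
    · rcases le_or_gt k l.length with hk' | hk'
      · rw [List.take_append_of_le_length hk']; exact hpre k hk'
      · rw [List.take_of_length_le (by simp; omega)]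
        simpa [hprod, mul_assoc] using hA

section pair

variable [Finite G] [Fact p.Prime] (S : Sylow p G) (W V : Subgroup G → Subgroup G)

/-- Subgroups of `S` whose normalizer in `S` is a Sylow subgroup of the full normalizer. -/
def sylowNormalized : Set (Subgroup G) :=
  {U | U ≤ (S : Subgroup G) ∧
    ¬ p ∣ ((S : Subgroup G) ⊓ normalizer (U : Set G)).relIndex (normalizer (U : Set G))}

theorem exists_conj_sylowNormalized {T : Subgroup G} (hT : T ≤ (S : Subgroup G)) :
    ∃ U ∈ sylowNormalized S, ∃ g : G, T.map (MulAut.conj g).toMonoidHom = U := by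
  obtain ⟨R, hR⟩ := (((S.2.to_le inf_le_left :
    IsPGroup p ↥((S : Subgroup G) ⊓ normalizer (T : Set G)))).of_equiv
    (subgroupOfEquivOfLe (inf_le_right :
      (S : Subgroup G) ⊓ normalizer (T : Set G) ≤ normalizer (T : Set G))).symm).exists_le_sylow
  set R' := (R : Subgroup ↥(normalizer (T : Set G))).map (normalizer (T : Set G)).subtype with hR'
  obtain ⟨x, hx⟩ := exists_conj_le_sylow S (R.2.map _ : IsPGroup p ↥R')
  have hTR : T ≤ R' := fun t ht =>
    ⟨⟨t, le_normalizer ht⟩, hR (mem_subgroupOf.2 ⟨hT ht, le_normalizer ht⟩), rfl⟩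
  refine ⟨_, ⟨(map_mono hTR).trans hx, fun hdvd => ?_⟩, x, rfl⟩
  rw [← map_conj_normalizer] at hdvd
  have h1 := hdvd.trans (relIndex_dvd_of_le_left _
    (le_inf hx (map_mono (map_subtype_le _)) :
      R'.map (MulAut.conj x).toMonoidHom ≤
        (S : Subgroup G) ⊓ (normalizer (T : Set G)).map (MulAut.conj x).toMonoidHom))
  rw [relIndex_map_map_of_injective _ _ (MulAut.conj x).injective, hR', relIndex, subgroupOf,
    comap_map_eq_self_of_injective (subtype_injective _)] at h1
  exact R.not_dvd_index h1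

variable (hW : Cfsg.IsConjugacyFunctor p W) (hV : Cfsg.IsConjugacyFunctor p V)
  (hWZ : ∀ H : Subgroup G, IsPGroup p ↥H → H ⊓ centralizer (H : Set G) ≤ W H)
  (hVmono : ∀ H K : Subgroup G, IsPGroup p ↥H → IsPGroup p ↥K → H ≠ ⊥ → K ≠ ⊥ →
    H ⊓ centralizer (H : Set G) ≤ K ⊓ centralizer (K : Set G) → V H ≤ V K)

include hVmono in
theorem centralizer_functor_le {U : Subgroup G} (hU : U ≤ (S : Subgroup G)) (hne : U ≠ ⊥)
    (hcent : CentIn p (S : Subgroup G) U) :
    centralizer (V ((S : Subgroup G) ⊓ normalizer (U : Set G)) : Set G) ≤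
      centralizer (V (S : Subgroup G) : Set G) := by
  refine centralizer_le (hVmono _ _ S.2 (S.2.to_le inf_le_left) ?_ ?_ ?_)
  · exact fun e => hne (le_bot_iff.1 (e ▸ hU))
  · exact fun e => hne (le_bot_iff.1 (e ▸ le_inf hU le_normalizer))
  · refine fun z hz => ⟨⟨hz.1, ?_⟩, centralizer_le inf_le_left hz.2⟩
    exact le_normalizer (center_le_of_centIn S.2 hcent hz)

include hW hWZ in
theorem centIn_functor {U : Subgroup G} (hU : U ∈ sylowNormalized S) :
    CentIn p (S : Subgroup G) (W ((S : Subgroup G) ⊓ normalizer (U : Set G))) := by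
  intro y hy hyc
  set Q := (S : Subgroup G) ⊓ normalizer (U : Set G)
  have hQ : IsPGroup p ↥Q := S.2.to_le inf_le_left
  have hQle : Q ≤ (S : Subgroup G) ⊓ normalizer (W Q : Set G) := le_inf inf_le_left fun z hz =>
    mem_normalizer_of_map_conj (by
      rw [← (hW Q hQ).2.2 z, map_conj_eq_of_mem_normalizer (le_normalizer hz)])
  have hyQ : y ∈ centralizer (Q : Set G) := centralizer_le hQle hyc
  refine hWZ Q hQ ⟨mem_of_centralizes_sylow inf_le_right hQ hU.2 ?_ hy hyQ, hyQ⟩
  refine mem_normalizer_iff.2 fun z => ?_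
  have hyU : ∀ u ∈ U, y * u * y⁻¹ = u := fun u hu => by
    rw [← mem_centralizer_iff.1 hyQ u ⟨hU.1 hu, le_normalizer hu⟩, mul_inv_cancel_right]
  refine ⟨fun hz => (hyU z hz).symm ▸ hz, fun hz => ?_⟩
  have h := hyU _ hz
  have : y * z * y⁻¹ = z := by
    have h' : y * (y * z * y⁻¹) = y * z := by
      calc y * (y * z * y⁻¹) = y * (y * z * y⁻¹) * y⁻¹ * y := by group
        _ = y * z := by rw [h]; group
    exact mul_left_cancel h'
  rwa [this] at hz

include hW hV hWZ hVmono in
theorem strongFusion_pair_local_to_global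
    (hloc : ∀ H : Subgroup G, (S : Subgroup G) ⊓ centralizer ((S : Subgroup G) : Set G) ≤ H →
      H ≤ (S : Subgroup G) → ∃ Q : Subgroup G, Q ≤ normalizer (H : Set G) ∧ IsPGroup p ↥Q ∧
        ¬ p ∣ Q.relIndex (normalizer (H : Set G)) ∧
        ∀ (X : Set G) (a : G), X ⊆ Q → a ∈ normalizer (H : Set G) →
          (fun x => a⁻¹ * x * a) '' X ⊆ Q →
          ∃ c ∈ normalizer (H : Set G) ⊓ centralizer X, ∃ (n : ℕ) (b : Fin n → G),
            (∀ i, b i ∈ normalizer (H : Set G) ⊓ normalizer (W Q : Set G) ∨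
              b i ∈ normalizer (H : Set G) ⊓ centralizer (V Q : Set G)) ∧
            a = c * (List.ofFn b).prod ∧ ∀ k : ℕ, k ≤ n →
              (fun x => (((List.ofFn b).take k).prod)⁻¹ * x * ((List.ofFn b).take k).prod) ''
                ((fun x => c⁻¹ * x * c) '' X) ⊆ Q)
    {A : Set G} {h : G} (hA : A ⊆ ((S : Subgroup G) : Set G))
    (hA' : (fun a => h * a * h⁻¹) '' A ⊆ ((S : Subgroup G) : Set G)) :
    FusionReach {x | x ∈ normalizer (W (S : Subgroup G) : Set G) ∨
      x ∈ centralizer (V (S : Subgroup G) : Set G)} ((S : Subgroup G) : Set G) A h := by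
  set gens : Set G := {x | x ∈ normalizer (W (S : Subgroup G) : Set G) ∨
      x ∈ centralizer (V (S : Subgroup G) : Set G)} with hgens
  set S' : Set G := ((S : Subgroup G) : Set G) with hS'
  let Rel : Set G → G → Prop := FusionReach gens S'
  let Loc : Subgroup G → Prop := fun U => CentIn p (S : Subgroup G) U → ∀ (B : Set G) (x : G),
    x ∈ normalizer (U : Set G) →
    B ⊆ (((S : Subgroup G) ⊓ normalizer (U : Set G) : Subgroup G) : Set G) →
      (fun a => x * a * x⁻¹) '' B ⊆ S' → FusionReach gens S' B x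
  have key : ∀ T : Subgroup G, T ≤ (S : Subgroup G) → ∀ g : G,
      T.map (MulAut.conj g).toMonoidHom ≤ (S : Subgroup G) → Rel (T : Set G) g := by
    refine rel_of_local S {W} (by rintro _ rfl; exact hW) (sylowNormalized S) (fun U hU => hU)
      (fun T hT => exists_conj_sylowNormalized S hT) Rel Loc
      FusionReach.mono FusionReach.comp (fun g => ?_) (fun U hUt hU hU' hIH m hm => ?_) ?_ ?_
    · refine ⟨1, .refl ?_, ?_⟩
      · intro a ha; rw [SetLike.mem_coe, mem_bot] at ha; subst ha; exact one_mem (S : Subgroup G)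
      · intro a ha; rw [SetLike.mem_coe, mem_bot] at ha; subst ha; simp
    · by_cases hc : CentIn p (S : Subgroup G) U
      · refine hU' hc _ m hm (fun a ha => ⟨hU ha, le_normalizer ha⟩) ?_
        rintro _ ⟨a, ha, rfl⟩
        exact hU ((mem_normalizer_iff.1 hm a).1 ha)
      · obtain ⟨U', hUU', hU'S, hlt, m', hm', e⟩ := exists_larger_of_not_centIn S hU hUt.2 hc hm
        exact ((hIH U' hU'S hlt m' hm').mono hUU').congr e
    · intro U U' a hU hUU' ha hr hr' hU' hc B x hx hB hBx
      have hx' : a * x * a⁻¹ ∈ normalizer (U' : Set G) := by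
        rw [← hUU', ← map_conj_normalizer]; exact conj_mem_map_conj hx
      have hxB : ∀ b ∈ B, x * b * x⁻¹ ∈ (S : Subgroup G) ⊓ normalizer (U : Set G) := fun b hb =>
        mem_inf.2 ⟨hBx ⟨b, hb, rfl⟩, mul_mem (mul_mem hx (mem_inf.1 (hB hb)).2) (inv_mem hx)⟩
      have r2 : FusionReach gens S' ((fun b => a * b * a⁻¹) '' B) (a * x * a⁻¹) := by
        refine hU' (centIn_map hUU' ha hc) _ _ hx' ?_ ?_
        · rintro _ ⟨b, hb, rfl⟩
          exact ha (conj_mem_map_conj (hB hb))
        · rintro _ ⟨_, ⟨b, hb, rfl⟩, rfl⟩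
          have := ha (conj_mem_map_conj (g := a) (hxB b hb))
          have e : a * (x * b * x⁻¹) * a⁻¹ = a * x * a⁻¹ * (a * b * a⁻¹) * (a * x * a⁻¹)⁻¹ := by
            group
          rw [e] at this
          exact (mem_inf.1 this).1
      have r3 := ((hr.mono hB).comp r2).comp (h := a⁻¹) (hr'.mono (by
          rintro _ ⟨b, hb, rfl⟩
          have := conj_mem_map_conj (g := a) (hxB b hb)
          have e : a * (x * b * x⁻¹) * a⁻¹ =
              a * x * a⁻¹ * a * b * (a * x * a⁻¹ * a)⁻¹ := by group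
          rw [e] at this
          exact this))
      simpa [mul_assoc] using r3
    · intro U hU hne hP hc B x hx hB hBx
      set P₀ := (S : Subgroup G) ⊓ normalizer (U : Set G)
      have hP₀ : IsPGroup p ↥P₀ := S.2.to_le inf_le_left
      obtain ⟨Q, hQN, hQ, hQidx, hQ'⟩ := hloc U (center_le_of_centIn S.2 hc) hU.1
      obtain ⟨k, hk, hkQ⟩ := exists_conj_eq_of_relIndex (P := P₀) inf_le_right hP₀ hU.2 hQN hQ hQidx
      have hmem : ∀ z, z ∈ P₀ ↔ k⁻¹ * z * k ∈ Q := fun z => by rw [← hkQ, mem_map_conj_iff]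
      obtain ⟨c, hcm, n, b, hb, hprod, hpre⟩ := hQ' ((fun z => k⁻¹ * z * k) '' B)
        (k⁻¹ * x⁻¹ * k)
        (by rintro _ ⟨z, hz, rfl⟩; exact (hmem z).1 (hB hz))
        (mul_mem (mul_mem (inv_mem hk) (inv_mem hx)) hk)
        (by
          rintro _ ⟨_, ⟨z, hz, rfl⟩, rfl⟩
          have := (hmem _).1 (mem_inf.2 ⟨hBx ⟨z, hz, rfl⟩,
            mul_mem (mul_mem hx (mem_inf.1 (hB hz)).2) (inv_mem hx)⟩ : x * z * x⁻¹ ∈ P₀)
          simpa [mul_assoc] using this)
      have hcX : ∀ z ∈ B, c⁻¹ * (k⁻¹ * z * k) * c = k⁻¹ * z * k := fun z hz => by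
        have := mem_centralizer_iff.1 (mem_inf.1 hcm).2 _ ⟨z, hz, rfl⟩
        rw [mul_assoc, this, inv_mul_cancel_left]
      set w : ℕ → G := fun j => k * (((List.ofFn b).take j).prod)⁻¹ * k⁻¹ with hw
      have hwB : ∀ j ≤ n, ∀ z ∈ B, w j * z * (w j)⁻¹ ∈ P₀ := by
        intro j hj z hz
        refine (hmem _).2 ?_
        have := hpre j hj ⟨_, ⟨_, ⟨z, hz, rfl⟩, rfl⟩, rfl⟩
        simp only [hcX z hz] at this
        simpa [hw, mul_assoc] using this
      have hall : ∀ j ≤ n, FusionReach gens S' B (w j) := by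
        intro j
        induction j with
        | zero =>
          intro _
          have h1 : w 0 = 1 := by simp [hw]
          rw [h1]
          exact ⟨1, .refl (fun z hz => (hB hz).1), fun _ _ => rfl⟩
        | succ j ih =>
          intro hj
          set y := k * (b ⟨j, by omega⟩)⁻¹ * k⁻¹ with hy
          have hstep : w (j + 1) = y * w j := by
            have hlt : j < (List.ofFn b).length := by simp; omega
            simp only [hw, hy, List.take_succ_eq_append_getElem hlt, List.prod_append,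
              List.prod_singleton, List.getElem_ofFn]
            group
          have hB' : (fun z => w j * z * (w j)⁻¹) '' B ⊆ P₀ := by
            rintro _ ⟨z, hz, rfl⟩; exact hwB j (by omega) z hz
          have hB'' : (fun z => y * z * y⁻¹) '' ((fun z => w j * z * (w j)⁻¹) '' B) ⊆ S' := by
            rintro _ ⟨_, ⟨z, hz, rfl⟩, rfl⟩
            have := hwB (j + 1) hj z hz
            rw [hstep] at this
            have e : y * (w j * z * (w j)⁻¹) * y⁻¹ = y * w j * z * (y * w j)⁻¹ := by group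
            show y * (w j * z * (w j)⁻¹) * y⁻¹ ∈ S'
            rw [e]
            exact (mem_inf.1 this).1
          have r : FusionReach gens S' ((fun z => w j * z * (w j)⁻¹) '' B) y := by
            rcases hb ⟨j, by omega⟩ with hbW | hbV
            · have hyW : y ∈ normalizer (W P₀ : Set G) := by
                rw [← hkQ, (hW Q hQ).2.2 k, ← map_conj_normalizer]
                exact conj_mem_map_conj (inv_mem (mem_inf.1 hbW).2)
              rcases hP with hP | hP
              · exact .of_gen (Or.inl (hP ▸ hyW)) (hB'.trans fun z hz => hz.1) hB''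
              · refine hP W rfl (centIn_functor S W hW hWZ hU) _ _ hyW
                  (hB'.trans fun z hz => ⟨hz.1, ?_⟩) hB''
                exact mem_normalizer_of_map_conj (by
                  rw [← (hW P₀ hP₀).2.2 z, map_conj_eq_of_mem_normalizer (le_normalizer hz)])
            · have hyV : y ∈ centralizer (V P₀ : Set G) := by
                rw [← hkQ, (hV Q hQ).2.2 k, ← map_conj_centralizer]
                exact conj_mem_map_conj (inv_mem (mem_inf.1 hbV).2)
              exact .of_gen (Or.inr (centralizer_functor_le S V hVmono hU.1 hne hc hyV))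
                (hB'.trans fun z hz => hz.1) hB''
          rw [hstep]
          exact (ih (by omega)).comp r
      refine (hall n le_rfl).congr fun z hz => ?_
      have hx' : x = k * ((List.ofFn b).prod)⁻¹ * c⁻¹ * k⁻¹ := by
        have : x = k * (k⁻¹ * x⁻¹ * k)⁻¹ * k⁻¹ := by group
        rw [this, hprod]; group
      simp only [hw, List.take_of_length_le (show (List.ofFn b).length ≤ n by simp), hx']
      calc _ = k * ((List.ofFn b).prod)⁻¹ * (k⁻¹ * z * k) * (List.ofFn b).prod * k⁻¹ := by group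
        _ = k * ((List.ofFn b).prod)⁻¹ * (c⁻¹ * (k⁻¹ * z * k) * c) * (List.ofFn b).prod * k⁻¹ := by
          rw [hcX z hz]
        _ = _ := by group
  refine (key (closure A) (closure_le _ |>.2 hA) h ?_).mono (subset_closure (k := A))
  rw [MonoidHom.map_closure, closure_le]
  rintro _ ⟨a, ha, rfl⟩
  exact hA' ⟨a, ha, by simp⟩

include hW hV hWZ hVmono in
theorem transfer_pair_local_to_global
    (hloc : ∀ H : Subgroup G, (S : Subgroup G) ⊓ centralizer ((S : Subgroup G) : Set G) ≤ H →
      H ≤ (S : Subgroup G) → ∃ Q : Subgroup G, Q ≤ normalizer (H : Set G) ∧ IsPGroup p ↥Q ∧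
        ¬ p ∣ Q.relIndex (normalizer (H : Set G)) ∧
        Q ⊓ ⁅normalizer (H : Set G), normalizer (H : Set G)⁆ ≤
          (Q ⊓ ⁅normalizer (H : Set G) ⊓ normalizer (W Q : Set G),
              normalizer (H : Set G) ⊓ normalizer (W Q : Set G)⁆) ⊔
          (Q ⊓ ⁅normalizer (H : Set G) ⊓ centralizer (V Q : Set G),
              normalizer (H : Set G) ⊓ centralizer (V Q : Set G)⁆)) :
    (S : Subgroup G) ⊓ commutator G ≤
      ((S : Subgroup G) ⊓ ⁅normalizer (W (S : Subgroup G) : Set G), normalizer (W (S : Subgroup G) : Set G)⁆) ⊔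
      ((S : Subgroup G) ⊓ ⁅centralizer (V (S : Subgroup G) : Set G), centralizer (V (S : Subgroup G) : Set G)⁆) := by
  set R : Subgroup G :=
    ((S : Subgroup G) ⊓ ⁅normalizer (W (S : Subgroup G) : Set G), normalizer (W (S : Subgroup G) : Set G)⁆) ⊔
    ((S : Subgroup G) ⊓ ⁅centralizer (V (S : Subgroup G) : Set G), centralizer (V (S : Subgroup G) : Set G)⁆)
    with hR
  let Rel : Set G → G → Prop := fun A g => ∀ a ∈ A, a⁻¹ * (g * a * g⁻¹) ∈ R
  let Loc : Subgroup G → Prop := fun U => CentIn p (S : Subgroup G) U →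
    (S : Subgroup G) ⊓ ⁅normalizer (U : Set G), normalizer (U : Set G)⁆ ≤ R
  have key : ∀ T : Subgroup G, T ≤ (S : Subgroup G) → ∀ g : G,
      T.map (MulAut.conj g).toMonoidHom ≤ (S : Subgroup G) → Rel (T : Set G) g := by
    refine rel_of_local S {W} (by rintro _ rfl; exact hW) (sylowNormalized S) (fun U hU => hU)
      (fun T hT => exists_conj_sylowNormalized S hT) Rel Loc
      (fun hAB hB a ha => hB a (hAB ha)) (fun {A g h} hg hh a ha => ?_) (fun g a ha => ?_)
      (fun U hUt hU hU' hIH m hm a ha => ?_) ?_ ?_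
    · have := mul_mem (hg a ha) (hh _ ⟨a, ha, rfl⟩)
      convert this using 1
      group
    · rw [SetLike.mem_coe, mem_bot] at ha; subst ha; simp
    · by_cases hc : CentIn p (S : Subgroup G) U
      · have hma : m * a * m⁻¹ ∈ U := (mem_normalizer_iff.1 hm a).1 ha
        refine hU' hc (mem_inf.2 ⟨mul_mem (inv_mem (hU ha)) (hU hma), ?_⟩)
        have := commutator_mem_commutator (H₁ := normalizer (U : Set G))
          (H₂ := normalizer (U : Set G)) (inv_mem (le_normalizer ha)) hm
        simpa [commutatorElement_def, mul_assoc] using this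
      · obtain ⟨U', hUU', hU'S, hlt, m', hm', e⟩ := exists_larger_of_not_centIn S hU hUt.2 hc hm
        exact e a ha ▸ hIH U' hU'S hlt m' hm' a (hUU' ha)
    · intro U U' a hU hUU' ha hr _ hU' hc t ht
      have htS : t ∈ (S : Subgroup G) ⊓ normalizer (U : Set G) :=
        ⟨ht.1, (commutator_le_self _) ht.2⟩
      have hat : a * t * a⁻¹ ∈ R := hU' (centIn_map hUU' ha hc)
        ⟨(ha (conj_mem_map_conj htS)).1, by
          rw [← hUU', ← map_conj_normalizer, ← map_commutator]
          exact conj_mem_map_conj ht.2⟩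
      have := mul_mem hat (inv_mem (hr t htS))
      simpa [mul_assoc] using this
    · intro U hU hne hP hc t ht
      set P₀ := (S : Subgroup G) ⊓ normalizer (U : Set G) with hP₀def
      have hP₀ : IsPGroup p ↥P₀ := S.2.to_le inf_le_left
      obtain ⟨Q, hQN, hQ, hQidx, hQ'⟩ := hloc U (center_le_of_centIn S.2 hc) hU.1
      obtain ⟨k, hk, hkQ⟩ := exists_conj_eq_of_relIndex (P := P₀) inf_le_right hP₀ hU.2 hQN hQ hQidx
      have hkN : (normalizer (U : Set G)).map (MulAut.conj k).toMonoidHom = normalizer (U : Set G) :=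
        map_conj_eq_of_mem_normalizer (le_normalizer hk)
      have e := map_mono (f := (MulAut.conj k).toMonoidHom) hQ'
      have hinf : ∀ H K : Subgroup G, (H ⊓ K).map (MulAut.conj k).toMonoidHom =
          H.map (MulAut.conj k).toMonoidHom ⊓ K.map (MulAut.conj k).toMonoidHom :=
        fun H K => map_inf H K _ (MulAut.conj k).injective
      simp only [Subgroup.map_sup, hinf, map_commutator, hkQ, hkN,
        map_conj_normalizer, map_conj_centralizer, ← (hW Q hQ).2.2 k, ← (hV Q hQ).2.2 k] at e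
      have ht' : t ∈ P₀ ⊓ ⁅normalizer (U : Set G), normalizer (U : Set G)⁆ :=
        ⟨⟨ht.1, (commutator_le_self _) ht.2⟩, ht.2⟩
      refine (sup_le ?_ ?_ : _ ≤ R) (e ht')
      · rcases hP with hP | hP
        · refine le_trans ?_ le_sup_left
          rw [hP]
          exact inf_le_inf_left _ (commutator_mono inf_le_right inf_le_right)
        · exact le_trans (inf_le_inf (hP₀def ▸ inf_le_left) (commutator_mono inf_le_right inf_le_right))
            (hP W rfl (centIn_functor S W hW hWZ hU))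
      · exact le_trans (inf_le_inf (hP₀def ▸ inf_le_left) (commutator_mono
          (inf_le_right.trans (centralizer_functor_le S V hVmono hU.1 hne hc))
          (inf_le_right.trans (centralizer_functor_le S V hVmono hU.1 hne hc)))) le_sup_right
  rw [inf_comm, commutator_inf_eq_focalSubgroup, focalSubgroup_def, closure_le]
  rintro g ⟨hg, x, hx, u, rfl⟩
  have hu : u * x⁻¹ * u⁻¹ ∈ (S : Subgroup G) := by
    have := mul_mem (inv_mem hx) hg
    simpa [commutatorElement_def, mul_assoc] using this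
  have := key (zpowers x⁻¹) (zpowers_le.2 (inv_mem hx)) u
    (by rw [MonoidHom.map_zpowers, zpowers_le]; simpa [mul_assoc] using hu) x⁻¹ (mem_zpowers _)
  simpa [commutatorElement_def, mul_assoc] using this

end pair

end Cfsg.Lib.Sig
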