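import Cfsg.Prelude.Def_ConjugacyFunctors
import Cfsg.Agent.Lib.Sig.Small
import Cfsg.Agent.Lib.Fusion.Alperin
import Mathlib.GroupTheory.Focal

/-!
Conjugation families and the passage from local to global control of fusion and transfer by sets
of conjugacy functors.
-/

set_option autoImplicit false

namespace Cfsg.Lib.Sig

open Subgroup

variable {G : Type*} [Group G]

/-! ### Chains of conjugations in normalizers of members of a family (right conjugation) -/

/-- A chain of conjugations (on the right) carrying out `A ↦ (prod)⁻¹ A prod`. -/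
inductive FamilyChain (𝓕 : Set (Subgroup G)) : Set G → List (Subgroup G × G) → Prop
  | nil (A : Set G) : FamilyChain 𝓕 A []
  | cons {A : Set G} {T : Subgroup G} {x : G} {l : List (Subgroup G × G)} (hT : T ∈ 𝓕)
      (hx : x ∈ normalizer (T : Set G)) (hA : A ⊆ T)
      (hl : FamilyChain 𝓕 ((fun a => x⁻¹ * a * x) '' A) l) : FamilyChain 𝓕 A ((T, x) :: l)

theorem FamilyChain.mono {𝓕 : Set (Subgroup G)} {B : Set G} {l : List (Subgroup G × G)}
    (h : FamilyChain 𝓕 B l) : ∀ A : Set G, A ⊆ B → FamilyChain 𝓕 A l := by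
  induction h with
  | nil B => exact fun A _ => .nil A
  | cons hT hx hA hl ih =>
    exact fun A hAB => .cons hT hx (hAB.trans hA) (ih _ (Set.image_mono hAB))

theorem FamilyChain.append {𝓕 : Set (Subgroup G)} {A : Set G} {l₁ l₂ : List (Subgroup G × G)}
    (h₁ : FamilyChain 𝓕 A l₁)
    (h₂ : FamilyChain 𝓕
      ((fun a => ((l₁.map Prod.snd).prod)⁻¹ * a * (l₁.map Prod.snd).prod) '' A) l₂) :
    FamilyChain 𝓕 A (l₁ ++ l₂) := by
  induction h₁ with
  | nil A => simpa using h₂
  | cons hT hx hA hl ih =>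
    refine .cons hT hx hA (ih ?_)
    rw [Set.image_image]
    simpa [mul_assoc] using h₂

theorem FamilyChain.mem_take {𝓕 : Set (Subgroup G)} {A : Set G} {l : List (Subgroup G × G)}
    (h : FamilyChain 𝓕 A l) : ∀ (i : ℕ) (hi : i < l.length),
      l[i].1 ∈ 𝓕 ∧ l[i].2 ∈ normalizer (l[i].1 : Set G) ∧
        (fun a => (((l.map Prod.snd).take i).prod)⁻¹ * a * ((l.map Prod.snd).take i).prod) '' A ⊆
          l[i].1 := by
  induction h with
  | nil A => intro i hi; simp at hi
  | @cons A T x l hT hx hA hl ih =>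
    intro i hi
    match i with
    | 0 => exact ⟨hT, hx, by simpa using hA⟩
    | j + 1 =>
      obtain ⟨h1, h2, h3⟩ := ih j (by simpa using hi)
      refine ⟨h1, h2, ?_⟩
      rw [Set.image_image] at h3
      simpa [mul_assoc] using h3

theorem isConjugationFamily_of_chains {𝓕 : Set (Subgroup G)} {S : Subgroup G}
    (h𝓕 : ∀ T ∈ 𝓕, T ≤ S)
    (h : ∀ T : Subgroup G, T ≤ S → ∀ g : G, T.map (MulAut.conj g⁻¹).toMonoidHom ≤ S →
      ∃ l, FamilyChain 𝓕 (T : Set G) l ∧ (l.map Prod.snd).prod = g) :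
    Cfsg.IsConjugationFamily 𝓕 S := by
  refine ⟨h𝓕, fun A g _ hA hAg => ?_⟩
  obtain ⟨l, hl, hprod⟩ := h (closure A) (closure_le _ |>.2 hA) g (by
    rw [MonoidHom.map_closure, closure_le]
    rintro _ ⟨a, ha, rfl⟩
    exact hAg ⟨a, ha, by simp [mul_assoc]⟩)
  replace hl := hl.mono A subset_closure
  have key : (List.ofFn fun i : Fin l.length => l[(i : ℕ)].2) = l.map Prod.snd := by
    apply List.ext_getElem <;> simp
  refine ⟨l.length, fun i => l[(i : ℕ)].1, fun i => l[(i : ℕ)].2, by rw [key, hprod],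
    fun i => (hl.mem_take i i.2).1, fun i => (hl.mem_take i i.2).2.1, fun h0 => ?_,
    fun i hi => ?_⟩
  · simpa using (hl.mem_take 0 h0).2.2
  · rw [key]; exact (hl.mem_take (i.val + 1) hi).2.2

variable {p : ℕ}

/-- Moving a subgroup to a conjugate with Sylow normalizer, together with its normalizer in `S`. -/
theorem exists_conj_normalizer_le [Finite G] [Fact p.Prime] (S : Sylow p G) {T U : Subgroup G} {k : G}
    (hk : T.map (MulAut.conj k).toMonoidHom = U)
    (hU : ¬ p ∣ ((S : Subgroup G) ⊓ normalizer (U : Set G)).relIndex (normalizer (U : Set G))) :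
    ∃ a : G, T.map (MulAut.conj a).toMonoidHom = U ∧
      ((S : Subgroup G) ⊓ normalizer (T : Set G)).map (MulAut.conj a).toMonoidHom ≤
        (S : Subgroup G) ⊓ normalizer (U : Set G) := by
  obtain ⟨c, hc, hcle⟩ := exists_conj_le_of_relIndex inf_le_right (S.2.to_le inf_le_left) hU
    (R := ((S : Subgroup G) ⊓ normalizer (T : Set G)).map (MulAut.conj k).toMonoidHom)
    (by rw [← hk, ← map_conj_normalizer]; exact map_mono inf_le_right)
    ((S.2.to_le inf_le_left).map _)
  refine ⟨c * k, ?_, ?_⟩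
  · rw [← map_conj_map_conj, hk, map_conj_eq_of_mem_normalizer hc]
  · rwa [map_conj_map_conj] at hcle

theorem card_lt_card_inf_normalizer [Finite G] [Fact p.Prime] (S : Sylow p G) {T : Subgroup G}
    (hT : T ≤ (S : Subgroup G)) (hne : T ≠ (S : Subgroup G)) :
    Nat.card ↥T < Nat.card ↥((S : Subgroup G) ⊓ normalizer (T : Set G)) :=
  Fusion.card_lt_card_of_lt (Fusion.lt_inf_normalizer S.2 (lt_of_le_of_ne hT hne))

theorem map_conj_inv_map_conj (H : Subgroup G) (a : G) :
    (H.map (MulAut.conj a).toMonoidHom).map (MulAut.conj a⁻¹).toMonoidHom = H := by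
  rw [map_conj_map_conj, inv_mul_cancel, map_conj_one]

theorem isConjugationFamily_of_criterion [Finite G] [Fact p.Prime] (S : Sylow p G)
    (𝓕 : Set (Subgroup G)) (h𝓕 : ∀ U ∈ 𝓕, U ≤ (S : Subgroup G))
    (h : ∀ T : Subgroup G, T ≤ (S : Subgroup G) → ∃ U ∈ 𝓕,
      (∃ g : G, T.map (MulAut.conj g).toMonoidHom = U) ∧
        ¬ p ∣ ((S : Subgroup G) ⊓ normalizer (U : Set G)).relIndex (normalizer (U : Set G))) :
    Cfsg.IsConjugationFamily 𝓕 (S : Subgroup G) := by
  refine isConjugationFamily_of_chains h𝓕 ?_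
  suffices H : ∀ d : ℕ, ∀ T : Subgroup G, T ≤ (S : Subgroup G) →
      Nat.card ↥(S : Subgroup G) < Nat.card ↥T + d → ∀ g : G,
      T.map (MulAut.conj g⁻¹).toMonoidHom ≤ (S : Subgroup G) →
      ∃ l, FamilyChain 𝓕 (T : Set G) l ∧ (l.map Prod.snd).prod = g from
    fun T hT g hg => H (Nat.card ↥(S : Subgroup G) + 1) T hT (by omega) g hg
  intro d
  induction d with
  | zero => exact fun T hT hd => absurd hd (not_lt.2 (by simpa using card_le_of_le hT))
  | succ d ih =>
    intro T hT hd g hg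
    obtain ⟨U, hU, ⟨k, hk⟩, hsyl⟩ := h T hT
    by_cases hTS : T = (S : Subgroup G)
    · have hUS : U = (S : Subgroup G) := eq_of_le_of_card_ge (h𝓕 U hU)
        (by rw [← hk, card_map_conj, hTS])
      have hgn : g⁻¹ ∈ normalizer (T : Set G) := mem_normalizer_of_map_conj
        (eq_of_le_of_card_ge (hg.trans hTS.ge) (card_map_conj _ _).ge)
      refine ⟨[(T, g)], .cons ?_ (inv_inv g ▸ inv_mem hgn) le_rfl (.nil _), by simp⟩
      rwa [hTS, ← hUS]
    · set T' := T.map (MulAut.conj g⁻¹).toMonoidHom with hT'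
      obtain ⟨a, ha, ha'⟩ := exists_conj_normalizer_le S hk hsyl
      obtain ⟨b, hb, hb'⟩ := exists_conj_normalizer_le S (T := T') (U := U) (k := k * g)
        (by rw [hT', map_conj_map_conj, mul_inv_cancel_right, hk]) hsyl
      have hm : a * g * b⁻¹ ∈ normalizer (U : Set G) := inv_inv (a * g * b⁻¹) ▸ inv_mem
        (mem_normalizer_of_map_conj (by
          conv_lhs => rw [← ha]
          rw [map_conj_map_conj, show (a * g * b⁻¹)⁻¹ * a = b * g⁻¹ by group,
            ← map_conj_map_conj, ← hT', hb]))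
      have h1 := card_lt_card_inf_normalizer S hT hTS
      obtain ⟨l₁, hl₁, hp₁⟩ := ih ((S : Subgroup G) ⊓ normalizer (T : Set G)) inf_le_left (by omega) a⁻¹
        (by rw [inv_inv]; exact ha'.trans inf_le_left)
      have hT'S : T' ≠ (S : Subgroup G) := fun e => hTS (eq_of_le_of_card_ge hT
        (by rw [← card_map_conj T g⁻¹, ← hT', e]))
      have h2 := card_lt_card_inf_normalizer S hg hT'S
      have hcT' : Nat.card ↥T' = Nat.card ↥T := card_map_conj _ _
      obtain ⟨l₂, hl₂, hp₂⟩ := ih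
        (((S : Subgroup G) ⊓ normalizer (T' : Set G)).map (MulAut.conj b).toMonoidHom)
        (hb'.trans inf_le_left) (by rw [card_map_conj]; omega) b
        (by rw [map_conj_inv_map_conj]; exact inf_le_left)
      have hUsub : (U : Set G) ⊆
          (((S : Subgroup G) ⊓ normalizer (T' : Set G)).map (MulAut.conj b).toMonoidHom : Subgroup G) := by
        conv_lhs => rw [← hb]
        exact map_mono (le_inf hg le_normalizer)
      refine ⟨l₁ ++ ((U, a * g * b⁻¹) :: l₂),
        (hl₁.mono _ (le_inf hT le_normalizer)).append ?_, ?_⟩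
      · refine .cons hU hm ?_ (hl₂.mono _ ?_)
        · rintro _ ⟨t, ht, rfl⟩
          rw [hp₁, inv_inv, ← ha]
          exact conj_mem_map_conj ht
        · refine Set.Subset.trans ?_ hUsub
          rintro _ ⟨_, ⟨t, ht, rfl⟩, rfl⟩
          rw [hp₁, inv_inv]
          have : a * t * a⁻¹ ∈ U := ha ▸ conj_mem_map_conj ht
          simpa [mul_assoc] using (mem_normalizer_iff''.1 hm _).1 this
      · simp [List.prod_append, hp₁, hp₂, mul_assoc]

/-! ### The induction behind local-to-global theorems -/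

/-- Generic induction: a relation `Rel T g` (for conjugations `t ↦ g t g⁻¹` of subsets of `S`) holds
everywhere if it is closed under composition and holds for the normalizers of suitable subgroups. -/
theorem rel_of_local [Finite G] [Fact p.Prime] (S : Sylow p G)
    (𝓦 : Set (Subgroup G → Subgroup G)) (h𝓦 : ∀ W ∈ 𝓦, Cfsg.IsConjugacyFunctor p W)
    (𝓣 : Set (Subgroup G))
    (h𝓣 : ∀ U ∈ 𝓣, U ≤ (S : Subgroup G) ∧
      ¬ p ∣ ((S : Subgroup G) ⊓ normalizer (U : Set G)).relIndex (normalizer (U : Set G)))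
    (h𝓣e : ∀ T : Subgroup G, T ≤ (S : Subgroup G) →
      ∃ U ∈ 𝓣, ∃ g : G, T.map (MulAut.conj g).toMonoidHom = U)
    (Rel : Set G → G → Prop) (Loc : Subgroup G → Prop)
    (hmono : ∀ {A B : Set G} {g : G}, A ⊆ B → Rel B g → Rel A g)
    (hcomp : ∀ {A : Set G} {g h : G}, Rel A g → Rel ((fun a => g * a * g⁻¹) '' A) h → Rel A (h * g))
    (hbot : ∀ g, Rel ((⊥ : Subgroup G) : Set G) g)
    (hlocRel : ∀ V ∈ 𝓣, V ≤ (S : Subgroup G) → Loc V →
      (∀ T : Subgroup G, T ≤ (S : Subgroup G) → Nat.card ↥V < Nat.card ↥T → ∀ g : G,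
        T.map (MulAut.conj g).toMonoidHom ≤ (S : Subgroup G) → Rel (T : Set G) g) →
      ∀ m ∈ normalizer (V : Set G), Rel (V : Set G) m)
    (hmove : ∀ (V V' : Subgroup G) (a : G), V ≤ (S : Subgroup G) → V.map (MulAut.conj a).toMonoidHom = V' →
      ((S : Subgroup G) ⊓ normalizer (V : Set G)).map (MulAut.conj a).toMonoidHom ≤
        (S : Subgroup G) ⊓ normalizer (V' : Set G) →
      Rel ((S : Subgroup G) ⊓ normalizer (V : Set G) : Subgroup G) a →
      Rel (((S : Subgroup G) ⊓ normalizer (V : Set G)).map (MulAut.conj a).toMonoidHom : Subgroup G) a⁻¹ →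
      Loc V' → Loc V)
    (hlocal : ∀ V ∈ 𝓣, V ≠ ⊥ → ((S : Subgroup G) ⊓ normalizer (V : Set G) = (S : Subgroup G) ∨
        ∀ W ∈ 𝓦, Loc (W ((S : Subgroup G) ⊓ normalizer (V : Set G)))) → Loc V) :
    ∀ T : Subgroup G, T ≤ (S : Subgroup G) → ∀ g : G,
      T.map (MulAut.conj g).toMonoidHom ≤ (S : Subgroup G) → Rel (T : Set G) g := by
  have hWnorm : ∀ W ∈ 𝓦, ∀ P : Subgroup G, IsPGroup p ↥P →
      normalizer (P : Set G) ≤ normalizer (W P : Set G) := fun W hW P hP x hx =>
    mem_normalizer_of_map_conj (by rw [← (h𝓦 W hW P hP).2.2 x, map_conj_eq_of_mem_normalizer hx])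
  suffices H : ∀ d : ℕ,
      (∀ T : Subgroup G, T ≤ (S : Subgroup G) → Nat.card ↥(S : Subgroup G) < Nat.card ↥T + d →
        ∀ g : G, T.map (MulAut.conj g).toMonoidHom ≤ (S : Subgroup G) → Rel (T : Set G) g) ∧
      (∀ V : Subgroup G, V ≤ (S : Subgroup G) → V ≠ ⊥ →
        Nat.card ↥(S : Subgroup G) < Nat.card ↥((S : Subgroup G) ⊓ normalizer (V : Set G)) + d →
        Loc V) from
    fun T hT g hg => (H (Nat.card ↥(S : Subgroup G) + 1)).1 T hT (by omega) g hg
  intro d
  induction d with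
  | zero =>
    exact ⟨fun T hT hd => absurd hd (not_lt.2 (by simpa using card_le_of_le hT)),
      fun V _ _ hd => absurd hd (not_lt.2 (by
        simpa using card_le_of_le (inf_le_left :
          (S : Subgroup G) ⊓ normalizer (V : Set G) ≤ (S : Subgroup G))))⟩
  | succ d ih =>
    obtain ⟨ihQ, ihC⟩ := ih
    have hQ : ∀ T : Subgroup G, T ≤ (S : Subgroup G) →
        Nat.card ↥(S : Subgroup G) < Nat.card ↥T + (d + 1) →
        ∀ g : G, T.map (MulAut.conj g).toMonoidHom ≤ (S : Subgroup G) → Rel (T : Set G) g := by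
      intro T hT hd g hg
      by_cases hbot' : T = ⊥
      · rw [hbot']; exact hbot g
      obtain ⟨U, hU, k, hk⟩ := h𝓣e T hT
      by_cases hTS : T = (S : Subgroup G)
      · subst hTS
        have hUS : U = (S : Subgroup G) := eq_of_le_of_card_ge (h𝓣 U hU).1
          (by rw [← hk, card_map_conj])
        exact hlocRel _ (hUS ▸ hU) le_rfl (hlocal _ (hUS ▸ hU) hbot' (Or.inl (inf_eq_left.2 le_normalizer)))
          (fun T hT' hlt => absurd (card_le_of_le hT') (not_le.2 hlt)) g
          (mem_normalizer_of_map_conj (eq_of_le_of_card_ge hg (card_map_conj _ _).ge))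
      · set T' := T.map (MulAut.conj g).toMonoidHom with hT'
        obtain ⟨a, ha, ha'⟩ := exists_conj_normalizer_le S hk (h𝓣 U hU).2
        obtain ⟨b, hb, hb'⟩ := exists_conj_normalizer_le S (T := T') (U := U) (k := k * g⁻¹)
          (by rw [hT', map_conj_map_conj, inv_mul_cancel_right, hk]) (h𝓣 U hU).2
        have hm : b * g * a⁻¹ ∈ normalizer (U : Set G) := mem_normalizer_of_map_conj (by
          conv_lhs => rw [← ha]
          rw [map_conj_map_conj, inv_mul_cancel_right, ← map_conj_map_conj, ← hT', hb])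
        have h1 := card_lt_card_inf_normalizer S hT hTS
        have hT'S : T' ≠ (S : Subgroup G) := fun e => hTS (eq_of_le_of_card_ge hT
          (by rw [← card_map_conj T g, ← hT', e]))
        have h2 := card_lt_card_inf_normalizer S hg hT'S
        have hcT' : Nat.card ↥T' = Nat.card ↥T := card_map_conj _ _
        have hUne : U ≠ ⊥ := by
          rw [← hk, Ne, Subgroup.map_eq_bot_iff_of_injective _ (MulAut.conj k).injective]
          exact hbot'
        have hUS : U ≠ (S : Subgroup G) := fun e => hTS (eq_of_le_of_card_ge hT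
          (by rw [← card_map_conj T k, hk, e]))
        have h3 := card_lt_card_inf_normalizer S (h𝓣 U hU).1 hUS
        have hcU : Nat.card ↥U = Nat.card ↥T := by rw [← hk, card_map_conj]
        have r1 : Rel (T : Set G) a := hmono (le_inf hT le_normalizer)
          (ihQ _ inf_le_left (by omega) a (ha'.trans inf_le_left))
        have r2 : Rel (U : Set G) (b * g * a⁻¹) :=
          hlocRel U hU (h𝓣 U hU).1 (ihC U (h𝓣 U hU).1 hUne (by omega))
            (fun T' hT'' hlt g' hg' => ihQ T' hT'' (by omega) g' hg') _ hm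
        have r3 : Rel (U : Set G) b⁻¹ := hmono (B :=
            (((S : Subgroup G) ⊓ normalizer (T' : Set G)).map (MulAut.conj b).toMonoidHom : Subgroup G))
          (by conv_lhs => rw [← hb]
              exact map_mono (le_inf hg le_normalizer))
          (ihQ _ (hb'.trans inf_le_left) (by rw [card_map_conj]; omega) b⁻¹
            (by rw [map_conj_inv_map_conj]; exact inf_le_left))
        have r12 : Rel (T : Set G) (b * g * a⁻¹ * a) := hcomp r1 (hmono (by
          rintro _ ⟨t, ht, rfl⟩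
          exact ha ▸ conj_mem_map_conj ht) r2)
        have r := hcomp r12 (hmono (by
          rintro _ ⟨t, ht, rfl⟩
          have : a * t * a⁻¹ ∈ U := ha ▸ conj_mem_map_conj ht
          simpa [mul_assoc] using (mem_normalizer_iff.1 hm _).1 this) r3)
        rwa [inv_mul_cancel_right, inv_mul_cancel_left] at r
    refine ⟨hQ, fun V hV hne hd => ?_⟩
    have hsyl : ∀ U ∈ 𝓣, U ≠ ⊥ →
        Nat.card ↥(S : Subgroup G) < Nat.card ↥((S : Subgroup G) ⊓ normalizer (U : Set G)) + (d + 1) →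
        Loc U := by
      intro U hU hUne hUd
      refine hlocal U hU hUne ?_
      refine Classical.or_iff_not_imp_left.2 fun hne' W hW => ?_
      set P₀ := (S : Subgroup G) ⊓ normalizer (U : Set G)
      have hP₀ : IsPGroup p ↥P₀ := S.2.to_le inf_le_left
      have hP₀ne : P₀ ≠ ⊥ := fun e => hUne (le_bot_iff.1 (e ▸ le_inf (h𝓣 U hU).1 le_normalizer))
      refine ihC _ ((h𝓦 W hW P₀ hP₀).1.trans inf_le_left) ((h𝓦 W hW P₀ hP₀).2.1 hP₀ne) ?_
      have hlt : Nat.card ↥P₀ < Nat.card ↥((S : Subgroup G) ⊓ normalizer (P₀ : Set G)) :=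
        card_lt_card_inf_normalizer S (inf_le_left : P₀ ≤ _) hne'
      have : Nat.card ↥((S : Subgroup G) ⊓ normalizer (P₀ : Set G)) ≤
          Nat.card ↥((S : Subgroup G) ⊓ normalizer (W P₀ : Set G)) :=
        card_le_of_le (inf_le_inf_left (S : Subgroup G) (hWnorm W hW P₀ hP₀))
      omega
    obtain ⟨V', hV', k, hk⟩ := h𝓣e V hV
    obtain ⟨a, ha, ha'⟩ := exists_conj_normalizer_le S hk (h𝓣 V' hV').2
    have hle : Nat.card ↥((S : Subgroup G) ⊓ normalizer (V : Set G)) ≤
        Nat.card ↥((S : Subgroup G) ⊓ normalizer (V' : Set G)) := by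
      rw [← card_map_conj _ a]; exact card_le_of_le ha'
    refine hmove V V' a hV ha ha' (hQ _ inf_le_left hd a (ha'.trans inf_le_left))
      (hQ _ (ha'.trans inf_le_left) (by rw [card_map_conj]; exact hd) a⁻¹
        (by rw [map_conj_inv_map_conj]; exact inf_le_left))
      (hsyl V' hV' ?_ (by omega))
    rw [← ha, Ne, Subgroup.map_eq_bot_iff_of_injective _ (MulAut.conj a).injective]
    exact hne

/-! ### Strong fusion -/

/-- Composites of conjugations by elements of `gens`, all intermediate images lying in `S`. -/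
inductive FusionSteps (gens : Set G) (S : Set G) : Set G → G → Prop
  | refl {A : Set G} (hA : A ⊆ S) : FusionSteps gens S A 1
  | step {A : Set G} {g x : G} (h : FusionSteps gens S A g) (hx : x ∈ gens)
      (hA : (fun a => x * g * a * (x * g)⁻¹) '' A ⊆ S) : FusionSteps gens S A (x * g)

/-- The map `a ↦ h a h⁻¹` on `A` is a composite of conjugations by elements of `gens` inside `S`. -/
def FusionReach (gens : Set G) (S : Set G) (A : Set G) (h : G) : Prop :=
  ∃ g, FusionSteps gens S A g ∧ ∀ a ∈ A, g * a * g⁻¹ = h * a * h⁻¹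

theorem FusionSteps.start {gens S A : Set G} {g : G} (h : FusionSteps gens S A g) : A ⊆ S := by
  induction h with
  | refl hA => exact hA
  | step _ _ _ ih => exact ih

theorem FusionSteps.mono {gens S A : Set G} {g : G} (h : FusionSteps gens S A g) :
    ∀ {B : Set G}, B ⊆ A → FusionSteps gens S B g := by
  induction h with
  | refl hA => exact fun hB => .refl (hB.trans hA)
  | step _ hx hA ih => exact fun hB => .step (ih hB) hx ((Set.image_mono hB).trans hA)

theorem FusionSteps.comp {gens S A : Set G} {g h : G} (hg : FusionSteps gens S A g) :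
    ∀ {B : Set G}, FusionSteps gens S B h → (fun a => g * a * g⁻¹) '' A ⊆ B →
      FusionSteps gens S A (h * g) := by
  intro B hB
  induction hB with
  | refl _ => intro _; rwa [one_mul]
  | @step k x _ hx hA ih =>
    intro hAB
    rw [mul_assoc]
    refine .step (ih hAB) hx ?_
    rintro _ ⟨a, ha, rfl⟩
    exact hA ⟨_, hAB ⟨a, ha, rfl⟩, by group⟩

theorem FusionReach.mono {gens S A B : Set G} {g : G} (hAB : A ⊆ B)
    (h : FusionReach gens S B g) : FusionReach gens S A g :=
  ⟨h.choose, h.choose_spec.1.mono hAB, fun a ha => h.choose_spec.2 a (hAB ha)⟩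

theorem FusionReach.comp {gens S A : Set G} {g h : G} (hg : FusionReach gens S A g)
    (hh : FusionReach gens S ((fun a => g * a * g⁻¹) '' A) h) : FusionReach gens S A (h * g) := by
  obtain ⟨g₁, hg₁, eg⟩ := hg
  obtain ⟨h₁, hh₁, eh⟩ := hh
  refine ⟨h₁ * g₁, hg₁.comp hh₁ ?_, fun a ha => ?_⟩
  · rintro _ ⟨a, ha, rfl⟩
    exact ⟨a, ha, (eg a ha).symm⟩
  · calc h₁ * g₁ * a * (h₁ * g₁)⁻¹ = h₁ * (g₁ * a * g₁⁻¹) * h₁⁻¹ := by group
      _ = h * (g * a * g⁻¹) * h⁻¹ := by rw [eg a ha]; exact eh _ ⟨a, ha, rfl⟩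
      _ = h * g * a * (h * g)⁻¹ := by group

theorem FusionReach.of_gen {gens S A : Set G} {x : G} (hx : x ∈ gens) (hA : A ⊆ S)
    (hA' : (fun a => x * a * x⁻¹) '' A ⊆ S) : FusionReach gens S A x :=
  ⟨x * 1, .step (.refl hA) hx (by simpa using hA'), fun a _ => by simp⟩

theorem FusionSteps.exists_fin {gens S A : Set G} {g : G} (h : FusionSteps gens S A g) :
    ∃ (n : ℕ) (c : Fin (n + 1) → G), c 0 = 1 ∧
      (∀ i : Fin n, c i.succ * (c i.castSucc)⁻¹ ∈ gens) ∧
      (∀ i : Fin (n + 1), (fun a => c i * a * (c i)⁻¹) '' A ⊆ S) ∧ c (Fin.last n) = g := by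
  induction h with
  | refl hA => exact ⟨0, fun _ => 1, rfl, fun i => i.elim0, fun i => by simpa using hA, rfl⟩
  | @step g x _ hx hA ih =>
    obtain ⟨n, c, h0, hs, hsub, hl⟩ := ih
    refine ⟨n + 1, Fin.snoc c (x * g), ?_, fun i => ?_, fun i => ?_, Fin.snoc_last _ _⟩
    · rw [← Fin.castSucc_zero, Fin.snoc_castSucc, h0]
    · induction i using Fin.lastCases with
      | last => rw [Fin.succ_last, Fin.snoc_last, Fin.snoc_castSucc, hl, mul_inv_cancel_right]; exact hx
      | cast i => rw [Fin.succ_castSucc, Fin.snoc_castSucc, Fin.snoc_castSucc]; exact hs i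
    · induction i using Fin.lastCases with
      | last => rw [Fin.snoc_last]; exact hA
      | cast i => rw [Fin.snoc_castSucc]; exact hsub i

/-- Control of strong fusion in `H`, re-based at any given Sylow `p`-subgroup of `H`. -/
theorem familyControlsStrongFusionIn_at [Finite G] [Fact p.Prime]
    {𝓦 : Set (Subgroup G → Subgroup G)} (h𝓦 : ∀ W ∈ 𝓦, Cfsg.IsConjugacyFunctor p W)
    {H P : Subgroup G} (hc : Cfsg.FamilyControlsStrongFusionIn p 𝓦 H) (hPH : P ≤ H)
    (hP : IsPGroup p ↥P) (hidx : ¬ p ∣ P.relIndex H) :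
    ∀ (A : Set G) (h : G), h ∈ H → A ⊆ P → (fun a => h * a * h⁻¹) '' A ⊆ P →
      ∃ (n : ℕ) (c : Fin (n + 1) → G), c 0 = 1 ∧
        (∀ i : Fin n, ∃ W ∈ 𝓦,
          c i.succ * (c i.castSucc)⁻¹ ∈ H ⊓ normalizer ((W P : Subgroup G) : Set G)) ∧
        (∀ i : Fin (n + 1), (fun a => c i * a * (c i)⁻¹) '' A ⊆ P) ∧
        ∀ a ∈ A, c (Fin.last n) * a * (c (Fin.last n))⁻¹ = h * a * h⁻¹ := by
  obtain ⟨T, hTH, hT, hTidx, hT'⟩ := hc
  obtain ⟨k, hk, hkle⟩ := exists_conj_le_of_relIndex hPH hP hidx hTH hT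
  have hkeq : T.map (MulAut.conj k).toMonoidHom = P := by
    obtain ⟨k', hk', hk'le⟩ := exists_conj_le_of_relIndex hTH hT hTidx hPH hP
    refine eq_of_le_of_card_ge hkle ?_
    rw [card_map_conj, ← card_map_conj P k']
    exact card_le_of_le hk'le
  have hmem : ∀ z, z ∈ P ↔ k⁻¹ * z * k ∈ T := fun z => by rw [← hkeq, mem_map_conj_iff]
  intro A h hh hA hA'
  obtain ⟨n, c, h0, hs, hsub, hl⟩ := hT' ((fun a => k⁻¹ * a * k) '' A) (k⁻¹ * h * k)
    (mul_mem (mul_mem (inv_mem hk) hh) hk)
    (by rintro _ ⟨a, ha, rfl⟩; exact (hmem a).1 (hA ha))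
    (by
      rintro _ ⟨_, ⟨a, ha, rfl⟩, rfl⟩
      simpa [mul_assoc] using (hmem _).1 (hA' ⟨a, ha, rfl⟩))
  refine ⟨n, fun i => k * c i * k⁻¹, by simp [h0], fun i => ?_, fun i => ?_, fun a ha => ?_⟩
  · obtain ⟨W, hW, hmem1, hmem2⟩ := hs i
    refine ⟨W, hW, ?_⟩
    rw [show k * c i.succ * k⁻¹ * (k * c i.castSucc * k⁻¹)⁻¹ =
      k * (c i.succ * (c i.castSucc)⁻¹) * k⁻¹ by group]
    refine mem_inf.2 ⟨H.mul_mem (H.mul_mem hk hmem1) (H.inv_mem hk), ?_⟩
    rw [← hkeq, (h𝓦 W hW T hT).2.2 k, ← map_conj_normalizer]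
    exact conj_mem_map_conj hmem2
  · rintro _ ⟨a, ha, rfl⟩
    refine (hmem _).2 ?_
    have := hsub i ⟨_, ⟨a, ha, rfl⟩, rfl⟩
    simpa [mul_assoc] using this
  · have := hl _ ⟨a, ha, rfl⟩
    calc k * c (Fin.last n) * k⁻¹ * a * (k * c (Fin.last n) * k⁻¹)⁻¹
        = k * (c (Fin.last n) * (k⁻¹ * a * k) * (c (Fin.last n))⁻¹) * k⁻¹ := by group
      _ = h * a * h⁻¹ := by rw [this]; group

/-- Local-to-global control of strong fusion, over a family of subgroups meeting every class. -/
theorem strongFusion_local_to_global [Finite G] [Fact p.Prime] (S : Sylow p G)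
    (𝓦 : Set (Subgroup G → Subgroup G)) (h𝓦 : ∀ W ∈ 𝓦, Cfsg.IsConjugacyFunctor p W)
    (𝓣 : Set (Subgroup G))
    (h𝓣 : ∀ U ∈ 𝓣, U ≤ (S : Subgroup G) ∧
      ¬ p ∣ ((S : Subgroup G) ⊓ normalizer (U : Set G)).relIndex (normalizer (U : Set G)))
    (h𝓣e : ∀ T : Subgroup G, T ≤ (S : Subgroup G) →
      ∃ U ∈ 𝓣, ∃ g : G, T.map (MulAut.conj g).toMonoidHom = U)
    (hloc : ∀ U ∈ 𝓣, U ≠ ⊥ → Cfsg.FamilyControlsStrongFusionIn p 𝓦 (normalizer (U : Set G))) :
    Cfsg.FamilyControlsStrongFusionIn p 𝓦 ⊤ := by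
  set gens : Set G := {x | ∃ W ∈ 𝓦, x ∈ normalizer ((W (S : Subgroup G) : Subgroup G) : Set G)} with hgens
  set S' : Set G := ((S : Subgroup G) : Set G) with hS'
  refine ⟨S, le_top, S.2, by simpa using S.not_dvd_index, fun A h _ hA hA' => ?_⟩
  let Rel : Set G → G → Prop := FusionReach gens S'
  let Loc : Subgroup G → Prop := fun V => ∀ (A : Set G) (x : G), x ∈ normalizer (V : Set G) →
    A ⊆ (((S : Subgroup G) ⊓ normalizer (V : Set G) : Subgroup G) : Set G) →
      (fun a => x * a * x⁻¹) '' A ⊆ S' → FusionReach gens S' A x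
  have key : ∀ T : Subgroup G, T ≤ (S : Subgroup G) → ∀ g : G,
      T.map (MulAut.conj g).toMonoidHom ≤ (S : Subgroup G) → Rel (T : Set G) g := by
    refine rel_of_local S 𝓦 h𝓦 𝓣 h𝓣 h𝓣e Rel Loc
      FusionReach.mono FusionReach.comp (fun g => ?_) (fun V _ hV hV' _ m hm => ?_) ?_ ?_
    · refine ⟨1, .refl ?_, ?_⟩
      · intro a ha; rw [SetLike.mem_coe, mem_bot] at ha; subst ha; exact one_mem (S : Subgroup G)
      · intro a ha; rw [SetLike.mem_coe, mem_bot] at ha; subst ha; simp
    · refine hV' _ m hm (fun a ha => ⟨hV ha, le_normalizer ha⟩) ?_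
      rintro _ ⟨a, ha, rfl⟩
      exact hV ((mem_normalizer_iff.1 hm a).1 ha)
    · intro V V' a hV hVV' ha hr hr' hV' B x hx hB hBx
      have hx' : a * x * a⁻¹ ∈ normalizer (V' : Set G) := by
        rw [← hVV', ← map_conj_normalizer]; exact conj_mem_map_conj hx
      have hxB : ∀ b ∈ B, x * b * x⁻¹ ∈ (S : Subgroup G) ⊓ normalizer (V : Set G) := fun b hb =>
        mem_inf.2 ⟨hBx ⟨b, hb, rfl⟩, mul_mem (mul_mem hx (mem_inf.1 (hB hb)).2) (inv_mem hx)⟩
      have r1 : FusionReach gens S' B a :=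
        hr.mono hB
      have r2 : FusionReach gens S' ((fun b => a * b * a⁻¹) '' B) (a * x * a⁻¹) := by
        refine hV' _ _ hx' ?_ ?_
        · rintro _ ⟨b, hb, rfl⟩
          exact ha (conj_mem_map_conj (hB hb))
        · rintro _ ⟨_, ⟨b, hb, rfl⟩, rfl⟩
          have := ha (conj_mem_map_conj (g := a) (hxB b hb))
          have e : a * (x * b * x⁻¹) * a⁻¹ = a * x * a⁻¹ * (a * b * a⁻¹) * (a * x * a⁻¹)⁻¹ := by
            group
          rw [e] at this
          exact (mem_inf.1 this).1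
      have r3 := (r1.comp r2).comp (h := a⁻¹) (hr'.mono (by
          rintro _ ⟨b, hb, rfl⟩
          have := conj_mem_map_conj (g := a) (hxB b hb)
          have e : a * (x * b * x⁻¹) * a⁻¹ =
              a * x * a⁻¹ * a * b * (a * x * a⁻¹ * a)⁻¹ := by group
          rw [e] at this
          exact this))
      simpa [mul_assoc] using r3
    · intro U hU hne hP B x hx hB hBx
      set P₀ := (S : Subgroup G) ⊓ normalizer (U : Set G)
      have hP₀ : IsPGroup p ↥P₀ := S.2.to_le inf_le_left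
      obtain ⟨n, c, h0, hs, hsub, hl⟩ := familyControlsStrongFusionIn_at h𝓦 (hloc U hU hne)
        inf_le_right hP₀ (h𝓣 U hU).2 B x hx hB
        (by rintro _ ⟨b, hb, rfl⟩
            exact mem_inf.2 ⟨hBx ⟨b, hb, rfl⟩, mul_mem (mul_mem hx (mem_inf.1 (hB hb)).2) (inv_mem hx)⟩)
      have hall : ∀ i : Fin (n + 1), FusionReach gens S' B (c i) := by
        intro i
        induction i using Fin.induction with
        | zero =>
          rw [h0]
          exact ⟨1, .refl (fun b hb => (hB hb).1), fun b _ => rfl⟩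
        | succ i ih =>
          obtain ⟨W, hW, hmem⟩ := hs i
          have hBc : (fun b => c i.castSucc * b * (c i.castSucc)⁻¹) '' B ⊆ P₀ := hsub i.castSucc
          have hstep : (fun z => c i.succ * (c i.castSucc)⁻¹ * z * (c i.succ * (c i.castSucc)⁻¹)⁻¹) ''
              ((fun b => c i.castSucc * b * (c i.castSucc)⁻¹) '' B) ⊆ S' := by
            rintro _ ⟨_, ⟨b, hb, rfl⟩, rfl⟩
            have := hsub i.succ ⟨b, hb, rfl⟩
            simpa [hS', mul_assoc] using this.1
          have r : FusionReach gens S' ((fun b => c i.castSucc * b * (c i.castSucc)⁻¹) '' B)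
              (c i.succ * (c i.castSucc)⁻¹) := by
            rcases hP with hP | hP
            · exact .of_gen ⟨W, hW, hP ▸ hmem.2⟩ (hBc.trans fun z hz => hz.1) hstep
            · refine hP W hW _ _ hmem.2 (hBc.trans fun z hz => ⟨hz.1, ?_⟩) hstep
              have hz' : z ∈ normalizer (P₀ : Set G) := le_normalizer hz
              exact mem_normalizer_of_map_conj
                (by rw [← (h𝓦 W hW P₀ hP₀).2.2 z, map_conj_eq_of_mem_normalizer hz'])
          simpa using ih.comp r
      obtain ⟨g, hg, e⟩ := hall (Fin.last n)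
      exact ⟨g, hg, fun b hb => (e b hb).trans (hl b hb)⟩
  obtain ⟨g, hg, e⟩ := (key (closure A) (closure_le _ |>.2 hA) h (by
      rw [MonoidHom.map_closure, closure_le]
      rintro _ ⟨a, ha, rfl⟩
      exact hA' ⟨a, ha, by simp⟩)
    ).mono (subset_closure (k := A))
  obtain ⟨n, c, h0, hs, hsub, rfl⟩ := hg.exists_fin
  exact ⟨n, c, h0, fun i => ⟨(hs i).choose, (hs i).choose_spec.1, mem_top _, (hs i).choose_spec.2⟩,
    hsub, e⟩

/-! ### Transfer -/

/-- Control of transfer in `H`, re-based at any given Sylow `p`-subgroup of `H`. -/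
theorem familyControlsTransferIn_at [Finite G] [Fact p.Prime]
    {𝓦 : Set (Subgroup G → Subgroup G)} (h𝓦 : ∀ W ∈ 𝓦, Cfsg.IsConjugacyFunctor p W)
    {H P : Subgroup G} (hc : Cfsg.FamilyControlsTransferIn p 𝓦 H) (hPH : P ≤ H)
    (hP : IsPGroup p ↥P) (hidx : ¬ p ∣ P.relIndex H) :
    P ⊓ ⁅H, H⁆ = ⨆ W ∈ 𝓦,
      P ⊓ ⁅H ⊓ normalizer ((W P : Subgroup G) : Set G), H ⊓ normalizer ((W P : Subgroup G) : Set G)⁆ := by
  obtain ⟨T, hTH, hT, hTidx, hT'⟩ := hc
  obtain ⟨k, hk, hkle⟩ := exists_conj_le_of_relIndex hPH hP hidx hTH hT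
  have hkeq : T.map (MulAut.conj k).toMonoidHom = P := by
    obtain ⟨k', hk', hk'le⟩ := exists_conj_le_of_relIndex hTH hT hTidx hPH hP
    refine eq_of_le_of_card_ge hkle ?_
    rw [card_map_conj, ← card_map_conj P k']
    exact card_le_of_le hk'le
  have hHk : H.map (MulAut.conj k).toMonoidHom = H :=
    map_conj_eq_of_mem_normalizer (le_normalizer hk)
  have := congrArg (Subgroup.map (MulAut.conj k).toMonoidHom) hT'
  rw [map_inf _ _ _ (MulAut.conj k).injective, map_commutator, hkeq, hHk, map_iSup] at this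
  rw [this]
  refine iSup_congr fun W => ?_
  rw [map_iSup]
  refine iSup_congr fun hW => ?_
  rw [map_inf _ _ _ (MulAut.conj k).injective, map_commutator,
    map_inf _ _ _ (MulAut.conj k).injective, hkeq, hHk, map_conj_normalizer,
    ← (h𝓦 W hW T hT).2.2 k, hkeq]

/-- Local-to-global control of transfer, over a family of subgroups meeting every class. -/
theorem transfer_local_to_global [Finite G] [Fact p.Prime] (S : Sylow p G)
    (𝓦 : Set (Subgroup G → Subgroup G)) (h𝓦 : ∀ W ∈ 𝓦, Cfsg.IsConjugacyFunctor p W)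
    (𝓣 : Set (Subgroup G))
    (h𝓣 : ∀ U ∈ 𝓣, U ≤ (S : Subgroup G) ∧
      ¬ p ∣ ((S : Subgroup G) ⊓ normalizer (U : Set G)).relIndex (normalizer (U : Set G)))
    (h𝓣e : ∀ T : Subgroup G, T ≤ (S : Subgroup G) →
      ∃ U ∈ 𝓣, ∃ g : G, T.map (MulAut.conj g).toMonoidHom = U)
    (hloc : ∀ U ∈ 𝓣, U ≠ ⊥ → Cfsg.FamilyControlsTransferIn p 𝓦 (normalizer (U : Set G))) :
    Cfsg.FamilyControlsTransferIn p 𝓦 ⊤ := by
  set R : Subgroup G := ⨆ W ∈ 𝓦, (S : Subgroup G) ⊓
    ⁅normalizer ((W (S : Subgroup G) : Subgroup G) : Set G),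
      normalizer ((W (S : Subgroup G) : Subgroup G) : Set G)⁆ with hR
  refine ⟨S, le_top, S.2, by simpa using S.not_dvd_index, ?_⟩
  simp only [top_inf_eq]
  refine le_antisymm ?_ (iSup₂_le fun W _ => inf_le_inf_left _ (commutator_mono le_top le_top))
  let Rel : Set G → G → Prop := fun A g => ∀ a ∈ A, a⁻¹ * (g * a * g⁻¹) ∈ R
  let Loc : Subgroup G → Prop := fun V => (S : Subgroup G) ⊓
    ⁅normalizer (V : Set G), normalizer (V : Set G)⁆ ≤ R
  have key : ∀ T : Subgroup G, T ≤ (S : Subgroup G) → ∀ g : G,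
      T.map (MulAut.conj g).toMonoidHom ≤ (S : Subgroup G) → Rel (T : Set G) g := by
    refine rel_of_local S 𝓦 h𝓦 𝓣 h𝓣 h𝓣e Rel Loc
      (fun hAB hB a ha => hB a (hAB ha)) (fun {A g h} hg hh a ha => ?_) (fun g a ha => ?_)
      (fun V _ hV hV' _ m hm a ha => ?_) ?_ ?_
    · have := mul_mem (hg a ha) (hh _ ⟨a, ha, rfl⟩)
      convert this using 1
      group
    · rw [SetLike.mem_coe, mem_bot] at ha; subst ha; simp
    · have hma : m * a * m⁻¹ ∈ V := (mem_normalizer_iff.1 hm a).1 ha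
      refine hV' (mem_inf.2 ⟨mul_mem (inv_mem (hV ha)) (hV hma), ?_⟩)
      have := commutator_mem_commutator (H₁ := normalizer (V : Set G)) (H₂ := normalizer (V : Set G))
        (inv_mem (le_normalizer ha)) hm
      simpa [commutatorElement_def, mul_assoc] using this
    · intro V V' a hV hVV' ha hr _ hV' t ht
      have htS : t ∈ (S : Subgroup G) ⊓ normalizer (V : Set G) :=
        ⟨ht.1, (commutator_le_self _) ht.2⟩
      have hat : a * t * a⁻¹ ∈ R := hV' ⟨(ha (conj_mem_map_conj htS)).1, by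
        rw [← hVV', ← map_conj_normalizer, ← map_commutator]
        exact conj_mem_map_conj ht.2⟩
      have := mul_mem hat (inv_mem (hr t htS))
      simpa [mul_assoc] using this
    · intro U hU hne hP t ht
      set P₀ := (S : Subgroup G) ⊓ normalizer (U : Set G)
      have hP₀ : IsPGroup p ↥P₀ := S.2.to_le inf_le_left
      have e := familyControlsTransferIn_at h𝓦 (hloc U hU hne) inf_le_right hP₀ (h𝓣 U hU).2
      have ht' : t ∈ P₀ ⊓ ⁅normalizer (U : Set G), normalizer (U : Set G)⁆ :=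
        ⟨⟨ht.1, (commutator_le_self _) ht.2⟩, ht.2⟩
      rw [e] at ht'
      refine (iSup₂_le fun W hW => ?_ : _ ≤ R) ht'
      rcases hP with hP | hP
      · refine le_trans ?_ (le_iSup₂_of_le W hW le_rfl)
        simp only [P₀] at hP
        rw [hP]
        exact inf_le_inf_left _ (commutator_mono inf_le_right inf_le_right)
      · exact le_trans (inf_le_inf inf_le_left (commutator_mono inf_le_right inf_le_right)) (hP W hW)
  rw [← _root_.commutator_def, inf_comm, commutator_inf_eq_focalSubgroup, focalSubgroup_def, closure_le]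
  rintro g ⟨hg, x, hx, u, rfl⟩
  have hu : u * x⁻¹ * u⁻¹ ∈ (S : Subgroup G) := by
    have := mul_mem (inv_mem hx) hg
    simpa [commutatorElement_def, mul_assoc] using this
  have := (key (zpowers x⁻¹) (zpowers_le.2 (inv_mem hx)) u
    (by rw [MonoidHom.map_zpowers, zpowers_le]; simpa [mul_assoc] using hu)
    x⁻¹ (mem_zpowers _))
  simpa [commutatorElement_def, mul_assoc] using this

end Cfsg.Lib.Sig
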