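import Cfsg.Prelude.Def_Transfer
import Cfsg.Agent.Lib.Coprime.Generation
import Cfsg.Agent.Lib.PGroup.Basic
import Cfsg.Agent.Lib.Solv.Product
import Cfsg.Agent.Lib.Core.Basic

open scoped Pointwise
open Subgroup

namespace Cfsg.Lib.Sig.CoprimeFactor

variable {H : Type*} [Group H] [Finite H]

theorem factor_pgroup {q : ℕ} [Fact q.Prime] {A S X' Y' : Subgroup H} [IsMulCommutative A]
    (hnc : ¬ IsCyclic A) (hS : IsPGroup q S) (hAS : A ≤ normalizer (S : Set H))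
    (hcop : (Nat.card A).Coprime (Nat.card S)) (hX : X' ≤ S) (hY : Y' ≤ S)
    (hfac : ∀ a ∈ A, a ≠ 1 → ∀ c ∈ S, c ∈ centralizer ({a} : Set H) → ∃ x ∈ X', ∃ y ∈ Y', c = x * y) :
    ∀ z ∈ S, ∃ x ∈ X', ∃ y ∈ Y', z = x * y := by
  suffices ∀ N : Subgroup H, N ≤ S → S ≤ normalizer (N : Set H) → A ≤ normalizer (N : Set H) →
      (∀ z ∈ S, ∃ x ∈ X', ∃ n ∈ N, ∃ y ∈ Y', z = x * n * y) → ∀ z ∈ S, ∃ x ∈ X', ∃ y ∈ Y', z = x * y by
    exact this S le_rfl le_normalizer hAS fun z hz => ⟨1, one_mem _, z, hz, 1, one_mem _, by simp⟩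
  intro N
  induction N using WellFoundedLT.induction with
  | ind N ih =>
    intro hNS hSN hAN hall
    by_cases hN : N = ⊥
    · intro z hz
      obtain ⟨x, hx, n, hn, y, hy, rfl⟩ := hall z hz
      rw [hN, mem_bot] at hn
      subst hn
      exact ⟨x, hx, y, hy, by simp⟩
    set M := ⁅N, S⁆ with hM
    have hMN : M < N := Cfsg.Lib.PGroup.commutator_lt_of_isPGroup (hS.to_le hNS) hS hSN hN
    have hSM : S ≤ normalizer (M : Set H) := Subgroup.normalizer_commutator_ge_right N S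
    have hAM : A ≤ normalizer (M : Set H) := by
      intro a ha
      rw [Cfsg.Lib.Core.mem_normalizer_iff_map_conj, hM, Subgroup.map_commutator,
        Cfsg.Lib.Core.map_conj_eq_of_mem_normalizer (hAN ha),
        Cfsg.Lib.Core.map_conj_eq_of_mem_normalizer (hAS ha)]
    refine ih M hMN (hMN.le.trans hNS) hSM hAM ?_
    -- `Pn`
    let Pn : H → Prop := fun n => ∀ x ∈ X', ∀ m ∈ M, ∀ y ∈ Y',
      ∃ x' ∈ X', ∃ m' ∈ M, ∃ y' ∈ Y', x * n * m * y = x' * m' * y'
    suffices hN' : ∀ n ∈ N, Pn n by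
      intro z hz
      obtain ⟨x, hx, n, hn, y, hy, rfl⟩ := hall z hz
      have := hN' n hn x hx 1 (one_mem _) y hy
      rwa [mul_one] at this
    have hstep : ∀ n ∈ N, Pn n → ∀ a ∈ A, a ≠ 1 → ∀ c ∈ N, c ∈ centralizer ({a} : Set H) → Pn (n * c) := by
      intro n hn hPn a ha ha1 c hc hca x hx m hm y hy
      obtain ⟨x₁, hx₁, y₁, hy₁, rfl⟩ := hfac a ha ha1 c (hNS hc) hca
      have h1 : n⁻¹ * x₁⁻¹ * n * x₁ ∈ M := by
        have := Subgroup.commutator_mem_commutator (inv_mem hn) (inv_mem (hX hx₁) : x₁⁻¹ ∈ S)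
        simpa [commutatorElement_def] using this
      have h2 : y₁ * m * y₁⁻¹ ∈ M := (mem_normalizer_iff.1 (hSM (hY hy₁)) m).1 hm
      obtain ⟨x', hx', m', hm', y', hy', he⟩ :=
        hPn (x * x₁) (mul_mem hx hx₁) _ (mul_mem h1 h2) (y₁ * y) (mul_mem hy₁ hy)
      refine ⟨x', hx', m', hm', y', hy', ?_⟩
      rw [← he]; group
    have hgen := Cfsg.Lib.Coprime.le_iSup_centralizer_of_not_isCyclic hnc hAN
      (hcop.coprime_dvd_right (card_dvd_of_le hNS))
    intro n hn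
    have hmem := hgen hn
    rw [iSup_eq_closure] at hmem
    clear hn
    suffices n ∈ N ∧ Pn n from this.2
    induction hmem using Subgroup.closure_induction_right with
    | one =>
      refine ⟨one_mem _, fun x hx m hm y hy => ⟨x, hx, m, hm, y, hy, by simp⟩⟩
    | mul_right u _ c hc ihu =>
      obtain ⟨a, hc⟩ := Set.mem_iUnion.1 hc
      exact ⟨mul_mem ihu.1 hc.1, hstep u ihu.1 ihu.2 a a.2.1 a.2.2 c hc.1 hc.2⟩
    | mul_inv_cancel u _ c hc ihu =>
      obtain ⟨a, hc⟩ := Set.mem_iUnion.1 hc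
      exact ⟨mul_mem ihu.1 (inv_mem hc.1), hstep u ihu.1 ihu.2 a a.2.1 a.2.2 _ (inv_mem hc.1) (inv_mem hc.2)⟩

theorem card_le_pPart {q : ℕ} [Fact q.Prime] {U Z : Subgroup H} (hU : IsPGroup q U) (hUZ : U ≤ Z) :
    Nat.card U ≤ q ^ (Nat.card Z).factorization q := by
  obtain ⟨n, hn⟩ := IsPGroup.iff_card.1 hU
  rw [hn]
  refine Nat.pow_le_pow_right (Fact.out : q.Prime).pos ?_
  refine ((Fact.out : q.Prime).pow_dvd_iff_le_factorization Nat.card_pos.ne').1 ?_
  exact hn ▸ card_dvd_of_le hUZ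

theorem card_prod_inf (P Q : Subgroup H) :
    Nat.card ((P : Set H) * (Q : Set H) : Set H) * Nat.card ↥(P ⊓ Q) = Nat.card P * Nat.card Q := by
  rw [Cfsg.Lib.Solv.card_mul_set P Q]
  have h := Cfsg.Lib.Core.card_mul_relIndex (inf_le_left : P ⊓ Q ≤ P)
  rw [inf_relIndex_left] at h
  rw [← h]
  ring

/-- An invariant Sylow subgroup, as a subgroup of the ambient group. -/
def Syl (q : ℕ) (Q Z : Subgroup H) : Prop :=
  Q ≤ Z ∧ IsPGroup q Q ∧ Nat.card Q = q ^ (Nat.card Z).factorization q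

theorem exists_syl_ge {q : ℕ} [Fact q.Prime] {A Z U : Subgroup H} [IsMulCommutative A]
    (hAZ : A ≤ normalizer (Z : Set H)) (hcop : (Nat.card A).Coprime (Nat.card Z)) (hUZ : U ≤ Z)
    (hU : IsPGroup q U) (hAU : A ≤ normalizer (U : Set H)) :
    ∃ Q : Subgroup H, U ≤ Q ∧ Syl q Q Z ∧ A ≤ normalizer (Q : Set H) := by
  obtain ⟨P, hUP, hP⟩ := Cfsg.Lib.Coprime.exists_invariant_sylow_ge hAZ hcop
    (Or.inl (Group.isSolvable_of_comm fun a b => mul_comm' a b)) hUZ hU hAU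
  refine ⟨_, hUP, ⟨map_subtype_le _, P.2.map _, ?_⟩, hP⟩
  rw [Cfsg.Lib.Core.card_map_subtype, P.card_eq_multiplicity]

theorem syl_conj {q : ℕ} [Fact q.Prime] {A Z P Q : Subgroup H} [IsMulCommutative A]
    (hAZ : A ≤ normalizer (Z : Set H)) (hcop : (Nat.card A).Coprime (Nat.card Z))
    (hP : Syl q P Z) (hQ : Syl q Q Z) (hAP : A ≤ normalizer (P : Set H))
    (hAQ : A ≤ normalizer (Q : Set H)) :
    ∃ c ∈ Z ⊓ centralizer (A : Set H), Q = P.map (MulAut.conj c).toMonoidHom := by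
  let P' : Sylow q Z := Sylow.ofCard (P.subgroupOf Z)
    (by rw [Nat.card_congr (subgroupOfEquivOfLe hP.1).toEquiv]; exact hP.2.2)
  let Q' : Sylow q Z := Sylow.ofCard (Q.subgroupOf Z)
    (by rw [Nat.card_congr (subgroupOfEquivOfLe hQ.1).toEquiv]; exact hQ.2.2)
  have hPe : (P' : Subgroup Z).map Z.subtype = P := map_subgroupOf_eq_of_le hP.1
  have hQe : (Q' : Subgroup Z).map Z.subtype = Q := map_subgroupOf_eq_of_le hQ.1
  have := Cfsg.Lib.Coprime.exists_centralizer_conj_sylow hAZ hcop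
    (Or.inl (Group.isSolvable_of_comm fun a b => mul_comm' a b)) P' Q'
    (by rw [hPe]; exact hAP) (by rw [hQe]; exact hAQ)
  rw [hPe, hQe] at this
  exact this

theorem centralizer_pPart_le {q : ℕ} [Fact q.Prime] {A Z Q : Subgroup H} [IsMulCommutative A]
    (hAZ : A ≤ normalizer (Z : Set H)) (hcop : (Nat.card A).Coprime (Nat.card Z))
    (hQ : Syl q Q Z) (hAQ : A ≤ normalizer (Q : Set H)) {a : H} (ha : a ∈ A) :
    q ^ (Nat.card ↥(Z ⊓ centralizer ({a} : Set H))).factorization q ≤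
      Nat.card ↥(Q ⊓ centralizer ({a} : Set H)) := by
  set C := Z ⊓ centralizer ({a} : Set H) with hC
  have hAa : A ≤ normalizer (centralizer ({a} : Set H) : Set H) := by
    refine fun b hb => le_normalizer (mem_centralizer_singleton_iff.2 ?_)
    exact congrArg Subtype.val (mul_comm' (⟨b, hb⟩ : A) ⟨a, ha⟩)
  have hAC : A ≤ normalizer (C : Set H) := (le_inf hAZ hAa).trans inf_normalizer_le_normalizer_inf
  obtain ⟨T, -, hT, hAT⟩ := exists_syl_ge hAC (hcop.coprime_dvd_right (card_dvd_of_le inf_le_left))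
    bot_le (IsPGroup.of_bot (p := q)) (by rw [normalizer_eq_top_iff.2 inferInstance]; exact le_top)
  obtain ⟨P, hTP, hP, hAP⟩ := exists_syl_ge hAZ hcop (hT.1.trans inf_le_left) hT.2.1 hAT
  obtain ⟨c, hc, hcQ⟩ := syl_conj hAZ hcop hP hQ hAP hAQ
  rw [← hT.2.2, ← card_map_of_injective (K := T) (f := (MulAut.conj c).toMonoidHom) (MulAut.conj c).injective]
  refine card_le_of_le ?_
  rintro _ ⟨t, ht, rfl⟩
  refine ⟨hcQ ▸ ⟨t, hTP ht, rfl⟩, mem_centralizer_singleton_iff.2 ?_⟩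
  have h1 : c * a = a * c := (mem_centralizer_iff.1 hc.2 a ha).symm
  have h2 := mem_centralizer_singleton_iff.1 (hT.1 ht).2
  show c * t * c⁻¹ * a = a * (c * t * c⁻¹)
  calc c * t * c⁻¹ * a = c * t * (c⁻¹ * (a * c)) * c⁻¹ := by group
    _ = c * (t * a) * c⁻¹ := by rw [← h1]; group
    _ = c * a * t * c⁻¹ := by rw [h2]; group
    _ = a * (c * t * c⁻¹) := by rw [h1]; group

theorem main (p : ℕ) [Fact p.Prime] (A K X Y : Subgroup H) (hA : Cfsg.IsElementaryAbelian p A)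
    (hA2 : p ^ 2 ≤ Nat.card ↥A) (hK : ¬ p ∣ Nat.card ↥K) (hAK : A ≤ normalizer (K : Set H))
    (hX : X ≤ K) (hY : Y ≤ K) (hAX : A ≤ normalizer (X : Set H)) (hAY : A ≤ normalizer (Y : Set H))
    (hCX : K ⊓ centralizer (A : Set H) ≤ normalizer (X : Set H))
    (hfac : ∀ a ∈ A, a ≠ 1 → ((K ⊓ centralizer {a} : Subgroup H) : Set H) =
      ((X ⊓ centralizer {a} : Subgroup H) : Set H) * ((Y ⊓ centralizer {a} : Subgroup H) : Set H)) :
    (K : Set H) = (X : Set H) * (Y : Set H) := by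
  classical
  have hp := (Fact.out : p.Prime)
  haveI := hA.1
  have hAp : IsPGroup p A := fun a => ⟨1, Subtype.ext (by simpa using hA.2 a a.2)⟩
  have hnc : ¬ IsCyclic A := by
    intro hc
    obtain ⟨a, ha⟩ := hc.exists_generator
    have h1 : Nat.card A = orderOf a := (orderOf_eq_card_of_forall_mem_zpowers ha).symm
    have h2 : orderOf a ≤ p := Nat.le_of_dvd hp.pos
      (orderOf_dvd_of_pow_eq_one (Subtype.ext (by simpa using hA.2 a a.2)))
    nlinarith [hp.two_le]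
  have hcop : (Nat.card A).Coprime (Nat.card K) := by
    obtain ⟨n, hn⟩ := IsPGroup.iff_card.1 hAp
    rw [hn]
    exact (hp.coprime_iff_not_dvd.2 hK).pow_left n
  have hsub : (X : Set H) * (Y : Set H) ⊆ (K : Set H) := by
    rintro _ ⟨x, hx, y, hy, rfl⟩
    exact mul_mem (hX hx) (hY hy)
  set c := Nat.card ↥((X : Set H) * (Y : Set H)) with hc
  have hmul : c * Nat.card ↥(X ⊓ Y) = Nat.card X * Nat.card Y := card_prod_inf X Y
  have hc0 : c ≠ 0 := by
    intro h0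
    rw [h0, zero_mul] at hmul
    exact (Nat.mul_pos (Nat.card_pos (α := X)) (Nat.card_pos (α := Y))).ne hmul
  suffices hdvd : Nat.card K ∣ c by
    refine (Set.eq_of_subset_of_ncard_le hsub ?_ (Set.toFinite _)).symm
    rw [← Nat.card_coe_set_eq, ← Nat.card_coe_set_eq, ← hc]
    exact Nat.le_of_dvd (Nat.pos_of_ne_zero hc0) hdvd
  refine (Nat.dvd_iff_prime_pow_dvd_dvd c (Nat.card K)).2 fun q k hq hk => ?_
  haveI : Fact q.Prime := ⟨hq⟩
  have hk' : q ^ k ∣ q ^ (Nat.card K).factorization q :=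
    pow_dvd_pow q ((hq.pow_dvd_iff_le_factorization Nat.card_pos.ne').1 hk)
  refine hk'.trans ?_
  have hcopX := hcop.coprime_dvd_right (card_dvd_of_le hX)
  have hcopY := hcop.coprime_dvd_right (card_dvd_of_le hY)
  have hbotn : A ≤ normalizer ((⊥ : Subgroup H) : Set H) := by
    rw [normalizer_eq_top_iff.2 inferInstance]; exact le_top
  obtain ⟨I0, -, hI0, hAI0⟩ := exists_syl_ge ((le_inf hAX hAY).trans inf_normalizer_le_normalizer_inf)
    (hcopX.coprime_dvd_right (card_dvd_of_le (inf_le_left : X ⊓ Y ≤ X))) bot_le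
    (IsPGroup.of_bot (p := q)) hbotn
  obtain ⟨R, hIR, hR, hAR⟩ := exists_syl_ge hAY hcopY (hI0.1.trans inf_le_right) hI0.2.1 hAI0
  obtain ⟨S, hRS, hS, hAS⟩ := exists_syl_ge hAK hcop (hR.1.trans hY) hR.2.1 hAR
  have hSY : Syl q (S ⊓ Y) Y := ⟨inf_le_right, hS.2.1.to_inf_left, le_antisymm
    (card_le_pPart hS.2.1.to_inf_left inf_le_right) (hR.2.2 ▸ card_le_of_le (le_inf hRS hR.1))⟩
  have hSI : Syl q (S ⊓ (X ⊓ Y)) (X ⊓ Y) := ⟨inf_le_right, hS.2.1.to_inf_left, le_antisymm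
    (card_le_pPart hS.2.1.to_inf_left inf_le_right)
    (hI0.2.2 ▸ card_le_of_le (le_inf (hIR.trans hRS) hI0.1))⟩
  have hSX : Syl q (S ⊓ X) X := by
    refine ⟨inf_le_right, hS.2.1.to_inf_left, le_antisymm (card_le_pPart hS.2.1.to_inf_left inf_le_right) ?_⟩
    obtain ⟨P, -, hP, hAP⟩ := exists_syl_ge hAX hcopX bot_le (IsPGroup.of_bot (p := q)) hbotn
    obtain ⟨S2, hPS2, hS2, hAS2⟩ := exists_syl_ge hAK hcop (hP.1.trans hX) hP.2.1 hAP
    obtain ⟨g, hg, hgS⟩ := syl_conj hAK hcop hS2 hS hAS2 hAS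
    rw [← hP.2.2, ← card_map_of_injective (K := P) (f := (MulAut.conj g).toMonoidHom) (MulAut.conj g).injective]
    refine card_le_of_le ?_
    rintro _ ⟨u, hu, rfl⟩
    exact ⟨hgS ▸ ⟨u, hPS2 hu, rfl⟩, (mem_normalizer_iff.1 (hCX hg) u).1 (hP.1 hu)⟩
  have hAsX : A ≤ normalizer ((S ⊓ X : Subgroup H) : Set H) :=
    (le_inf hAS hAX).trans inf_normalizer_le_normalizer_inf
  have hAsY : A ≤ normalizer ((S ⊓ Y : Subgroup H) : Set H) :=
    (le_inf hAS hAY).trans inf_normalizer_le_normalizer_inf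
  have hloc : ∀ a ∈ A, a ≠ 1 → ∀ u ∈ S, u ∈ centralizer ({a} : Set H) →
      ∃ x ∈ S ⊓ X, ∃ y ∈ S ⊓ Y, u = x * y := by
    intro a ha ha1 u hu hua
    set Ca := centralizer ({a} : Set H) with hCa
    set CK := K ⊓ Ca
    set CX := X ⊓ Ca
    set CY := Y ⊓ Ca
    set UX := S ⊓ X ⊓ Ca
    set UY := S ⊓ Y ⊓ Ca
    have hcK : Nat.card CK * Nat.card ↥(CX ⊓ CY) = Nat.card CX * Nat.card CY := by
      rw [← card_prod_inf CX CY, ← hfac a ha ha1]
      rfl
    have hUsub : (UX : Set H) * (UY : Set H) ⊆ ((S ⊓ Ca : Subgroup H) : Set H) := by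
      rintro _ ⟨x, hx, y, hy, rfl⟩
      exact ⟨mul_mem hx.1.1 hy.1.1, mul_mem hx.2 hy.2⟩
    have hge : Nat.card ↥(S ⊓ Ca) ≤ Nat.card ↥((UX : Set H) * (UY : Set H)) := by
      have hU := card_prod_inf UX UY
      have hI : Nat.card ↥(UX ⊓ UY) ≤ q ^ (Nat.card ↥(CX ⊓ CY)).factorization q :=
        card_le_pPart ((hS.2.1.to_inf_left (K := X)).to_inf_left.to_inf_left)
          (inf_le_inf (inf_le_inf_right _ inf_le_right) (inf_le_inf_right _ inf_le_right))
      have hK' : Nat.card ↥(S ⊓ Ca) ≤ q ^ (Nat.card CK).factorization q :=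
        card_le_pPart hS.2.1.to_inf_left (inf_le_inf_right _ hS.1)
      have hX' := centralizer_pPart_le hAX hcopX hSX hAsX ha
      have hY' := centralizer_pPart_le hAY hcopY hSY hAsY ha
      have hfact : (Nat.card CK).factorization q + (Nat.card ↥(CX ⊓ CY)).factorization q =
          (Nat.card CX).factorization q + (Nat.card CY).factorization q := by
        have h := congrArg (fun n : ℕ => n.factorization q) hcK
        simp only [Nat.factorization_mul Nat.card_pos.ne' Nat.card_pos.ne', Finsupp.add_apply] at h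
        exact h
      have hI0' : 0 < Nat.card ↥(UX ⊓ UY) := Nat.card_pos
      refine Nat.le_of_mul_le_mul_right ?_ hI0'
      rw [hU]
      calc Nat.card ↥(S ⊓ Ca) * Nat.card ↥(UX ⊓ UY)
          ≤ q ^ (Nat.card CK).factorization q * q ^ (Nat.card ↥(CX ⊓ CY)).factorization q :=
            Nat.mul_le_mul hK' hI
        _ = q ^ (Nat.card CX).factorization q * q ^ (Nat.card CY).factorization q := by
            rw [← pow_add, hfact, pow_add]
        _ ≤ _ := Nat.mul_le_mul hX' hY'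
    have heq : (UX : Set H) * (UY : Set H) = ((S ⊓ Ca : Subgroup H) : Set H) :=
      Set.eq_of_subset_of_ncard_le hUsub (by rwa [← Nat.card_coe_set_eq, ← Nat.card_coe_set_eq]) (Set.toFinite _)
    obtain ⟨x, hx, y, hy, he⟩ := heq.ge (show u ∈ ((S ⊓ Ca : Subgroup H) : Set H) from ⟨hu, hua⟩)
    exact ⟨x, hx.1, y, hy.1, he.symm⟩
  have hfacS := factor_pgroup hnc hS.2.1 hAS (hcop.coprime_dvd_right (card_dvd_of_le hS.1))
    inf_le_left inf_le_left hloc
  have hSset : ((S ⊓ X : Subgroup H) : Set H) * ((S ⊓ Y : Subgroup H) : Set H) = (S : Set H) := by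
    refine Set.Subset.antisymm ?_ fun z hz => ?_
    · rintro _ ⟨x, hx, y, hy, rfl⟩
      exact mul_mem hx.1 hy.1
    · obtain ⟨x, hx, y, hy, rfl⟩ := hfacS z hz
      exact Set.mul_mem_mul hx hy
  have hcS : Nat.card S * Nat.card ↥(S ⊓ (X ⊓ Y)) = Nat.card ↥(S ⊓ X) * Nat.card ↥(S ⊓ Y) := by
    rw [← card_prod_inf (S ⊓ X) (S ⊓ Y), hSset, ← inf_inf_distrib_left]
    rfl
  rw [hS.2.2, hSI.2.2, hSX.2.2, hSY.2.2, ← pow_add, ← pow_add] at hcS
  have he := Nat.pow_right_injective hq.two_le hcS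
  have hfc := congrArg (fun n : ℕ => n.factorization q) hmul
  simp only [Nat.factorization_mul hc0 Nat.card_pos.ne', Nat.factorization_mul
    (Nat.card_pos (α := X)).ne' (Nat.card_pos (α := Y)).ne', Finsupp.add_apply] at hfc
  have hfcK : (Nat.card K).factorization q = c.factorization q := by omega
  rw [hfcK]
  exact Nat.ordProj_dvd c q

end Cfsg.Lib.Sig.CoprimeFactor
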