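import Cfsg.Agent.Lib.Sig.FreeModuleAction
import Cfsg.Agent.Lib.Coprime.Action
import Cfsg.Agent.Lib.PGroup.Basic
import Cfsg.Agent.Lib.PGroup.ClassTwo
import Cfsg.Agent.Lib.Sig.Small
import Cfsg.Agent.Lib.Core.Cores
import Mathlib.Algebra.Module.ZMod
import Mathlib.Data.Nat.Choose.Dvd

/-!
An automorphism of odd prime order `p` of an abelian group `A` of order prime to `p` without fixed
points, acting compatibly with `A` on a `p`-group in which its fixed elements of order `p` form a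
group of order at most `p` centralized by `A`: then `A` centralizes the `p`-group.
-/

set_option autoImplicit false
set_option linter.style.haveILetI false

namespace Cfsg.Lib.Sig

open Subgroup
open scoped commutatorElement

universe u

variable {G : Type u} [Group G] [Finite G] {p : ℕ} [Fact p.Prime]

/-- The core computation, with everything already linear. -/
theorem false_of_linear_setup (hp2 : p ≠ 2) {V : Type u} [AddCommGroup V] [Module (ZMod p) V]
    [Finite V] [Nontrivial V]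
    {A : Type u} [CommGroup A] [Finite A] (hcop : (Nat.card A).Coprime p)
    (ρ : A →* Module.End (ZMod p) V) (α : A ≃* A)
    (hfpf : ∀ i, 0 < i → i < p → ∀ a : A, (α ^ i) a = a → a = 1) (u : Module.End (ZMod p) V)
    (hu : ∀ a, u * ρ a = ρ (α a) * u) (hup : u ^ p = 1) (hfix : ∀ v, (∀ a, ρ a v = v) → v = 0)
    (hker : Module.finrank (ZMod p) (LinearMap.ker (u - 1)) ≤ 1)
    (β : V →ₗ[ZMod p] V →ₗ[ZMod p] ZMod p) (halt : ∀ v, β v v = 0)
    (hrad : ∀ v, (∀ w, β v w = 0) → v = 0) : False := by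
  haveI : Fintype A := Fintype.ofFinite A
  have hd := finrank_eq_of_norm_ne_zero u hup hker (norm_ne_zero hcop ρ α hfpf u hu hfix)
  obtain ⟨v, hv, hv0⟩ := exists_radical_of_odd hp2 β halt
    (by rw [hd]; exact (Fact.out : p.Prime).odd_of_ne_two hp2)
  exact hv (hrad v hv0)

/-- A commutative group as a `CommGroup`. -/
@[reducible] def commGroupOf {Q : Type u} [inst : Group Q] (h : ∀ a b : Q, a * b = b * a) : CommGroup Q :=
  { inst with mul_comm := h }

theorem le_centralizer_of_cyclic_fixed (hp2 : p ≠ 2) (R A : Subgroup G) (b : G)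
    (hR : IsPGroup p ↥R) (hAc : ∀ x ∈ A, ∀ y ∈ A, x * y = y * x)
    (hAp : (Nat.card ↥A).Coprime p) (hAR : A ≤ normalizer (R : Set G))
    (hbR : b ∈ normalizer (R : Set G)) (hbA : b ∈ normalizer (A : Set G)) (hbp : b ^ p = 1)
    (hfpf : ∀ a ∈ A, b * a = a * b → a = 1) (B₀ : Subgroup G) (hB₀c : Nat.card ↥B₀ ≤ p)
    (hB₀ : ∀ x ∈ R, b * x = x * b → x ^ p = 1 → x ∈ B₀)
    (hB₀A : ∀ x ∈ B₀, ∀ a ∈ A, x * a = a * x) : A ≤ centralizer (R : Set G) := by
  classical
  by_contra hcon
  have hpp : p.Prime := Fact.out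
  obtain ⟨H, ⟨hHR, hAH, hbH, hHA⟩, hmin⟩ := (Set.toFinite {H : Subgroup G | H ≤ R ∧
    A ≤ normalizer (H : Set G) ∧ b ∈ normalizer (H : Set G) ∧
    ¬ A ≤ centralizer (H : Set G)}).exists_minimal ⟨R, le_rfl, hAR, hbR, hcon⟩
  have hprop : ∀ M : Subgroup G, M ≤ H → A ≤ normalizer (M : Set G) →
      b ∈ normalizer (M : Set G) → M ≠ H → A ≤ centralizer (M : Set G) := by
    intro M hMH hAM hbM hne
    by_contra h
    exact hne (le_antisymm hMH (hmin ⟨hMH.trans hHR, hAM, hbM, h⟩ hMH))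
  have hHp : IsPGroup p ↥H := hR.to_le hHR
  have hHne : H ≠ ⊥ := fun e => hHA (by
    rw [e]; intro a _; exact mem_centralizer_iff.2 fun x hx => by simp [mem_bot.1 hx])
  have hcopH : (Nat.card ↥A).Coprime (Nat.card ↥H) := by
    obtain ⟨k, hk⟩ := IsPGroup.iff_card.1 hHp
    rw [hk]; exact hAp.pow_right k
  haveI : IsMulCommutative ↥A := ⟨⟨fun a c => Subtype.ext (hAc a a.2 c c.2)⟩⟩
  have hsol : Group.IsSolvable ↥A ∨ Group.IsSolvable ↥H :=
    Or.inl (Group.isSolvable_of_comm fun a c => Subtype.ext (hAc a a.2 c c.2))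
  have hAeq : A.map (MulAut.conj b).toMonoidHom = A := map_conj_eq_of_mem_normalizer hbA
  -- `H = [H, A]`
  have hHAeq : ⁅H, A⁆ = H := by
    by_contra hne
    have h1 := hprop ⁅H, A⁆ (Cfsg.Lib.Coprime.commutator_le_of_le_normalizer hAH)
      (Subgroup.normalizer_commutator_ge_right H A) (mem_normalizer_of_map_conj (by
        rw [map_commutator, hAeq, map_conj_eq_of_mem_normalizer hbH])) hne
    refine hHA (le_centralizer_iff.1 (commutator_eq_bot_iff_le_centralizer.1 ?_))
    exact Cfsg.Lib.Coprime.commutator_eq_bot_of_commutator_commutator_eq_bot hAH hcopH hsol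
      (commutator_eq_bot_iff_le_centralizer.2 (le_centralizer_iff.1 h1))
  set N := H ⊓ centralizer (A : Set G) with hN
  have hNA : ∀ n ∈ N, ∀ a ∈ A, a * n = n * a := fun n hn a ha => mem_centralizer_iff.1 hn.2 a ha
  have hDN : ⁅H, H⁆ ≤ N := by
    refine le_inf (commutator_le_self H) (le_centralizer_iff.1 (hprop ⁅H, H⁆ (commutator_le_self H)
      (fun a ha => mem_normalizer_of_map_conj (by
        rw [map_commutator, map_conj_eq_of_mem_normalizer (hAH ha)]))
      (mem_normalizer_of_map_conj (by rw [map_commutator, map_conj_eq_of_mem_normalizer hbH]))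
      (Cfsg.Lib.PGroup.commutator_lt_of_isPGroup hHp hHp le_normalizer hHne).ne))
  have hHN : H ≤ normalizer (N : Set G) := fun h hh =>
    mem_normalizer_of_map_conj (eq_of_le_of_card_ge (by
      rintro _ ⟨n, hn, rfl⟩
      show h * n * h⁻¹ ∈ N
      rw [show h * n * h⁻¹ = ⁅h, n⁆ * n by rw [commutatorElement_def, inv_mul_cancel_right]]
      exact mul_mem (hDN (commutator_mem_commutator hh hn.1)) hn) (card_map_conj _ _).ge)
  have hcentral : ∀ n ∈ N, ∀ h ∈ H, h * n = n * h := by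
    intro n hn
    have hgen : ⁅H, A⁆ ≤ centralizer ({n} : Set G) := by
      refine commutator_le.2 fun h hh a ha => mem_centralizer_singleton_iff.2 ?_
      have hh' : a * h⁻¹ * a⁻¹ ∈ H := (mem_normalizer_iff.1 (hAH ha) _).1 (H.inv_mem hh)
      have h1 : a * ⁅h⁻¹, n⁆ = ⁅h⁻¹, n⁆ * a :=
        hNA _ (hDN (commutator_mem_commutator (H.inv_mem hh) hn.1)) a ha
      have e : ⁅a * h⁻¹ * a⁻¹, n⁆ = ⁅h⁻¹, n⁆ := by
        have hna : a * n * a⁻¹ = n := by rw [hNA n hn a ha, mul_inv_cancel_right]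
        calc ⁅a * h⁻¹ * a⁻¹, n⁆ = ⁅a * h⁻¹ * a⁻¹, a * n * a⁻¹⁆ := by rw [hna]
          _ = a * ⁅h⁻¹, n⁆ * a⁻¹ := by simp only [commutatorElement_def]; group
          _ = ⁅h⁻¹, n⁆ := by rw [h1, mul_inv_cancel_right]
      simp only [commutatorElement_def] at e ⊢
      have e' : (a * h⁻¹ * a⁻¹) * n * (a * h⁻¹ * a⁻¹)⁻¹ = h⁻¹ * n * h⁻¹⁻¹ := mul_right_cancel e
      calc h * a * h⁻¹ * a⁻¹ * n
          = h * ((a * h⁻¹ * a⁻¹) * n * (a * h⁻¹ * a⁻¹)⁻¹) * (a * h⁻¹ * a⁻¹) := by group
        _ = n * (h * a * h⁻¹ * a⁻¹) := by rw [e']; group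
    rw [hHAeq] at hgen
    exact fun h hh => mem_centralizer_singleton_iff.1 (hgen hh)
  -- `p`-th powers lie in `N`
  haveI : Nontrivial ↥H := (nontrivial_iff_ne_bot H).2 hHne
  have hpowN : ∀ x ∈ H, x ^ p ∈ N := by
    set F := (frattini ↥H).map H.subtype with hF
    have hFH : F ≤ H := map_subtype_le _
    have hFne : F ≠ H := fun e => Cfsg.Lib.PGroup.frattini_ne_top (G := ↥H)
      (Subgroup.map_injective H.subtype_injective
        (e.trans (by rw [← MonoidHom.range_eq_map, range_subtype])))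
    have hFinv : ∀ g ∈ normalizer (H : Set G), g ∈ normalizer (F : Set G) := by
      intro g hg
      exact (normal_subgroupOf_iff_le_normalizer (hFH.trans le_normalizer)).1
        (Cfsg.Lib.Core.subgroupOf_map_char_normal le_normalizer normal_in_normalizer _) hg
    have h1 := hprop F hFH (fun a ha => hFinv a (hAH ha)) (hFinv b hbH) hFne
    intro x hx
    exact ⟨H.pow_mem hx p, le_centralizer_iff.1 h1
      ⟨⟨x, hx⟩ ^ p, Cfsg.Lib.PGroup.pow_mem_frattini hHp _, rfl⟩⟩
  -- exponent `p`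
  have hcl : commutator ↥H ≤ center ↥H := by
    rw [_root_.commutator_def, commutator_le]
    intro x _ y _
    exact mem_center_iff.2 fun z => Subtype.ext
      (hcentral _ (hDN (commutator_mem_commutator x.2 y.2)) z z.2)
  have hcompow : ∀ x ∈ H, ∀ y ∈ H, ⁅x, y⁆ ^ p = 1 := by
    intro x hx y hy
    have hc : Commute ⁅x, y⁆ y :=
      (hcentral _ (hDN (commutator_mem_commutator hx hy)) y hy).symm
    have e : x * y * x⁻¹ = ⁅x, y⁆ * y := by rw [commutatorElement_def, inv_mul_cancel_right]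
    have h1 : (x * y * x⁻¹) ^ p = y ^ p := by
      rw [conj_pow, hcentral _ (hpowN y hy) x hx, mul_inv_cancel_right]
    rw [e, hc.mul_pow] at h1
    exact mul_eq_right.1 h1
  have hmulpow : ∀ x ∈ H, ∀ y ∈ H, (x * y) ^ p = x ^ p * y ^ p := by
    intro x hx y hy
    have h := congrArg Subtype.val
      (Cfsg.Lib.PGroup.mul_pow_of_class_two hcl (⟨x, hx⟩ : ↥H) ⟨y, hy⟩ p)
    obtain ⟨k, hk⟩ := Nat.Prime.dvd_choose_self hpp two_ne_zero (lt_of_le_of_ne hpp.two_le (Ne.symm hp2))
    simp only [SubmonoidClass.coe_pow, Subgroup.coe_mul] at h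
    rw [h, hk, pow_mul]
    have h2 : ((⁅(⟨y, hy⟩ : ↥H), ⟨x, hx⟩⁆ : ↥H) : G) ^ p = 1 := hcompow y hy x hx
    rw [h2, one_pow, mul_one]
  have hexp : ∀ x ∈ H, x ^ p = 1 := by
    let f : ↥H →* G := MonoidHom.mk' (fun x => (x : G) ^ p) fun x y => hmulpow x x.2 y y.2
    have h : ⁅H, A⁆ ≤ f.ker.map H.subtype := commutator_le.2 fun x hx a ha => by
      have hx' : a * x⁻¹ * a⁻¹ ∈ H := (mem_normalizer_iff.1 (hAH ha) _).1 (H.inv_mem hx)
      refine ⟨⟨x * (a * x⁻¹ * a⁻¹), H.mul_mem hx hx'⟩, ?_, ?_⟩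
      · show (x * (a * x⁻¹ * a⁻¹)) ^ p = 1
        rw [hmulpow x hx _ hx', conj_pow, hNA _ (hpowN _ (H.inv_mem hx)) a ha, mul_inv_cancel_right,
          inv_pow, mul_inv_cancel]
      · show x * (a * x⁻¹ * a⁻¹) = ⁅x, a⁆
        rw [commutatorElement_def]; group
    intro x hx
    rw [hHAeq] at h
    obtain ⟨y, hy, rfl⟩ := h hx
    exact hy
  -- the quotient as a vector space
  set N' := N.subgroupOf H with hN'
  haveI : N'.Normal := (normal_subgroupOf_iff_le_normalizer inf_le_left).2 hHN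
  letI : CommGroup (↥H ⧸ N') := commGroupOf fun a c => by
    obtain ⟨x, rfl⟩ := QuotientGroup.mk'_surjective N' a
    obtain ⟨y, rfl⟩ := QuotientGroup.mk'_surjective N' c
    rw [← map_mul, ← map_mul, QuotientGroup.mk'_apply, QuotientGroup.mk'_apply, QuotientGroup.eq]
    refine mem_subgroupOf.2 (hDN ?_)
    have e : (((x * y)⁻¹ * (y * x) : ↥H) : G) = ⁅(y : G)⁻¹, (x : G)⁻¹⁆ := by
      simp only [Subgroup.coe_mul, Subgroup.coe_inv, commutatorElement_def]; group
    rw [e]
    exact commutator_mem_commutator (H.inv_mem y.2) (H.inv_mem x.2)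
  set V := Additive (↥H ⧸ N') with hV
  have : Module (ZMod p) V := AddCommGroup.zmodModule fun v => by
    obtain ⟨x, hx⟩ := QuotientGroup.mk'_surjective N' v.toMul
    apply Additive.toMul.injective
    rw [toMul_nsmul, toMul_zero, ← hx, ← map_pow]
    refine (QuotientGroup.eq_one_iff _).2 (mem_subgroupOf.2 ?_)
    rw [Subgroup.coe_pow, hexp x x.2]; exact N.one_mem
  haveI : Finite V := inferInstanceAs (Finite (↥H ⧸ N'))
  let cj : ∀ g : G, g ∈ normalizer (H : Set G) → (↥H →* ↥H) := fun g hg =>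
    ((MulAut.conj g).toMonoidHom.comp H.subtype).codRestrict H fun x =>
      (mem_normalizer_iff.1 hg _).1 x.2
  have hNinv : ∀ g : G, g ∈ normalizer (H : Set G) → g ∈ normalizer (A : Set G) →
      ∀ n ∈ N, g * n * g⁻¹ ∈ N := fun g hg hgA n hn =>
    ⟨(mem_normalizer_iff.1 hg n).1 hn.1, mem_centralizer_iff.2 fun a ha => by
      have h := hNA n hn _ ((mem_normalizer_iff''.1 hgA a).1 ha)
      calc a * (g * n * g⁻¹) = g * (g⁻¹ * a * g * n) * g⁻¹ := by group
        _ = g * n * g⁻¹ * a := by rw [h]; group⟩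
  let act : ∀ g : G, g ∈ normalizer (H : Set G) → g ∈ normalizer (A : Set G) →
      Module.End (ZMod p) V := fun g hg hgA =>
    AddMonoidHom.toZModLinearMap p (MonoidHom.toAdditive (QuotientGroup.map N' N' (cj g hg)
      (fun x hx => mem_comap.2 (mem_subgroupOf.2 (hNinv g hg hgA _ (mem_subgroupOf.1 hx))))))
  let mk : ↥H → V := fun x => Additive.ofMul (QuotientGroup.mk' N' x)
  have hmk : ∀ v : V, ∃ x, mk x = v := fun v => by
    obtain ⟨x, hx⟩ := QuotientGroup.mk'_surjective N' v.toMul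
    exact ⟨x, congrArg Additive.ofMul hx⟩
  have hact : ∀ g hg hgA (x : ↥H), act g hg hgA (mk x) = mk (cj g hg x) := fun g hg hgA x => rfl
  have hAA : A ≤ normalizer (A : Set G) := le_normalizer
  -- the action of `A`
  letI : CommGroup ↥A := commGroupOf fun a c => Subtype.ext (hAc a a.2 c c.2)
  let ρ : ↥A →* Module.End (ZMod p) V :=
    { toFun := fun a => act a (hAH a.2) (hAA a.2)
      map_one' := LinearMap.ext fun v => by
        obtain ⟨x, rfl⟩ := hmk v
        show mk (cj (1 : ↥A) (hAH (1 : ↥A).2) x) = mk x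
        exact congrArg mk (Subtype.ext (by simp [cj]))
      map_mul' := fun a c => LinearMap.ext fun v => by
        obtain ⟨x, rfl⟩ := hmk v
        show mk (cj (a * c : ↥A) (hAH (a * c : ↥A).2) x) = mk (cj a (hAH a.2) (cj c (hAH c.2) x))
        exact congrArg mk (Subtype.ext (by simp [cj, mul_assoc])) }
  let α : ↥A ≃* ↥A := (A.equivMapOfInjective (MulAut.conj b).toMonoidHom
    (MulAut.conj b).injective).trans (MulEquiv.subgroupCongr hAeq)
  have hα : ∀ (i : ℕ) (a : ↥A), (((α ^ i) a : ↥A) : G) = b ^ i * a * (b ^ i)⁻¹ := by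
    intro i
    induction i with
    | zero => intro a; simp
    | succ i ih =>
      intro a
      rw [pow_succ α, MulAut.mul_apply, ih, pow_succ]
      show b ^ i * (b * a * b⁻¹) * (b ^ i)⁻¹ = _
      group
  set u := act b hbH hbA with hu
  have humk : ∀ x : ↥H, u (mk x) = mk (cj b hbH x) := fun x => rfl
  have hρmk : ∀ (a : ↥A) (x : ↥H), ρ a (mk x) = mk (cj a (hAH a.2) x) := fun a x => rfl
  have hupow : ∀ (i : ℕ) (x : ↥H), (u ^ i) (mk x) =
      mk ⟨b ^ i * x * (b ^ i)⁻¹, (mem_normalizer_iff.1 (pow_mem hbH i) _).1 x.2⟩ := by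
    intro i
    induction i with
    | zero => intro x; simp
    | succ i ih =>
      intro x
      rw [pow_succ u, Module.End.mul_apply, humk, ih]
      refine congrArg mk (Subtype.ext ?_)
      show b ^ i * (b * x * b⁻¹) * (b ^ i)⁻¹ = b ^ (i + 1) * x * (b ^ (i + 1))⁻¹
      rw [pow_succ]; group
  have hup : u ^ p = 1 := LinearMap.ext fun v => by
    obtain ⟨x, rfl⟩ := hmk v
    refine (hupow p x).trans ?_
    rw [Module.End.one_apply]
    exact congrArg mk (Subtype.ext (by simp [hbp]))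
  have hub : ∀ a, u * ρ a = ρ (α a) * u := fun a => LinearMap.ext fun v => by
    obtain ⟨x, rfl⟩ := hmk v
    rw [Module.End.mul_apply, Module.End.mul_apply, hρmk, humk, humk, hρmk]
    refine congrArg mk (Subtype.ext ?_)
    show b * ((a : G) * x * (a : G)⁻¹) * b⁻¹ = (b * a * b⁻¹) * (b * x * b⁻¹) * (b * a * b⁻¹)⁻¹
    group
  have hfpf' : ∀ i, 0 < i → i < p → ∀ a : ↥A, (α ^ i) a = a → a = 1 := by
    intro i hi hip a ha
    have h1 : b ^ i * (a : G) * (b ^ i)⁻¹ = a := by rw [← hα i a, ha]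
    have hcop : (orderOf b).Coprime i := Nat.Coprime.coprime_dvd_left (orderOf_dvd_of_pow_eq_one hbp)
      (hpp.coprime_iff_not_dvd.2 fun hd => absurd (Nat.le_of_dvd hi hd) (not_le.2 hip))
    obtain ⟨m, hm⟩ := exists_pow_eq_self_of_coprime hcop.symm
    have hc : Commute (b ^ i) (a : G) := mul_inv_eq_iff_eq_mul.1 h1
    have hc' := hc.pow_left m
    rw [hm] at hc'
    exact Subtype.ext (hfpf a a.2 hc'.eq)
  -- fixed vectors of `A`
  have hmk0 : ∀ x : ↥H, mk x = 0 ↔ (x : G) ∈ N := fun x => by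
    show Additive.ofMul (QuotientGroup.mk' N' x) = 0 ↔ _
    rw [ofMul_eq_zero, QuotientGroup.mk'_apply, QuotientGroup.eq_one_iff, mem_subgroupOf]
  have hmkinj : ∀ x y : ↥H, mk x = mk y ↔ (x : G)⁻¹ * y ∈ N := fun x y => by
    show Additive.ofMul (QuotientGroup.mk' N' x) = Additive.ofMul (QuotientGroup.mk' N' y) ↔ _
    rw [Additive.ofMul.apply_eq_iff_eq, QuotientGroup.mk'_apply, QuotientGroup.mk'_apply,
      QuotientGroup.eq, mem_subgroupOf, Subgroup.coe_mul, Subgroup.coe_inv]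
  have hbadd : ∀ x y : ↥H, mk (x * y) = mk x + mk y := fun x y => by
    show Additive.ofMul (QuotientGroup.mk' N' (x * y)) = _
    rw [map_mul]; rfl
  have hinvsub : ∀ P : Submodule (ZMod p) V, (∀ a, ∀ v ∈ P, ρ a v ∈ P) → (∀ v ∈ P, u v ∈ P) →
      P ≠ ⊤ → P = ⊥ := by
    intro P hPA hPu hPtop
    let M : Subgroup G := (
      { carrier := {x : ↥H | mk x ∈ P}
        one_mem' := by
          show mk 1 ∈ P
          rw [(hmk0 1).2 N.one_mem]; exact P.zero_mem
        mul_mem' := fun {x y} hx hy => by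
          show mk (x * y) ∈ P
          rw [hbadd]; exact P.add_mem hx hy
        inv_mem' := fun {x} hx => by
          show mk x⁻¹ ∈ P
          have : mk x⁻¹ = - mk x := by
            show Additive.ofMul (QuotientGroup.mk' N' x⁻¹) = _
            rw [map_inv]; rfl
          rw [this]; exact P.neg_mem hx } : Subgroup ↥H).map H.subtype
    have hAM : A ≤ normalizer (M : Set G) := fun a ha =>
      mem_normalizer_of_map_conj (eq_of_le_of_card_ge (by
        rintro _ ⟨_, ⟨x, hx, rfl⟩, rfl⟩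
        exact ⟨cj a (hAH ha) x, hPA ⟨a, ha⟩ _ hx, rfl⟩) (card_map_conj _ _).ge)
    have hbM : b ∈ normalizer (M : Set G) :=
      mem_normalizer_of_map_conj (eq_of_le_of_card_ge (by
        rintro _ ⟨_, ⟨x, hx, rfl⟩, rfl⟩
        exact ⟨cj b hbH x, hPu _ hx, rfl⟩) (card_map_conj _ _).ge)
    have hM : M ≠ H := by
      intro e
      refine hPtop (eq_top_iff.2 fun v _ => ?_)
      obtain ⟨x, rfl⟩ := hmk v
      obtain ⟨y, hy, hyx⟩ : (x : G) ∈ M := e.symm ▸ x.2
      exact (Subtype.ext hyx : y = x) ▸ hy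
    have h := hprop M (map_subtype_le _) hAM hbM hM
    refine (Submodule.eq_bot_iff P).2 fun v hv => ?_
    obtain ⟨x, rfl⟩ := hmk v
    exact (hmk0 x).2 ⟨x.2, le_centralizer_iff.1 h ⟨x, hv, rfl⟩⟩
  haveI : Nontrivial V := by
    obtain ⟨x, hx, hxN⟩ : ∃ x ∈ H, x ∉ N := by
      by_contra h
      push Not at h
      exact hHA fun a ha => mem_centralizer_iff.2 fun x hx => (hNA x (h x hx) a ha).symm
    exact ⟨⟨mk ⟨x, hx⟩, 0, fun h => hxN ((hmk0 _).1 h)⟩⟩
  have hfix : ∀ v, (∀ a, ρ a v = v) → v = 0 := by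
    let P : Submodule (ZMod p) V :=
      { carrier := {v | ∀ a, ρ a v = v}
        add_mem' := fun {v w} hv hw a => by rw [map_add, hv a, hw a]
        zero_mem' := fun a => map_zero _
        smul_mem' := fun c v hv a => by rw [map_smul, hv a] }
    have hP : P = ⊥ := hinvsub P (fun a v hv c => by
        rw [← Module.End.mul_apply, ← map_mul, mul_comm, map_mul, Module.End.mul_apply, hv c])
      (fun v hv a => by
        have e : a = α (α.symm a) := (α.apply_symm_apply a).symm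
        rw [e, ← Module.End.mul_apply, ← hub, Module.End.mul_apply, hv]) (fun h => by
        refine hHA (le_centralizer_iff.1 (commutator_eq_bot_iff_le_centralizer.1 ?_))
        refine Cfsg.Lib.Coprime.commutator_eq_bot_of_stabilizes hAH hcopH hsol (N := N)
          (commutator_le.2 fun x hx a ha => ?_) (Cfsg.Lib.Core.commutator_eq_bot_iff_forall.2
            fun n hn a ha => (hNA n hn a ha).symm)
        have hv : ρ ⟨a, ha⟩ (mk ⟨x⁻¹, H.inv_mem hx⟩) = mk ⟨x⁻¹, H.inv_mem hx⟩ :=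
          (h.symm ▸ Submodule.mem_top : mk ⟨x⁻¹, H.inv_mem hx⟩ ∈ P) ⟨a, ha⟩
        have h2 := (hmkinj _ _).1 hv.symm
        show x * a * x⁻¹ * a⁻¹ ∈ N
        have e : (((⟨x⁻¹, H.inv_mem hx⟩ : ↥H) : G))⁻¹ * (cj a (hAH ha) ⟨x⁻¹, H.inv_mem hx⟩ : ↥H) =
            x * a * x⁻¹ * a⁻¹ := by
          show x⁻¹⁻¹ * (a * x⁻¹ * a⁻¹) = _
          group
        rw [← e]; exact h2)
    intro v hv
    have : v ∈ P := hv
    rwa [hP, Submodule.mem_bot] at this
  -- `C_V(b)` has dimension at most one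
  have hCH : ∀ x ∈ H, b * x = x * b → x ∈ N := fun x hx hc =>
    ⟨hx, mem_centralizer_iff.2 fun a ha => (hB₀A x (hB₀ x (hHR hx) hc (hexp x hx)) a ha).symm⟩
  have hker : Module.finrank (ZMod p) (LinearMap.ker (u - 1)) ≤ 1 := by
    set K := LinearMap.ker (u - 1) with hK
    let W : Subgroup G := (
      { carrier := {x : ↥H | mk x ∈ K}
        one_mem' := by
          show mk 1 ∈ K
          rw [(hmk0 1).2 N.one_mem]; exact K.zero_mem
        mul_mem' := fun {x y} hx hy => by
          show mk (x * y) ∈ K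
          rw [hbadd]; exact K.add_mem hx hy
        inv_mem' := fun {x} hx => by
          show mk x⁻¹ ∈ K
          have : mk x⁻¹ = - mk x := by
            show Additive.ofMul (QuotientGroup.mk' N' x⁻¹) = _
            rw [map_inv]; rfl
          rw [this]; exact K.neg_mem hx } : Subgroup ↥H).map H.subtype
    have hWb : ∀ x ∈ W, x⁻¹ * (b * x * b⁻¹) ∈ N := by
      rintro _ ⟨x, hx, rfl⟩
      have h : u (mk x) - mk x = 0 := hx
      rw [sub_eq_zero] at h
      exact (hmkinj x (cj b hbH x)).1 h.symm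
    let θ : ↥W →* ↥N := MonoidHom.mk' (fun x => ⟨(x : G)⁻¹ * (b * x * b⁻¹), hWb x x.2⟩) fun x y => by
      refine Subtype.ext ?_
      show ((x : G) * y)⁻¹ * (b * ((x : G) * y) * b⁻¹) =
        (x : G)⁻¹ * (b * x * b⁻¹) * ((y : G)⁻¹ * (b * y * b⁻¹))
      have h := hcentral _ (hWb x x.2) (y : G)⁻¹ (H.inv_mem (map_subtype_le _ y.2))
      calc ((x : G) * y)⁻¹ * (b * ((x : G) * y) * b⁻¹)
          = (y : G)⁻¹ * ((x : G)⁻¹ * (b * x * b⁻¹)) * (b * y * b⁻¹) := by group
        _ = _ := by rw [h]; group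
    have hkc : Nat.card ↥θ.ker ≤ p := by
      refine le_trans (Nat.card_le_card_of_injective (fun w : ↥θ.ker => (⟨((w : ↥W) : G), ?_⟩ : ↥B₀))
        fun v w h => Subtype.ext (Subtype.ext (congrArg Subtype.val h :))) hB₀c
      have h : ((w : ↥W) : G)⁻¹ * (b * (w : ↥W) * b⁻¹) = 1 := congrArg Subtype.val w.2
      rw [inv_mul_eq_one, eq_comm, mul_inv_eq_iff_eq_mul] at h
      exact hB₀ _ (hHR (map_subtype_le _ (w : ↥W).2)) h (hexp _ (map_subtype_le _ (w : ↥W).2))
    have hWcard : Nat.card ↥W ≤ p * Nat.card ↥N := by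
      rw [← card_mul_index θ.ker, index_ker]
      exact Nat.mul_le_mul hkc (Nat.card_le_card_of_injective _ θ.range.subtype_injective)
    have hNW : N ≤ W := fun n hn => ⟨⟨n, hn.1⟩, by
      show mk ⟨n, hn.1⟩ ∈ K
      rw [(hmk0 _).2 hn]; exact K.zero_mem, rfl⟩
    let π : ↥W → ↥K := fun w => ⟨mk ⟨w, map_subtype_le _ w.2⟩, by
      obtain ⟨x, hx, e⟩ := w.2
      rw [show (⟨(w : G), map_subtype_le _ w.2⟩ : ↥H) = x from Subtype.ext e.symm]
      exact hx⟩
    have hπ : ∀ v : ↥K, Nat.card ↥N ≤ Nat.card {w : ↥W // π w = v} := by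
      intro v
      obtain ⟨x, hx⟩ := hmk v.1
      have hxW : (x : G) ∈ W := ⟨x, by show mk x ∈ K; rw [hx]; exact v.2, rfl⟩
      refine Nat.card_le_card_of_injective (fun n : ↥N => ⟨⟨(x : G) * n, W.mul_mem hxW (hNW n.2)⟩,
        Subtype.ext ?_⟩) fun n m h => Subtype.ext (mul_left_cancel
          (congrArg (fun q : {w : ↥W // π w = v} => ((q.1 : ↥W) : G)) h :))
      show mk _ = v.1
      rw [← hx, hmkinj]
      show ((x : G) * n)⁻¹ * x ∈ N
      rw [mul_inv_rev, inv_mul_cancel_right]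
      exact N.inv_mem n.2
    have hKcard : Nat.card ↥K * Nat.card ↥N ≤ Nat.card ↥W := by
      haveI : Fintype ↥K := Fintype.ofFinite _
      rw [← Nat.card_congr (Equiv.sigmaFiberEquiv π), Nat.card_sigma]
      calc Nat.card ↥K * Nat.card ↥N = ∑ _v : ↥K, Nat.card ↥N := by
            rw [Finset.sum_const, Finset.card_univ, ← Nat.card_eq_fintype_card, smul_eq_mul]
        _ ≤ _ := Finset.sum_le_sum fun v _ => hπ v
    have hKp : Nat.card ↥K ≤ p := Nat.le_of_mul_le_mul_right (hKcard.trans hWcard) Nat.card_pos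
    rw [Module.natCard_eq_pow_finrank (K := ZMod p), Nat.card_zmod] at hKp
    exact (Nat.pow_le_pow_iff_right hpp.one_lt).1 (hKp.trans_eq (pow_one p).symm)
  -- a `b`-invariant functional on `N`
  letI : CommGroup ↥N := commGroupOf fun a c => Subtype.ext (hcentral c c.2 a a.2.1)
  have : Module (ZMod p) (Additive ↥N) := AddCommGroup.zmodModule fun v => by
    apply Additive.toMul.injective
    rw [toMul_nsmul, toMul_zero]
    exact Subtype.ext (hexp _ v.toMul.2.1)
  haveI : Finite (Additive ↥N) := inferInstanceAs (Finite ↥N)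
  let cb : ↥N →* ↥N := ((MulAut.conj b).toMonoidHom.comp N.subtype).codRestrict N fun n =>
    hNinv b hbH hbA n n.2
  set T : Module.End (ZMod p) (Additive ↥N) :=
    AddMonoidHom.toZModLinearMap p (MonoidHom.toAdditive cb) - 1 with hT
  have hNne : N ≠ ⊥ := by
    intro h0
    haveI : Finite ↥H := inferInstance
    -- the fixed vectors of `b` would lift
    have hk0 : LinearMap.ker (u - 1) = ⊥ := by
      refine (Submodule.eq_bot_iff _).2 fun v hv => ?_
      obtain ⟨x, rfl⟩ := hmk v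
      have h : u (mk x) - mk x = 0 := hv
      rw [sub_eq_zero] at h
      have h1 := (hmkinj x (cj b hbH x)).1 h.symm
      rw [h0, mem_bot, inv_mul_eq_one] at h1
      refine (hmk0 x).2 (hCH x x.2 ?_)
      exact (eq_mul_inv_iff_mul_eq.1 h1).symm
    haveI : Fintype ↥A := Fintype.ofFinite _
    have hd := finrank_eq_of_norm_ne_zero u hup hker (norm_ne_zero hAp ρ α hfpf' u hub hfix)
    have hbotn : (u - 1) ^ p = 0 := (sum_pow_eq_sub_pow u).2 hup
    obtain ⟨v, hv⟩ := exists_ne (0 : V)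
    have hinj : Function.Injective ⇑(u - 1) := LinearMap.ker_eq_bot.1 hk0
    have : ((u - 1) ^ p) v ≠ 0 := by
      rw [Module.End.pow_apply]
      intro h
      exact hv ((hinj.iterate p) (h.trans (Function.iterate_fixed (map_zero (u - 1)) p).symm))
    rw [hbotn] at this
    exact this rfl
  have hTlt : LinearMap.range T < ⊤ := by
    refine lt_top_iff_ne_top.2 fun h => hNne ?_
    have hs : Function.Surjective T := LinearMap.range_eq_top.1 h
    have hi : Function.Injective T := Finite.injective_iff_surjective.2 hs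
    refine (Subgroup.eq_bot_iff_forall _).2 fun n hn => ?_
    by_contra hn1
    have hTp : (T ^ p) = 0 := by
      refine (sum_pow_eq_sub_pow (AddMonoidHom.toZModLinearMap p (MonoidHom.toAdditive cb))).2 ?_
      refine LinearMap.ext fun v => ?_
      have hit : ∀ (i : ℕ) (v : Additive ↥N), (((AddMonoidHom.toZModLinearMap p
          (MonoidHom.toAdditive cb)) ^ i) v).toMul.1 = b ^ i * v.toMul.1 * (b ^ i)⁻¹ := by
        intro i
        induction i with
        | zero => intro v; simp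
        | succ i ih =>
          intro v
          rw [pow_succ, Module.End.mul_apply, ih, pow_succ]
          show b ^ i * (b * v.toMul.1 * b⁻¹) * (b ^ i)⁻¹ = _
          group
      apply Additive.toMul.injective
      refine Subtype.ext ?_
      rw [hit, hbp]
      simp
    have h2 := congrArg (fun f : Module.End (ZMod p) (Additive ↥N) => f (Additive.ofMul ⟨n, hn⟩)) hTp
    simp only [Module.End.pow_apply, LinearMap.zero_apply] at h2
    have h3 := (hi.iterate p) (h2.trans (Function.iterate_fixed (map_zero T) p).symm)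
    rw [ofMul_eq_zero] at h3
    exact hn1 (congrArg Subtype.val h3)
  obtain ⟨lam, hlam, hlamT⟩ := Submodule.exists_le_ker_of_lt_top _ hTlt
  let lam' : ↥N → ZMod p := fun n => lam (Additive.ofMul n)
  have hlmul : ∀ m n : ↥N, lam' (m * n) = lam' m + lam' n := fun m n => by
    show lam (Additive.ofMul (m * n)) = _
    rw [ofMul_mul, map_add]
  have hlb : ∀ n : ↥N, lam' (cb n) = lam' n := fun n => by
    have := LinearMap.mem_ker.1 (hlamT (LinearMap.mem_range_self T (Additive.ofMul n)))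
    rw [hT, LinearMap.sub_apply, Module.End.one_apply, map_sub, sub_eq_zero] at this
    exact this
  -- the commutator pairing
  let c : ↥H → ↥H → ↥N := fun x y => ⟨⁅(x : G), (y : G)⁆, hDN (commutator_mem_commutator x.2 y.2)⟩
  have hcl' : ∀ x x' y : ↥H, c (x * x') y = c x y * c x' y := fun x x' y => by
    refine Subtype.ext ?_
    show ⁅(x : G) * x', (y : G)⁆ = ⁅(x : G), (y : G)⁆ * ⁅(x' : G), (y : G)⁆
    have h := hcentral _ (hDN (commutator_mem_commutator x'.2 y.2)) x x.2
    calc ⁅(x : G) * x', (y : G)⁆ = (x : G) * ⁅(x' : G), (y : G)⁆ * ((y : G) * (x : G)⁻¹ * (y : G)⁻¹) := by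
          simp only [commutatorElement_def]; group
      _ = ⁅(x' : G), (y : G)⁆ * ⁅(x : G), (y : G)⁆ := by rw [h]; simp only [commutatorElement_def]; group
      _ = _ := (hcentral _ (hDN (commutator_mem_commutator x.2 y.2)) _
          (hDN (commutator_mem_commutator x'.2 y.2)).1)
  have hcsym : ∀ x y : ↥H, c y x = (c x y)⁻¹ := fun x y => by
    refine Subtype.ext ?_
    show ⁅(y : G), (x : G)⁆ = ⁅(x : G), (y : G)⁆⁻¹
    rw [commutatorElement_inv]
  have hcr : ∀ x y y' : ↥H, c x (y * y') = c x y * c x y' := fun x y y' => by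
    rw [hcsym (y * y') x, hcl', mul_inv_rev, ← hcsym, ← hcsym]; exact mul_comm _ _
  have hcN : ∀ x y : ↥H, (x : G) ∈ N → c x y = 1 := fun x y hx => by
    refine Subtype.ext ?_
    show ⁅(x : G), (y : G)⁆ = 1
    rw [commutatorElement_eq_one_iff_mul_comm]; exact (hcentral _ hx y y.2).symm
  let B₁ : ↥H → V →+ ZMod p := fun x => MonoidHom.toAdditiveLeft (QuotientGroup.lift N'
    (MonoidHom.mk' (fun y => Multiplicative.ofAdd (lam' (c x y))) fun y y' => by
      rw [hcr, hlmul]; rfl) (fun y hy => by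
        show Multiplicative.ofAdd (lam' (c x y)) = 1
        rw [hcsym y x, hcN y x (mem_subgroupOf.1 hy), inv_one]
        show Multiplicative.ofAdd (lam (Additive.ofMul 1)) = 1
        rw [ofMul_one, map_zero]; rfl))
  have hB₁ : ∀ x y, B₁ x (mk y) = lam' (c x y) := fun x y => rfl
  let B₂ : V →+ V →+ ZMod p := MonoidHom.toAdditiveLeft (QuotientGroup.lift N'
    (MonoidHom.mk' (fun x => Multiplicative.ofAdd (B₁ x)) fun x x' => by
      apply Multiplicative.toAdd.injective
      refine AddMonoidHom.ext fun v => ?_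
      obtain ⟨y, rfl⟩ := hmk v
      show B₁ (x * x') (mk y) = B₁ x (mk y) + B₁ x' (mk y)
      rw [hB₁, hB₁, hB₁, hcl', hlmul]) (fun x hx => by
        apply Multiplicative.toAdd.injective
        refine AddMonoidHom.ext fun v => ?_
        obtain ⟨y, rfl⟩ := hmk v
        show B₁ x (mk y) = 0
        rw [hB₁, hcN x y (mem_subgroupOf.1 hx)]
        show lam (Additive.ofMul 1) = 0
        rw [ofMul_one, map_zero]))
  have hB₂ : ∀ x y, B₂ (mk x) (mk y) = lam' (c x y) := fun x y => rfl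
  let β : V →ₗ[ZMod p] V →ₗ[ZMod p] ZMod p := AddMonoidHom.toZModLinearMap p
    { toFun := fun v => AddMonoidHom.toZModLinearMap p (B₂ v)
      map_zero' := LinearMap.ext fun w => by simp
      map_add' := fun v v' => LinearMap.ext fun w => by simp }
  have hβ : ∀ x y, β (mk x) (mk y) = lam' (c x y) := fun x y => rfl
  have hlA : ∀ (a : G) (n : ↥N), a ∈ A → a * (n : G) * a⁻¹ = n := fun a n ha => by
    rw [hNA n n.2 a ha, mul_inv_cancel_right]
  have hβA : ∀ a v w, β (ρ a v) (ρ a w) = β v w := by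
    intro a v w
    obtain ⟨x, rfl⟩ := hmk v
    obtain ⟨y, rfl⟩ := hmk w
    rw [hρmk, hρmk, hβ, hβ]
    congr 1
    refine Subtype.ext (Eq.trans ?_ (hlA a (c x y) a.2))
    show ⁅(a : G) * x * (a : G)⁻¹, (a : G) * y * (a : G)⁻¹⁆ = (a : G) * ⁅(x : G), (y : G)⁆ * (a : G)⁻¹
    simp only [commutatorElement_def]; group
  have hβu : ∀ v w, β (u v) (u w) = β v w := by
    intro v w
    obtain ⟨x, rfl⟩ := hmk v
    obtain ⟨y, rfl⟩ := hmk w
    rw [humk, humk, hβ, hβ, ← hlb (c x y)]
    congr 1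
    refine Subtype.ext ?_
    show ⁅b * x * b⁻¹, b * y * b⁻¹⁆ = b * ⁅(x : G), (y : G)⁆ * b⁻¹
    simp only [commutatorElement_def]; group
  -- the radical
  set Rad := LinearMap.ker β with hRad
  have hρinv : ∀ (a : ↥A) (v : V), ρ a (ρ a⁻¹ v) = v := fun a v => by
    rw [← Module.End.mul_apply, ← map_mul, mul_inv_cancel, map_one, Module.End.one_apply]
  have huinv : ∀ v, u ((u ^ (p - 1)) v) = v := fun v => by
    rw [← Module.End.mul_apply, ← pow_succ', Nat.sub_add_cancel hpp.pos, hup, Module.End.one_apply]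
  have hRad_inv : Rad = ⊥ := by
    refine hinvsub Rad (fun a v hv => ?_) (fun v hv => ?_) fun htop => ?_
    · refine LinearMap.mem_ker.2 (LinearMap.ext fun w => ?_)
      rw [← hρinv a w, hβA, LinearMap.mem_ker.1 hv]; rfl
    · refine LinearMap.mem_ker.2 (LinearMap.ext fun w => ?_)
      rw [← huinv w, hβu, LinearMap.mem_ker.1 hv]; rfl
    -- a vanishing pairing: `lam` kills `N`
    refine hlam (LinearMap.ext fun z => ?_)
    haveI : Fintype ↥A := Fintype.ofFinite _
    -- `D` is the kernel of `lam` inside `H`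
    let D : Subgroup ↥H :=
      { carrier := {x | ∃ h : (x : G) ∈ N, lam' ⟨x, h⟩ = 0}
        one_mem' := ⟨N.one_mem, by show lam (Additive.ofMul 1) = 0; rw [ofMul_one, map_zero]⟩
        mul_mem' := fun {x y} hx hy => ⟨N.mul_mem hx.1 hy.1, by
          have := hlmul ⟨x, hx.1⟩ ⟨y, hy.1⟩
          rw [hx.2, hy.2, add_zero] at this
          exact this⟩
        inv_mem' := fun {x} hx => ⟨N.inv_mem hx.1, by
          have := hlmul ⟨x, hx.1⟩ ⟨x⁻¹, N.inv_mem hx.1⟩
          rw [hx.2, zero_add] at this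
          refine this.symm.trans ?_
          show lam (Additive.ofMul (⟨(x : G), hx.1⟩ * ⟨((x⁻¹ : ↥H) : G), N.inv_mem hx.1⟩ : ↥N)) = 0
          rw [show (⟨(x : G), hx.1⟩ * ⟨((x⁻¹ : ↥H) : G), N.inv_mem hx.1⟩ : ↥N) = 1 from
            Subtype.ext (mul_inv_cancel (x : G)), ofMul_one, map_zero]⟩ }
    haveI : D.Normal := ⟨fun x hx y => by
      have e : y * x * y⁻¹ = x := Subtype.ext (by
        show (y : G) * x * (y : G)⁻¹ = x
        rw [hcentral _ hx.1 y y.2, mul_inv_cancel_right])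
      rwa [e]⟩
    letI : CommGroup (↥H ⧸ D) := commGroupOf fun q r => by
      obtain ⟨x, rfl⟩ := QuotientGroup.mk'_surjective D q
      obtain ⟨y, rfl⟩ := QuotientGroup.mk'_surjective D r
      rw [← map_mul, ← map_mul, QuotientGroup.mk'_apply, QuotientGroup.mk'_apply, QuotientGroup.eq]
      have h0 : β (mk y⁻¹) (mk x⁻¹) = 0 := by
        have : mk y⁻¹ ∈ Rad := htop ▸ Submodule.mem_top
        rw [LinearMap.mem_ker.1 this]; rfl
      rw [hβ] at h0
      have e : (((x * y)⁻¹ * (y * x) : ↥H) : G) = ⁅((y⁻¹ : ↥H) : G), ((x⁻¹ : ↥H) : G)⁆ := by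
        simp only [Subgroup.coe_mul, Subgroup.coe_inv, commutatorElement_def]; group
      refine ⟨e ▸ hDN (commutator_mem_commutator (y⁻¹).2 (x⁻¹).2), ?_⟩
      refine Eq.trans ?_ h0
      exact congrArg lam' (Subtype.ext e)
    let av : ↥H →* ↥H ⧸ D := ∏ a : ↥A, (QuotientGroup.mk' D).comp (cj a (hAH a.2))
    have hav : ∀ x, av x = ∏ a : ↥A, QuotientGroup.mk' D (cj a (hAH a.2) x) := fun x => by
      simp [av, MonoidHom.finsetProd_apply]
    have hker1 : ⁅H, A⁆ ≤ av.ker.map H.subtype := commutator_le.2 fun x hx a ha => by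
      refine ⟨⟨x, hx⟩ * cj a (hAH ha) ⟨x⁻¹, H.inv_mem hx⟩, ?_, ?_⟩
      · refine MonoidHom.mem_ker.2 ?_
        have e : av (cj a (hAH ha) ⟨x⁻¹, H.inv_mem hx⟩) = av ⟨x⁻¹, H.inv_mem hx⟩ := by
          rw [hav, hav]
          refine Fintype.prod_equiv (Equiv.mulRight (⟨a, ha⟩ : ↥A)) _ _ fun a' => ?_
          refine congrArg (QuotientGroup.mk' D) (Subtype.ext ?_)
          show (a' : G) * (a * x⁻¹ * a⁻¹) * (a' : G)⁻¹ = (a' : G) * a * x⁻¹ * ((a' : G) * a)⁻¹
          group
        rw [map_mul, e, ← map_mul,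
          show (⟨x, hx⟩ * ⟨x⁻¹, H.inv_mem hx⟩ : ↥H) = 1 from Subtype.ext (mul_inv_cancel x), map_one]
      · show x * (a * x⁻¹ * a⁻¹) = ⁅x, a⁆
        rw [commutatorElement_def]; group
    rw [hHAeq] at hker1
    obtain ⟨y, hy, hyz⟩ := hker1 z.toMul.2.1
    have h0 : av y = 1 := hy
    rw [hav] at h0
    have hyN : (y : G) = z.toMul.1 := hyz
    have e1 : ∀ a : ↥A, cj a (hAH a.2) y = y := fun a => Subtype.ext (by
      show (a : G) * y * (a : G)⁻¹ = y
      rw [hyN]; exact hlA a z.toMul a.2)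
    rw [Finset.prod_congr rfl fun a _ => by rw [e1 a], Finset.prod_const, Finset.card_univ,
      ← map_pow, QuotientGroup.mk'_apply, QuotientGroup.eq_one_iff, ← Nat.card_eq_fintype_card] at h0
    obtain ⟨hm, h0⟩ := h0
    have hpw : lam' ⟨((y ^ Nat.card ↥A : ↥H) : G), hm⟩ = (Nat.card ↥A) • lam' z.toMul := by
      have e : (⟨((y ^ Nat.card ↥A : ↥H) : G), hm⟩ : ↥N) = z.toMul ^ Nat.card ↥A :=
        Subtype.ext (by rw [Subgroup.coe_pow, Subgroup.coe_pow, hyN])
      rw [e]
      show lam (Additive.ofMul (z.toMul ^ Nat.card ↥A)) = _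
      rw [ofMul_pow, map_nsmul]
    rw [hpw, nsmul_eq_mul, mul_eq_zero] at h0
    rcases h0 with h0 | h0
    · exact absurd ((ZMod.natCast_eq_zero_iff _ _).1 h0) (hpp.coprime_iff_not_dvd.1 hAp.symm)
    · exact h0
  refine false_of_linear_setup hp2 hAp ρ α hfpf' u hub hup hfix hker β (fun v => ?_) fun v hv => ?_
  · obtain ⟨x, rfl⟩ := hmk v
    rw [hβ]
    show lam (Additive.ofMul (c x x)) = 0
    rw [show c x x = 1 from Subtype.ext (commutatorElement_self (x : G)), ofMul_one, map_zero]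
  · have : v ∈ Rad := LinearMap.mem_ker.2 (LinearMap.ext hv)
    rwa [hRad_inv, Submodule.mem_bot] at this

end Cfsg.Lib.Sig
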