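import Mathlib.FieldTheory.Finite.Basic
import Mathlib.LinearAlgebra.Dimension.Finite
import Mathlib.LinearAlgebra.FiniteDimensional.Lemmas
import Mathlib.LinearAlgebra.Matrix.Determinant.Basic
import Mathlib.LinearAlgebra.Matrix.BilinearForm
import Mathlib.RingTheory.Polynomial.Basic

/-!
An automorphism of prime order `p` inverting no nontrivial element of an abelian group of order prime
to `p` acts freely on the modules of that group without fixed points; odd-dimensional alternating
forms are degenerate.
-/

set_option autoImplicit false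

namespace Cfsg.Lib.Sig

open Polynomial

variable {p : ℕ} [hp : Fact p.Prime] {V : Type*} [AddCommGroup V] [Module (ZMod p) V]

/-- `∑ Xⁱ = (X - 1) ^ (p - 1)` in characteristic `p`, evaluated at an endomorphism. -/
theorem sum_pow_eq_sub_pow (u : Module.End (ZMod p) V) :
    ∑ i ∈ Finset.range p, u ^ i = (u - 1) ^ (p - 1) ∧ (u ^ p = 1 → (u - 1) ^ p = 0) := by
  have hp1 : p - 1 + 1 = p := Nat.sub_add_cancel (Fact.out : p.Prime).pos
  have h1 : ((X : (ZMod p)[X]) - 1) ^ p = X ^ p - 1 := by
    rw [sub_pow_char (R := (ZMod p)[X]) (p := p), one_pow]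
  have h2 : (∑ i ∈ Finset.range p, (X : (ZMod p)[X]) ^ i) = (X - 1) ^ (p - 1) := by
    refine mul_right_cancel₀ (b := (X : (ZMod p)[X]) - 1) ?_ ?_
    · simpa using X_sub_C_ne_zero (1 : ZMod p)
    · rw [geom_sum_mul, ← pow_succ, hp1, h1]
  constructor
  · have := congrArg (aeval u) h2
    simpa using this
  · intro hu
    have := congrArg (aeval u) h1
    simpa [hu] using this

/-- A unipotent endomorphism of order `p` with one-dimensional fixed space and nonzero norm lives on
a space of dimension `p`. -/
theorem finrank_eq_of_norm_ne_zero [Finite V] (u : Module.End (ZMod p) V) (hu : u ^ p = 1)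
    (hfix : Module.finrank (ZMod p) (LinearMap.ker (u - 1)) ≤ 1)
    (hnorm : ∑ i ∈ Finset.range p, u ^ i ≠ 0) : Module.finrank (ZMod p) V = p := by
  obtain ⟨hN, hnp⟩ := sum_pow_eq_sub_pow u
  set n := u - 1 with hn
  have hnp := hnp hu
  rw [hN] at hnorm
  haveI : Module.Finite (ZMod p) V := Module.Finite.of_finite
  have key : ∀ i ≤ p, Module.finrank (ZMod p) (LinearMap.ker (n ^ i)) = i := by
    intro i hi
    induction i with
    | zero => rw [pow_zero, Module.End.one_eq_id, LinearMap.ker_id, finrank_bot]
    | succ i ih =>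
      have ih := ih (Nat.le_of_succ_le hi)
      set g := (n ^ i).domRestrict (LinearMap.ker (n ^ (i + 1))) with hg
      have hr := LinearMap.finrank_range_add_finrank_ker g
      have hk : Module.finrank (ZMod p) (LinearMap.ker g) = i := by
        refine Eq.trans ?_ ih
        have hle : LinearMap.ker (n ^ i) ≤ LinearMap.ker (n ^ (i + 1)) := fun v hv => by
          rw [LinearMap.mem_ker] at hv ⊢
          rw [pow_succ', Module.End.mul_apply, hv, map_zero]
        rw [hg, LinearMap.ker_domRestrict]
        exact LinearEquiv.finrank_eq (Submodule.comapSubtypeEquivOfLe hle)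
      have hrange : LinearMap.range g ≤ LinearMap.ker n := by
        rintro _ ⟨⟨v, hv⟩, rfl⟩
        rw [LinearMap.mem_ker] at hv
        rw [pow_succ', Module.End.mul_apply] at hv
        exact LinearMap.mem_ker.2 hv
      have hub := (Submodule.finrank_mono hrange).trans hfix
      have hlb : LinearMap.range g ≠ ⊥ := by
        intro h
        have hz : ∀ v : V, (n ^ (i + 1)) v = 0 → (n ^ i) v = 0 := fun v hv => by
          have : g ⟨v, LinearMap.mem_ker.2 hv⟩ ∈ LinearMap.range g := LinearMap.mem_range_self _ _
          rw [h] at this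
          simpa [hg] using this
        have hall : ∀ j, ∀ v : V, (n ^ (i + j)) v = 0 → (n ^ i) v = 0 := by
          intro j
          induction j with
          | zero => exact fun v hv => hv
          | succ j ihj =>
            intro v hv
            refine ihj v ?_
            rw [← add_assoc] at hv
            have := hz ((n ^ j) v) (by
              rw [← Module.End.mul_apply, ← pow_add, show i + 1 + j = i + j + 1 by ring]; exact hv)
            rwa [← Module.End.mul_apply, ← pow_add] at this
        refine hnorm (LinearMap.ext fun v => ?_)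
        have h0 : (n ^ i) v = 0 := hall (p - i) v (by
          rw [Nat.add_sub_cancel' (Nat.le_of_succ_le hi), hnp, LinearMap.zero_apply])
        rw [show p - 1 = (p - 1 - i) + i by omega, pow_add, Module.End.mul_apply, h0, map_zero,
          LinearMap.zero_apply]
      have h1 : 0 < Module.finrank (ZMod p) (LinearMap.range g) :=
        Nat.pos_of_ne_zero fun h => hlb (Submodule.finrank_eq_zero.1 h)
      omega
  have := key p le_rfl
  rwa [hnp, LinearMap.ker_zero, finrank_top] at this

/-- The norm of a fixed-point-free operator is nonzero. -/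
theorem norm_ne_zero [Nontrivial V] {A : Type*} [CommGroup A] [Fintype A]
    (hcop : (Nat.card A).Coprime p) (ρ : A →* Module.End (ZMod p) V) (α : A ≃* A)
    (hfpf : ∀ i, 0 < i → i < p → ∀ a : A, (α ^ i) a = a → a = 1) (u : Module.End (ZMod p) V)
    (hu : ∀ a, u * ρ a = ρ (α a) * u) (hfix : ∀ v, (∀ a, ρ a v = v) → v = 0) :
    ∑ i ∈ Finset.range p, u ^ i ≠ 0 := by
  intro hN
  have hp : p.Prime := Fact.out
  set φ : ℕ → A → A := fun i x => ∏ j ∈ Finset.range i, (α ^ j) x with hφ
  have hpow : ∀ (i : ℕ) (x : A), (ρ x * u) ^ i = ρ (φ i x) * u ^ i := by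
    intro i x
    induction i with
    | zero => simp [hφ]
    | succ i ih =>
      have hcomm : ∀ a : A, u ^ i * ρ a = ρ ((α ^ i) a) * u ^ i := by
        intro a
        clear ih
        induction i generalizing a with
        | zero => simp
        | succ i ih =>
          rw [pow_succ, mul_assoc, hu, ← mul_assoc, ih, mul_assoc, pow_succ α, MulAut.mul_apply]
      rw [pow_succ, ih, mul_assoc, ← mul_assoc (u ^ i), hcomm, mul_assoc (ρ ((α ^ i) x)), ← pow_succ,
        ← mul_assoc, ← map_mul]
      rw [show φ (i + 1) x = φ i x * (α ^ i) x from Finset.prod_range_succ _ _]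
  have hsurj : ∀ x : A, ∃ y, y * (α y)⁻¹ = x := by
    refine (Finite.injective_iff_surjective.1 fun y z h => ?_)
    have h1 : (α ^ 1) (y * z⁻¹) = y * z⁻¹ := by
      rw [pow_one, map_mul, map_inv]
      rw [← div_eq_mul_inv, ← div_eq_mul_inv, div_eq_div_iff_mul_eq_mul] at h
      rw [← div_eq_mul_inv, ← div_eq_mul_inv, div_eq_div_iff_mul_eq_mul]
      rw [mul_comm (α y), mul_comm y]
      exact h.symm.trans (by rw [mul_comm])
    exact mul_inv_eq_one.1 (hfpf 1 one_pos hp.one_lt _ h1)
  have hx : ∀ x : A, ∑ i ∈ Finset.range p, (ρ x * u) ^ i = 0 := by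
    intro x
    obtain ⟨y, rfl⟩ := hsurj x
    have e : ρ (y * (α y)⁻¹) * u = ρ y * u * ρ y⁻¹ := by
      rw [mul_assoc, hu, ← mul_assoc, ← map_mul, map_inv]
    have hinv : ρ y⁻¹ * ρ y = 1 := by rw [← map_mul, inv_mul_cancel, map_one]
    have hc : ∀ i, (ρ y * u * ρ y⁻¹) ^ i = ρ y * u ^ i * ρ y⁻¹ := by
      intro i
      induction i with
      | zero => rw [pow_zero, pow_zero, mul_one, ← map_mul, mul_inv_cancel, map_one]
      | succ i ih =>
        rw [pow_succ, ih, pow_succ]
        calc ρ y * u ^ i * ρ y⁻¹ * (ρ y * u * ρ y⁻¹) = ρ y * u ^ i * (ρ y⁻¹ * ρ y) * u * ρ y⁻¹ := by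
              simp only [mul_assoc]
          _ = _ := by rw [hinv, mul_one]; simp only [mul_assoc]
    rw [e, Finset.sum_congr rfl fun i _ => hc i, ← Finset.sum_mul, ← Finset.mul_sum, hN, mul_zero,
      zero_mul]
  have hS : ∑ a : A, ρ a = 0 := by
    refine LinearMap.ext fun v => ?_
    rw [LinearMap.zero_apply]
    refine hfix _ fun b => ?_
    rw [← Module.End.mul_apply, Finset.mul_sum]
    congr 1
    exact Fintype.sum_equiv (Equiv.mulLeft b) _ _ fun a => (map_mul ρ b a).symm
  have htot : ∑ i ∈ Finset.range p, (∑ x : A, ρ (φ i x)) * u ^ i = 0 := by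
    simp_rw [Finset.sum_mul, ← hpow]
    rw [Finset.sum_comm]
    exact Finset.sum_eq_zero fun x _ => hx x
  rw [Finset.sum_eq_single 0] at htot
  · simp only [hφ, Finset.range_zero, Finset.prod_empty, map_one, pow_zero, mul_one,
      Finset.sum_const, Finset.card_univ, nsmul_eq_mul] at htot
    obtain ⟨v, hv⟩ := exists_ne (0 : V)
    refine hv ?_
    have h0 : ((Fintype.card A : ℕ) : ZMod p) ≠ 0 := by
      rw [Ne, ZMod.natCast_eq_zero_iff]
      rw [← Nat.card_eq_fintype_card]
      exact hp.coprime_iff_not_dvd.1 hcop.symm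
    have h1 : ((Fintype.card A : ℕ) : Module.End (ZMod p) V) v = 0 := by rw [htot]; rfl
    have h2 : ((Fintype.card A : ℕ) : ZMod p) • v = 0 := by
      rw [Nat.cast_smul_eq_nsmul, ← Module.End.natCast_apply (R := ZMod p)]; exact h1
    exact (smul_eq_zero.1 h2).resolve_left h0
  · intro i hi hi0
    have hinj : Function.Injective (φ i) := by
      intro x y h
      have hm : ∀ a b : A, φ i (a * b) = φ i a * φ i b := fun a b => by
        simp only [hφ, map_mul, Finset.prod_mul_distrib]
      have h1 : φ i (x * y⁻¹) = 1 := by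
        have : φ i (x * y⁻¹) * φ i y = φ i x := by rw [← hm, inv_mul_cancel_right]
        rwa [h, mul_eq_right] at this
      set w := x * y⁻¹ with hw
      have h2 : φ i (α w) = 1 := by
        have : φ i (α w) = α (φ i w) := by
          simp only [hφ, map_prod, ← MulAut.mul_apply, ← pow_succ, ← pow_succ']
        rw [this, h1, map_one]
      have h3 : φ i (α w) * w = φ i w * (α ^ i) w := by
        have e : φ i (α w) = ∏ j ∈ Finset.range i, (α ^ (j + 1)) w := by
          simp only [hφ, ← MulAut.mul_apply, ← pow_succ]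
        rw [e, show φ i w * (α ^ i) w = φ (i + 1) w from (Finset.prod_range_succ _ _).symm]
        simp only [hφ]
        rw [Finset.prod_range_succ']
        simp
      rw [h1, h2, one_mul, one_mul] at h3
      exact mul_inv_eq_one.1 (hfpf i (Nat.pos_of_ne_zero hi0) (Finset.mem_range.1 hi) w h3.symm)
    have : ∑ x : A, ρ (φ i x) = 0 := by
      rw [← hS]
      exact Fintype.sum_bijective (φ i) (Finite.injective_iff_bijective.1 hinj) _ _ fun _ => rfl
    rw [this, zero_mul]
  · intro h; exact absurd (Finset.mem_range.2 hp.pos) h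

/-- An alternating form in odd dimension is degenerate. -/
theorem exists_radical_of_odd (hp2 : p ≠ 2) [Finite V]
    (β : LinearMap.BilinForm (ZMod p) V) (halt : ∀ v, β v v = 0)
    (hodd : Odd (Module.finrank (ZMod p) V)) : ∃ v, v ≠ 0 ∧ ∀ w, β v w = 0 := by
  classical
  haveI : Module.Finite (ZMod p) V := Module.Finite.of_finite
  by_contra hcon
  push Not at hcon
  let b := Module.finBasis (ZMod p) V
  set M := LinearMap.BilinForm.toMatrix b β with hM
  have hskew : M.transpose = -M := by
    ext i j
    rw [Matrix.transpose_apply, Matrix.neg_apply, hM, LinearMap.BilinForm.toMatrix_apply,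
      LinearMap.BilinForm.toMatrix_apply]
    have h := halt (b i + b j)
    simp only [map_add, LinearMap.add_apply, halt, zero_add, add_zero] at h
    exact eq_neg_of_add_eq_zero_left h
  have hdet : M.det = 0 := by
    have h := congrArg Matrix.det hskew
    rw [Matrix.det_transpose, Matrix.det_neg, Fintype.card_fin, Odd.neg_one_pow hodd, neg_one_mul] at h
    have h2 : (2 : ZMod p) ≠ 0 := by
      rw [show (2 : ZMod p) = ((2 : ℕ) : ZMod p) by norm_num, Ne, ZMod.natCast_eq_zero_iff]
      exact fun h => hp2 ((Nat.prime_dvd_prime_iff_eq (Fact.out) Nat.prime_two).1 h)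
    exact (mul_eq_zero.1 (show (2 : ZMod p) * M.det = 0 by rw [two_mul]; linear_combination h)).resolve_left h2
  obtain ⟨c, hc, hcM⟩ := Matrix.exists_vecMul_eq_zero_iff.2 hdet
  obtain ⟨w, hw⟩ := hcon (b.equivFun.symm c) fun h => hc (by
    have := congrArg b.equivFun h
    rwa [LinearEquiv.apply_symm_apply, map_zero] at this)
  refine hw ?_
  rw [LinearMap.BilinForm.apply_eq_dotProduct_toMatrix_mulVec b]
  rw [Matrix.dotProduct_mulVec, ← hM]
  have e : (b.repr (b.equivFun.symm c) : Fin _ → ZMod p) = c := by
    funext i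
    have h := congrFun (b.equivFun.apply_symm_apply c) i
    simpa only [Module.Basis.equivFun_apply] using h
  rw [e, hcM, zero_dotProduct]

end Cfsg.Lib.Sig
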