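import Cfsg.Agent.Lib.Sig.GoldschmidtFusion
import Cfsg.Agent.Lib.Local.Chains
import Cfsg.Agent.Lib.Local.Sylow
import Cfsg.Agent.Lib.Fusion.Basic
import Cfsg.Agent.S3058

/-!
# The Alperin–Goldschmidt theorem with essential subgroups and `O^p` of the minimal normal sections
-/

set_option autoImplicit false

namespace Cfsg.Lib.Sig.Goldschmidt

open Subgroup Cfsg.Lib

variable {G : Type*} [Group G] [Finite G] {p : ℕ} [hp : Fact p.Prime] {P : Sylow p G}

/-- A fully normalised `D` is good, or an element of `N(D)` is, up to `C(D)`, in the normalizer of a larger subgroup. -/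
theorem good_or_larger {D : Subgroup G} (hD : D ≤ (P : Subgroup G))
    (hful : ¬ p ∣ ((P : Subgroup G) ⊓ normalizer (D : Set G)).relIndex (normalizer (D : Set G)))
    {x : G} (hx : x ∈ normalizer (D : Set G)) :
    Good P D ∨ ∃ (E : Subgroup G) (c u : G), D < E ∧ E ≤ (P : Subgroup G) ∧
      c ∈ centralizer (D : Set G) ∧ u ∈ normalizer (E : Set G) ∧ x = c * u := by
  classical
  set N := normalizer (D : Set G) with hN
  set C := centralizer (D : Set G) with hC
  have hCN : C ≤ N := centralizer_le_normalizer _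
  have hDN : D ≤ N := le_normalizer
  have hCnorm : N ≤ normalizer (C : Set G) := by
    rw [Core.le_normalizer_iff_conj_mem]
    intro n hn c hc
    rw [hC, mem_centralizer_iff] at hc ⊢
    intro d hd
    have hd' : n⁻¹ * d * n ∈ D := by
      simpa using (mem_normalizer_iff.mp (inv_mem hn) d).mp hd
    calc d * (n * c * n⁻¹) = n * (n⁻¹ * d * n * c) * n⁻¹ := by group
      _ = n * (c * (n⁻¹ * d * n)) * n⁻¹ := by rw [hc _ hd']
      _ = n * c * n⁻¹ * d := by group
  -- reduction: a Sylow subgroup of a normal subgroup strictly above `D`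
  have reduce : ∀ K : Subgroup G, D ≤ K → K ≤ N → N ≤ normalizer (K : Set G) →
      (∀ k ∈ K, ∃ r ∈ (P : Subgroup G) ⊓ K, k * r⁻¹ ∈ C) → D < (P : Subgroup G) ⊓ K →
      Good P D ∨ ∃ (E : Subgroup G) (c u : G), D < E ∧ E ≤ (P : Subgroup G) ∧
        c ∈ centralizer (D : Set G) ∧ u ∈ normalizer (E : Set G) ∧ x = c * u := by
    intro K hDK hKN hK hdec hlt
    obtain ⟨k, hk, hm⟩ := exists_frattini hKN hK hful hx
    obtain ⟨r, hr, hkr⟩ := hdec k hk
    have hrm : r * (k⁻¹ * x) ∈ normalizer (((P : Subgroup G) ⊓ K : Subgroup G) : Set G) :=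
      mul_mem (le_normalizer hr) hm
    exact Or.inr ⟨_, k * r⁻¹, r * (k⁻¹ * x), hlt, inf_le_left, hkr, hrm, by group⟩
  -- first reduction: `K = C(D)D`
  have hDnC : D ≤ normalizer (C : Set G) := hDN.trans hCnorm
  have hCD : C ⊔ D ≤ N := sup_le hCN hDN
  rcases eq_or_lt_of_le (le_inf hD le_sup_right : D ≤ (P : Subgroup G) ⊓ (C ⊔ D)) with h1 | h1
  swap
  · refine reduce (C ⊔ D) le_sup_right hCD ?_ ?_ h1
    · rw [Core.le_normalizer_iff_conj_mem]
      intro n hn k hk
      have hle : (C ⊔ D).map (MulAut.conj n).toMonoidHom ≤ C ⊔ D := by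
        rw [Subgroup.map_sup]
        exact sup_le_sup (Core.map_conj_eq_of_mem_normalizer (hCnorm hn)).le
          (Core.map_conj_eq_of_mem_normalizer hn).le
      exact hle ⟨k, hk, rfl⟩
    · intro k hk
      rw [sup_comm] at hk
      obtain ⟨d, hd, c, hc, he⟩ := (Core.mem_sup_of_le_normalizer hDnC).mp hk
      subst he
      refine ⟨d, ⟨hD hd, mem_sup_right hd⟩, ?_⟩
      exact (mem_normalizer_iff.mp (hDnC hd) c).mp hc
  -- second reduction: `K = O_{p'p}(N)`
  set W' := Cfsg.pPrimeCore p ↥N with hW'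
  set U' := Cfsg.pPrimePCore p ↥N with hU'
  set W := W'.map N.subtype with hW
  set U := U'.map N.subtype with hU
  have hWC : W ≤ C := pPrimeCore_normalizer_centralizes (P.isPGroup'.to_le hD)
  have hWU' : W' ≤ U' := by
    intro w hw
    rw [hU', Cfsg.pPrimePCore, mem_comap, (QuotientGroup.eq_one_iff w).mpr hw |>
      fun h => (show (QuotientGroup.mk' W') w = 1 from h)]
    exact one_mem _
  have hWU : W ≤ U := map_mono hWU'
  have hDU : D ≤ U := by
    intro d hd
    refine ⟨⟨d, hDN hd⟩, ?_, rfl⟩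
    haveI : (D.subgroupOf N).Normal := normal_in_normalizer
    haveI := Subgroup.Normal.map (inferInstance : (D.subgroupOf N).Normal) _
      (QuotientGroup.mk'_surjective W')
    rw [hU', Cfsg.pPrimePCore, SetLike.mem_coe, mem_comap]
    exact Core.le_pCore (((P.isPGroup'.to_le hD).of_equiv (subgroupOfEquivOfLe hDN).symm).map _)
      ⟨⟨d, hDN hd⟩, hd, rfl⟩
  let R : Sylow p N :=
    ((P.isPGroup'.to_le inf_le_left).comap_of_injective N.subtype N.subtype_injective).toSylow hful
  have hUdec : ∀ k ∈ U, ∃ r ∈ (P : Subgroup G) ⊓ U, k * r⁻¹ ∈ W := by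
    rintro _ ⟨k, hk, rfl⟩
    obtain ⟨r, hr, he⟩ : QuotientGroup.mk' W' k ∈
        ((R.mapSurjective (QuotientGroup.mk'_surjective W') : Sylow p (N ⧸ W')) :
          Subgroup (N ⧸ W')) := Core.pCore_le_sylow _ hk
    have hkr : k * r⁻¹ ∈ W' := by
      rw [← QuotientGroup.eq_one_iff (N := W'), ← QuotientGroup.mk'_apply, map_mul, map_inv, he,
        mul_inv_cancel]
    have hrU : r ∈ U' := by
      rw [hU', Cfsg.pPrimePCore, mem_comap, he]
      exact hk
    exact ⟨r, ⟨(mem_subgroupOf.mp hr).1, r, hrU, rfl⟩, k * r⁻¹, hkr, rfl⟩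
  rcases eq_or_lt_of_le (le_inf hD hDU : D ≤ (P : Subgroup G) ⊓ U) with h2 | h2
  swap
  · refine reduce U hDU (map_subtype_le _) ?_ ?_ h2
    · rw [Core.le_normalizer_iff_conj_mem]
      rintro n hn _ ⟨k, hk, rfl⟩
      haveI : W'.Normal := inferInstanceAs (Cfsg.pPrimeCore p ↥N).Normal
      haveI : U'.Normal := by
        rw [hU', Cfsg.pPrimePCore]
        haveI : (Cfsg.pCore p (N ⧸ W')).Normal := inferInstance
        exact Normal.comap inferInstance _
      exact ⟨_, Normal.conj_mem inferInstance k hk ⟨n, hn⟩, rfl⟩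
    · intro k hk
      obtain ⟨r, hr, hkr⟩ := hUdec k hk
      exact ⟨r, hr, hWC hkr⟩
  -- `D` is good
  have hUeq : W ⊔ D = U := by
    refine le_antisymm (sup_le hWU hDU) fun k hk => ?_
    obtain ⟨r, hr, hkr⟩ := hUdec k hk
    rw [← h2] at hr
    simpa using mul_mem (mem_sup_left (T := D) hkr) (mem_sup_right (S := W) hr)
  have hCU : C ≤ U := by
    have hS0 : IsPGroup p (((P : Subgroup G) ⊓ C).subgroupOf C) :=
      (P.isPGroup'.to_le inf_le_left).comap_of_injective C.subtype C.subtype_injective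
    obtain ⟨S, hS⟩ := hS0.exists_le_sylow
    have hPC : ∀ s : C, s ∈ (S : Subgroup C) → (s : G) ∈ D := by
      obtain ⟨T, hT⟩ := (S.isPGroup'.map (inclusion hCN)).exists_le_sylow
      obtain ⟨a, ha⟩ := MulAction.exists_smul_eq N T R
      intro s hs
      have hm : a * inclusion hCN s * a⁻¹ ∈ (R : Subgroup N) := by
        rw [← ha, Sylow.coe_subgroup_smul]
        exact ⟨_, hT ⟨s, hs, rfl⟩, by simp⟩
      have h3 : (a : G) * (s : G) * (a : G)⁻¹ ∈ (P : Subgroup G) := (mem_subgroupOf.mp hm).1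
      have h4 : (a : G) * (s : G) * (a : G)⁻¹ ∈ C := (mem_normalizer_iff.mp (hCnorm a.2) _).mp s.2
      have h5 : (a : G) * (s : G) * (a : G)⁻¹ ∈ D := h1 ▸ ⟨h3, mem_sup_left h4⟩
      exact (mem_normalizer_iff.mp a.2 _).mpr h5
    have hcen : ∀ s ∈ (S : Subgroup C), ∀ c : C, c * s = s * c := fun s hs c =>
      Subtype.ext (mem_centralizer_iff.mp c.2 _ (hPC s hs)).symm
    have hNC : normalizer ((S : Subgroup C) : Set C) ≤ centralizer ((S : Subgroup C) : Set C) :=
      fun c _ => mem_centralizer_iff.mpr fun s hs => (hcen s hs c).symm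
    have hcomp := MonoidHom.ker_transferSylow_isComplement' S hNC
    have hKW : ((MonoidHom.transferSylow S hNC).ker).map C.subtype ≤ W := by
      refine (map_mono (Core.le_pPrimeCore' inferInstance ?_)).trans
        (Core.pPrimeCore_map_le_of_normal hCN ?_)
      · exact Core.coprime_iff_not_dvd'.mpr (MonoidHom.not_dvd_card_ker_transferSylow S hNC)
      · exact ⟨fun k hk n => mem_subgroupOf.mpr
          ((mem_normalizer_iff.mp (hCnorm n.2) _).mp (mem_subgroupOf.mp hk))⟩
    intro c hc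
    have hc' : (⟨c, hc⟩ : C) ∈ (MonoidHom.transferSylow S hNC).ker ⊔ (S : Subgroup C) := by
      rw [hcomp.sup_eq_top]; exact mem_top _
    obtain ⟨u, hu, s, hs, he⟩ := mem_sup_of_normal_left.mp hc'
    have he' : (u : G) * s = c := congrArg Subtype.val he
    rw [← hUeq, ← he']
    exact mul_mem (mem_sup_left (hKW ⟨u, hu, rfl⟩)) (mem_sup_right (hPC s hs))
  have hcop : (Nat.card W).Coprime p := by
    rw [hW, card_map_of_injective N.subtype_injective]
    exact Core.pPrimeCore_coprime p N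
  refine Or.inl ⟨hD, hCU, ⟨hWU, hDU, fun a ha b hb => ?_, ?_, hUeq⟩, hful⟩
  · exact (mem_centralizer_iff.mp (hWC ha) b hb).symm
  · rw [inf_comm]
    exact disjoint_of_isPGroup_coprime (P.isPGroup'.to_le hD) hcop


/-! ### Chains of essential steps -/

/-- The conditions on one step `(H, X, x)`. -/
def Step (P : Sylow p G) (H X : Subgroup G) (x : G) : Prop :=
  H ≤ (P : Subgroup G) ∧
  ¬ p ∣ ((P : Subgroup G) ⊓ normalizer (H : Set G)).relIndex (normalizer (H : Set G)) ∧
  (P : Subgroup G) ⊓ centralizer (H : Set G) ≤ H ∧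
  (Cfsg.pPrimePCore p ↥(normalizer (H : Set G))).map (normalizer (H : Set G)).subtype =
    H ⊔ centralizer (H : Set G) ∧
  ¬ Cfsg.IsSylowChainConnected p (↥(normalizer (H : Set G)) ⧸ H.subgroupOf (normalizer (H : Set G))) ∧
  (H ≤ X ∧ X ≤ normalizer (H : Set G) ∧ (X.subgroupOf (normalizer (H : Set G))).Normal ∧
    p ∣ H.relIndex X ∧
    ∀ Y : Subgroup G, H ≤ Y → Y ≤ normalizer (H : Set G) →
      (Y.subgroupOf (normalizer (H : Set G))).Normal → p ∣ H.relIndex Y → X ≤ Y) ∧
  x ∈ (Cfsg.pResidual p ↥X).map X.subtype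

/-- A chain of steps starting from `D`. -/
def EChain (P : Sylow p G) : List (Subgroup G × Subgroup G × G) → Subgroup G → Prop
  | [], _ => True
  | (H, X, x) :: l, D => Step P H X x ∧ D ≤ H ∧ EChain P l (Fusion.conjR x D)

/-- The product of a chain. -/
def eProd (l : List (Subgroup G × Subgroup G × G)) : G := (l.map fun a => a.2.2).prod

/-- `g` is a product of a chain from `D`, up to `C(D)` on the left and `N(P)` on the right. -/
def ELink (P : Sylow p G) (D : Subgroup G) (g : G) : Prop :=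
  ∃ l y, y ∈ normalizer ((P : Subgroup G) : Set G) ∧ EChain P l D ∧
    g * (eProd l * y)⁻¹ ∈ centralizer (D : Set G)

/-- All `N(P)`-conjugates are linked. -/
def Robust (P : Sylow p G) (D : Subgroup G) (g : G) : Prop :=
  ∀ y ∈ normalizer ((P : Subgroup G) : Set G), ELink P (Fusion.conjR y⁻¹ D) (y * g * y⁻¹)

theorem EChain.mono {l : List (Subgroup G × Subgroup G × G)} {D E : Subgroup G}
    (h : EChain P l E) (hle : D ≤ E) : EChain P l D := by
  induction l generalizing D E with
  | nil => trivial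
  | cons a l ih =>
    obtain ⟨h1, h2, h3⟩ := h
    exact ⟨h1, hle.trans h2, ih h3 (Fusion.conjR_mono _ hle)⟩

theorem ELink.mono {D E : Subgroup G} {g : G} (h : ELink P E g) (hle : D ≤ E) : ELink P D g := by
  obtain ⟨l, y, hy, h1, h2⟩ := h
  exact ⟨l, y, hy, h1.mono hle, centralizer_le (SetLike.coe_subset_coe.mpr hle) h2⟩

theorem EChain.append {l l' : List (Subgroup G × Subgroup G × G)} {D : Subgroup G} (h : EChain P l D)
    (h' : EChain P l' (Fusion.conjR (eProd l) D)) : EChain P (l ++ l') D := by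
  induction l generalizing D with
  | nil => simpa [eProd, Fusion.conjR_one] using h'
  | cons a l ih =>
    obtain ⟨h1, h2, h3⟩ := h
    exact ⟨h1, h2, ih h3 (by simpa [eProd, Fusion.conjR_conjR] using h')⟩

theorem EChain.prefix_le {l : List (Subgroup G × Subgroup G × G)} {D : Subgroup G} (h : EChain P l D) :
    ∀ (i : ℕ) (hi : i < l.length), Step P l[i].1 l[i].2.1 l[i].2.2 ∧
      Fusion.conjR (eProd (l.take i)) D ≤ l[i].1 := by
  induction l generalizing D with
  | nil => intro i hi; simp at hi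
  | cons a l ih =>
    obtain ⟨h1, h2, h3⟩ := h
    intro i hi
    cases i with
    | zero => exact ⟨h1, by simpa [eProd, Fusion.conjR_one] using h2⟩
    | succ i =>
      obtain ⟨h4, h5⟩ := ih h3 i (by simpa using hi)
      exact ⟨h4, by simpa [eProd, Fusion.conjR_conjR] using h5⟩

theorem ELink.mul {D : Subgroup G} {g h : G} (hg : ELink P D g) (hh : Robust P (Fusion.conjR g D) h) :
    ELink P D (g * h) := by
  obtain ⟨l, y, hy, h1, h2⟩ := hg
  obtain ⟨l', y', hy', h3, h4⟩ := hh y hy
  set X := eProd l with hX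
  set X' := eProd l' with hX'
  have he : Fusion.conjR y⁻¹ (Fusion.conjR g D) = Fusion.conjR X D := by
    have : Fusion.conjR g D = Fusion.conjR (X * y) D := by
      rw [← conjR_mul_centralizes (g := X * y) h2, inv_mul_cancel_right]
    rw [this, Fusion.conjR_conjR, mul_inv_cancel_right]
  rw [he] at h3 h4
  refine ⟨l ++ l', y' * y, mul_mem hy' hy, h1.append h3, ?_⟩
  have hcat : eProd (l ++ l') = X * X' := by simp [hX, hX', eProd]
  rw [hcat]
  set c' := y * h * y⁻¹ * (X' * y')⁻¹ with hc'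
  have h5 : X * c' * X⁻¹ ∈ centralizer (D : Set G) := by
    rw [mem_centralizer_iff]
    intro d hd
    have h6 := mem_centralizer_iff.mp h4 _ (Fusion.conj_mem_conjR (g := X) hd)
    calc d * (X * c' * X⁻¹) = X * (X⁻¹ * d * X * c') * X⁻¹ := by group
      _ = X * (c' * (X⁻¹ * d * X)) * X⁻¹ := by rw [h6]
      _ = X * c' * X⁻¹ * d := by group
  have h7 := mul_mem h2 h5
  have e : g * (X * y)⁻¹ * (X * c' * X⁻¹) = g * h * (X * X' * (y' * y))⁻¹ := by rw [hc']; group
  rwa [e] at h7

theorem Robust.mul {D : Subgroup G} {g h : G} (hg : Robust P D g)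
    (hh : Robust P (Fusion.conjR g D) h) : Robust P D (g * h) := by
  intro y hy
  rw [show y * (g * h) * y⁻¹ = y * g * y⁻¹ * (y * h * y⁻¹) by group]
  refine (hg y hy).mul fun z hz => ?_
  have h1 := hh (z * y) (mul_mem hz hy)
  rw [Fusion.conjR_conjR, Fusion.conjR_conjR]
  rw [Fusion.conjR_conjR] at h1
  have e1 : y⁻¹ * (y * g * y⁻¹ * z⁻¹) = g * (z * y)⁻¹ := by group
  have e2 : z * (y * h * y⁻¹) * z⁻¹ = z * y * h * (z * y)⁻¹ := by group
  rw [e1, e2]
  exact h1

theorem robust_of_centralizes {D : Subgroup G} {c : G} (hc : c ∈ centralizer (D : Set G)) :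
    Robust P D c := by
  intro y _
  refine ⟨[], 1, one_mem _, trivial, ?_⟩
  rw [mem_centralizer_iff]
  intro d hd
  rw [SetLike.mem_coe, Fusion.mem_conjR, inv_inv] at hd
  have := congrArg (fun t => y * t * y⁻¹) (mem_centralizer_iff.mp hc _ hd)
  simpa [eProd, mul_assoc] using this

/-- The linking hypothesis on subgroups larger than `D`. -/
def Big (P : Sylow p G) (n : ℕ) : Prop :=
  ∀ (E : Subgroup G) (g : G), n < Nat.card E → E ≤ (P : Subgroup G) →
    Fusion.conjR g E ≤ (P : Subgroup G) → ELink P E g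

theorem Big.robust {n : ℕ} (hb : Big P n) {D I : Subgroup G} {u : G} (hn : n < Nat.card I)
    (hDI : D ≤ I) (hI : I ≤ (P : Subgroup G)) (hu : Fusion.conjR u I ≤ (P : Subgroup G)) :
    Robust P D u := by
  intro y hy
  have hP : Fusion.conjR y⁻¹ (P : Subgroup G) = (P : Subgroup G) :=
    Fusion.conjR_eq_of_mem_normalizer (inv_mem hy)
  refine (hb (Fusion.conjR y⁻¹ I) (y * u * y⁻¹) (by rwa [Fusion.card_conjR])
    ((Fusion.conjR_mono _ hI).trans hP.le) ?_).mono (Fusion.conjR_mono _ hDI)
  rw [Fusion.conjR_conjR, show y⁻¹ * (y * u * y⁻¹) = u * y⁻¹ by group, ← Fusion.conjR_conjR]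
  exact (Fusion.conjR_mono _ hu).trans hP.le

/-- The image in `N(E)/E` of a Sylow subgroup linked to `R` is moved by a robust element. -/
theorem robust_of_connected {n : ℕ} (hb : Big P n) {E : Subgroup G} (hEP : E ≤ (P : Subgroup G))
    (hnE : n ≤ Nat.card E)
    (hful : ¬ p ∣ ((P : Subgroup G) ⊓ normalizer (E : Set G)).relIndex (normalizer (E : Set G)))
    (hlt : E < (P : Subgroup G) ⊓ normalizer (E : Set G))
    (hconn : Cfsg.IsSylowChainConnected p
      (↥(normalizer (E : Set G)) ⧸ E.subgroupOf (normalizer (E : Set G))))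
    {x : G} (hx : x ∈ normalizer (E : Set G)) : Robust P E x := by
  classical
  set N := normalizer (E : Set G) with hN
  set E' := E.subgroupOf N with hE'
  set f := QuotientGroup.mk' E' with hf
  have hEN : E ≤ N := le_normalizer
  let R : Sylow p N :=
    ((P.isPGroup'.to_le inf_le_left).comap_of_injective N.subtype N.subtype_injective).toSylow hful
  set Rb := R.mapSurjective (QuotientGroup.mk'_surjective E') with hRb
  have hE'R : E' ≤ (R : Subgroup N) := fun e he => ⟨hEP he, hEN he⟩
  have hcomap : (Rb : Subgroup (N ⧸ E')).comap f = (R : Subgroup N) := by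
    rw [hRb, Sylow.coe_mapSurjective, comap_map_eq, QuotientGroup.ker_mk', sup_eq_left.mpr hE'R]
  have meet : ∀ u : N, Local.SylowMeet Rb (f u • Rb) → Robust P E u := by
    intro u hu
    set M := (Rb : Subgroup (N ⧸ E')) ⊓ ((f u • Rb : Sylow p (N ⧸ E')) : Subgroup (N ⧸ E')) with hM
    set I := (M.comap f).map N.subtype with hI
    have hEM : E' ≤ M.comap f := fun e he => by
      rw [mem_comap, show f e = 1 from (QuotientGroup.eq_one_iff e).2 he]
      exact one_mem _
    have hEI : E ≤ I := (map_subgroupOf_eq_of_le hEN).symm.trans_le (map_mono hEM)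
    have hIE : I ≠ E := by
      intro h
      apply hu
      have h1 : M.comap f = E' := by
        apply map_injective N.subtype_injective
        rw [← hI, h, hE', map_subgroupOf_eq_of_le hEN]
      have h2 := congrArg (Subgroup.map f) h1
      rw [map_comap_eq_self_of_surjective (QuotientGroup.mk'_surjective E'), hf,
        QuotientGroup.map_mk'_self] at h2
      exact h2
    have hIR : M.comap f ≤ (R : Subgroup N) := (comap_mono inf_le_left).trans hcomap.le
    refine hb.robust (I := I) (hnE.trans_lt (Fusion.card_lt_card_of_lt (lt_of_le_of_ne hEI hIE.symm)))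
      hEI ?_ ?_
    · rintro _ ⟨i, hi, rfl⟩
      exact (hIR hi).1
    · refine Fusion.conjR_le_iff.mpr ?_
      rintro _ ⟨i, hi, rfl⟩
      obtain ⟨r, hr, hre⟩ := (mem_inf.mp (mem_comap.mp hi)).2
      have h3 : u⁻¹ * i * u ∈ (R : Subgroup N) := by
        rw [← hcomap, mem_comap, map_mul, map_mul, map_inv, ← hre]
        simp [MulAut.smul_def, mul_assoc] at hr ⊢
        exact hr
      have h4 := h3.1
      simp [mul_assoc] at h4 ⊢
      exact h4
  have hRb1 : (Rb : Subgroup (N ⧸ E')) ≠ ⊥ := by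
    intro h
    apply hlt.not_ge
    intro r hr
    have h1 : (⟨r, hr.2⟩ : N) ∈ (Rb : Subgroup (N ⧸ E')).comap f :=
      hcomap.ge (show (⟨r, hr.2⟩ : N) ∈ (R : Subgroup N) from hr)
    rw [h, mem_comap, mem_bot] at h1
    exact ((QuotientGroup.eq_one_iff (N := E') _).1 h1 :)
  have hrefl : Local.SylowMeet Rb (f 1 • Rb) := by
    rw [map_one, one_smul, Local.SylowMeet, inf_idem]; exact hRb1
  have hall : ∀ W : Sylow p (N ⧸ E'), Local.SylowLinked Rb W →
      ∃ a : N, Robust P E a ∧ W = f a • Rb := by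
    intro W hW
    induction hW with
    | refl => exact ⟨1, meet 1 hrefl, by rw [map_one, one_smul]⟩
    | @tail V W _ hVW ih =>
      obtain ⟨a, ha, rfl⟩ := ih
      obtain ⟨q, rfl⟩ := MulAction.exists_smul_eq (N ⧸ E') Rb W
      obtain ⟨b, rfl⟩ := QuotientGroup.mk'_surjective E' q
      refine ⟨b, ?_, rfl⟩
      have h1 := Local.sylowMeet_smul (f a)⁻¹ hVW
      rw [inv_smul_smul, smul_smul, ← map_inv, ← map_mul] at h1
      have h2 := meet _ h1
      have h3 := ha.mul (g := (a : G)) (h := ((a⁻¹ * b : N) : G)) (by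
        rwa [Fusion.conjR_eq_of_mem_normalizer a.2])
      simpa using h3
  obtain ⟨a, ha, hae⟩ := hall (f ⟨x, hx⟩ • Rb)
    (Local.isSylowChainConnected_iff.mp hconn _ _)
  have h2 := meet (a⁻¹ * ⟨x, hx⟩) (by
    rw [map_mul, map_inv, mul_smul, hae, inv_smul_smul, Local.SylowMeet, inf_idem]
    exact hRb1)
  have h3 := ha.mul (g := (a : G)) (h := ((a⁻¹ * ⟨x, hx⟩ : N) : G)) (by
    rwa [Fusion.conjR_eq_of_mem_normalizer a.2])
  simpa using h3

/-- An element of the normalizer of a fully normalised subgroup is linked. -/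
theorem eLink_step {n : ℕ} (hb : Big P n) {E : Subgroup G} (hEP : E ≤ (P : Subgroup G))
    (hnE : n ≤ Nat.card E)
    (hful : ¬ p ∣ ((P : Subgroup G) ⊓ normalizer (E : Set G)).relIndex (normalizer (E : Set G)))
    {x : G} (hx : x ∈ normalizer (E : Set G)) : ELink P E x := by
  classical
  by_cases hEP' : E = (P : Subgroup G)
  · subst hEP'
    exact ⟨[], x, hx, trivial, by simp [eProd, one_mem]⟩
  have hltP : E < (P : Subgroup G) := lt_of_le_of_ne hEP hEP'
  rcases good_or_larger hEP hful hx with hgood | ⟨I, c, u, hEI, hIP, hc, hu, rfl⟩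
  swap
  · have hru : Robust P E u := hb.robust (hnE.trans_lt (Fusion.card_lt_card_of_lt hEI)) hEI.le hIP
      ((Fusion.conjR_eq_of_mem_normalizer hu).le.trans hIP)
    have h := (robust_of_centralizes hc).mul (h := u) (by
      rwa [Fusion.conjR_eq_of_mem_normalizer (centralizer_le_normalizer _ hc)])
    simpa [Fusion.conjR_one] using h 1 (one_mem _)
  set N := normalizer (E : Set G) with hN
  have hEN : E ≤ N := le_normalizer
  have hlt : E < (P : Subgroup G) ⊓ N := Fusion.lt_inf_normalizer P.isPGroup' hltP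
  by_cases hconn : Cfsg.IsSylowChainConnected p (↥N ⧸ E.subgroupOf N)
  · simpa [Fusion.conjR_one] using robust_of_connected hb hEP hnE hful hlt hconn hx 1 (one_mem _)
  set E' := E.subgroupOf N with hE'
  set f := QuotientGroup.mk' E' with hf
  have hfs := QuotientGroup.mk'_surjective E'
  have hE'map : E'.map N.subtype = E := map_subgroupOf_eq_of_le hEN
  have hidx : ∀ K : Subgroup (N ⧸ E'), E.relIndex ((K.comap f).map N.subtype) = Nat.card K := by
    intro K
    calc E.relIndex ((K.comap f).map N.subtype)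
        = (E'.map N.subtype).relIndex ((K.comap f).map N.subtype) := by rw [hE'map]
      _ = E'.relIndex (K.comap f) := relIndex_map_map_of_injective _ _ N.subtype_injective
      _ = ((⊥ : Subgroup (N ⧸ E')).comap f).relIndex (K.comap f) := by
          rw [MonoidHom.comap_bot, hf, QuotientGroup.ker_mk']
      _ = Nat.card K := by rw [relIndex_comap, map_comap_eq_self_of_surjective hfs, relIndex_bot_left]
  have hQdvd : p ∣ Nat.card (⊤ : Subgroup (N ⧸ E')) := by
    rw [card_top]
    by_contra hd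
    apply hlt.not_ge
    intro r hr
    have hrp : IsPGroup p ↥((P : Subgroup G) ⊓ N) := P.isPGroup'.to_le inf_le_left
    obtain ⟨k, hk⟩ := IsPGroup.iff_orderOf.mp hrp ⟨r, hr⟩
    have h1 : orderOf (f ⟨r, hr.2⟩) = 1 := by
      refine Nat.eq_one_of_dvd_coprimes (hp.out.coprime_iff_not_dvd.2 hd |>.pow_left k) ?_
        (orderOf_dvd_natCard _)
      refine (orderOf_map_dvd f _).trans (dvd_of_eq ?_)
      rw [Subgroup.orderOf_mk]; rw [Subgroup.orderOf_mk] at hk; exact hk
    exact ((QuotientGroup.eq_one_iff (N := E') _).1 (orderOf_eq_one_iff.1 h1) :)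
  obtain ⟨Xb, -, hXb⟩ := (Set.toFinite {K : Subgroup (N ⧸ E') | K.Normal ∧ p ∣ Nat.card K}).exists_le_minimal
    (show (⊤ : Subgroup (N ⧸ E')) ∈ {K : Subgroup (N ⧸ E') | K.Normal ∧ p ∣ Nat.card K} from
      ⟨inferInstance, hQdvd⟩)
  obtain ⟨hXbn, hXbp⟩ := hXb.1
  set X := (Xb.comap f).map N.subtype with hX
  have hXN : X ≤ N := map_subtype_le _
  have hX' : X.subgroupOf N = Xb.comap f := by
    rw [hX, subgroupOf, comap_map_eq_self_of_injective N.subtype_injective]
  haveI hXn : (X.subgroupOf N).Normal := by rw [hX']; exact hXbn.comap f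
  have hEX : E ≤ X := by
    refine hE'map.symm.trans_le (map_mono fun e he => ?_)
    rw [mem_comap, show f e = 1 from (QuotientGroup.eq_one_iff e).2 he]
    exact one_mem _
  have hXp : p ∣ E.relIndex X := by rw [hX, hidx]; exact hXbp
  have hXmin : ∀ Y : Subgroup G, E ≤ Y → Y ≤ N → (Y.subgroupOf N).Normal → p ∣ E.relIndex Y → X ≤ Y := by
    intro Y hEY hYN hYn hYp
    set Yb := (Y.subgroupOf N).map f with hYb
    haveI : Yb.Normal := hYn.map f hfs
    haveI := hXbn
    have hcY : Yb.comap f = Y.subgroupOf N := by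
      rw [hYb, comap_map_eq, hf, QuotientGroup.ker_mk', sup_eq_left.mpr (show E' ≤ Y.subgroupOf N from comap_mono hEY)]
    have hYbp : p ∣ Nat.card Yb := by
      rw [← hidx, hcY, map_subgroupOf_eq_of_le hYN]; exact hYp
    have hint := Cfsg.Agent.S3058.result p hconn Xb Yb hXbp hYbp
    have hle : Xb ≤ Yb := (hXb.2 (y := Xb ⊓ Yb) ⟨inferInstance, hint⟩ inf_le_left).trans inf_le_right
    rw [hX, ← map_subgroupOf_eq_of_le hYN, ← hcY]
    exact map_mono (comap_mono hle)
  obtain ⟨-, hCU, hprod, -⟩ := hgood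
  obtain ⟨hWU, -, -, -, hWD⟩ := hprod
  have hWC := pPrimeCore_normalizer_centralizes (P.isPGroup'.to_le hEP)
  have hCP : (P : Subgroup G) ⊓ centralizer (E : Set G) ≤ E := by
    intro a ha
    have haU := hCU ha.2
    rw [← hWD, sup_comm] at haU
    have hnW : E ≤ normalizer (((Cfsg.pPrimeCore p ↥N).map N.subtype : Subgroup G) : Set G) := by
      intro e he
      exact centralizer_le_normalizer _ (le_centralizer_iff.mp hWC he)
    obtain ⟨e, he, w, hw, rfl⟩ := (Core.mem_sup_of_le_normalizer hnW).mp haU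
    have hwP : w ∈ (P : Subgroup G) := by
      simpa using mul_mem (inv_mem (hEP he)) ha.1
    have hd : (P : Subgroup G) ⊓ (Cfsg.pPrimeCore p ↥N).map N.subtype = ⊥ :=
      disjoint_of_isPGroup_coprime P.isPGroup' (by
        rw [card_map_of_injective N.subtype_injective]; exact Core.pPrimeCore_coprime p N)
    have hw1 : w = 1 := mem_bot.1 (hd ▸ (⟨hwP, hw⟩ : w ∈ (P : Subgroup G) ⊓ _))
    rwa [hw1, mul_one]
  have hUeq : (Cfsg.pPrimePCore p ↥N).map N.subtype = E ⊔ centralizer (E : Set G) := by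
    refine le_antisymm ?_ (sup_le ?_ hCU)
    · rw [← hWD]; exact sup_le (le_sup_of_le_right hWC) le_sup_left
    · rw [← hWD]; exact le_sup_right
  -- decomposition of `x`
  have hXnorm : N ≤ normalizer (X : Set G) := (normal_subgroupOf_iff_le_normalizer hXN).1 hXn
  obtain ⟨k, hk, hm⟩ := exists_frattini hXN hXnorm hful hx
  set I := (P : Subgroup G) ⊓ X with hI
  have hndI : ¬ p ∣ I.relIndex X := by
    let R : Sylow p N :=
      ((P.isPGroup'.to_le inf_le_left).comap_of_injective N.subtype N.subtype_injective).toSylow hful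
    have h := Local.not_dvd_relIndex_of_normal R (X.subgroupOf N)
    change ¬ p ∣ (((P : Subgroup G) ⊓ N).subgroupOf N).relIndex (X.subgroupOf N) at h
    rw [relIndex_subgroupOf hXN, ← inf_relIndex_right, inf_assoc, inf_eq_right.mpr hXN] at h
    exact h
  have hEI : E < I := lt_of_le_of_ne (le_inf hEP hEX) fun h => hndI (h ▸ hXp)
  have hSp : IsPGroup p (I.subgroupOf X) := (P.isPGroup'.to_le inf_le_left : IsPGroup p I).comap_subtype
  obtain ⟨t, ht, m, hmr, he⟩ := Fusion.exists_mul_of_sylow (hSp.toSylow hndI) ⟨k, hk⟩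
  haveI := Fusion.pResidual_normal p X
  set k' := ((t * m * t⁻¹ : X) : G) with hk'
  have hk'R : k' ∈ (Cfsg.pResidual p ↥X).map X.subtype :=
    ⟨_, Subgroup.Normal.conj_mem inferInstance m hmr t, rfl⟩
  have hk'N : k' ∈ N := hXN (t * m * t⁻¹ : X).2
  have hxe : x = k' * ((t : G) * (k⁻¹ * x)) := by
    have hkt : k = (t : G) * m := congrArg Subtype.val he
    simp only [hk', Subgroup.coe_mul, Subgroup.coe_inv]
    rw [hkt]; group
  have ht' : (t : G) ∈ I := by
    change t ∈ I.subgroupOf X at ht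
    exact mem_subgroupOf.mp ht
  have hrest : (t : G) * (k⁻¹ * x) ∈ normalizer (I : Set G) := mul_mem (le_normalizer ht') hm
  rw [hxe]
  refine ELink.mul ⟨[(E, X, k')], 1, one_mem _, ⟨⟨hEP, hful, hCP, hUeq, hconn,
    ⟨hEX, hXN, hXn, hXp, hXmin⟩, hk'R⟩, le_rfl, trivial⟩, by simp [eProd, one_mem]⟩ ?_
  rw [Fusion.conjR_eq_of_mem_normalizer hk'N]
  exact hb.robust (hnE.trans_lt (Fusion.card_lt_card_of_lt hEI)) hEI.le inf_le_left
    ((Fusion.conjR_eq_of_mem_normalizer hrest).le.trans inf_le_left)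

theorem robust_step {n : ℕ} (hb : Big P n) {E : Subgroup G} (hEP : E ≤ (P : Subgroup G))
    (hnE : n ≤ Nat.card E)
    (hful : ¬ p ∣ ((P : Subgroup G) ⊓ normalizer (E : Set G)).relIndex (normalizer (E : Set G)))
    {x : G} (hx : x ∈ normalizer (E : Set G)) : Robust P E x := by
  intro y hy
  have hP : Fusion.conjR y⁻¹ (P : Subgroup G) = (P : Subgroup G) :=
    Fusion.conjR_eq_of_mem_normalizer (inv_mem hy)
  have hN : normalizer ((Fusion.conjR y⁻¹ E : Subgroup G) : Set G) =
      Fusion.conjR y⁻¹ (normalizer (E : Set G)) := Fusion.normalizer_conjR _ _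
  refine eLink_step hb ((Fusion.conjR_mono _ hEP).trans hP.le) (by rwa [Fusion.card_conjR]) ?_ ?_
  · rw [hN]
    have e : (P : Subgroup G) ⊓ Fusion.conjR y⁻¹ (normalizer (E : Set G)) =
        Fusion.conjR y⁻¹ ((P : Subgroup G) ⊓ normalizer (E : Set G)) := by
      conv_lhs => rw [← hP]
      rw [Fusion.conjR, Fusion.conjR, Fusion.conjR, map_inf _ _ _ (MulAut.conj (y⁻¹)⁻¹).injective]
    rw [e, Fusion.conjR, Fusion.conjR,
      relIndex_map_map_of_injective _ _ (MulAut.conj (y⁻¹)⁻¹).injective]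
    exact hful
  · rw [hN, Fusion.mem_conjR]
    simpa [mul_assoc] using hx

/-- The strong Alperin–Goldschmidt theorem. -/
theorem eLink (P : Sylow p G) (D : Subgroup G) (g : G) (hD : D ≤ (P : Subgroup G))
    (hDg : Fusion.conjR g D ≤ (P : Subgroup G)) : ELink P D g := by
  classical
  induction hn : Nat.card G - Nat.card D using Nat.strong_induction_on generalizing D g with
  | _ m ih =>
  subst hn
  have hb : Big P (Nat.card D) := fun E g' hlt h1 h2 =>
    ih _ (by have := card_le_card_group E; omega) E g' h1 h2 rfl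
  obtain ⟨l, hl, rfl⟩ := Fusion.alperin P D g hD hDg
  suffices h : ∀ (l : List (Sylow p G × G)) (D' : Subgroup G), Nat.card D' = Nat.card D →
      Fusion.Chain P l D' → Robust P D' (Fusion.chainProd l) by
    have h1 := h l D rfl hl 1 (one_mem _)
    simpa [Fusion.conjR_one] using h1
  intro l
  induction l with
  | nil => intro D' _ _; exact robust_of_centralizes (by simp [Fusion.chainProd, one_mem])
  | cons a l ihl =>
    obtain ⟨Q, x⟩ := a
    rintro D' hcard ⟨⟨hQ, -⟩, hx, hle, hrest⟩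
    have e : Fusion.chainProd ((Q, x) :: l) = x * Fusion.chainProd l := by simp [Fusion.chainProd]
    rw [e]
    refine Robust.mul ?_ (ihl _ ((Fusion.card_conjR x D').trans hcard) hrest)
    have h1 := robust_step hb (inf_le_left : (P : Subgroup G) ⊓ (Q : Subgroup G) ≤ _)
      (hcard ▸ Nat.le_of_dvd Nat.card_pos (card_dvd_of_le hle)) hQ hx
    exact fun y hy => (h1 y hy).mono (Fusion.conjR_mono _ hle)

end Cfsg.Lib.Sig.Goldschmidt
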