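import Cfsg.Agent.Lib.Core.Cores
import Cfsg.Agent.Lib.Solv.Nilpotent
import Cfsg.Agent.Lib.Coprime.Conjugacy
import Cfsg.Prelude.Def_Local

/-!
# The normalizer of `P ∩ O_{p',p}(G)` controls fusion
-/

set_option autoImplicit false

namespace Cfsg.Lib.Sig

open Subgroup

variable {G : Type*} [Group G] [Finite G] {p : ℕ} [Fact p.Prime]

/-- `N_G(P ∩ O_{p',p}(G))`. -/
abbrev ppNormalizer (P : Sylow p G) : Subgroup G :=
  normalizer (((P : Subgroup G) ⊓ Cfsg.pPrimePCore p G : Subgroup G) : Set G)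

theorem pPrimePCore_normal' : (Cfsg.pPrimePCore p G).Normal :=
  Subgroup.Normal.comap inferInstance _

theorem le_ppNormalizer (P : Sylow p G) : (P : Subgroup G) ≤ ppNormalizer P := by
  haveI : (Cfsg.pPrimePCore p G).Normal := pPrimePCore_normal'
  intro x hx
  refine mem_normalizer_iff.mpr fun y => ?_
  constructor
  · exact fun hy => ⟨(P : Subgroup G).mul_mem ((P : Subgroup G).mul_mem hx hy.1) ((P : Subgroup G).inv_mem hx), Normal.conj_mem inferInstance y hy.2 x⟩
  · intro hy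
    have h1 := (P : Subgroup G).mul_mem ((P : Subgroup G).mul_mem ((P : Subgroup G).inv_mem hx) hy.1) hx
    have h2 := Normal.conj_mem (inferInstance : (Cfsg.pPrimePCore p G).Normal) _ hy.2 x⁻¹
    have e1 : x⁻¹ * (x * y * x⁻¹) * x = y := by group
    have e2 : x⁻¹ * (x * y * x⁻¹) * (x⁻¹)⁻¹ = y := by group
    rw [e1] at h1
    rw [e2] at h2
    exact ⟨h1, h2⟩

theorem exists_mul_ppNormalizer (P : Sylow p G) (g : G) :
    ∃ k ∈ Cfsg.pPrimeCore p G, ∃ n ∈ ppNormalizer P, g = k * n := by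
  haveI hMn : (Cfsg.pPrimePCore p G).Normal := pPrimePCore_normal'
  set M := Cfsg.pPrimePCore p G with hM
  set H := (P : Subgroup G) ⊓ M with hH
  set K := Cfsg.pPrimeCore p G with hK
  have hKM : K ≤ M := fun k hk => by
    show (QuotientGroup.mk' K k) ∈ Cfsg.pCore p (G ⧸ K)
    rw [show QuotientGroup.mk' K k = 1 from (QuotientGroup.eq_one_iff k).mpr hk]
    exact one_mem _
  have hnd : ¬ p ∣ H.relIndex M := by
    rw [hH, inf_relIndex_right]
    exact Solv.not_dvd_relIndex_of_isSubnormal P hMn.isSubnormal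
  have hMHK : M = H ⊔ K := by
    refine le_antisymm ?_ (sup_le inf_le_right hKM)
    rw [← relIndex_eq_one]
    have h1 : (H ⊔ K).relIndex M ∣ H.relIndex M :=
      relIndex_dvd_of_le_left _ le_sup_left
    have h2 : (H ⊔ K).relIndex M ∣ K.relIndex M :=
      relIndex_dvd_of_le_left _ le_sup_right
    obtain ⟨n, hn⟩ := IsPGroup.iff_card.mp (Cfsg.Lib.Core.pCore_isPGroup p (G ⧸ K))
    have h3 : K.relIndex M = p ^ n := by
      have h4 : (⊥ : Subgroup (G ⧸ K)).comap (QuotientGroup.mk' K) = K := by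
        rw [MonoidHom.comap_bot, QuotientGroup.ker_mk']
      conv_lhs => rw [← h4]
      rw [relIndex_comap, hM, Cfsg.pPrimePCore,
        map_comap_eq_self_of_surjective (QuotientGroup.mk'_surjective K), relIndex_bot_left, hn]
    rw [h3] at h2
    obtain ⟨j, -, hj⟩ := (Nat.dvd_prime_pow (Fact.out : p.Prime)).mp h2
    rcases Nat.eq_zero_or_pos j with rfl | hj'
    · simpa using hj
    · exact absurd ((dvd_pow_self p hj'.ne').trans (hj ▸ h1)) hnd
  have hnd' : ¬ p ∣ (H.subgroupOf M).index := hnd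
  let RS : Sylow p M :=
    ((P.isPGroup'.to_le inf_le_left).of_equiv
      (subgroupOfEquivOfLe (inf_le_right : H ≤ M)).symm).toSylow hnd'
  have hF := Sylow.normalizer_sup_eq_top RS
  rw [IsPGroup.toSylow_coe, map_subgroupOf_eq_of_le (inf_le_right : H ≤ M)] at hF
  have hN : ppNormalizer P ⊔ K = ⊤ := by
    have h5 : M ≤ ppNormalizer P ⊔ K :=
      hMHK.le.trans (sup_le ((le_normalizer (H := H)).trans le_sup_left) le_sup_right)
    exact top_le_iff.mp (hF.ge.trans (sup_le le_sup_left h5))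
  have hg : g ∈ K ⊔ ppNormalizer P := by rw [sup_comm, hN]; trivial
  have hKn : ppNormalizer P ≤ normalizer (K : Set G) := by
    rw [normalizer_eq_top]; exact le_top
  exact Cfsg.Lib.Coprime.exists_mul_of_mem_sup hKn hg

/-- Elements of `O_{p'}(G)` normalizing `H = P ∩ O_{p',p}(G)` centralize it. -/
theorem mem_centralizer_of_mem_ppNormalizer (P : Sylow p G) {d : G} (hd : d ∈ Cfsg.pPrimeCore p G)
    (hn : d ∈ ppNormalizer P) :
    d ∈ centralizer (((P : Subgroup G) ⊓ Cfsg.pPrimePCore p G : Subgroup G) : Set G) := by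
  set H := (P : Subgroup G) ⊓ Cfsg.pPrimePCore p G with hH
  rw [mem_centralizer_iff]
  intro h hh
  have h1 : d * h * d⁻¹ * h⁻¹ ∈ Cfsg.pPrimeCore p G ⊓ H := by
    refine ⟨?_, H.mul_mem ((mem_normalizer_iff.mp hn h).mp hh) (H.inv_mem hh)⟩
    have := mul_mem hd ((inferInstance : (Cfsg.pPrimeCore p G).Normal).conj_mem _ (inv_mem hd) h)
    simpa [mul_assoc] using this
  have hcop : (Nat.card (Cfsg.pPrimeCore p G)).Coprime (Nat.card H) := by
    obtain ⟨n, hn'⟩ := IsPGroup.iff_card.mp (P.isPGroup'.to_le (inf_le_left : H ≤ (P : Subgroup G)))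
    rw [hn']
    exact (Cfsg.Lib.Core.pPrimeCore_coprime p G).pow_right n
  rw [disjoint_iff.mp (Cfsg.Lib.Coprime.disjoint_of_coprime_card hcop), mem_bot] at h1
  calc h * d = 1 * (h * d) := (one_mul _).symm
    _ = d * h * d⁻¹ * h⁻¹ * (h * d) := by rw [h1]
    _ = d * h := by group

theorem exists_factor_ppNormalizer (P : Sylow p G) {y d : G} (hy : y ∈ ppNormalizer P)
    (hyp : ∃ k : ℕ, orderOf y = p ^ k) (hd : d ∈ Cfsg.pPrimeCore p G)
    (hyd : d⁻¹ * y * d ∈ ppNormalizer P) :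
    ∃ d₁ ∈ Cfsg.pPrimeCore p G ⊓ centralizer ({y} : Set G),
      ∃ d₂ ∈ Cfsg.pPrimeCore p G ⊓ centralizer (((P : Subgroup G) ⊓ Cfsg.pPrimePCore p G : Subgroup G) : Set G),
        d = d₁ * d₂ := by
  set K := Cfsg.pPrimeCore p G with hK
  set D := K ⊓ ppNormalizer P with hD
  obtain ⟨k, hk⟩ := hyp
  have hyD : zpowers y ≤ normalizer (D : Set G) := by
    rw [zpowers_le]
    refine mem_normalizer_iff.mpr fun z => ?_
    constructor
    · exact fun hz => ⟨Normal.conj_mem inferInstance z hz.1 y,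
        (ppNormalizer P).mul_mem ((ppNormalizer P).mul_mem hy hz.2) ((ppNormalizer P).inv_mem hy)⟩
    · intro hz
      have h1 := Normal.conj_mem (inferInstance : K.Normal) _ hz.1 y⁻¹
      have h2 := (ppNormalizer P).mul_mem ((ppNormalizer P).mul_mem ((ppNormalizer P).inv_mem hy) hz.2) hy
      exact ⟨by simpa [mul_assoc] using h1, by simpa [mul_assoc] using h2⟩
  set y' := d⁻¹ * y * d with hy'
  have hzD : y' * y⁻¹ ∈ D := by
    refine ⟨?_, (ppNormalizer P).mul_mem hyd ((ppNormalizer P).inv_mem hy)⟩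
    have := K.mul_mem (K.inv_mem hd) ((inferInstance : K.Normal).conj_mem _ hd y)
    simpa [hy', mul_assoc] using this
  have hcard : Nat.card (zpowers y') = Nat.card (zpowers y) := by
    rw [Nat.card_zpowers, Nat.card_zpowers, hy']
    have := orderOf_injective (MulAut.conj d⁻¹).toMonoidHom (MulAut.conj d⁻¹).injective y
    simpa [mul_assoc] using this
  have hcop : (Nat.card (zpowers y)).Coprime (Nat.card D) := by
    rw [Nat.card_zpowers, hk]
    exact ((Cfsg.Lib.Core.pPrimeCore_coprime p G).coprime_dvd_left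
      (card_dvd_of_le inf_le_left)).symm.pow_left k
  have hle : zpowers y' ≤ D ⊔ zpowers y := by
    rw [zpowers_le]
    have := mul_mem (mem_sup_left hzD : y' * y⁻¹ ∈ D ⊔ zpowers y) (mem_sup_right (mem_zpowers y))
    simpa using this
  haveI : Group.IsSolvable (zpowers y) := inferInstance
  obtain ⟨e, he, hB⟩ := Cfsg.Lib.Coprime.exists_conj_of_coprime D (zpowers y) (zpowers y') hyD hcop (Or.inl inferInstance) hle hcard
  have hmem : e⁻¹ * y' * e ∈ zpowers y :=
    Cfsg.Lib.Coprime.mem_map_conj_iff.mp (hB ▸ mem_zpowers y')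
  have hdis := Cfsg.Lib.Coprime.disjoint_of_coprime_card hcop.symm
  have hey : e⁻¹ * y' * e = y := by
    have h1 : e⁻¹ * y' * e * y⁻¹ ∈ D ⊓ zpowers y := by
      refine ⟨?_, (zpowers y).mul_mem hmem ((zpowers y).inv_mem (mem_zpowers y))⟩
      have h2 := D.mul_mem (D.mul_mem (D.inv_mem he) hzD)
        ((mem_normalizer_iff.mp (hyD (mem_zpowers y)) e).mp he)
      simpa [mul_assoc] using h2
    rw [disjoint_iff.mp hdis, mem_bot, mul_inv_eq_one] at h1
    exact h1
  have hde : d * e ∈ centralizer ({y} : Set G) := by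
    rw [mem_centralizer_singleton_iff]
    have : y' * e = e * y := by
      calc y' * e = e * (e⁻¹ * y' * e) := by group
        _ = e * y := by rw [hey]
    calc d * e * y = d * (y' * e) := by rw [this]; group
      _ = y * (d * e) := by rw [hy']; group
  refine ⟨d * e, ⟨K.mul_mem hd he.1, hde⟩, e⁻¹,
    ⟨K.inv_mem he.1, (centralizer _).inv_mem (mem_centralizer_of_mem_ppNormalizer P he.1 he.2)⟩, by group⟩

theorem exists_ppNormalizer_conj (P : Sylow p G) {x y : G} (hx : x ∈ (P : Subgroup G))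
    (hy : y ∈ (P : Subgroup G)) (h : IsConj x y) :
    ∃ n ∈ ppNormalizer P, n * x * n⁻¹ = y := by
  obtain ⟨g, hg⟩ := isConj_iff.mp h
  obtain ⟨k, hk, n, hn, rfl⟩ := exists_mul_ppNormalizer P g
  have hxn : n * x * n⁻¹ ∈ ppNormalizer P :=
    mul_mem (mul_mem hn (le_ppNormalizer P hx)) (inv_mem hn)
  have hord : ∃ j : ℕ, orderOf (n * x * n⁻¹) = p ^ j := by
    obtain ⟨j, hj⟩ := P.2 ⟨x, hx⟩
    obtain ⟨i, -, hi⟩ := (Nat.dvd_prime_pow (Fact.out : p.Prime)).mp
      (orderOf_dvd_of_pow_eq_one (congrArg Subtype.val hj) : orderOf x ∣ p ^ j)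
    refine ⟨i, ?_⟩
    rw [← hi]
    exact orderOf_injective (MulAut.conj n).toMonoidHom (MulAut.conj n).injective x
  have hky : (k⁻¹)⁻¹ * (n * x * n⁻¹) * k⁻¹ = y := by rw [← hg]; group
  obtain ⟨d₁, hd₁, d₂, hd₂, hd⟩ := exists_factor_ppNormalizer P hxn hord (inv_mem hk)
    (hky ▸ le_ppNormalizer P hy)
  refine ⟨d₂⁻¹ * n, mul_mem (inv_mem (centralizer_le_normalizer _ hd₂.2)) hn, ?_⟩
  have hc := mem_centralizer_singleton_iff.mp hd₁.2
  rw [← hky, hd]
  calc d₂⁻¹ * n * x * (d₂⁻¹ * n)⁻¹ = d₂⁻¹ * (d₁⁻¹ * d₁ * (n * x * n⁻¹)) * d₂ := by group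
    _ = d₂⁻¹ * (d₁⁻¹ * (n * x * n⁻¹ * d₁)) * d₂ := by rw [mul_assoc d₁⁻¹ d₁ _, hc]
    _ = (d₁ * d₂)⁻¹ * (n * x * n⁻¹) * (d₁ * d₂) := by group

end Cfsg.Lib.Sig
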