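import Cfsg.Agent.S0910
import Cfsg.Agent.Lib.Block.PowerDegree

/-!
# Self-centralizing Sylow subgroup of prime order in simple groups of order `p^a q^b r`
-/

set_option autoImplicit false
set_option linter.unusedSectionVars false

namespace Cfsg.Lib.Sig

open Cfsg Cfsg.Lib Cfsg.Lib.Block
open scoped ComplexConjugate

variable {G : Type*} [Group G] [Finite G] [IsSimpleGroup G]

/-- A simple group of order `p^a q^b r` has no element of order divisible by `p * r`. -/
theorem no_element_paqbr {p q r a b : ℕ} (hp : p.Prime) (hq : q.Prime) (hr : r.Prime)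
    (hpr : p ≠ r) (hqr : q ≠ r) (hG : Nat.card G = p ^ a * q ^ b * r) (g : G)
    (hgp : p ∣ orderOf g) (hgr : r ∣ orderOf g) : False := by
  classical
  haveI := Fintype.ofFinite G
  haveI := Fact.mk hp
  haveI := Fact.mk hr
  have hna : ∃ a b : G, a * b ≠ b * a := by
    by_contra h
    push Not at h
    letI : CommGroup G := { (inferInstance : Group G) with mul_comm := h }
    have h1 : (Nat.card G).Prime := IsSimpleGroup.prime_card
    have h2 : orderOf g ∣ Nat.card G := orderOf_dvd_natCard g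
    exact hpr (((Nat.dvd_prime_two_le h1 hp.two_le).1 (hgp.trans h2)).trans
      ((Nat.dvd_prime_two_le h1 hr.two_le).1 (hgr.trans h2)).symm)
  obtain ⟨M, hM⟩ := exists_isPModular hp
  obtain ⟨N, hN⟩ := exists_isPModular hr
  have hB : IsPBlock M (principalBlock M G) := isPBlock_principal
  have horth := sum_block_mul_conj_eq_zero hM (vInt_indVec hM hB)
    (not_isConj_pPt_of_dvd (g := (1 : G)) (h := g) (by rw [orderOf_one]; exact hp.not_dvd_one) hgp)
  rw [finsum_mem_eq_toFinset_sum, ← Finset.add_sum_erase _ _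
    (Set.mem_toFinset.2 (trivChar_mem_principal (G := G) hM)), trivChar_coe] at horth
  simp only [map_one, mul_one] at horth
  refine Char.not_isIntegral_one_div_prime hq ?_
  have e : (1 : ℂ) / (q : ℂ) = -∑ χ ∈ (principalBlock M G).toFinset.erase (trivChar G),
      ((χ : G → ℂ) 1 * conj ((χ : G → ℂ) g) / (q : ℂ)) := by
    rw [← Finset.sum_div, eq_neg_of_add_eq_zero_right horth, neg_div, neg_neg]
  rw [e]
  refine (IsIntegral.sum _ fun χ hχ => ?_).neg
  obtain ⟨hne, hmem⟩ := Finset.mem_erase.1 hχ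
  rw [χ.2.apply_one_eq_charDegree]
  by_cases hq' : q ∣ charDegree (χ : G → ℂ)
  · obtain ⟨m, hm⟩ := hq'
    rw [hm, Nat.cast_mul, mul_assoc, mul_div_assoc]
    rw [show (q : ℂ) * (((m : ℂ) * conj ((χ : G → ℂ) g)) / (q : ℂ)) = (m : ℂ) * conj ((χ : G → ℂ) g) by
      field_simp [hq.ne_zero]]
    refine (isIntegral_algebraMap (x := (m : ℤ))).mul ?_
    rw [← χ.2.isCharacter.apply_inv]
    exact χ.2.isCharacter.isIntegral _
  · have hd := charDegree_dvd_card χ
    rw [hG] at hd
    by_cases hr' : r ∣ charDegree (χ : G → ℂ)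
    · have hv : (χ : G → ℂ) g = 0 := by
        have hfull : (Nat.card G).factorization r ≤ (charDegree (χ : G → ℂ)).factorization r := by
          refine le_trans ?_ (hr.factorization_pos_of_dvd χ.2.charDegree_pos.ne' hr')
          by_contra h
          push Not at h
          have h2 : r ^ 2 ∣ p ^ a * q ^ b * r := by
            rw [← hG]
            exact (hr.pow_dvd_iff_le_factorization Nat.card_pos.ne').2 h
          rw [pow_two] at h2
          rcases hr.dvd_mul.1 (Nat.dvd_of_mul_dvd_mul_right hr.pos h2) with h3 | h3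
          · exact hpr ((Nat.prime_dvd_prime_iff_eq hr hp).1 (hr.dvd_of_dvd_pow h3)).symm
          · exact hqr ((Nat.prime_dvd_prime_iff_eq hr hq).1 (hr.dvd_of_dvd_pow h3)).symm
        have h0 := sum_block_mul_conj_eq_zero hN (vInt_singleton hN χ hfull)
          (not_isConj_pPt_of_dvd (g := (1 : G)) (h := g)
            (by rw [orderOf_one]; exact hr.not_dvd_one) hgr)
        rw [finsum_mem_singleton] at h0
        have h1 := (mul_eq_zero.1 h0).resolve_left χ.2.apply_one_ne_zero
        simpa using h1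
      simp [hv, isIntegral_zero]
    · exfalso
      obtain ⟨k, hk⟩ := eq_pow_of_dvd_three hq hp hr
        (show charDegree (χ : G → ℂ) ∣ q ^ b * p ^ a * r ^ 1 by
          rwa [pow_one, mul_comm (q ^ b) (p ^ a)]) hq' hr'
      apply hne
      exact Subtype.ext (Cfsg.Agent.S0910.result p M hM hna χ (Set.mem_toFinset.1 hmem) k
        (by rw [χ.2.apply_one_eq_charDegree, hk, Nat.cast_pow]))

theorem centralizer_sylow_eq {p q r a b : ℕ} (hp : p.Prime) (hq : q.Prime) [Fact r.Prime]
    (hpr : p ≠ r) (hqr : q ≠ r) (hG : Nat.card G = p ^ a * q ^ b * r) (S : Sylow r G) :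
    Subgroup.centralizer (S : Set G) = (S : Subgroup G) := by
  classical
  have hr : r.Prime := Fact.out
  have hndiv : ¬ r ∣ p ^ a * q ^ b := fun h => by
    rcases hr.dvd_mul.1 h with h3 | h3
    · exact hpr ((Nat.prime_dvd_prime_iff_eq hr hp).1 (hr.dvd_of_dvd_pow h3)).symm
    · exact hqr ((Nat.prime_dvd_prime_iff_eq hr hq).1 (hr.dvd_of_dvd_pow h3)).symm
  have hScard : Nat.card (S : Subgroup G) = r := by
    rw [S.card_eq_multiplicity, hG, Nat.factorization_mul (by simp [hp.ne_zero, hq.ne_zero])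
      hr.ne_zero, Finsupp.add_apply, Nat.factorization_eq_zero_of_not_dvd hndiv,
      hr.factorization_self, zero_add, pow_one]
  haveI : IsCyclic (S : Subgroup G) := isCyclic_of_prime_card hScard
  have hle : (S : Subgroup G) ≤ Subgroup.centralizer (S : Set G) := fun x hx =>
    Subgroup.mem_centralizer_iff.2 fun y hy =>
      congrArg Subtype.val (IsCyclic.commGroup.mul_comm (⟨y, hy⟩ : (S : Subgroup G)) ⟨x, hx⟩)
  obtain ⟨m, hm⟩ : r ∣ Nat.card (Subgroup.centralizer (S : Set G)) :=
    (dvd_of_eq hScard.symm).trans (Subgroup.card_dvd_of_le hle)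
  by_cases hm1 : m = 1
  · exact (Subgroup.eq_of_le_of_card_ge hle (by rw [hm, hm1, mul_one, hScard])).symm
  exfalso
  have hmdvd : m ∣ p ^ a * q ^ b := by
    have h := Subgroup.card_subgroup_dvd_card (Subgroup.centralizer (S : Set G))
    rw [hm, hG, mul_comm r m] at h
    exact Nat.dvd_of_mul_dvd_mul_right hr.pos h
  obtain ⟨s, hs, hsm⟩ := Nat.exists_prime_and_dvd hm1
  haveI := Fact.mk hs
  obtain ⟨⟨y, hyC⟩, hy⟩ := exists_prime_orderOf_dvd_card' (G := Subgroup.centralizer (S : Set G)) s
    (by rw [hm]; exact hsm.mul_left r)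
  rw [Subgroup.orderOf_mk] at hy
  obtain ⟨⟨x, hxS⟩, hx⟩ := exists_prime_orderOf_dvd_card' (G := (S : Subgroup G)) r
    (by rw [hScard])
  rw [Subgroup.orderOf_mk] at hx
  have hcomm : Commute x y := (Subgroup.mem_centralizer_iff.1 hyC) x hxS
  have hsr : r ≠ s := fun h => hndiv (h ▸ hsm.trans hmdvd)
  have hord : orderOf (x * y) = r * s := by
    rw [hcomm.orderOf_mul_eq_mul_orderOf_of_coprime, hx, hy]
    rw [hx, hy]
    exact (Nat.coprime_primes hr hs).2 hsr
  rcases hs.dvd_mul.1 (hsm.trans hmdvd) with h | h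
  · have e := (Nat.prime_dvd_prime_iff_eq hs hp).1 (hs.dvd_of_dvd_pow h)
    exact no_element_paqbr hp hq hr hpr hqr hG (x * y) (by rw [hord, ← e]; exact dvd_mul_left s r)
      (by rw [hord]; exact dvd_mul_right r s)
  · have e := (Nat.prime_dvd_prime_iff_eq hs hq).1 (hs.dvd_of_dvd_pow h)
    exact no_element_paqbr (a := b) (b := a) hq hp hr hqr hpr
      (by rw [hG, mul_comm (p ^ a) (q ^ b)]) (x * y) (by rw [hord, ← e]; exact dvd_mul_left s r)
      (by rw [hord]; exact dvd_mul_right r s)

end Cfsg.Lib.Sig
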