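import Mathlib.Algebra.Polynomial.Derivative
import Mathlib.Algebra.Polynomial.Degree.Lemmas
import Mathlib.Data.Nat.Prime.Basic
import Mathlib.GroupTheory.Index
import Mathlib.Data.Finite.Card
import Mathlib.Tactic.Abel
import Mathlib.Tactic.NoncommRing
import Mathlib.Tactic.Module

/-!
# The limit of a space of quadratic operators along a quadratic one-parameter group
-/

set_option autoImplicit false

namespace Cfsg.Lib.Sig.QuadraticLimit

open Polynomial

variable {R : Type*} [Ring R] {p : ℕ} [hp : Fact p.Prime]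

theorem mem_of_nsmul_mem (hchar : (p : R) = 0) {a : AddSubgroup R} {x : R} {n : ℕ} (hn : ¬ p ∣ n)
    (h : n • x ∈ a) : x ∈ a := by
  have hcop : Nat.gcd n p = 1 := (hp.out.coprime_iff_not_dvd.2 hn).symm
  have hbez := Nat.gcd_eq_gcd_ab n p
  rw [hcop] at hbez
  have hpx : (p : ℤ) • x = 0 := by rw [zsmul_eq_mul, Int.cast_natCast, hchar, zero_mul]
  have e : x = Nat.gcdA n p • (n • x) := by
    rw [← natCast_zsmul x n, smul_smul]
    calc x = ((n : ℤ) * Nat.gcdA n p + (p : ℤ) * Nat.gcdB n p) • x := by rw [← hbez]; simp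
      _ = (Nat.gcdA n p * (n : ℤ)) • x := by
        rw [add_smul, mul_comm (p : ℤ), mul_smul (Nat.gcdB n p), hpx, smul_zero, add_zero, mul_comm]
  rw [e]
  exact a.zsmul_mem h _

theorem five_le_not_dvd (h5 : 5 ≤ p) {n : ℕ} (hn : n = 2 ∨ n = 3 ∨ n = 4 ∨ n = 12 ∨ n = 24) : ¬ p ∣ n := by
  intro hd
  have h2 : p ∣ 2 * 2 * 2 * 3 := by
    rcases hn with rfl | rfl | rfl | rfl | rfl <;> exact hd.trans (by norm_num)
  rcases (hp.out.dvd_mul).1 h2 with h | h
  · rcases (hp.out.dvd_mul).1 h with h | h
    · rcases (hp.out.dvd_mul).1 h with h | h <;> exact absurd (Nat.le_of_dvd (by norm_num) h) (by omega)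
    · exact absurd (Nat.le_of_dvd (by norm_num) h) (by omega)
  · exact absurd (Nat.le_of_dvd (by norm_num) h) (by omega)

/-- A polynomial of degree at most four with values in a subgroup has coefficients there. -/
theorem coeff_mem (hchar : (p : R) = 0) (h5 : 5 ≤ p) {a : AddSubgroup R} (c₀ c₁ c₂ c₃ c₄ : R)
    (h : ∀ t : ℤ, c₀ + t • c₁ + t ^ 2 • c₂ + t ^ 3 • c₃ + t ^ 4 • c₄ ∈ a) :
    c₀ ∈ a ∧ c₁ ∈ a ∧ c₂ ∈ a ∧ c₃ ∈ a ∧ c₄ ∈ a := by
  have h0 := h 0
  have h1 := h 1
  have h1' := h (-1)
  have h2 := h 2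
  have h2' := h (-2)
  norm_num at h0 h1 h1' h2 h2'
  have e4 : (24 : ℕ) • c₄ ∈ a := by
    have h := a.add_mem (a.add_mem (a.add_mem h2 h2') (a.nsmul_mem h0 6)) (a.neg_mem (a.nsmul_mem (a.add_mem h1 h1') 4))
    convert h using 1
    noncomm_ring
  have m4 := mem_of_nsmul_mem hchar (five_le_not_dvd h5 (n := 24) (by norm_num)) e4
  have e2 : (2 : ℕ) • c₂ ∈ a := by
    have h := a.add_mem (a.add_mem h1 h1') (a.neg_mem (a.add_mem (a.nsmul_mem h0 2) (a.nsmul_mem m4 2)))
    convert h using 1
    module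
  have e3 : (12 : ℕ) • c₃ ∈ a := by
    have h := a.add_mem (a.add_mem h2 (a.neg_mem h2')) (a.neg_mem (a.nsmul_mem (a.add_mem h1 (a.neg_mem h1')) 2))
    convert h using 1
    noncomm_ring
  have m3 := mem_of_nsmul_mem hchar (five_le_not_dvd h5 (n := 12) (by norm_num)) e3
  have e1 : (2 : ℕ) • c₁ ∈ a := by
    have h := a.add_mem (a.add_mem h1 (a.neg_mem h1')) (a.neg_mem (a.nsmul_mem m3 2))
    convert h using 1
    module
  exact ⟨h0, mem_of_nsmul_mem hchar (five_le_not_dvd h5 (n := 2) (by norm_num)) e1,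
    mem_of_nsmul_mem hchar (five_le_not_dvd h5 (n := 2) (by norm_num)) e2, m3, m4⟩

/-- Conjugation by the one-parameter groups `1 + X L`, `1 - X K`. -/
noncomputable def conj (L K : R) : R[X] →+ R[X] where
  toFun F := (1 + X * C L) * F * (1 - X * C K)
  map_zero' := by simp
  map_add' F G := by rw [mul_add, add_mul]

theorem conj_apply (L K : R) (F : R[X]) : conj L K F = (1 + X * C L) * F * (1 - X * C K) := rfl

theorem conj_derivative (L K : R) (F : R[X]) (hL : L * L = 0) (hK : K * K = 0) :
    derivative (conj L K F) = C L * conj L K F - conj L K F * C K + conj L K (derivative F) := by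
  simp only [conj_apply, derivative_mul, map_add, map_sub, derivative_one, derivative_X, derivative_C, zero_add,
    one_mul, mul_zero, add_zero, zero_sub]
  have h1 : C L * (1 + X * C L) = C L := by
    rw [mul_add, mul_one, ← mul_assoc, ← X_mul, mul_assoc, ← map_mul, hL, map_zero, mul_zero, add_zero]
  have h2 : (1 - X * C K) * C K = C K := by
    rw [sub_mul, one_mul, mul_assoc, ← map_mul, hK, map_zero, mul_zero, sub_zero]
  calc (C L * F + (1 + X * C L) * derivative F) * (1 - X * C K) + (1 + X * C L) * F * -C K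
      = C L * F * (1 - X * C K) - (1 + X * C L) * F * C K + (1 + X * C L) * derivative F * (1 - X * C K) := by
        noncomm_ring
    _ = (C L * (1 + X * C L)) * F * (1 - X * C K) - (1 + X * C L) * F * ((1 - X * C K) * C K) +
        (1 + X * C L) * derivative F * (1 - X * C K) := by rw [h1, h2]
    _ = _ := by noncomm_ring

theorem conj_injective (L K : R) (hL : L * L = 0) (hK : K * K = 0) : Function.Injective (conj L K) := by
  intro F G h
  have hx : ∀ M : R, M * M = 0 → ((X : R[X]) * C M) * (X * C M) = 0 := fun M hM => by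
    rw [mul_assoc, ← mul_assoc (C M), ← X_mul, mul_assoc, ← map_mul, hM, map_zero, mul_zero, mul_zero]
  have hinv : ∀ H : R[X], (1 - X * C L) * conj L K H * (1 + X * C K) = H := by
    intro H
    rw [conj_apply]
    calc (1 - X * C L) * ((1 + X * C L) * H * (1 - X * C K)) * (1 + X * C K)
        = ((1 - X * C L) * (1 + X * C L)) * H * ((1 - X * C K) * (1 + X * C K)) := by noncomm_ring
      _ = H := by
        have e1 : (1 - X * C L) * (1 + X * C L) = 1 - (X * C L) * (X * C L) := by noncomm_ring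
        have e2 : (1 - X * C K) * (1 + X * C K) = 1 - (X * C K) * (X * C K) := by noncomm_ring
        rw [e1, e2, hx L hL, hx K hK, sub_zero, one_mul, mul_one]
  rw [← hinv F, h, hinv]

/-- The leading coefficients of the polynomial family `t ↦ (1 + t L) a (1 - t K)`. -/
noncomputable def lead (L K : R) (a : AddSubgroup R) : AddSubgroup R where
  carrier := {e | ∃ n : ℕ, ∃ F : R[X], (∀ i, F.coeff i ∈ a) ∧ (conj L K F).natDegree ≤ n ∧ (conj L K F).coeff n = e}
  zero_mem' := ⟨0, 0, fun i => by simp [a.zero_mem], by simp, by simp⟩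
  add_mem' := by
    rintro e f ⟨n, F, hF, hFn, rfl⟩ ⟨m, G, hG, hGm, rfl⟩
    have hs : ∀ (k : ℕ) (H : R[X]), conj L K (X ^ k * H) = X ^ k * conj L K H := fun k H => by
      rw [conj_apply, conj_apply, ← mul_assoc (1 + X * C L), ← X_pow_mul, mul_assoc (X ^ k) _ H, mul_assoc]
    have hc : ∀ (k : ℕ) (H : R[X]), (∀ i, H.coeff i ∈ a) → ∀ i, (X ^ k * H).coeff i ∈ a := fun k H hH i => by
      rw [coeff_X_pow_mul']; split_ifs
      · exact hH _
      · exact a.zero_mem
    refine ⟨n + m, X ^ m * F + X ^ n * G, fun i => by rw [coeff_add]; exact a.add_mem (hc m F hF i) (hc n G hG i),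
      ?_, ?_⟩
    · rw [map_add, hs, hs]
      refine natDegree_add_le_of_degree_le ?_ ?_
      · exact natDegree_mul_le.trans (by have := natDegree_X_pow_le (R := R) m; omega)
      · exact natDegree_mul_le.trans (by have := natDegree_X_pow_le (R := R) n; omega)
    · rw [map_add, hs, hs, coeff_add, coeff_X_pow_mul, add_comm n m, coeff_X_pow_mul]
  neg_mem' := by
    rintro e ⟨n, F, hF, hFn, rfl⟩
    exact ⟨n, -F, fun i => by rw [coeff_neg]; exact a.neg_mem (hF i), by rwa [map_neg, natDegree_neg],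
      by rw [map_neg, coeff_neg]⟩

theorem mul_eq_zero_of_mem {L K M : R} {a b : AddSubgroup R} (hK : K * K = 0)
    (hab : ∀ x ∈ a, ∀ y ∈ b, x * y = 0) {e f : R} (he : e ∈ lead L K a) (hf : f ∈ lead K M b) : e * f = 0 := by
  obtain ⟨n, F, hF, hFn, rfl⟩ := he
  obtain ⟨m, G, hG, hGm, rfl⟩ := hf
  have hFG : F * G = 0 := by
    ext i
    rw [coeff_mul, coeff_zero]
    exact Finset.sum_eq_zero fun q _ => hab _ (hF q.1) _ (hG q.2)
  have h : conj L K F * conj K M G = 0 := by
    have e1 : (1 - X * C K) * (1 + X * C K) = 1 - (X * C K) * (X * C K) := by noncomm_ring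
    have e2 : ((X : R[X]) * C K) * (X * C K) = 0 := by
      rw [mul_assoc, ← mul_assoc (C K), ← X_mul, mul_assoc, ← map_mul, hK, map_zero, mul_zero, mul_zero]
    calc conj L K F * conj K M G
        = (1 + X * C L) * (F * ((1 - X * C K) * (1 + X * C K)) * G) * (1 - X * C M) := by
          rw [conj_apply, conj_apply]; noncomm_ring
      _ = 0 := by rw [e1, e2, sub_zero, mul_one, hFG, mul_zero, zero_mul]
  rw [← coeff_mul_add_eq_of_natDegree_le hFn hGm, h, coeff_zero]

/-- The limit is invariant under the one-parameter group. -/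
theorem conj_mem_lead (hchar : (p : R) = 0) (hp2 : p ≠ 2) {L K : R} {a : AddSubgroup R} (hL : L * L = 0)
    (hK : K * K = 0) {e : R} (he : e ∈ lead L K a) : (1 + L) * e * (1 - K) ∈ lead L K a := by
  have hε : ∀ e ∈ lead L K a, L * e - e * K ∈ lead L K a := by
    rintro e ⟨n, F, hF, hFn, rfl⟩
    refine ⟨n, -derivative F, fun i => ?_, ?_, ?_⟩
    · rw [coeff_neg, coeff_derivative]
      refine a.neg_mem ?_
      rw [← Nat.cast_succ, ← (Nat.cast_commute _ _).eq, ← nsmul_eq_mul]
      exact a.nsmul_mem (hF _) _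
    all_goals
      have e := conj_derivative L K F hL hK
      have e' : conj L K (-derivative F) = C L * conj L K F - conj L K F * C K - derivative (conj L K F) := by
        rw [map_neg, e]; abel
      rw [e']
    · refine (natDegree_sub_le _ _).trans (max_le ((natDegree_sub_le _ _).trans (max_le ?_ ?_)) ?_)
      · exact (natDegree_C_mul_le _ _).trans hFn
      · exact (natDegree_mul_C_le _ _).trans hFn
      · exact (natDegree_derivative_le _).trans (by omega)
    · rw [coeff_sub, coeff_sub, coeff_C_mul, coeff_mul_C, coeff_derivative,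
        coeff_eq_zero_of_natDegree_lt (Nat.lt_succ_of_le hFn), zero_mul, sub_zero]
  have h1 := hε e he
  have h2 := hε _ h1
  have h3 : (2 : ℕ) • (L * e * K) ∈ lead L K a := by
    have e2 : (2 : ℕ) • (L * e * K) = -(L * (L * e - e * K) - (L * e - e * K) * K) := by
      have z1 : L * (L * e) = 0 := by rw [← mul_assoc, hL, zero_mul]
      have z2 : e * K * K = 0 := by rw [mul_assoc, hK, mul_zero]
      rw [mul_sub, sub_mul, z1, z2, two_nsmul, mul_assoc L e K]
      abel
    rw [e2]
    exact neg_mem h2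
  have h4 := mem_of_nsmul_mem hchar (fun hd => hp2 ((Nat.prime_dvd_prime_iff_eq hp.out Nat.prime_two).1 hd)) h3
  have e3 : (1 + L) * e * (1 - K) = e + (L * e - e * K) - L * e * K := by noncomm_ring
  rw [e3]
  exact sub_mem (add_mem he h1) h4

/-- The limit is invariant under what normalizes the whole family. -/
theorem smul_mem_lead (hchar : (p : R) = 0) (h5 : 5 ≤ p) {L K u v : R} {a : AddSubgroup R} (hL : L * L = 0)
    (hK : K * K = 0) (h : ∀ t : ℤ, ∀ x ∈ a, (1 - t • L) * u * ((1 + t • L) * x * (1 - t • K)) * v * (1 + t • K) ∈ a)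
    {e : R} (he : e ∈ lead L K a) : u * e * v ∈ lead L K a := by
  obtain ⟨n, F, hF, hFn, rfl⟩ := he
  set F' := (1 - X * C L) * (C u * conj L K F * C v) * (1 + X * C K) with hF'
  have hx : ∀ M : R, M * M = 0 → ((X : R[X]) * C M) * (X * C M) = 0 := fun M hM => by
    rw [mul_assoc, ← mul_assoc (C M), ← X_mul, mul_assoc, ← map_mul, hM, map_zero, mul_zero, mul_zero]
  have hconj : conj L K F' = C u * conj L K F * C v := by
    rw [conj_apply, hF']
    have e1 : (1 + X * C L) * (1 - X * C L) = 1 - (X * C L) * (X * C L) := by noncomm_ring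
    have e2 : (1 + X * C K) * (1 - X * C K) = 1 - (X * C K) * (X * C K) := by noncomm_ring
    calc (1 + X * C L) * ((1 - X * C L) * (C u * conj L K F * C v) * (1 + X * C K)) * (1 - X * C K)
        = ((1 + X * C L) * (1 - X * C L)) * (C u * conj L K F * C v) * ((1 + X * C K) * (1 - X * C K)) := by
          noncomm_ring
      _ = _ := by rw [e1, e2, hx L hL, hx K hK, sub_zero, one_mul, mul_one]
  refine ⟨n, F', ?_, ?_, ?_⟩
  · let T : R[X] →+ R[X] :=
      { toFun := fun G => (1 - X * C L) * (C u * conj L K G * C v) * (1 + X * C K)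
        map_zero' := by simp
        map_add' := fun G G' => by simp only [map_add, mul_add, add_mul]; abel }
    have hshift : ∀ (i : ℕ) (G : R[X]), T (X ^ i * G) = X ^ i * T G := by
      intro i G
      show (1 - X * C L) * (C u * conj L K (X ^ i * G) * C v) * (1 + X * C K) =
        X ^ i * ((1 - X * C L) * (C u * conj L K G * C v) * (1 + X * C K))
      have hc : Commute (X ^ i : R[X]) (1 - X * C L) := (commute_X_pow _ i)
      rw [conj_apply, conj_apply]
      have hcu : Commute (X ^ i : R[X]) (C u) := commute_X_pow _ i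
      have hc1 : Commute (X ^ i : R[X]) (1 + X * C L) := commute_X_pow _ i
      calc (1 - X * C L) * (C u * ((1 + X * C L) * (X ^ i * G) * (1 - X * C K)) * C v) * (1 + X * C K)
          = ((1 - X * C L) * C u * (1 + X * C L) * X ^ i) * (G * (1 - X * C K) * C v * (1 + X * C K)) := by
            noncomm_ring
        _ = (X ^ i * ((1 - X * C L) * C u * (1 + X * C L))) * (G * (1 - X * C K) * C v * (1 + X * C K)) := by
            rw [((hc.mul_right hcu).mul_right hc1).eq]
        _ = _ := by noncomm_ring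
    have hC : ∀ x ∈ a, ∀ i, (T (C x)).coeff i ∈ a := by
      intro x hx' i
      -- the five coefficients
      set c₀ := u * x * v
      set c₁ := u * (L * x - x * K) * v - L * (u * x * v) + (u * x * v) * K
      set c₂ := -(u * (L * x * K) * v) - L * (u * (L * x - x * K) * v) + (u * (L * x - x * K) * v) * K -
        L * (u * x * v) * K
      set c₃ := L * (u * (L * x * K) * v) - (u * (L * x * K) * v) * K - L * (u * (L * x - x * K) * v) * K
      set c₄ := L * (u * (L * x * K) * v) * K
      have hm : c₀ ∈ a ∧ c₁ ∈ a ∧ c₂ ∈ a ∧ c₃ ∈ a ∧ c₄ ∈ a := by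
        refine coeff_mem hchar h5 c₀ c₁ c₂ c₃ c₄ fun t => ?_
        convert h t x hx' using 1
        simp only [c₀, c₁, c₂, c₃, c₄, mul_add, add_mul, mul_sub, sub_mul, smul_mul_assoc, mul_smul_comm, one_mul,
          mul_one, smul_smul, mul_assoc, smul_add, smul_sub, smul_neg]
        module
      have hT : T (C x) = C c₀ + X * C c₁ + X ^ 2 * C c₂ + X ^ 3 * C c₃ + X ^ 4 * C c₄ := by
        show (1 - X * C L) * (C u * conj L K (C x) * C v) * (1 + X * C K) = _
        have hX : ∀ r : R, C r * (X : R[X]) = X * C r := fun r => (X_mul).symm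
        have hX' : ∀ (r : R) (Y : R[X]), C r * ((X : R[X]) * Y) = X * (C r * Y) := fun r Y => by
          rw [← mul_assoc, hX, mul_assoc]
        simp only [c₀, c₁, c₂, c₃, c₄, conj_apply, map_add, map_sub, map_mul, map_neg, pow_succ, pow_zero, one_mul,
          mul_add, add_mul, mul_sub, sub_mul, mul_one, mul_neg, neg_mul, mul_assoc, hX']
        abel
      rw [hT]
      simp only [coeff_add, coeff_X_pow_mul', coeff_C]
      have hX1 : (X * C c₁).coeff i = if i = 1 then c₁ else 0 := by
        rw [← pow_one (X : R[X]), coeff_X_pow_mul', coeff_C]; split_ifs <;> (try rfl) <;> omega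
      rw [hX1]
      obtain ⟨m0, m1, m2, m3, m4⟩ := hm
      refine a.add_mem (a.add_mem (a.add_mem (a.add_mem ?_ ?_) ?_) ?_) ?_ <;> split_ifs <;>
        first | assumption | exact a.zero_mem
    intro i
    have hsum : F' = ∑ j ∈ Finset.range (F.natDegree + 1), X ^ j * T (C (F.coeff j)) := by
      show T F = _
      conv_lhs => rw [F.as_sum_range]
      rw [map_sum]
      refine Finset.sum_congr rfl fun j _ => ?_
      rw [← C_mul_X_pow_eq_monomial, ← X_pow_mul, hshift]
    rw [hsum, finset_sum_coeff]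
    refine a.sum_mem fun j _ => ?_
    rw [coeff_X_pow_mul']
    split_ifs
    · exact hC _ (hF j) _
    · exact a.zero_mem
  · rw [hconj]
    exact (natDegree_mul_C_le _ _).trans ((natDegree_C_mul_le _ _).trans hFn)
  · rw [hconj, coeff_mul_C, coeff_C_mul]

theorem lead_le_span (hchar : (p : R) = 0) (hp2 : p ≠ 2) {L K : R} {a : AddSubgroup R} (M : AddSubgroup R)
    (h0 : a ≤ M) (h1 : ∀ x ∈ a, (1 + L) * x * (1 - K) ∈ M) (h2 : ∀ x ∈ a, (1 - L) * x * (1 + K) ∈ M) :
    lead L K a ≤ M := by
  rintro e ⟨n, F, hF, -, rfl⟩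
  have hx : ∀ x ∈ a, L * x * K ∈ M ∧ L * x - x * K ∈ M := by
    intro x hx
    have hn : ¬ p ∣ 2 := fun hd => hp2 ((Nat.prime_dvd_prime_iff_eq hp.out Nat.prime_two).1 hd)
    constructor
    · refine mem_of_nsmul_mem hchar hn ?_
      convert M.sub_mem (M.add_mem (h0 hx) (h0 hx)) (M.add_mem (h1 x hx) (h2 x hx)) using 1
      noncomm_ring
    · refine mem_of_nsmul_mem hchar hn ?_
      convert M.sub_mem (h1 x hx) (h2 x hx) using 1
      noncomm_ring
  have e : conj L K F = F + X * (C L * F - F * C K) - X ^ 2 * (C L * F * C K) := by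
    have hX : C L * F * (X : R[X]) = X * (C L * F) := (X_mul).symm
    have hX2 : F * (X : R[X]) = X * F := (X_mul).symm
    calc conj L K F = F + X * (C L * F) - (F * X) * C K - X * ((C L * F) * X) * C K := by
          rw [conj_apply]; noncomm_ring
      _ = _ := by rw [hX, hX2]; noncomm_ring
  rw [e, coeff_sub, coeff_add, coeff_X_pow_mul']
  refine M.sub_mem (M.add_mem (h0 (hF n)) ?_) ?_
  · rcases n with _ | m
    · rw [coeff_X_mul_zero]; exact M.zero_mem
    · rw [coeff_X_mul, coeff_sub, coeff_C_mul, coeff_mul_C]; exact (hx _ (hF m)).2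
  · split_ifs
    · rw [coeff_mul_C, coeff_C_mul]; exact (hx _ (hF _)).1
    · exact M.zero_mem

/-- The limit is no smaller. -/
theorem card_le_lead [Finite R] {L K : R} (hL : L * L = 0) (hK : K * K = 0) (a : AddSubgroup R) :
    Nat.card a ≤ Nat.card (lead L K a) := by
  classical
  set E := lead L K a with hE
  have key : ∀ N : ℕ, Nat.card a ^ (N + 1) ≤ Nat.card E ^ (N + 3) := by
    intro N
    let poly : (Fin (N + 1) → a) →+ R[X] :=
      { toFun := fun f => ∑ j : Fin (N + 1), X ^ (j : ℕ) * C (f j : R)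
        map_zero' := by simp
        map_add' := fun f g => by simp [mul_add, Finset.sum_add_distrib] }
    have hpc : ∀ f (j : Fin (N + 1)), (poly f).coeff j = f j := by
      intro f j
      show (∑ i : Fin (N + 1), X ^ (i : ℕ) * C (f i : R)).coeff j = _
      rw [finset_sum_coeff, Finset.sum_eq_single j]
      · rw [coeff_X_pow_mul', if_pos le_rfl, Nat.sub_self, coeff_C_zero]
      · intro i _ hij
        rw [coeff_X_pow_mul']
        split_ifs with h
        · rw [coeff_C, if_neg (by have := Fin.val_injective.ne hij; omega)]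
        · rfl
      · simp
    have hpa : ∀ f i, (poly f).coeff i ∈ a := by
      intro f i
      show (∑ j : Fin (N + 1), X ^ (j : ℕ) * C (f j : R)).coeff i ∈ a
      rw [finset_sum_coeff]
      refine a.sum_mem fun j _ => ?_
      rw [coeff_X_pow_mul', coeff_C]
      split_ifs
      · exact (f j).2
      all_goals exact a.zero_mem
    have hpn : ∀ f i, N < i → (poly f).coeff i = 0 := by
      intro f i hi
      show (∑ j : Fin (N + 1), X ^ (j : ℕ) * C (f j : R)).coeff i = 0
      rw [finset_sum_coeff]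
      refine Finset.sum_eq_zero fun j _ => ?_
      rw [coeff_X_pow_mul', coeff_C]
      split_ifs with h h' <;> first | rfl | (exfalso; omega)
    have hdeg : ∀ f, (conj L K (poly f)).natDegree ≤ N + 2 := by
      intro f
      have hN : (poly f).natDegree ≤ N := natDegree_le_iff_coeff_eq_zero.2 fun i hi => hpn f i hi
      rw [conj_apply]
      refine natDegree_mul_le.trans ?_
      have h1 : ((1 + X * C L : R[X]) * poly f).natDegree ≤ 1 + N := natDegree_mul_le.trans
        (Nat.add_le_add (natDegree_add_le_of_degree_le (by simp) ((natDegree_mul_C_le _ _).trans natDegree_X_le)) hN)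
      have h2 : ((1 - X * C K : R[X])).natDegree ≤ 1 := (natDegree_sub_le _ _).trans
        (max_le (by simp) ((natDegree_mul_C_le _ _).trans natDegree_X_le))
      omega
    let S : ℕ → AddSubgroup (Fin (N + 1) → a) := fun k =>
      { carrier := {f | ∀ m, k ≤ m → (conj L K (poly f)).coeff m = 0}
        zero_mem' := fun m _ => by simp
        add_mem' := fun {f g} hf hg m hm => by rw [map_add, map_add, coeff_add, hf m hm, hg m hm, add_zero]
        neg_mem' := fun {f} hf m hm => by rw [map_neg, map_neg, coeff_neg, hf m hm, neg_zero] }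
    have hS : ∀ k, Nat.card (S k) ≤ Nat.card E ^ k := by
      intro k
      induction k with
      | zero =>
        rw [pow_zero]
        refine (Nat.card_le_card_of_injective (fun _ : S 0 => ()) fun f g _ => Subtype.ext ?_).trans (by simp)
        have hz : ∀ f : S 0, (f : Fin (N + 1) → a) = 0 := fun f => by
          have h : conj L K (poly f.1) = 0 := Polynomial.ext fun m => by rw [f.2 m (Nat.zero_le m), coeff_zero]
          have h' : poly f.1 = 0 := conj_injective L K hL hK (by rw [h, map_zero])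
          exact funext fun j => Subtype.ext (by rw [← hpc, h', coeff_zero]; rfl)
        rw [hz f, hz g]
      | succ k ih =>
        let ψ : S (k + 1) →+ E :=
          { toFun := fun f => ⟨(conj L K (poly f.1)).coeff k, k, poly f.1, hpa f.1,
              natDegree_le_iff_coeff_eq_zero.2 fun m hm => f.2 m hm, rfl⟩
            map_zero' := Subtype.ext (by simp)
            map_add' := fun f g => Subtype.ext (by simp) }
        have h1 : Nat.card ψ.ker * Nat.card ψ.range = Nat.card (S (k + 1)) := by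
          rw [← AddSubgroup.index_ker, AddSubgroup.card_mul_index]
        rw [← h1, pow_succ]
        refine Nat.mul_le_mul ((Nat.card_le_card_of_injective (fun f : ψ.ker => (⟨f.1.1, fun m hm => ?_⟩ : S k))
          fun f g e => ?_).trans ih) (Nat.card_le_card_of_injective _ ψ.range.subtype_injective)
        · rcases hm.eq_or_lt with rfl | hm
          · exact congrArg Subtype.val (AddMonoidHom.mem_ker.1 f.2)
          · exact f.1.2 m hm
        · exact Subtype.ext (Subtype.ext (congrArg (fun z : S k => z.1) e))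
    refine le_trans ?_ (hS (N + 3))
    rw [show Nat.card a ^ (N + 1) = Nat.card (Fin (N + 1) → a) by simp [Nat.card_pi]]
    exact Nat.card_le_card_of_injective (fun f => (⟨f, fun m hm => coeff_eq_zero_of_natDegree_lt
      (lt_of_le_of_lt (hdeg f) (by omega))⟩ : S (N + 3))) fun f g e => congrArg Subtype.val e
  by_contra hlt
  push Not at hlt
  set A := Nat.card a
  set B := Nat.card E
  have hB : 0 < B := Nat.card_pos
  -- Bernoulli
  have hbern : ∀ N : ℕ, (B + N) * B ^ N ≤ A ^ N * B := by
    intro N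
    induction N with
    | zero => simp
    | succ N ih =>
      calc (B + (N + 1)) * B ^ (N + 1) = (B + (N + 1)) * B * B ^ N := by ring
        _ ≤ (B + N) * (B + 1) * B ^ N := Nat.mul_le_mul_right _ (by nlinarith)
        _ = (B + N) * B ^ N * (B + 1) := by ring
        _ ≤ A ^ N * B * A := Nat.mul_le_mul ih hlt
        _ = A ^ (N + 1) * B := by ring
  have h1 := hbern (B ^ 3 + 1)
  have h2 := key (B ^ 3)
  have h3 : B ^ 3 * B ^ (B ^ 3 + 1) < (B + (B ^ 3 + 1)) * B ^ (B ^ 3 + 1) :=
    Nat.mul_lt_mul_of_pos_right (by omega) (pow_pos hB _)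
  have h4 : A ^ (B ^ 3 + 1) * B ≤ B ^ (B ^ 3 + 3) * B := Nat.mul_le_mul_right _ h2
  have h5 : B ^ (B ^ 3 + 3) * B = B ^ 3 * B ^ (B ^ 3 + 1) := by ring
  omega

/-- Three mutually normalizing quadratic spaces: the square-zero elements of their sum. -/
theorem one_add_mem (hchar : (p : R) = 0) (h5 : 5 ≤ p) (H : Submonoid R) (a b c : AddSubgroup R)
    (ha : ∀ x ∈ a, ∀ x' ∈ a, x * x' = 0) (hb : ∀ x ∈ b, ∀ x' ∈ b, x * x' = 0) (hc : ∀ x ∈ c, ∀ x' ∈ c, x * x' = 0)
    (hab : ∀ x ∈ a, ∀ y ∈ b, x * y - y * x ∈ a ∧ x * y - y * x ∈ b)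
    (hac : ∀ x ∈ a, ∀ y ∈ c, x * y - y * x ∈ a ∧ x * y - y * x ∈ c)
    (hbc : ∀ x ∈ b, ∀ y ∈ c, x * y - y * x ∈ b ∧ x * y - y * x ∈ c)
    (hHa : ∀ x ∈ a, 1 + x ∈ H) (hHb : ∀ x ∈ b, 1 + x ∈ H) (hHc : ∀ x ∈ c, 1 + x ∈ H)
    {x y w : R} (hx : x ∈ a) (hy : y ∈ b) (hw : w ∈ c) (hz : (x + y + w) * (x + y + w) = 0) :
    1 + (x + y + w) ∈ H := by
  obtain ⟨i2, hi2⟩ : ∃ k : ℕ, ((2 : ℕ) : R) * (k : R) = 1 := by
    refine ⟨(p + 1) / 2, ?_⟩
    have hodd : 2 ∣ p + 1 := by
      rcases hp.out.eq_two_or_odd with h | h <;> omega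
    rw [← Nat.cast_mul, Nat.mul_div_cancel' hodd, Nat.cast_add, hchar, zero_add, Nat.cast_one]
  -- a third product with repeated outer space vanishes
  have haba : ∀ (s t : AddSubgroup R), (∀ x ∈ s, ∀ x' ∈ s, x * x' = 0) →
      (∀ x ∈ s, ∀ y ∈ t, x * y - y * x ∈ s) → ∀ x ∈ s, ∀ y ∈ t, ∀ x' ∈ s, x * (y * x') = 0 := by
    intro s t hs hst x hx y hy x' hx'
    have e : x * (y * x') = x * x' * y - x * (x' * y - y * x') := by noncomm_ring
    rw [e, hs x hx x' hx', hs x hx _ (hst x' hx' y hy), zero_mul, sub_zero]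
  set d := x * y - y * x with hd
  set x' := x - i2 • d with hx'd
  have hd_a : d ∈ a := (hab x hx y hy).1
  have hd_b : d ∈ b := (hab x hx y hy).2
  have hx' : x' ∈ a := a.sub_mem hx (a.nsmul_mem hd_a _)
  have two : ∀ r : R, (2 : ℕ) • (i2 • r) = r := fun r => by
    rw [nsmul_eq_mul, nsmul_eq_mul, ← mul_assoc, hi2, one_mul]
  -- the exponential of `x + y`
  set u := x + y with hu
  have hu2 : (2 : ℕ) • ((1 + x') * (1 + y)) = (2 : ℕ) • (1 + u) + u * u := by
    have z1 : d * y = 0 := hb d hd_b y hy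
    have e : (2 : ℕ) • ((1 + x') * (1 + y)) = (2 : ℕ) • (1 + u) + (2 : ℕ) • (x * y) - (2 : ℕ) • (i2 • d)
        - (2 : ℕ) • (i2 • (d * y)) := by
      rw [hx'd, hu, ← smul_mul_assoc i2 d y]; noncomm_ring
    rw [e, z1, smul_zero, smul_zero, sub_zero, two, hd, hu]
    have := ha x hx x hx
    have := hb y hy y hy
    have e2 : (x + y) * (x + y) = x * y + y * x := by
      rw [add_mul, mul_add, mul_add, ha x hx x hx, hb y hy y hy]; abel
    rw [e2, two_nsmul (x * y)]; abel
  set m := u * w - w * u with hm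
  have hmc : m ∈ c := by
    have e : m = (x * w - w * x) + (y * w - w * y) := by rw [hm, hu]; noncomm_ring
    rw [e]; exact c.add_mem (hac x hx w hw).2 (hbc y hy w hw).2
  set w' := w - i2 • m with hw'd
  have hw' : w' ∈ c := c.sub_mem hw (c.nsmul_mem hmc _)
  have hprod := H.mul_mem (H.mul_mem (hHa x' hx') (hHb y hy)) (hHc w' hw')
  have hab' : ∀ s ∈ a, ∀ t ∈ b, s * t - t * s ∈ a := fun s hs t ht => (hab s hs t ht).1
  have hba' : ∀ s ∈ b, ∀ t ∈ a, s * t - t * s ∈ b := fun s hs t ht => by
    have := b.neg_mem (hab t ht s hs).2; rwa [neg_sub] at this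
  have hca' : ∀ s ∈ c, ∀ t ∈ a, s * t - t * s ∈ c := fun s hs t ht => by
    have := c.neg_mem (hac t ht s hs).2; rwa [neg_sub] at this
  have hcb' : ∀ s ∈ c, ∀ t ∈ b, s * t - t * s ∈ c := fun s hs t ht => by
    have := c.neg_mem (hbc t ht s hs).2; rwa [neg_sub] at this
  have wuw : w * (u * w) = 0 := by
    rw [hu, add_mul, mul_add, haba c a hc hca' w hw x hx w hw, haba c b hc hcb' w hw y hy w hw, add_zero]
  have huuu : u * (u * u) = 0 := by
    rw [hu, show (x + y) * ((x + y) * (x + y)) = x * x * x + x * x * y + x * (y * x) + x * (y * y) +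
      y * (x * x) + y * (x * y) + y * y * x + y * y * y by noncomm_ring]
    simp [ha x hx x hx, hb y hy y hy, haba a b ha hab' x hx y hy x hx, haba b a hb hba' y hy x hx y hy]
  have hww : w * w = 0 := hc w hw w hw
  have q : u * u + u * w + w * u = 0 := by
    rw [← hz, show (u + w) * (u + w) = u * u + u * w + w * u + w * w by noncomm_ring, hww, add_zero]
  have t1 : w * (u * u) = 0 := by
    have h := congrArg (w * ·) q
    simp only [mul_zero, mul_add, wuw, ← mul_assoc w w u, hww, zero_mul, add_zero] at h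
    exact h
  have t2 : u * u * w = 0 := by
    have h := congrArg (· * w) q
    simp only [zero_mul, add_mul, mul_assoc u w w, hww, mul_zero, mul_assoc w u w, wuw, add_zero] at h
    exact h
  have t3 : u * (w * u) = 0 := by
    have h := congrArg (u * ·) q
    simp only [mul_zero, mul_add, huuu, ← mul_assoc u u w, t2, zero_add] at h
    exact h
  have hum : u * m = 0 := by rw [hm, mul_sub, ← mul_assoc, t2, t3, sub_zero]
  have hfin : (2 : ℕ) • ((2 : ℕ) • ((1 + x') * (1 + y) * (1 + w'))) = (2 : ℕ) • ((2 : ℕ) • (1 + (u + w))) := by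
    have e1 : (2 : ℕ) • w' = (2 : ℕ) • w - m := by rw [hw'd, smul_sub, two]
    calc (2 : ℕ) • ((2 : ℕ) • ((1 + x') * (1 + y) * (1 + w')))
        = ((2 : ℕ) • ((1 + x') * (1 + y))) * ((2 : ℕ) • (1 : R) + (2 : ℕ) • w') := by
          simp only [two_nsmul, add_mul, mul_add, mul_one, one_mul]; abel
      _ = ((2 : ℕ) • (1 + u) + u * u) * ((2 : ℕ) • (1 : R) + ((2 : ℕ) • w - m)) := by rw [hu2, e1]
      _ = (2 : ℕ) • ((2 : ℕ) • (1 + (u + w))) + (2 : ℕ) • (u * u + u * w + w * u) + (2 : ℕ) • (u * u * w)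
            - (2 : ℕ) • (u * m) - u * (u * m) := by
          rw [hm]; noncomm_ring
      _ = _ := by rw [q, t2, hum, mul_zero]; simp
  have h22 : ∀ r r' : R, (2 : ℕ) • r = (2 : ℕ) • r' → r = r' := fun r r' h => by
    rw [← two r, ← two r', smul_comm, h, smul_comm]
  exact h22 _ _ (h22 _ _ hfin) ▸ hprod

end Cfsg.Lib.Sig.QuadraticLimit
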