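import Cfsg.Agent.Lib.Sig.QuadraticLimit
import Cfsg.Agent.Lib.Core.Basic
import Mathlib.GroupTheory.Nilpotent
import Mathlib.GroupTheory.PGroup
import Mathlib.Data.Set.Finite.Basic
import Mathlib.Data.Finset.Max
import Mathlib.Data.Set.Finite.Lattice
import Mathlib.Data.Set.Finite.Lemmas

/-!
# A quadratic offender normalized by all quadratic elements, `p ≥ 5`
-/

set_option autoImplicit false
set_option linter.style.haveILetI false

namespace Cfsg.Lib.Sig.QuadraticOffender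

open Subgroup Cfsg.Lib Cfsg.Lib.Sig

variable {p : ℕ} [hp : Fact p.Prime]

theorem exists_outside {H : Type*} [Group H] [Finite H] (hH : IsPGroup p H) (S : Set H)
    (hS : ∀ h : H, ∀ s ∈ S, h * s * h⁻¹ ∈ S) (M : Subgroup H) (hne : ¬ S ⊆ M) :
    ∃ s ∈ S, s ∉ M ∧ s ∈ normalizer (Subgroup.closure (S ∩ (M : Set H)) : Set H) := by
  set T := Subgroup.closure (S ∩ (M : Set H)) with hT
  have hTM : T ≤ M := (closure_le M).2 Set.inter_subset_right
  by_contra! hall
  have hN : normalizer (T : Set H) = ⊤ := by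
    by_contra hN
    haveI := hH.isNilpotent
    obtain ⟨h, hh, hh'⟩ := SetLike.exists_of_lt
      (Group.normalizerCondition_of_isNilpotent (G := H) (normalizer (T : Set H)) (lt_top_iff_ne_top.2 hN))
    refine hh' (Core.mem_normalizer_iff_map_conj.2 ?_)
    refine eq_of_le_of_card_ge ?_ (card_map_of_injective (MulAut.conj h).injective).ge
    rw [hT, MonoidHom.map_closure, closure_le]
    rintro _ ⟨x, ⟨hxS, hxM⟩, rfl⟩
    have hxN : h * x * h⁻¹ ∈ normalizer (T : Set H) :=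
      (mem_normalizer_iff.1 hh x).1 (le_normalizer (subset_closure ⟨hxS, hxM⟩))
    refine subset_closure ⟨hS h x hxS, ?_⟩
    by_contra hxM'
    exact hall _ (hS h x hxS) hxM' hxN
  refine hne fun s hs => ?_
  by_contra hsM
  exact hall s hs hsM (hN ▸ mem_top s)

variable {H : Type*} [Group H] {R : Type*} [Ring R]

/-- The members of `K` killed by `ρ x - 1` for `x ∈ A`. -/
def fixK (ρ : H →* R) (K : AddSubgroup R) (A : Subgroup H) : AddSubgroup R where
  carrier := {k | k ∈ K ∧ ∀ x ∈ A, (ρ x - 1) * k = 0}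
  zero_mem' := ⟨K.zero_mem, fun x _ => mul_zero _⟩
  add_mem' := fun {a b} ha hb => ⟨K.add_mem ha.1 hb.1, fun x hx => by rw [mul_add, ha.2 x hx, hb.2 x hx, add_zero]⟩
  neg_mem' := fun {a} ha => ⟨K.neg_mem ha.1, fun x hx => by rw [mul_neg, ha.2 x hx, neg_zero]⟩

/-- A nontrivial quadratic offender of weight at least `c`. -/
def Off (ρ : H →* R) (K : AddSubgroup R) (c : ℕ) (A : Subgroup H) : Prop :=
  A ≠ ⊥ ∧ (∀ x ∈ A, ∀ y ∈ A, (ρ x - 1) * (ρ y - 1) = 0) ∧ c ≤ Nat.card A * Nat.card (fixK ρ K A)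

theorem exists_normal [Finite H] [Finite R] (h5 : 5 ≤ p) (hH : IsPGroup p H) (hchar : (p : R) = 0)
    (ρ : H →* R) (hρi : Function.Injective ρ) (K : AddSubgroup R) (hK : ∀ g, ∀ k ∈ K, ρ g * k ∈ K) (c : ℕ)
    (hstart : ∃ A, Off ρ K c A) :
    ∃ A, Off ρ K c A ∧ ∀ s, (ρ s - 1) * (ρ s - 1) = 0 → s ∈ normalizer (A : Set H) := by
  classical
  have hp2 : p ≠ 2 := by omega
  let N : H → R := fun g => ρ g - 1
  have hρN : ∀ g, ρ g = 1 + N g := fun g => by simp [N]
  have hN1 : N 1 = 0 := by simp [N]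
  have hNmul : ∀ g h, N (g * h) = N g + N h + N g * N h := fun g h => by
    simp only [N, map_mul]; noncomm_ring
  have hNinj : Function.Injective N := fun g h e => hρi (by rw [hρN, hρN, e])
  have hNinv : ∀ g, N g * N g = 0 → N g⁻¹ = -N g := fun g hg => by
    have h1 : ρ g⁻¹ = ρ g⁻¹ * ((1 + N g) * (1 - N g)) := by
      rw [show (1 + N g) * (1 - N g) = 1 - N g * N g by noncomm_ring, hg, sub_zero, mul_one]
    rw [← mul_assoc, ← hρN, ← map_mul, inv_mul_cancel, map_one, one_mul] at h1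
    simp only [N] at h1 ⊢
    rw [h1]; abel
  have hconj : ∀ g h, N (g * h * g⁻¹) = ρ g * N h * ρ g⁻¹ := fun g h => by
    simp only [N, map_mul, mul_sub, sub_mul, mul_one]
    rw [← map_mul ρ g g⁻¹, mul_inv_cancel, map_one]
  set S : Set H := {g | N g * N g = 0} with hS
  have hSc : ∀ h : H, ∀ s ∈ S, h * s * h⁻¹ ∈ S := fun h s hs => by
    show N (h * s * h⁻¹) * N (h * s * h⁻¹) = 0
    rw [hconj, show ρ h * N s * ρ h⁻¹ * (ρ h * N s * ρ h⁻¹) = ρ h * N s * (ρ h⁻¹ * ρ h) * N s * ρ h⁻¹ by noncomm_ring,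
      ← map_mul, inv_mul_cancel, map_one, mul_one, mul_assoc (ρ h) (N s), hs, mul_zero, zero_mul]
  let T : Subgroup H → Subgroup H := fun A => Subgroup.closure (S ∩ (normalizer (A : Set H) : Set H))
  obtain ⟨A, hA, hmax⟩ := Set.exists_max_image {A | Off ρ K c A} (fun A => Nat.card ↥(T A)) (Set.toFinite _) hstart
  obtain ⟨hA1, hAN, hAc⟩ := hA
  have hfinal : S ⊆ normalizer (A : Set H) := by
    by_contra hne
    obtain ⟨s, hs, hsA, hsT⟩ := exists_outside (p := p) hH S hSc _ hne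
    set y := N s with hy
    have hyy : y * y = 0 := hs
    -- powers of `s`
    have hpow : ∀ t : ℤ, ρ (s ^ t) = 1 + t • y := by
      have hnat : ∀ t : ℕ, ρ (s ^ t) = 1 + (t : ℤ) • y := by
        intro t
        induction t with
        | zero => simp
        | succ t ih =>
          rw [pow_succ, map_mul, ih, hρN, ← hy, Nat.cast_succ, add_smul, one_smul]
          rw [show (1 + (t : ℤ) • y) * (1 + y) = 1 + ((t : ℤ) • y + y) + (t : ℤ) • (y * y) by noncomm_ring, hyy,
            smul_zero, add_zero]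
      intro t
      obtain ⟨m, rfl | rfl⟩ := t.eq_nat_or_neg
      · rw [zpow_natCast]; exact hnat m
      · have e : N (s ^ m) = (m : ℤ) • y := by simp only [N, hnat]; abel
        rw [zpow_neg, zpow_natCast, hρN, hNinv _ (by rw [e, smul_mul_smul_comm, hyy, smul_zero]), e, neg_smul]
    let aA : AddSubgroup R :=
      { carrier := N '' (A : Set H)
        zero_mem' := ⟨1, A.one_mem, hN1⟩
        add_mem' := by
          rintro _ _ ⟨x, hx, rfl⟩ ⟨z, hz, rfl⟩
          exact ⟨x * z, A.mul_mem hx hz, by rw [hNmul, hAN x hx z hz, add_zero]⟩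
        neg_mem' := by
          rintro _ ⟨x, hx, rfl⟩
          exact ⟨x⁻¹, A.inv_mem hx, hNinv x (hAN x hx x hx)⟩ }
    let kA : AddSubgroup R := fixK ρ K A
    set E := QuadraticLimit.lead y y aA with hE
    set F := QuadraticLimit.lead y 0 kA with hFd
    have haa : ∀ x ∈ aA, ∀ z ∈ aA, x * z = 0 := by
      rintro _ ⟨x, hx, rfl⟩ _ ⟨z, hz, rfl⟩; exact hAN x hx z hz
    have hak : ∀ x ∈ aA, ∀ f ∈ kA, x * f = 0 := by
      rintro _ ⟨x, hx, rfl⟩ f hf; exact hf.2 x hx
    have hEE : ∀ e ∈ E, ∀ e' ∈ E, e * e' = 0 := fun e he e' he' => QuadraticLimit.mul_eq_zero_of_mem hyy haa he he'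
    have hEF : ∀ e ∈ E, ∀ f ∈ F, e * f = 0 := fun e he f hf => QuadraticLimit.mul_eq_zero_of_mem hyy hak he hf
    -- the three conjugates
    set T₀ := T A with hT₀
    have hT₀A : T₀ ≤ normalizer (A : Set H) := (closure_le _).2 Set.inter_subset_right
    have hAT : A ≤ T₀ := fun x hx => subset_closure ⟨hAN x hx x hx, le_normalizer hx⟩
    let Ac : H → Subgroup H := fun g => A.map (MulAut.conj g).toMonoidHom
    let ac : H → AddSubgroup R := fun g => aA.map
      ({ toFun := fun x => ρ g * x * ρ g⁻¹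
         map_zero' := by simp
         map_add' := fun x z => by rw [mul_add, add_mul] } : R →+ R)
    have hacmem : ∀ g r, r ∈ ac g ↔ ∃ x ∈ Ac g, N x = r := by
      intro g r
      constructor
      · rintro ⟨_, ⟨x, hx, rfl⟩, rfl⟩
        exact ⟨g * x * g⁻¹, ⟨x, hx, rfl⟩, hconj g x⟩
      · rintro ⟨_, ⟨x, hx, rfl⟩, rfl⟩
        exact ⟨N x, ⟨x, hx, rfl⟩, (hconj g x).symm⟩
    have hAcT : ∀ g, g ∈ normalizer (T₀ : Set H) → Ac g ≤ T₀ ∧ T₀ ≤ normalizer (Ac g : Set H) := by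
      intro g hg
      refine ⟨(map_mono hAT).trans (Core.map_conj_eq_of_mem_normalizer hg).le, ?_⟩
      have h := le_normalizer_map (H := A) (MulAut.conj g).toMonoidHom
      exact le_trans ((Core.map_conj_eq_of_mem_normalizer hg).ge.trans (map_mono hT₀A)) h
    have hacsq : ∀ g, ∀ x ∈ ac g, ∀ z ∈ ac g, x * z = 0 := by
      rintro g _ ⟨x, hx, rfl⟩ _ ⟨z, hz, rfl⟩
      show ρ g * x * ρ g⁻¹ * (ρ g * z * ρ g⁻¹) = 0
      rw [show ρ g * x * ρ g⁻¹ * (ρ g * z * ρ g⁻¹) = ρ g * x * (ρ g⁻¹ * ρ g) * z * ρ g⁻¹ by noncomm_ring,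
        ← map_mul, inv_mul_cancel, map_one, mul_one, mul_assoc (ρ g) x z, haa x hx z hz, mul_zero, zero_mul]
    have hbr : ∀ g h, g ∈ normalizer (T₀ : Set H) → h ∈ normalizer (T₀ : Set H) →
        ∀ x ∈ ac g, ∀ z ∈ ac h, x * z - z * x ∈ ac g ∧ x * z - z * x ∈ ac h := by
      intro g h hg hh x hx z hz
      have two : ¬ p ∣ 2 := fun hd => hp2 ((Nat.prime_dvd_prime_iff_eq hp.out Nat.prime_two).1 hd)
      have key : ∀ g h, g ∈ normalizer (T₀ : Set H) → h ∈ normalizer (T₀ : Set H) →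
          ∀ x ∈ ac g, ∀ z ∈ ac h, z * x - x * z ∈ ac g := by
        intro g h hg hh x hx z hz
        have hzz := hacsq h z hz z hz
        obtain ⟨α, hα, rfl⟩ := (hacmem g x).1 hx
        obtain ⟨β, hβ, rfl⟩ := (hacmem h z).1 hz
        have hβn : β ∈ normalizer (Ac g : Set H) := (hAcT g hg).2 ((hAcT h hh).1 hβ)
        have m1 : N (β * α * β⁻¹) ∈ ac g := (hacmem g _).2 ⟨_, (mem_normalizer_iff.1 hβn α).1 hα, rfl⟩
        have m2 : N (β⁻¹ * α * β⁻¹⁻¹) ∈ ac g := (hacmem g _).2 ⟨_, (mem_normalizer_iff.1 (inv_mem hβn) α).1 hα, rfl⟩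
        rw [inv_inv] at m2
        rw [hconj, hρN, hρN, hNinv β hzz] at m1
        have m2' : (1 + -N β) * N α * (1 + N β) ∈ ac g := by
          rw [← hNinv β hzz, ← hρN, ← hρN]
          convert m2 using 1
          rw [show β⁻¹ * α * β = β⁻¹ * α * β⁻¹⁻¹ by rw [inv_inv], hconj, inv_inv]
        refine QuadraticLimit.mem_of_nsmul_mem hchar two ?_
        convert (ac g).sub_mem m1 m2' using 1
        noncomm_ring
      refine ⟨?_, key h g hh hg z hz x hx⟩
      have := (ac g).neg_mem (key g h hg hh x hx z hz)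
      rwa [neg_sub] at this
    have hsi : s⁻¹ ∈ normalizer (T₀ : Set H) := inv_mem hsT
    set M := ac 1 ⊔ ac s ⊔ ac s⁻¹ with hM
    have hEM : E ≤ M := by
      refine QuadraticLimit.lead_le_span hchar hp2 M (fun x hx => ?_) (fun x hx => ?_) fun x hx => ?_
      · exact AddSubgroup.mem_sup_left (AddSubgroup.mem_sup_left ⟨x, hx, by simp⟩)
      · refine AddSubgroup.mem_sup_left (AddSubgroup.mem_sup_right ⟨x, hx, ?_⟩)
        show ρ s * x * ρ s⁻¹ = _
        rw [hρN, hρN, hNinv s hs, ← hy]; noncomm_ring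
      · refine AddSubgroup.mem_sup_right ⟨x, hx, ?_⟩
        show ρ s⁻¹ * x * ρ s⁻¹⁻¹ = _
        rw [inv_inv, hρN, hρN, hNinv s hs, ← hy]; noncomm_ring
    have hlift' : ∀ e ∈ E, ∃ g, N g = e := by
      intro e he
      have hee := hEE e he e he
      obtain ⟨_, h12, w, hw, rfl⟩ := AddSubgroup.mem_sup.1 (hEM he)
      obtain ⟨x, hx, z, hz, rfl⟩ := AddSubgroup.mem_sup.1 h12
      have h1 : (1 : H) ∈ normalizer (T₀ : Set H) := one_mem _
      have hH : ∀ g, ∀ x ∈ ac g, 1 + x ∈ MonoidHom.mrange ρ := fun g x hx => by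
        obtain ⟨α, -, rfl⟩ := (hacmem g x).1 hx; exact ⟨α, hρN α⟩
      obtain ⟨g, hg⟩ := QuadraticLimit.one_add_mem hchar h5 (MonoidHom.mrange ρ) (ac 1) (ac s) (ac s⁻¹)
        (hacsq 1) (hacsq s) (hacsq s⁻¹) (hbr 1 s h1 hsT) (hbr 1 s⁻¹ h1 hsi) (hbr s s⁻¹ hsT hsi)
        (hH 1) (hH s) (hH s⁻¹) hx hz hw hee
      exact ⟨g, by simp only [N, hg]; abel⟩
    -- the new offender
    let B : Subgroup H :=
      { carrier := {g | N g ∈ E}
        one_mem' := by show N 1 ∈ E; rw [hN1]; exact E.zero_mem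
        mul_mem' := fun {g h} hg hh => by
          show N (g * h) ∈ E
          rw [hNmul, hEE _ hg _ hh, add_zero]; exact E.add_mem hg hh
        inv_mem' := fun {g} hg => by
          show N g⁻¹ ∈ E
          rw [hNinv g (hEE _ hg _ hg)]; exact E.neg_mem hg }
    have hBcard : Nat.card ↥A ≤ Nat.card ↥B := by
      have h1 : Nat.card ↥A = Nat.card aA := Nat.card_congr (Equiv.ofBijective
        (fun x : ↥A => (⟨N x, x, x.2, rfl⟩ : aA)) ⟨fun x z e => Subtype.ext (hNinj (congrArg Subtype.val e)),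
          fun ⟨_, x, hx, e⟩ => ⟨⟨x, hx⟩, Subtype.ext e⟩⟩)
      rw [h1]
      refine (QuadraticLimit.card_le_lead hyy hyy aA).trans ?_
      choose g hg using hlift'
      refine Nat.card_le_card_of_injective (fun e : E => (⟨g e e.2, by show N _ ∈ E; rw [hg]; exact e.2⟩ : B)) ?_
      intro e e' h
      apply Subtype.ext
      rw [← hg e e.2, ← hg e' e'.2, show g e.1 e.2 = g e'.1 e'.2 from congrArg Subtype.val h]
    have hBfix : Nat.card (fixK ρ K A) ≤ Nat.card (fixK ρ K B) := by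
      refine (QuadraticLimit.card_le_lead hyy (mul_zero 0) kA).trans (Nat.card_mono (Set.toFinite _) fun f hf => ?_)
      have hFK : F ≤ K := by
        refine QuadraticLimit.lead_le_span hchar hp2 _ (fun x hx => hx.1) (fun x hx => ?_) fun x hx => ?_
        · rw [sub_zero, mul_one, hy, ← hρN]; exact hK s x hx.1
        · rw [add_zero, mul_one, hy, sub_eq_add_neg, ← hNinv s hs, ← hρN]; exact hK s⁻¹ x hx.1
      exact ⟨hFK hf, fun g hg => hEF _ hg _ hf⟩
    have hB1 : B ≠ ⊥ := fun h => by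
      rw [h, card_bot] at hBcard
      exact absurd (eq_bot_of_card_le _ hBcard) hA1
    have hBoff : Off ρ K c B := ⟨hB1, fun x hx z hz => hEE _ hx _ hz, hAc.trans (Nat.mul_le_mul hBcard hBfix)⟩
    -- more quadratic elements normalize it
    have hBn : ∀ g : H, (∀ e ∈ E, ρ g * e * ρ g⁻¹ ∈ E) → g ∈ normalizer (B : Set H) := by
      intro g hg
      refine mem_normalizer_fintype fun b hb => ?_
      show N (g * b * g⁻¹) ∈ E
      rw [hconj]; exact hg _ hb
    have hsB : s ∈ normalizer (B : Set H) := hBn s fun e he => by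
      rw [hρN, hρN, hNinv s hs, ← hy, ← sub_eq_add_neg]
      exact QuadraticLimit.conj_mem_lead hchar hp2 hyy hyy he
    have hTB : ∀ τ ∈ T₀, τ ∈ normalizer (B : Set H) := by
      intro τ hτ
      refine hBn τ fun e he => QuadraticLimit.smul_mem_lead hchar h5 hyy hyy (fun t x hx => ?_) he
      obtain ⟨α, hα, rfl⟩ := hx
      set σ := s ^ (-t) * τ * s ^ t with hσ
      have hst : s ^ (-t) ∈ normalizer (T₀ : Set H) := zpow_mem hsT _
      have hσA : σ ∈ normalizer (A : Set H) := hT₀A (by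
        have h := (mem_normalizer_iff.1 hst τ).1 hτ
        rwa [zpow_neg, inv_inv, ← zpow_neg] at h)
      refine ⟨σ * α * σ⁻¹, (mem_normalizer_iff.1 hσA α).1 hα, ?_⟩
      have ht1 : (1 : R) - t • y = ρ (s ^ (-t)) := by rw [hpow, neg_smul, sub_eq_add_neg]
      have hσi : σ⁻¹ = s ^ (-t) * τ⁻¹ * s ^ t := by rw [hσ, zpow_neg]; group
      rw [hconj, hσi, hσ, ht1, ← hpow]
      simp only [map_mul, mul_assoc]
    have hlt : T₀ < T B := by
      refine lt_of_le_of_ne ((closure_le _).2 fun τ hτ => subset_closure ⟨hτ.1, hTB τ (subset_closure hτ)⟩) fun h => ?_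
      exact hsA (hT₀A (h ▸ subset_closure ⟨hs, hsB⟩))
    have h1 := hmax B hBoff
    exact hlt.ne (eq_of_le_of_card_ge hlt.le h1)
  exact ⟨A, ⟨hA1, hAN, hAc⟩, fun s hs => hfinal hs⟩

end Cfsg.Lib.Sig.QuadraticOffender
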