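import Cfsg.Agent.Lib.Sig.RankThree

/-!
# Rank four: a normal elementary abelian subgroup of order `p⁴`, and connectedness for `p = 3`
-/

set_option autoImplicit false
set_option linter.style.haveILetI false

namespace Cfsg.Lib.Sig.RankFour

open Subgroup Cfsg.Lib Cfsg.Lib.PGroup Cfsg.Lib.PGroup.OddNormalElementary Cfsg.Lib.Sig.RankThree
open scoped commutatorElement

variable {P : Type*} [Group P] [Finite P] {p : ℕ} [hp : Fact p.Prime]

omit [Finite P] in
/-- A normal subgroup of index `p` in a normal subgroup has central quotient. -/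
theorem conj_mul_inv_mem [Finite P] (hP : IsPGroup p P) {A B : Subgroup P} [A.Normal] [B.Normal] (hBA : B ≤ A)
    (hc : Nat.card ↥A = Nat.card ↥B * p) {g a : P} (ha : a ∈ A) : g * a * g⁻¹ * a⁻¹ ∈ B := by
  set π := QuotientGroup.mk' B with hπ
  haveI : (A.map π).Normal := (inferInstance : A.Normal).map π (QuotientGroup.mk'_surjective B)
  have hcard : Nat.card ↥(A.map π) = p := by
    have h1 := Core.card_mul_relIndex hBA
    have h3 : B.relIndex A = Nat.card ↥(A.map π) := by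
      rw [← relIndex_ker, hπ, QuotientGroup.ker_mk']
    rw [h3, hc] at h1
    exact Nat.eq_of_mul_eq_mul_left Nat.card_pos h1
  obtain ⟨w, hwA, hwc, hwo⟩ := exists_mem_center_orderOf_eq (hP.to_quotient B) (N := A.map π) (fun h => by
    rw [h, card_bot] at hcard; exact hp.out.one_lt.ne hcard)
  have he : zpowers w = A.map π := eq_of_le_of_card_ge (zpowers_le.2 hwA) (by rw [Nat.card_zpowers, hwo, hcard])
  have hmem : π a ∈ center (P ⧸ B) := (zpowers_le.2 hwc) (he.ge (mem_map_of_mem π ha))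
  refine (QuotientGroup.eq_one_iff _).1 ?_
  show π (g * a * g⁻¹ * a⁻¹) = 1
  rw [map_mul, map_mul, map_mul, map_inv, map_inv, mem_center_iff.1 hmem (π g)]
  group

omit [Finite P] in
theorem normal_of_index_le [Finite P] (hP : IsPGroup p P) {T : Subgroup P} (h : T.index ≤ p) : T.Normal := by
  rcases eq_or_ne T ⊤ with rfl | hT
  · infer_instance
  haveI := hP.isNilpotent
  have hlt := Group.normalizerCondition_of_isNilpotent (G := P) T (lt_top_iff_ne_top.2 hT)
  obtain ⟨j, hj⟩ := hP.index T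
  have hj1 : j = 1 := by
    rcases j with _ | _ | j
    · exact absurd (index_eq_one.1 (by simpa using hj)) hT
    · rfl
    · exfalso
      rw [hj] at h
      have h2 : p ^ 1 < p ^ (j + 1 + 1) := Nat.pow_lt_pow_right hp.out.one_lt (by omega)
      rw [pow_one] at h2
      omega
  rw [hj1, pow_one] at hj
  rw [← normalizer_eq_top_iff]
  have h1 := relIndex_mul_index hlt.le
  rw [hj] at h1
  rcases (Nat.dvd_prime hp.out).1 (Dvd.intro_left _ h1) with h2 | h2
  · exact index_eq_one.1 h2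
  · rw [h2] at h1
    have h3 : T.relIndex (normalizer (T : Set P)) = 1 := Nat.eq_of_mul_eq_mul_right hp.out.pos (h1.trans (one_mul p).symm)
    exact absurd (relIndex_eq_one.1 h3) hlt.not_ge

theorem exists_card_eq (hP : IsPGroup p P) {E : Subgroup P} {k : ℕ} (hE : Cfsg.IsElementaryAbelian p E)
    (hk : p ^ k ≤ Nat.card ↥E) :
    ∃ E' : Subgroup P, Cfsg.IsElementaryAbelian p E' ∧ Nat.card ↥E' = p ^ k := by
  obtain ⟨j, hj⟩ := IsPGroup.iff_card.1 (hP.to_subgroup E)
  rw [hj] at hk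
  obtain ⟨K, hK⟩ := Sylow.exists_subgroup_card_pow_prime (G := E) p (n := k)
    (hj ▸ pow_dvd_pow p ((Nat.pow_le_pow_iff_right hp.out.one_lt).1 hk))
  refine ⟨K.map E.subtype, ⟨⟨⟨fun a b => Subtype.ext (commute_of_mem hE (map_subtype_le K a.2) (map_subtype_le K b.2))⟩⟩,
    fun a ha => hE.2 a (map_subtype_le K ha)⟩, by rw [Core.card_map_subtype, hK]⟩

/-- For odd `p`, rank at least four gives a normal elementary abelian subgroup of order at least `p⁴`. -/
theorem exists_normal_four (hp2 : p ≠ 2) (hP : IsPGroup p P) (hrk : ¬ Cfsg.PRankLE p 3 P) :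
    ∃ A : Subgroup P, A.Normal ∧ Cfsg.IsElementaryAbelian p A ∧ p ^ 4 ≤ Nat.card ↥A := by
  classical
  by_contra hno
  obtain ⟨E₀, hE₀, hE₀c⟩ := exists_elementary_of_not_rankLE hP hrk
  obtain ⟨E, hE, hEc⟩ := exists_card_eq hP hE₀ hE₀c
  obtain ⟨A, ⟨hAn, hA⟩, hmax⟩ := (Set.toFinite {A : Subgroup P | A.Normal ∧ Cfsg.IsElementaryAbelian p A}).exists_maximal
    ⟨⊥, inferInstance, ⟨⟨⟨fun a b => Subsingleton.elim _ _⟩⟩, fun a ha => by rw [mem_bot.1 ha, one_pow]⟩⟩
  haveI := hAn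
  have hmax' : ∀ K : Subgroup P, K.Normal → Cfsg.IsElementaryAbelian p K → A ≤ K → K = A := fun K h1 h2 h3 =>
    le_antisymm (hmax ⟨h1, h2⟩ h3) h3
  set D := centralizer (A : Set P) with hD
  have hΩ : ∀ x ∈ D, x ^ p = 1 → x ∈ A := fun x hxD hx => mem_of_centralizes hp2 hP A hA hmax' hx hxD
  have hAD : A ≤ D := fun a ha => mem_centralizer_iff.2 fun b hb => commute_of_mem hA hb ha
  have hED : E ⊓ D ≤ A := fun x hx => hΩ x hx.2 (hE.2 x hx.1)
  have hAsmall : Nat.card ↥A < p ^ 4 := lt_of_not_ge fun h => hno ⟨A, hAn, hA, h⟩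
  obtain ⟨j, hjA⟩ := IsPGroup.iff_card.1 (hP.to_subgroup A)
  have hj3 : j ≤ 3 := by
    rw [hjA] at hAsmall
    exact Nat.lt_succ_iff.1 ((Nat.pow_lt_pow_iff_right hp.out.one_lt).1 hAsmall)
  have hnot : ¬ E ≤ D := fun h => by
    have h1 := card_le_of_le (le_trans (le_inf le_rfl h) hED)
    rw [hEc] at h1
    exact absurd (h1.trans_lt hAsmall) (lt_irrefl _)
  -- the cases of order at most `p²`
  have hj2 : 2 ≤ j := by
    by_contra hc
    refine hnot ?_
    intro e _
    by_cases hA1 : A = ⊥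
    · exact mem_centralizer_iff.2 fun a ha => by rw [hA1] at ha; simp [mem_bot.1 ha]
    obtain ⟨z, hzA, hzc, hzo⟩ := exists_mem_center_orderOf_eq hP hA1
    have hzA' : zpowers z = A := eq_of_le_of_card_ge (zpowers_le.2 hzA) (by
      rw [Nat.card_zpowers, hzo, hjA]
      calc p ^ j ≤ p ^ 1 := Nat.pow_le_pow_right hp.out.pos (by omega)
        _ = p := pow_one p)
    exact mem_centralizer_iff.2 fun a ha => (mem_center_iff.1 ((zpowers_le.2 hzc) (hzA'.ge ha)) e).symm
  have hpA : p < Nat.card ↥A := by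
    rw [hjA]
    calc p = p ^ 1 := (pow_one p).symm
      _ < p ^ j := Nat.pow_lt_pow_right hp.out.one_lt (by omega)
  obtain ⟨B, hBA, hBn, hB, hBc⟩ := NormalSq.exists_le_card_sq hP A hA hpA
  haveI := hBn
  have hCB := index_centralizer_le hP hBc
  set E₁ := E ⊓ centralizer (B : Set P) with hE₁
  have hE₁c : p ^ 3 ≤ Nat.card ↥E₁ := by
    refine Nat.le_of_mul_le_mul_right (c := p) ?_ hp.out.pos
    calc p ^ 3 * p = Nat.card ↥E := by rw [hEc]; ring
      _ ≤ Nat.card ↥E₁ * (centralizer (B : Set P)).index := card_le_card_inf_mul_index _ _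
      _ ≤ _ := Nat.mul_le_mul_left _ hCB
  have hjeq : j = 3 := by
    by_contra hc
    have hj' : j = 2 := by omega
    have hAB : B = A := eq_of_le_of_card_ge hBA (by rw [hjA, hBc, hj'])
    have h1 : E₁ ≤ A := fun x hx => hED ⟨hx.1, centralizer_le (by rw [hAB]) hx.2⟩
    have h2 := hE₁c.trans (card_le_of_le h1)
    rw [hjA, hj'] at h2
    exact absurd h2 (not_le.2 (Nat.pow_lt_pow_right hp.out.one_lt (by norm_num)))
  rw [hjeq] at hjA
  obtain ⟨a, haA, haB⟩ := SetLike.exists_of_lt (lt_of_le_of_ne hBA fun e => by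
    rw [e, hjA] at hBc
    exact absurd hBc (Nat.pow_lt_pow_right hp.out.one_lt (by norm_num)).ne')
  have ha1 : a ≠ 1 := fun h => haB (h ▸ one_mem _)
  have hsupA : B ⊔ zpowers a = A := by
    refine eq_of_le_of_card_ge (sup_le hBA (zpowers_le.2 haA)) ?_
    obtain ⟨i, hi⟩ := IsPGroup.iff_card.1 (hP.to_subgroup (B ⊔ zpowers a))
    have h1 : Nat.card ↥B < Nat.card ↥(B ⊔ zpowers a : Subgroup P) := by
      rcases lt_or_ge (Nat.card ↥B) (Nat.card ↥(B ⊔ zpowers a : Subgroup P)) with h | h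
      · exact h
      · exact absurd ((eq_of_le_of_card_ge le_sup_left h).symm ▸ mem_sup_right (mem_zpowers a) : a ∈ B) haB
    rw [hi, hBc] at h1
    rw [hjA, hi]
    exact pow_succ_le h1
  have hCD : centralizer (B : Set P) ⊓ centralizer ({a} : Set P) ≤ D := by
    rw [hD, le_centralizer_iff]
    conv_lhs => rw [← hsupA]
    exact sup_le (le_centralizer_iff.1 inf_le_left) (zpowers_le.2 (mem_centralizer_iff.2 fun g hg => mem_centralizer_singleton_iff.1 hg.2))
  -- the action of `E₁` on the coset `B a`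
  have hv : ∀ g : P, g * a * g⁻¹ * a⁻¹ ∈ B := fun g =>
    conj_mul_inv_mem hP hBA (by rw [hjA, hBc]; ring) haA
  let φ : ↥E₁ →* ↥B :=
    { toFun := fun g => ⟨(g : P) * a * (g : P)⁻¹ * a⁻¹, hv g⟩
      map_one' := Subtype.ext (by simp)
      map_mul' := fun g h => Subtype.ext (by
        set v := (h : P) * a * (h : P)⁻¹ * a⁻¹ with hvd
        have h1 : (g : P) * v = v * g := (mem_centralizer_iff.1 g.2.2 v (hv _)).symm
        have h2 : Commute ((g : P) * a * (g : P)⁻¹ * a⁻¹) v :=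
          commute_of_mem hB (hv _) (hv _)
        show (g : P) * h * a * ((g : P) * h)⁻¹ * a⁻¹ = (g : P) * a * (g : P)⁻¹ * a⁻¹ * v
        calc (g : P) * h * a * ((g : P) * h)⁻¹ * a⁻¹ = (g * v) * (a * (g : P)⁻¹ * a⁻¹) := by rw [hvd]; group
          _ = v * ((g : P) * a * (g : P)⁻¹ * a⁻¹) := by rw [h1]; group
          _ = _ := h2.eq.symm) }
  have hker : φ.ker.map E₁.subtype ≤ E ⊓ D := by
    rintro _ ⟨g, hg, rfl⟩
    have h1 : (g : P) * a * (g : P)⁻¹ * a⁻¹ = 1 := congrArg Subtype.val (MonoidHom.mem_ker.1 hg)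
    refine ⟨g.2.1, hCD ⟨g.2.2, mem_centralizer_singleton_iff.2 ?_⟩⟩
    exact mul_inv_eq_iff_eq_mul.1 (mul_inv_eq_one.1 h1)
  set W := E ⊓ A with hW
  have hWD : W = E ⊓ D := le_antisymm (inf_le_inf_left E hAD) (le_inf inf_le_left hED)
  have hE₁φ : Nat.card ↥φ.ker * Nat.card ↥φ.range = Nat.card ↥E₁ := by
    rw [← index_ker, card_mul_index]
  have hkerW : Nat.card ↥φ.ker ≤ Nat.card ↥W := by
    rw [hWD, ← Core.card_map_subtype φ.ker]
    exact card_le_of_le hker
  obtain ⟨w, hw⟩ := IsPGroup.iff_card.1 (hP.to_subgroup W)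
  have hw3 : w < 3 := by
    by_contra hc
    have h1 : W = A := eq_of_le_of_card_ge inf_le_right (by
      rw [hjA, hw]; exact Nat.pow_le_pow_right hp.out.pos (by omega))
    refine hnot fun e he => mem_centralizer_iff.2 fun x hx => ?_
    exact commute_of_mem hE (h1.ge hx : x ∈ W).1 he
  have hw2 : w = 2 := by
    by_contra hc
    -- then `E₁` moves `a` to all of `B a`
    have hr : Nat.card ↥φ.range ≤ p ^ 2 := hBc ▸ Nat.card_le_card_of_injective _ φ.range.subtype_injective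
    have hk : Nat.card ↥φ.ker ≤ p := hkerW.trans (by
      rw [hw]
      calc p ^ w ≤ p ^ 1 := Nat.pow_le_pow_right hp.out.pos (by omega)
        _ = p := pow_one p)
    have hr' : φ.range = ⊤ := by
      refine eq_top_of_card_eq _ (le_antisymm (hr.trans_eq hBc.symm) ?_)
      rw [hBc]
      refine Nat.le_of_mul_le_mul_left (show p * p ^ 2 ≤ p * Nat.card ↥φ.range from ?_) hp.out.pos
      calc p * p ^ 2 = p ^ 3 := by ring
        _ ≤ Nat.card ↥φ.ker * Nat.card ↥φ.range := by rw [hE₁φ]; exact hE₁c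
        _ ≤ p * Nat.card ↥φ.range := Nat.mul_le_mul_right _ hk
    have hkE : φ.ker.map E₁.subtype ≤ W := hWD ▸ hker
    obtain ⟨e, heE, heB⟩ : ∃ e ∈ E, e ∉ centralizer (B : Set P) := by
      by_contra! hall
      have h1 : Nat.card ↥E₁ = p ^ 4 := by rw [show E₁ = E from inf_eq_left.2 hall, hEc]
      have h2 := hE₁φ
      rw [h1] at h2
      have h3 : p ^ 4 ≤ p * p ^ 2 := h2 ▸ Nat.mul_le_mul hk hr
      rw [show p * p ^ 2 = p ^ 3 by ring] at h3
      exact absurd h3 (not_le.2 (Nat.pow_lt_pow_right hp.out.one_lt (by norm_num)))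
    rw [mem_centralizer_iff] at heB
    push Not at heB
    obtain ⟨b, hb, heb⟩ := heB
    obtain ⟨e', he'⟩ : (⟨b, hb⟩ : ↥B) ∈ φ.range := hr' ▸ mem_top _
    have h1 : (e' : P) * a * (e' : P)⁻¹ * a⁻¹ = b := congrArg Subtype.val he'
    have hee : (e : P) * e' = e' * e := commute_of_mem hE heE e'.2.1
    set β := e * a * e⁻¹ * a⁻¹ with hβ
    have hβ' : (e' : P) * β = β * e' := (mem_centralizer_iff.1 e'.2.2 β (hv e)).symm
    have h2 : e * b * e⁻¹ * β = β * b := by
      have e1 : (e * e') * a * (e * e' : P)⁻¹ * a⁻¹ = e * b * e⁻¹ * β := by rw [← h1, hβ]; group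
      have e2 : ((e' : P) * e) * a * ((e' : P) * e)⁻¹ * a⁻¹ = β * b := by
        calc ((e' : P) * e) * a * ((e' : P) * e)⁻¹ * a⁻¹ = (e' * β) * (a * (e' : P)⁻¹ * a⁻¹) := by rw [hβ]; group
          _ = β * b := by rw [hβ', ← h1]; group
      rw [← e1, hee, e2]
    rw [commute_of_mem hB (hv e) hb, mul_left_inj, mul_inv_eq_iff_eq_mul] at h2
    exact heb h2.symm
  rw [hw2] at hw
  -- `E C(A)` has index at most `p`
  set T := E ⊔ D with hT
  have hDidx : D.index ≤ p * p ^ 2 := by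
    have h1 : (centralizer (B : Set P) ⊓ centralizer ({a} : Set P)).index ≤ p * p ^ 2 :=
      index_inf_le.trans (Nat.mul_le_mul hCB (index_le_of_lt hP (k := 2) ((index_centralizer_lt haA ha1).trans_eq hjA)))
    exact (Nat.le_of_dvd (Nat.pos_of_ne_zero index_ne_zero_of_finite) (index_dvd_of_le hCD)).trans h1
  have hTidx : T.index ≤ p := by
    have h1 := relIndex_mul_index (le_sup_right : D ≤ T)
    rw [relIndex_sup_right, ← hT] at h1
    have h2 : D.relIndex E = p ^ 2 := by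
      have h3 := Core.card_mul_relIndex (inf_le_left : E ⊓ D ≤ E)
      rw [inf_relIndex_left, ← hWD, hw, hEc, show p ^ 4 = p ^ 2 * p ^ 2 by ring] at h3
      exact Nat.eq_of_mul_eq_mul_left (pow_pos hp.out.pos 2) h3
    rw [h2] at h1
    refine Nat.le_of_mul_le_mul_left (show p ^ 2 * T.index ≤ p ^ 2 * p from ?_) (pow_pos hp.out.pos 2)
    rw [h1, mul_comm]; exact hDidx
  haveI hTn : T.Normal := normal_of_index_le hP hTidx
  -- `E` is normal
  refine hno ⟨E, ?_, hE, hEc.ge⟩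
  rw [← normalizer_eq_top_iff]
  by_contra hN
  haveI := hP.isNilpotent
  set N := normalizer (E : Set P) with hNd
  obtain ⟨g, hgN, hgN'⟩ := SetLike.exists_of_lt
    (Group.normalizerCondition_of_isNilpotent (G := P) N (lt_top_iff_ne_top.2 hN))
  set E' := E.map (MulAut.conj g).toMonoidHom with hE'
  have hNg : N.map (MulAut.conj g).toMonoidHom = N := Core.map_conj_eq_of_mem_normalizer hgN
  have hE'N : E' ≤ N := (map_mono le_normalizer).trans hNg.le
  have hNE' : N ≤ normalizer (E' : Set P) := by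
    have h := le_normalizer_map (H := E) (MulAut.conj g).toMonoidHom
    rw [← hNd, hNg] at h
    exact h
  have hE'e : Cfsg.IsElementaryAbelian p E' := by
    refine ⟨⟨⟨?_⟩⟩, ?_⟩
    · rintro ⟨_, x, hx, rfl⟩ ⟨_, y, hy, rfl⟩
      exact Subtype.ext (((show Commute x y from commute_of_mem hE hx hy).map (MulAut.conj g).toMonoidHom).eq)
    · rintro _ ⟨x, hx, rfl⟩
      show (MulAut.conj g) x ^ p = 1
      rw [← map_pow, hE.2 x hx, map_one]
  -- elements of `E` and `E'` agreeing modulo `D` differ by elements of `A`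
  have hpd : p ∣ p.choose 2 := hp.out.dvd_choose_self two_ne_zero (lt_of_le_of_ne hp.out.two_le (Ne.symm hp2))
  have hkey : ∀ x ∈ E, ∀ y ∈ E', x⁻¹ * y ∈ D → x⁻¹ * y ∈ A := by
    intro x hx y hy hD'
    refine hΩ _ hD' ?_
    set d := y⁻¹ * x * (y * x⁻¹) with hd
    have hd1 : d ∈ E' := by
      rw [hd, mul_assoc]
      exact E'.mul_mem (E'.inv_mem hy) (by
        simpa [mul_assoc] using (mem_normalizer_iff.1 (hNE' (le_normalizer hx)) y).1 hy)
    have hd2 : d ∈ E := by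
      have h := (mem_normalizer_iff.1 (N.inv_mem (hE'N hy)) x).1 hx
      rw [inv_inv] at h
      rw [hd, ← mul_assoc]
      exact E.mul_mem h (E.inv_mem hx)
    obtain ⟨k, hk⟩ := hpd
    rw [mul_pow_of_commutator (x := x⁻¹) (c := y) (d := d) (commute_of_mem hE hd2 (E.inv_mem hx))
      (commute_of_mem hE'e hd1 hy) (by rw [hd]; group), inv_pow, hE.2 x hx, hE'e.2 y hy, hk, pow_mul, hE.2 d hd2]
    simp
  have hTg : E' ⊔ D = T := by
    have h : T.map (MulAut.conj g).toMonoidHom = T := Core.map_conj_eq_of_mem_normalizer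
      (by rw [normalizer_eq_top (H := T)]; trivial)
    rwa [hT, Subgroup.map_sup, Core.map_conj_eq_of_mem_normalizer
      (show g ∈ normalizer (D : Set P) by rw [normalizer_eq_top (H := D)]; trivial), ← hE'] at h
  have hE'rep : ∀ y ∈ E', ∃ x ∈ E, x⁻¹ * y ∈ A := by
    intro y hy
    obtain ⟨x, hx, d, hd, e⟩ := (Core.mem_sup_of_le_normalizer (A := E) (B := D)
      (le_top.trans (normalizer_eq_top (H := D)).ge)).1 (hTg.le (mem_sup_left hy))
    exact ⟨x, hx, hkey x hx y hy (by rw [← e, inv_mul_cancel_left]; exact hd)⟩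
  have hErep : ∀ x ∈ E, ∃ y ∈ E', x⁻¹ * y ∈ A := by
    intro x hx
    obtain ⟨y, hy, d, hd, e⟩ := (Core.mem_sup_of_le_normalizer (A := E') (B := D)
      (le_top.trans (normalizer_eq_top (H := D)).ge)).1 (hTg.ge (mem_sup_left hx))
    exact ⟨y, hy, hkey x hx y hy (by rw [← e, mul_inv_rev, inv_mul_cancel_right]; exact D.inv_mem hd)⟩
  obtain ⟨y₀, hy₀, hy₀E⟩ : ∃ y ∈ E', y ∉ E := by
    by_contra! hall
    refine hgN' (Core.mem_normalizer_iff_map_conj.2 ?_)
    exact eq_of_le_of_card_ge hall (card_map_of_injective (MulAut.conj g).injective).ge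
  obtain ⟨e, he, hαA⟩ := hE'rep y₀ hy₀
  set α := e⁻¹ * y₀ with hα
  have hαW : α ∉ W := fun h => hy₀E (by
    have h' : α ∈ E := h.1
    have := E.mul_mem he h'
    rwa [hα, mul_inv_cancel_left] at this)
  have hgenA : W ⊔ zpowers α = A := by
    refine eq_of_le_of_card_ge (sup_le inf_le_right (zpowers_le.2 hαA)) ?_
    obtain ⟨i, hi⟩ := IsPGroup.iff_card.1 (hP.to_subgroup (W ⊔ zpowers α))
    have h1 : Nat.card ↥W < Nat.card ↥(W ⊔ zpowers α : Subgroup P) := by
      rcases lt_or_ge (Nat.card ↥W) (Nat.card ↥(W ⊔ zpowers α : Subgroup P)) with h | h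
      · exact h
      · exact absurd ((eq_of_le_of_card_ge le_sup_left h).symm ▸ mem_sup_right (mem_zpowers α) : α ∈ W) hαW
    rw [hi, hw] at h1
    rw [hjA, hi]
    exact pow_succ_le h1
  set F : Fin p → P := fun i => (e⁻¹ * α ^ (i : ℕ) * e) * α * (α ^ (i : ℕ))⁻¹ with hF
  have hvals : ∀ x ∈ E, ∃ i : Fin p, x⁻¹ * α * x = F i := by
    intro x hx
    obtain ⟨y, hy, hyA⟩ := hErep x hx
    obtain ⟨u, hu, t, ht, hut⟩ := (Core.mem_sup_of_commute (Core.commutator_eq_bot_iff_forall.2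
      fun u (hu : u ∈ W) t (ht : t ∈ zpowers α) => commute_of_mem hA hu.2 ((zpowers_le.2 hαA) ht))).1 (hgenA.ge hyA)
    obtain ⟨n, rfl⟩ : ∃ n : ℕ, α ^ n = t := by
      obtain ⟨n, hn⟩ := (mem_powers_iff_mem_zpowers (y := t) (x := α)).2 ht
      exact ⟨n, hn⟩
    refine ⟨⟨n % p, Nat.mod_lt _ hp.out.pos⟩, ?_⟩
    have hn : α ^ (n % p) = α ^ n := by
      conv_rhs => rw [← Nat.mod_add_div n p, pow_add, pow_mul, hA.2 α hαA, one_pow, mul_one]
    show x⁻¹ * α * x = (e⁻¹ * α ^ (n % p) * e) * α * (α ^ (n % p))⁻¹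
    rw [hn]
    set x' := x * u with hx'
    have hx'E : x' ∈ E := E.mul_mem hx hu.1
    have hy' : x' * α ^ n = y := by rw [hx', mul_assoc, hut, mul_inv_cancel_left]
    have hy0 : e * α = y₀ := by rw [hα, mul_inv_cancel_left]
    have hcom : e * α * (x' * α ^ n) = x' * α ^ n * (e * α) := by
      rw [hy0, hy']; exact commute_of_mem hE'e hy₀ hy
    have hee : e * x' = x' * e := commute_of_mem hE he hx'E
    have h1 : x'⁻¹ * α * x' = x⁻¹ * α * x := by
      have hxu : x * u = u * x := commute_of_mem hE hx hu.1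
      have huα : u * α = α * u := commute_of_mem hA hu.2 hαA
      calc x'⁻¹ * α * x' = (u * x)⁻¹ * α * (u * x) := by rw [hx', hxu]
        _ = x⁻¹ * (u⁻¹ * (α * u)) * x := by group
        _ = x⁻¹ * α * x := by rw [← huα, inv_mul_cancel_left]
    rw [← h1]
    calc x'⁻¹ * α * x' = (e * x')⁻¹ * (e * α * (x' * α ^ n)) * (α ^ n)⁻¹ := by group
      _ = (x' * e)⁻¹ * (x' * α ^ n * (e * α)) * (α ^ n)⁻¹ := by rw [hcom, hee]
      _ = _ := by group
  set W' := W.subgroupOf E with hW'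
  choose ix hix using fun q : ↥E ⧸ W' => hvals (q.out : ↥E) (q.out).2
  have hinj : Function.Injective ix := by
    intro q r hqr
    have h := (hix q).trans (hqr ▸ (hix r).symm)
    rw [← QuotientGroup.out_eq' q, ← QuotientGroup.out_eq' r, QuotientGroup.eq, mem_subgroupOf]
    set x : P := ((q.out : ↥E) : P)
    set y : P := ((r.out : ↥E) : P)
    have hxy : x⁻¹ * y ∈ E := E.mul_mem (E.inv_mem (q.out).2) (r.out).2
    show x⁻¹ * y ∈ W
    refine hWD ▸ ⟨hxy, ?_⟩
    rw [hD]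
    refine mem_centralizer_iff.2 fun c hc => ?_
    obtain ⟨u, hu, t, ht, rfl⟩ := (Core.mem_sup_of_commute (Core.commutator_eq_bot_iff_forall.2
      fun u (hu : u ∈ W) t (ht : t ∈ zpowers α) => commute_of_mem hA hu.2 ((zpowers_le.2 hαA) ht))).1 (hgenA.ge hc)
    obtain ⟨n, rfl⟩ := mem_zpowers_iff.1 ht
    have hcα : Commute α (x⁻¹ * y) := by
      have hxyc : x⁻¹ * y = y * x⁻¹ := commute_of_mem hE (E.inv_mem (q.out).2) (r.out).2
      show α * (x⁻¹ * y) = x⁻¹ * y * α
      calc α * (x⁻¹ * y) = α * (y * x⁻¹) := by rw [hxyc]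
        _ = y * (y⁻¹ * α * y) * x⁻¹ := by group
        _ = y * (x⁻¹ * α * x) * x⁻¹ := by rw [h]
        _ = (y * x⁻¹) * α := by group
        _ = _ := by rw [hxyc]
    exact ((Commute.mul_left (commute_of_mem hE hu.1 hxy) (hcα.zpow_left n))).eq
  have h1 := Nat.card_le_card_of_injective ix hinj
  rw [Nat.card_fin] at h1
  have h2 : Nat.card (↥E ⧸ W') = p ^ 2 := by
    have h3 := Core.card_mul_relIndex (inf_le_left : W ≤ E)
    rw [hw, hEc, show p ^ 4 = p ^ 2 * p ^ 2 by ring] at h3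
    exact Nat.eq_of_mul_eq_mul_left (pow_pos hp.out.pos 2) h3
  rw [h2] at h1
  exact absurd h1 (not_le.2 (by nlinarith [hp.out.two_le]))

/-- An operator of order three fixes at least the cube root of an elementary abelian normal `3`-subgroup. -/
theorem card_le_fixed_cube {A : Subgroup P} [A.Normal] (hA : Cfsg.IsElementaryAbelian 3 A) {x : P}
    (hx : x ^ 3 = 1) : Nat.card ↥A ≤ Nat.card ↥(A ⊓ centralizer ({x} : Set P) : Subgroup P) ^ 3 := by
  haveI : IsMulCommutative ↥A := hA.1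
  letI : CommGroup ↥A := { (inferInstance : Group ↥A) with mul_comm := fun a b => mul_comm' a b }
  let δ : ↥A →* ↥A := ((MulAut.conjNormal x : MulAut ↥A).toMonoidHom) / MonoidHom.id ↥A
  have hδ : ∀ a : ↥A, δ a = (MulAut.conjNormal x : MulAut ↥A) a * a⁻¹ := fun a => div_eq_mul_inv _ _
  have h3 : ∀ a : ↥A, a ^ 3 = 1 := fun a => Subtype.ext (hA.2 _ a.2)
  have hδ3 : ∀ a : ↥A, δ (δ (δ a)) = 1 := by
    intro a
    set f := (MulAut.conjNormal x : MulAut ↥A) with hf
    have hf3 : f (f (f a)) = a := by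
      rw [← MulAut.mul_apply, ← MulAut.mul_apply, hf, ← map_mul, ← map_mul,
        show x * x * x = 1 from by rw [← hx, pow_succ, pow_two], map_one, MulAut.one_apply]
    have e : δ (δ (δ a)) = f (f (f a)) * a⁻¹ * ((f a) ^ 3 * ((f (f a)) ^ 3)⁻¹) := by
      simp only [hδ, map_mul, map_inv, mul_inv_rev, inv_inv, pow_succ, pow_zero, one_mul]
      simp [mul_comm, mul_left_comm, mul_assoc]
    rw [e, hf3, h3, h3, mul_inv_cancel, inv_one, one_mul, one_mul]
  have hker : ∀ f g : ↥A →* ↥A, Nat.card ↥(g.comp f).ker ≤ Nat.card ↥f.ker * Nat.card ↥g.ker := by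
    intro f g
    set r := f.comp (g.comp f).ker.subtype with hr
    have h1 : Nat.card ↥r.ker * Nat.card ↥r.range = Nat.card ↥(g.comp f).ker := by
      rw [← index_ker, card_mul_index]
    rw [← h1]
    refine Nat.mul_le_mul ?_ (card_le_of_le ?_)
    · rw [← Core.card_map_subtype r.ker]
      exact card_le_of_le fun _ ⟨a, ha, e⟩ => e ▸ MonoidHom.mem_ker.2 (MonoidHom.mem_ker.1 ha)
    · rintro _ ⟨a, rfl⟩
      exact MonoidHom.mem_ker.2 (MonoidHom.mem_ker.1 a.2)
  have htop : (δ.comp (δ.comp δ)).ker = ⊤ := eq_top_iff.2 fun a _ => MonoidHom.mem_ker.2 (hδ3 a)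
  have hfix : Nat.card ↥δ.ker ≤ Nat.card ↥(A ⊓ centralizer ({x} : Set P) : Subgroup P) := by
    rw [← Core.card_map_subtype δ.ker]
    refine card_le_of_le ?_
    rintro _ ⟨a, ha, rfl⟩
    refine ⟨a.2, mem_centralizer_singleton_iff.2 ?_⟩
    have h1 := MonoidHom.mem_ker.1 ha
    rw [hδ, mul_inv_eq_one] at h1
    have h2 : x * (a : P) * x⁻¹ = a := congrArg Subtype.val h1
    exact (mul_inv_eq_iff_eq_mul.1 h2).symm
  calc Nat.card ↥A = Nat.card ↥(δ.comp (δ.comp δ)).ker := by rw [htop, card_top]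
    _ ≤ Nat.card ↥(δ.comp δ).ker * Nat.card ↥δ.ker := hker _ _
    _ ≤ Nat.card ↥δ.ker * Nat.card ↥δ.ker * Nat.card ↥δ.ker := Nat.mul_le_mul_right _ (hker _ _)
    _ = Nat.card ↥δ.ker ^ 3 := by ring
    _ ≤ _ := Nat.pow_le_pow_left hfix 3

/-- In a `3`-group of rank at least four the centralizer of every noncyclic elementary abelian subgroup
has rank at least three. -/
theorem not_rankLE_centralizer (hP : IsPGroup 3 P) (hrk : ¬ Cfsg.PRankLE 3 3 P) {X : Subgroup P}
    (hX : Cfsg.IsElementaryAbelian 3 X) (hXc : 3 ^ 2 ≤ Nat.card ↥X) :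
    ¬ Cfsg.PRankLE 3 2 ↥(centralizer (X : Set P)) := by
  haveI : Fact (Nat.Prime 3) := ⟨Nat.prime_three⟩
  intro h2
  have hsmall : ∀ E : Subgroup P, E ≤ centralizer (X : Set P) → Cfsg.IsElementaryAbelian 3 E →
      Nat.card ↥E < 3 ^ (2 + 1) := fun E hE1 hE2 =>
    lt_of_not_ge fun hc => (not_rankLE_iff hP).2 ⟨E, hE1, hE2, hc⟩ h2
  have hXX : X ≤ centralizer (X : Set P) := fun y hy => mem_centralizer_iff.2 fun x hx => commute_of_mem hX hx hy
  have hXeq : Nat.card ↥X = 3 ^ 2 := by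
    obtain ⟨j, hj⟩ := IsPGroup.iff_card.1 (hP.to_subgroup X)
    have h := hsmall X hXX hX
    rw [hj] at h hXc ⊢
    rw [show j = 2 by
      have := (Nat.pow_lt_pow_iff_right (by norm_num : 1 < 3)).1 h
      have := (Nat.pow_le_pow_iff_right (by norm_num : 1 < 3)).1 hXc
      omega]
  have habs : ∀ T : Subgroup P, T ≤ centralizer (X : Set P) → Cfsg.IsElementaryAbelian 3 T → T ≤ X := by
    intro T hT hTe
    have hcm : ∀ t ∈ T, ∀ x ∈ X, t * x = x * t := fun t ht x hx => (mem_centralizer_iff.1 (hT ht) x hx).symm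
    have h := hsmall (T ⊔ X) (sup_le hT hXX) (elementary_sup hTe hX hcm)
    obtain ⟨j, hj⟩ := IsPGroup.iff_card.1 (hP.to_subgroup (T ⊔ X))
    rw [hj] at h
    have e : X = T ⊔ X := eq_of_le_of_card_ge le_sup_right (by
      rw [hj, hXeq]
      exact Nat.pow_le_pow_right (by norm_num) (Nat.lt_succ_iff.1 ((Nat.pow_lt_pow_iff_right (by norm_num : 1 < 3)).1 h)))
    exact le_sup_left.trans e.ge
  obtain ⟨A, hAn, hA, hAc⟩ := exists_normal_four (by norm_num) hP hrk
  haveI := hAn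
  have hXne : (⊤ : Subgroup P) ≠ ⊥ := fun h => by
    have h' := hXc.trans (card_le_of_le (le_top : X ≤ ⊤))
    rw [h, card_bot] at h'
    norm_num at h'
  obtain ⟨z, -, hzc, hzo⟩ := exists_mem_center_orderOf_eq hP hXne
  have hz3 : z ^ 3 = 1 := by rw [← hzo]; exact pow_orderOf_eq_one z
  have hzX : z ∈ X := by
    refine habs (zpowers z) (zpowers_le.2 (mem_centralizer_iff.2 fun x _ => mem_center_iff.1 hzc x))
      ⟨inferInstance, fun t ht => ?_⟩ (mem_zpowers z)
    obtain ⟨i, rfl⟩ := mem_zpowers_iff.1 ht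
    rw [← zpow_natCast, ← zpow_mul, mul_comm, zpow_mul, zpow_natCast, hz3, one_zpow]
  obtain ⟨x, hx, hxz⟩ := SetLike.exists_of_lt (lt_of_le_of_ne (zpowers_le.2 hzX) fun e => by
    have h := congrArg (fun K : Subgroup P => Nat.card ↥K) e
    simp only [Nat.card_zpowers, hzo, hXeq] at h
    norm_num at h)
  have hXgen : zpowers z ⊔ zpowers x = X :=
    eq_of_card_sq (sup_le (zpowers_le.2 hzX) (zpowers_le.2 hx)) hXeq (lt_card_sup_zpowers hzo hxz)
  set T := A ⊓ centralizer ({x} : Set P) with hT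
  have hTX : T ≤ X := by
    refine habs T ?_ ⟨⟨⟨fun a b => Subtype.ext (commute_of_mem hA a.2.1 b.2.1)⟩⟩, fun a ha => hA.2 a ha.1⟩
    rw [← hXgen, le_centralizer_iff]
    refine sup_le (zpowers_le.2 (mem_centralizer_iff.2 fun t _ => mem_center_iff.1 hzc t))
      (zpowers_le.2 (mem_centralizer_iff.2 fun t ht => mem_centralizer_singleton_iff.1 ht.2))
  have h3 := card_le_fixed_cube hA (hX.2 x hx)
  have hTc : 3 ^ 2 ≤ Nat.card ↥T := by
    obtain ⟨j, hj⟩ := IsPGroup.iff_card.1 (hP.to_subgroup T)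
    rw [hj] at h3 ⊢
    have h4 := hAc.trans h3
    rw [← pow_mul] at h4
    have := (Nat.pow_le_pow_iff_right (by norm_num : 1 < 3)).1 h4
    exact Nat.pow_le_pow_right (by norm_num) (by omega)
  have hTeq : T = X := eq_of_le_of_card_ge hTX (hXeq.le.trans hTc)
  have hXA : X ≤ A := hTeq ▸ inf_le_left
  have h5 := hsmall A (fun a ha => mem_centralizer_iff.2 fun t ht => commute_of_mem hA (hXA ht) ha) hA
  have : 3 ^ 4 < 3 ^ (2 + 1) := lt_of_le_of_lt hAc h5
  norm_num at this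

theorem isKConnected (hP : IsPGroup 3 P) (hrk : ¬ Cfsg.PRankLE 3 3 P) : Cfsg.IsKConnected 3 2 P := by
  haveI : Fact (Nat.Prime 3) := ⟨Nat.prime_three⟩
  have hrk2 : ¬ Cfsg.PRankLE 3 2 P := fun h => hrk fun A hA hA2 =>
    (h A hA hA2).trans (Nat.pow_le_pow_right (by norm_num) (by norm_num))
  obtain ⟨U, hUn, hU, hUc⟩ := RankThree.exists_normal_four hP hrk2
  intro E E' hE hEc hE' hE'c
  have h1 := (link_iff hP hrk2 hU hUc hE hEc).2 (not_rankLE_centralizer hP hrk hE hEc)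
  have h2 := (link_iff hP hrk2 hU hUc hE' hE'c).2 (not_rankLE_centralizer hP hrk hE' hE'c)
  refine h1.trans ?_
  clear h1 hU hUc hUn
  induction h2 with
  | refl => exact .refl
  | tail _ h ih => exact (Relation.ReflTransGen.head ⟨h.2.2.1, h.2.2.2.1, h.1, h.2.1, fun a ha b hb => (h.2.2.2.2 b hb a ha).symm⟩ ih)

end Cfsg.Lib.Sig.RankFour
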