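import Cfsg.Prelude.Def_Transfer
import Cfsg.Agent.Lib.Core.Basic
import Cfsg.Agent.Lib.Fusion.Basic
import Mathlib.GroupTheory.Perm.Cycle.Type

/-!
# The sign of a semiregular element on a coset space
-/

set_option autoImplicit false
open Subgroup

namespace Cfsg.Lib.Sig.SignTransfer

variable {G : Type*} [Group G] [Finite G]

/-- A permutation of even order `o` all of whose nontrivial powers are fixed-point-free, on a set of
cardinality `o` times an odd number, is odd. -/
theorem sign_eq_neg_one {α : Type*} [Fintype α] [DecidableEq α] (π : Equiv.Perm α) {o j : ℕ}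
    (ho0 : 0 < o) (ho : Even o) (hj : Odd j) (hcard : Fintype.card α = o * j) (hπ : π ^ o = 1)
    (hfix : ∀ (d : ℕ) (a : α), (π ^ d) a = a → o ∣ d) : Equiv.Perm.sign π = -1 := by
  have hd : ∀ d ∈ π.cycleType, d = o := by
    intro d hd
    rw [Equiv.Perm.cycleType_def, Multiset.mem_map] at hd
    obtain ⟨c, hc, rfl⟩ := hd
    obtain ⟨hcyc, hceq⟩ := Equiv.Perm.mem_cycleFactorsFinset_iff.1 hc
    obtain ⟨a, ha⟩ : c.support.Nonempty := Finset.nonempty_iff_ne_empty.2 fun e =>
      hcyc.ne_one (Equiv.Perm.support_eq_empty_iff.1 e)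
    have hpow : ∀ i : ℕ, (π ^ i) a = (c ^ i) a := by
      intro i
      induction i with
      | zero => rfl
      | succ i ih =>
        rw [pow_succ', Equiv.Perm.mul_apply, ih, pow_succ', Equiv.Perm.mul_apply, hceq]
        exact Equiv.Perm.pow_apply_mem_support.2 ha
    have hlt : orderOf c ∣ o := by
      have h1 : (c ^ o) a = a := by rw [← hpow, hπ]; rfl
      exact orderOf_dvd_of_pow_eq_one ((hcyc.pow_eq_one_iff' (Equiv.Perm.mem_support.1 ha)).2 h1)
    have hge : o ∣ orderOf c := hfix _ a (by rw [hpow, pow_orderOf_eq_one]; rfl)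
    rw [Function.comp_apply, ← hcyc.orderOf]
    exact Nat.dvd_antisymm hlt hge
  have hsupp : π.support = Finset.univ := by
    refine Finset.eq_univ_iff_forall.2 fun a => Equiv.Perm.mem_support.2 fun e => ?_
    have h1 := Nat.le_of_dvd one_pos (hfix 1 a (by rwa [pow_one]))
    obtain ⟨k, hk⟩ := ho
    omega
  have hrep := Multiset.eq_replicate_of_mem hd
  have hsum : π.cycleType.sum = o * j := by rw [Equiv.Perm.sum_cycleType, hsupp, Finset.card_univ, hcard]
  have hct : Multiset.card π.cycleType = j := by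
    rw [hrep, Multiset.sum_replicate, smul_eq_mul, mul_comm o] at hsum
    exact Nat.eq_of_mul_eq_mul_right ho0 hsum
  rw [Equiv.Perm.sign_of_cycleType, hsum, hct]
  exact Odd.neg_one_pow ((ho.mul_right j).add_odd hj)

/-- The sign homomorphism of the action on the cosets of `X`. -/
noncomputable def cosetSign (X : Subgroup G) : G →* ℤˣ :=
  letI : Fintype (G ⧸ X) := Fintype.ofFinite _
  letI : DecidableEq (G ⧸ X) := Classical.decEq _
  Equiv.Perm.sign.comp (MulAction.toPermHom G (G ⧸ X))

theorem cosetSign_eq_neg_one (X : Subgroup G) (g : G) {j : ℕ} (ho : Even (orderOf g)) (hj : Odd j)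
    (hidx : X.index = orderOf g * j) (h : ∀ d : ℕ, ∀ a : G, a * g ^ d * a⁻¹ ∈ X → g ^ d = 1) :
    cosetSign X g = -1 := by
  letI : Fintype (G ⧸ X) := Fintype.ofFinite _
  letI : DecidableEq (G ⧸ X) := Classical.decEq _
  refine sign_eq_neg_one _ (orderOf_pos g) ho hj ?_ ?_ ?_
  · rw [← Nat.card_eq_fintype_card, ← Subgroup.index_eq_card, hidx]
  · rw [← map_pow, pow_orderOf_eq_one, map_one]
  · intro d q hq
    obtain ⟨a, rfl⟩ := QuotientGroup.mk_surjective q
    rw [← map_pow, MulAction.toPermHom_apply, MulAction.toPerm_apply] at hq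
    change QuotientGroup.mk (g ^ d * a) = (QuotientGroup.mk a : G ⧸ X) at hq
    rw [QuotientGroup.eq] at hq
    refine orderOf_dvd_of_pow_eq_one (h d a⁻¹ ?_)
    simpa [mul_assoc] using X.inv_mem hq

omit [Finite G] in
theorem hom_eq_one_of_odd (f : G →* ℤˣ) {g : G} (hg : (orderOf g).Coprime 2) : f g = 1 := by
  rw [← orderOf_eq_one_iff]
  refine Nat.eq_one_of_dvd_coprimes hg (orderOf_map_dvd f g) (orderOf_dvd_of_pow_eq_one ?_)
  rw [pow_two]; exact Int.units_mul_self _

/-- Descending along a cyclic chain: a subgroup `H ⊇ L` containing all elements of odd order, with an element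
`g` of order `2 ^ i`, no nontrivial power of which is conjugate into `L`, and `|H : L| = 2 ^ i · odd`. -/
theorem pResidual_le_descent (L : Subgroup G) (hL : ∀ f : L →* ℤˣ, ∀ x : L, f x = 1) :
    ∀ (i : ℕ) (H : Subgroup G), L ≤ H → Cfsg.pResidual 2 G ≤ H → ∀ g ∈ H, orderOf g = 2 ^ i →
      (∀ d : ℕ, ∀ a : G, a * g ^ d * a⁻¹ ∈ L → g ^ d = 1) → ∀ j : ℕ, Odd j → L.relIndex H = 2 ^ i * j →
      ∃ H' : Subgroup G, L ≤ H' ∧ Cfsg.pResidual 2 G ≤ H' ∧ Odd (L.relIndex H') := by
  intro i
  induction i with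
  | zero =>
    intro H h1 h2 g _ _ _ j hj hidx
    exact ⟨H, h1, h2, by rw [hidx, pow_zero, one_mul]; exact hj⟩
  | succ i ih =>
    intro H h1 h2 g hgH ho hfree j hj hidx
    set f := cosetSign (L.subgroupOf H) with hf
    have ho' : orderOf (⟨g, hgH⟩ : H) = 2 ^ (i + 1) := by rw [Subgroup.orderOf_mk, ho]
    have hfg : f ⟨g, hgH⟩ = -1 := cosetSign_eq_neg_one (L.subgroupOf H) ⟨g, hgH⟩
      (by rw [ho', pow_succ]; exact even_two.mul_left _) hj (by rw [ho']; exact hidx) fun d a ha => Subtype.ext (by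
        simpa using hfree d a (by simpa using mem_subgroupOf.1 ha))
    set H' := f.ker.map H.subtype with hH'
    have hLH' : L ≤ H' := fun x hx => ⟨⟨x, h1 hx⟩, hL (f.comp (inclusion h1)) ⟨x, hx⟩, rfl⟩
    have hrel : H'.relIndex H = 2 := by
      rw [hH', relIndex, subgroupOf, comap_map_eq_self_of_injective H.subtype_injective, index_ker]
      have hr : f.range = ⊤ := eq_top_iff.2 fun u _ => by
        rcases Int.units_eq_one_or u with rfl | rfl
        · exact one_mem _
        · exact ⟨_, hfg⟩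
      rw [hr, card_top, Nat.card_eq_fintype_card, Fintype.card_units_int]
    have hodd : Cfsg.pResidual 2 G ≤ H' := by
      refine (closure_le _).2 fun x hx => ?_
      refine ⟨⟨x, h2 (subset_closure hx)⟩, hom_eq_one_of_odd f ?_, rfl⟩
      rw [Subgroup.orderOf_mk]; exact hx
    have hg2 : g ^ 2 ∈ H' := ⟨⟨g, hgH⟩ ^ 2, by
      show f (⟨g, hgH⟩ ^ 2) = 1
      rw [map_pow, hfg, neg_one_sq], rfl⟩
    refine ih H' hLH' hodd (g ^ 2) hg2 ?_ ?_ j hj ?_
    · rw [orderOf_pow_of_dvd two_ne_zero (ho ▸ dvd_pow_self 2 (Nat.succ_ne_zero i)), ho, pow_succ,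
        Nat.mul_div_cancel _ two_pos]
    · intro d a ha
      rw [← pow_mul] at ha ⊢
      exact hfree _ a ha
    · have h := relIndex_mul_relIndex L H' H hLH' (map_subtype_le _)
      rw [hrel, hidx, pow_succ] at h
      exact Nat.eq_of_mul_eq_mul_right two_pos (h.trans (by ring))

end Cfsg.Lib.Sig.SignTransfer
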