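import Mathlib.Algebra.CharP.Lemmas
import Mathlib.Algebra.Polynomial.Eval.Degree
import Mathlib.Algebra.Polynomial.AlgebraMap
import Mathlib.FieldTheory.Finite.Basic
import Mathlib.RingTheory.Nilpotent.Lemmas
import Mathlib.RingTheory.Ideal.Operations
import Mathlib.GroupTheory.OrderOfElement
import Mathlib.GroupTheory.Perm.Cycle.Type

/-!
An element acting on an elementary abelian p-group with `(g - 1)^(p - 1) = 0` centralizes every
abelian group of operators of order prime to p that it normalizes.
-/

set_option autoImplicit false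

namespace Cfsg.Lib.Sig

open Polynomial Finset

variable {R : Type*} [Ring R] (p : ℕ) [hp : Fact p.Prime] [CharP R p]

theorem sub_one_pow_pred_eq_sum (x : R) : (x - 1) ^ (p - 1) = ∑ i ∈ range p, x ^ i := by
  have hp2 := hp.out.two_le
  have h : ((X - 1 : (ZMod p)[X]) ^ (p - 1)) = ∑ i ∈ range p, (X : (ZMod p)[X]) ^ i := by
    have hne : (X - 1 : (ZMod p)[X]) ≠ 0 := X_sub_C_ne_zero (1 : ZMod p)
    refine mul_left_cancel₀ hne ?_
    rw [← pow_succ', mul_geom_sum, show p - 1 + 1 = p by omega, sub_pow_char, one_pow]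
  let φ : (ZMod p)[X] →+* R := Polynomial.eval₂RingHom' (ZMod.castHom (dvd_refl p) R) x
    fun a => by
      obtain ⟨n, rfl⟩ := ZMod.natCast_zmod_surjective a
      rw [map_natCast]; exact Nat.cast_commute n x
  have hX : φ X = x := Polynomial.eval₂_X _ _
  have := congrArg φ h
  simpa [map_sum, hX] using this

variable {p}

/-- Conjugation by a power of a unit, preserving a subring. -/
def powConj (g : Rˣ) (A : Subring R) (hA : ∀ a ∈ A, (g : R) * a * (g⁻¹ : Rˣ) ∈ A) (i : ℕ) (a : A) : A :=
  ⟨((g ^ i : Rˣ) : R) * a * (((g ^ i)⁻¹ : Rˣ) : R), by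
    induction i with
    | zero => simp
    | succ i ih =>
      have := hA _ ih
      rw [pow_succ', mul_inv_rev, Units.val_mul, Units.val_mul]
      simpa [mul_assoc] using this⟩

theorem commute_of_sub_one_pow_eq_zero (g : Rˣ) (hg : ((g : R) - 1) ^ (p - 1) = 0)
    (K : Subgroup Rˣ) [Finite K] (hK : (Nat.card K).Coprime p)
    (hcomm : ∀ a ∈ K, ∀ b ∈ K, a * b = b * a) (hn : ∀ k ∈ K, g * k * g⁻¹ ∈ K) :
    ∀ k ∈ K, g * k = k * g := by
  classical
  have hp2 := hp.out.two_le
  set A : Subring R := Subring.closure ((fun k : Rˣ => (k : R)) '' (K : Set Rˣ)) with hAdef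
  have hAconj : ∀ a ∈ A, (g : R) * a * (g⁻¹ : Rˣ) ∈ A := by
    intro a ha
    induction ha using Subring.closure_induction with
    | mem a ha =>
      obtain ⟨k, hk, rfl⟩ := ha
      exact Subring.subset_closure ⟨g * k * g⁻¹, hn k hk, by simp⟩
    | zero => simpa using A.zero_mem
    | one => simpa using A.one_mem
    | add a b _ _ iha ihb => simpa [mul_add, add_mul] using A.add_mem iha ihb
    | neg a _ iha => simpa using A.neg_mem iha
    | mul a b _ _ iha ihb => simpa [mul_assoc] using A.mul_mem iha ihb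
  have hAcomm : ∀ a ∈ A, ∀ b ∈ A, a * b = b * a := by
    intro a ha b hb
    induction ha, hb using Subring.closure_induction₂ with
    | mem_mem a b ha hb =>
      obtain ⟨k, hk, rfl⟩ := ha
      obtain ⟨l, hl, rfl⟩ := hb
      rw [← Units.val_mul, ← Units.val_mul, hcomm k hk l hl]
    | zero_left x _ => simp
    | zero_right x _ => simp
    | one_left x _ => simp
    | one_right x _ => simp
    | neg_left x y _ _ h => simp [h]
    | neg_right x y _ _ h => simp [h]
    | add_left x y z _ _ _ h₁ h₂ => simp [mul_add, add_mul, h₁, h₂]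
    | add_right x y z _ _ _ h₁ h₂ => simp [mul_add, add_mul, h₁, h₂]
    | mul_left x y z _ _ _ h₁ h₂ => rw [mul_assoc, h₂, ← mul_assoc, h₁, mul_assoc]
    | mul_right x y z _ _ _ h₁ h₂ => rw [← mul_assoc, h₁, mul_assoc, h₂, ← mul_assoc]
  -- `A` is reduced: `a ^ (p ^ m) = a`
  set m := (Nat.card K).totient with hm
  have hm0 : 0 < m := Nat.totient_pos.2 Nat.card_pos
  have hfrob : ∀ a ∈ A, a ^ (p ^ m) = a := by
    intro a ha
    induction ha using Subring.closure_induction with
    | mem a ha =>
      obtain ⟨k, hk, rfl⟩ := ha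
      have h1 : p ^ m ≡ 1 [MOD Nat.card K] := Nat.ModEq.pow_totient hK.symm
      have h2 : (⟨k, hk⟩ : K) ^ (p ^ m) = ⟨k, hk⟩ := by
        conv_rhs => rw [← pow_one (⟨k, hk⟩ : K)]
        exact pow_eq_pow_iff_modEq.2 (h1.of_dvd (orderOf_dvd_natCard _))
      have h3 := congrArg (fun z : K => ((z : Rˣ) : R)) h2
      simpa using h3
    | zero => exact zero_pow (pow_ne_zero _ hp.out.ne_zero)
    | one => exact one_pow _
    | add a b ha hb iha ihb =>
      rw [add_pow_char_pow_of_commute p m (hAcomm a ha b hb), iha, ihb]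
    | neg a ha iha =>
      rw [← zero_sub, sub_pow_char_pow_of_commute p m (Commute.zero_left a),
        zero_pow (pow_ne_zero _ hp.out.ne_zero), iha]
    | mul a b ha hb iha ihb => rw [(show Commute a b from hAcomm a ha b hb).mul_pow, iha, ihb]
  -- `g ^ p = 1` and `∑ g ^ i = 0`
  have hsum : ∑ i ∈ range p, (g : R) ^ i = 0 := by rw [← sub_one_pow_pred_eq_sum p]; exact hg
  have hgp : g ^ p = 1 := Units.ext (by
    have h1 : ((g : R) - 1) ^ p = 0 := by
      rw [show p = p - 1 + 1 by omega, pow_succ, hg, zero_mul]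
    rwa [sub_pow_char_of_commute p (Commute.one_right (g : R)), one_pow, sub_eq_zero,
      ← Units.val_pow_eq_pow_val] at h1)
  set σ := powConj g A hAconj with hσ
  have hσval : ∀ i (a : A), ((σ i a : A) : R) = ((g ^ i : Rˣ) : R) * a * (((g ^ i)⁻¹ : Rˣ) : R) :=
    fun i a => rfl
  have hσ0 : ∀ a, σ 0 a = a := fun a => Subtype.ext (by simp [hσval])
  have hswap : ∀ i (a : A), (g : R) ^ i * (a : R) = (σ i a : R) * (g : R) ^ i := fun i a => by
    rw [hσval, ← Units.val_pow_eq_pow_val, mul_assoc _ (((g ^ i)⁻¹ : Rˣ) : R), Units.inv_mul, mul_one]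
  letI : CommRing A := { (inferInstance : Ring A) with
    mul_comm := fun a b => Subtype.ext (hAcomm a a.2 b b.2) }
  -- elimination
  have key : ∀ j (a : ℕ → A), ∑ i ∈ range p,
      ((∏ l ∈ Icc 1 j, (σ i (a l) - σ l (a l)) : A) : R) * (g : R) ^ i = 0 := by
    intro j
    induction j with
    | zero => intro a; simpa using hsum
    | succ j ih =>
      intro a
      set F : ℕ → A := fun i => ∏ l ∈ Icc 1 j, (σ i (a l) - σ l (a l)) with hF
      have h0 : ∑ i ∈ range p, (F i : R) * (g : R) ^ i = 0 := ih a
      have h1 : ∑ i ∈ range p, ((F i * σ i (a (j + 1)) : A) : R) * (g : R) ^ i = 0 := by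
        have := congrArg (fun z : R => z * (a (j + 1) : R)) h0
        simp only [zero_mul, sum_mul] at this
        rw [← this]
        refine sum_congr rfl fun i _ => ?_
        rw [Subring.coe_mul, mul_assoc, ← hswap, mul_assoc]
      have h2 : ∑ i ∈ range p, ((F i * σ (j + 1) (a (j + 1)) : A) : R) * (g : R) ^ i = 0 := by
        have := congrArg (fun z : R => (σ (j + 1) (a (j + 1)) : R) * z) h0
        simp only [mul_zero, mul_sum] at this
        rw [← this]
        refine sum_congr rfl fun i _ => ?_
        rw [mul_comm (F i), Subring.coe_mul, mul_assoc]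
      have h3 : ∀ i, ∏ l ∈ Icc 1 (j + 1), (σ i (a l) - σ l (a l)) =
          F i * σ i (a (j + 1)) - F i * σ (j + 1) (a (j + 1)) := fun i => by
        rw [prod_Icc_succ_top (by omega), mul_sub]
      simp only [h3, AddSubgroupClass.coe_sub, sub_mul, sum_sub_distrib, h1, h2, sub_zero]
  have hzero : ∀ a : ℕ → A, ∏ l ∈ Icc 1 (p - 1), (a l - σ l (a l)) = 0 := by
    intro a
    have := key (p - 1) a
    rw [sum_eq_single 0] at this
    · simpa [hσ0] using this
    · intro i hi hi0
      have : ∏ l ∈ Icc 1 (p - 1), (σ i (a l) - σ l (a l)) = 0 :=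
        prod_eq_zero (mem_Icc.2 ⟨Nat.one_le_iff_ne_zero.2 hi0, by rw [mem_range] at hi; omega⟩)
          (sub_self _)
      rw [this]; simp
    · intro h; exact absurd (mem_range.2 hp.out.pos) h
  haveI : IsReduced A := ⟨fun a ⟨n, hn'⟩ => by
    have h1 : ∀ s, a ^ ((p ^ m) ^ s) = a := by
      intro s
      induction s with
      | zero => simp
      | succ s ihs =>
        rw [pow_succ, pow_mul, ihs]
        exact Subtype.ext (by simpa using hfrob a a.2)
    rw [← h1 n]
    exact pow_eq_zero_of_le (Nat.lt_pow_self (Nat.one_lt_pow hm0.ne' hp.out.one_lt)).le hn'⟩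
  have hfix : ∀ a : A, a - σ 1 a = 0 := by
    intro a
    have : IsNilpotent (a - σ 1 a) := by
      rw [nilpotent_iff_mem_prime]
      intro P hP
      by_contra hcon
      have hex : ∀ l ∈ Icc 1 (p - 1), ∃ b : A, b - σ l b ∉ P := by
        intro l hl
        by_contra! hall
        rw [mem_Icc] at hl
        have hit : ∀ (s : ℕ) (b : A), b - σ (l * s) b ∈ P := by
          intro s
          induction s with
          | zero => intro b; simp [hσ0]
          | succ s ihs =>
            intro b
            have e : σ (l * (s + 1)) b = σ l (σ (l * s) b) := Subtype.ext (by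
              simp only [hσval]
              rw [show l * (s + 1) = l + l * s by ring, pow_add, mul_inv_rev, Units.val_mul,
                Units.val_mul]
              simp [mul_assoc])
            rw [e, ← sub_add_sub_cancel b (σ (l * s) b)]
            exact P.add_mem (ihs b) (hall _)
        obtain ⟨s, hs⟩ := Nat.exists_mul_mod_eq_one_of_coprime
          (show Nat.Coprime l p from (Nat.coprime_of_lt_prime (by omega) (by omega) hp.out).symm)
          hp.out.one_lt
        refine hcon ?_
        have e : σ 1 a = σ (l * s) a := Subtype.ext (by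
          simp only [hσval]
          rw [pow_eq_pow_mod (l * s) hgp, hs.2])
        rw [e]
        exact hit s a
      choose! b hb using hex
      have h1 := hzero b
      have h2 : ∏ l ∈ Icc 1 (p - 1), (b l - σ l (b l)) ∈ P := h1 ▸ P.zero_mem
      haveI : P.IsPrime := hP
      obtain ⟨l, hl, hlP⟩ := Ideal.IsPrime.prod_mem_iff.1 h2
      exact hb l hl hlP
    exact this.eq_zero
  intro k hk
  have h1 := congrArg (fun z : A => (z : R)) (sub_eq_zero.1 (hfix ⟨k, Subring.subset_closure ⟨k, hk, rfl⟩⟩))
  simp only [hσval, pow_one] at h1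
  refine Units.ext ?_
  calc ((g * k : Rˣ) : R) = (g : R) * k * ((g⁻¹ : Rˣ) : R) * g := by simp
    _ = _ := by rw [← h1]; simp

end Cfsg.Lib.Sig
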