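import Cfsg.Agent.Lib.Sig.SmallDegree
import Cfsg.Agent.Lib.Sig.ComplementCriterion
import Cfsg.Prelude.Def_PLocal
import Cfsg.Prelude.Def_LocalEven
import Mathlib.GroupTheory.GroupAction.ConjAct
import Mathlib.GroupTheory.Commutator.Basic

/-!
In a group with a normal p-complement modulo `O_p` and maximal Sylow p-subgroup, no element of the
Sylow subgroup acts on a chief factor below `O_p` nontrivially with `(g - 1)^(p - 1) = 0`.
-/

set_option autoImplicit false
set_option linter.style.haveILetI false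

namespace Cfsg.Lib.Sig

open Subgroup
open scoped commutatorElement

variable {p : ℕ} [Fact p.Prime]

/-- An automorphism as a unit of the endomorphism ring of the additivised group. -/
def autToUnits (M : Type*) [CommGroup M] : MulAut M →* (AddMonoid.End (Additive M))ˣ :=
  MonoidHom.toHomUnits
    { toFun := fun φ => MonoidHom.toAdditive φ.toMonoidHom
      map_one' := rfl
      map_mul' := fun _ _ => rfl }

theorem autToUnits_injective (M : Type*) [CommGroup M] : Function.Injective (autToUnits M) := by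
  intro a b h
  refine MulEquiv.ext fun x => ?_
  exact congrArg (fun u : (AddMonoid.End (Additive M))ˣ => Additive.toMul ((u : AddMonoid.End (Additive M)) (Additive.ofMul x))) h

/-- An automorphism with `(g - 1)^(p - 1) = 0` of an elementary abelian p-group centralizes any
abelian p'-group of automorphisms that it normalizes. -/
theorem commute_of_small_degree {M : Type*} [CommGroup M] [Nontrivial M]
    (hM : ∀ x : M, x ^ p = 1) (g : MulAut M)
    (hg : ∀ x : M, (fun y => g y * y⁻¹)^[p - 1] x = 1) (K : Subgroup (MulAut M)) [Finite ↥K]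
    (hK : (Nat.card ↥K).Coprime p) (hcomm : ∀ a ∈ K, ∀ b ∈ K, a * b = b * a)
    (hn : ∀ k ∈ K, g * k * g⁻¹ ∈ K) : ∀ k ∈ K, g * k = k * g := by
  haveI : Nontrivial (AddMonoid.End (Additive M)) := ⟨⟨0, 1, fun h => by
    obtain ⟨x, hx⟩ := exists_ne (1 : M)
    exact hx (congrArg (fun u : AddMonoid.End (Additive M) =>
      Additive.toMul (u (Additive.ofMul x))) h).symm⟩⟩
  haveI : CharP (AddMonoid.End (Additive M)) p := by
    refine (CharP.charP_iff_prime_eq_zero Fact.out).2 (AddMonoidHom.ext fun x => ?_)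
    show (p : AddMonoid.End (Additive M)) x = 0
    rw [AddMonoid.End.natCast_apply]
    exact hM (Additive.toMul x)
  set D : AddMonoid.End (Additive M) := (autToUnits M g : AddMonoid.End (Additive M)) - 1 with hD
  have hpow : ∀ (i : ℕ) (x : M),
      (D ^ i) (Additive.ofMul x) = Additive.ofMul ((fun y => g y * y⁻¹)^[i] x) := by
    intro i
    induction i with
    | zero => intro x; rfl
    | succ i ih =>
      intro x
      rw [Function.iterate_succ_apply, ← ih, pow_succ]
      show (D ^ i) (D (Additive.ofMul x)) = _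
      congr 1
      show Additive.ofMul (g x) - Additive.ofMul x = _
      rw [sub_eq_add_neg]
      rfl
  have h0 : D ^ (p - 1) = 0 := AddMonoidHom.ext fun x => by
    have := hpow (p - 1) (Additive.toMul x)
    rw [ofMul_toMul, hg] at this
    exact this
  intro k hk
  haveI : Finite ↥(K.map (autToUnits M)) :=
    Finite.of_surjective (fun x : ↥K => (⟨_, mem_map_of_mem _ x.2⟩ : ↥(K.map (autToUnits M))))
      (by rintro ⟨_, x, hx, rfl⟩; exact ⟨⟨x, hx⟩, rfl⟩)
  have := commute_of_sub_one_pow_eq_zero (autToUnits M g) h0 (K.map (autToUnits M))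
    (Nat.Coprime.coprime_dvd_left (card_map_dvd _ _) hK)
    (by rintro _ ⟨a, ha, rfl⟩ _ ⟨b, hb, rfl⟩; rw [← map_mul, hcomm a ha b hb, map_mul])
    (by rintro _ ⟨a, ha, rfl⟩; exact ⟨g * a * g⁻¹, hn a ha, by simp⟩)
    (autToUnits M k) (mem_map_of_mem _ hk)
  rw [← map_mul, ← map_mul] at this
  exact autToUnits_injective M this

theorem no_small_degree_chief_factor {Y : Type*} [Group Y] [Finite Y]
    (hquot : Cfsg.HasNormalPComplement p (Y ⧸ Cfsg.pCore p Y)) (T : Sylow p Y)
    (hT : IsCoatom (T : Subgroup Y)) {g : Y} (hg : g ∈ (T : Subgroup Y)) {U V : Subgroup Y}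
    (hUV : Cfsg.IsChiefFactor U V) (hUQ : U ≤ Cfsg.pCore p Y)
    (hiter : Cfsg.iterCommutator U (zpowers g) (p - 1) ≤ V) : ⁅U, zpowers g⁆ ≤ V := by
  obtain ⟨hVU, hUn, hVn, hmin⟩ := hUV
  set Q := Cfsg.pCore p Y with hQ
  set f := QuotientGroup.mk' V with hf
  have hfs : Function.Surjective f := QuotientGroup.mk'_surjective V
  have hker : f.ker = V := QuotientGroup.ker_mk' V
  set M := U.map f with hMdef
  haveI hMn : M.Normal := hUn.map f hfs
  have hMne : M ≠ ⊥ := fun e => hVU.not_ge (by
    rw [hMdef, Subgroup.map_eq_bot_iff, hker] at e; exact e)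
  have hMp : IsPGroup p ↥M := ((Cfsg.Lib.Core.pCore_isPGroup p Y).to_le hUQ).map f
  have hMmin : ∀ N : Subgroup (Y ⧸ V), N.Normal → N ≤ M → N = ⊥ ∨ N = M := by
    intro N hN hNM
    rcases hmin (N.comap f) (hN.comap f) ((ker_le_comap f N).trans' hker.ge) (by
      refine (comap_mono hNM).trans ?_
      rw [hMdef, comap_map_eq, hker]
      exact sup_le le_rfl hVU.le) with h | h
    · left
      rw [← map_comap_eq_self_of_surjective hfs N, h, Subgroup.map_eq_bot_iff, hker]
    · right
      rw [← map_comap_eq_self_of_surjective hfs N, h, hMdef]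
  have hQc : ∀ q ∈ Q, ∀ m ∈ M, f q * m * (f q)⁻¹ = m := by
    set F := M ⊓ centralizer ((Q.map f : Subgroup (Y ⧸ V)) : Set (Y ⧸ V)) with hF
    haveI : (Q.map f).Normal := (inferInstance : Q.Normal).map f hfs
    rcases hMmin F inferInstance inf_le_left with h | h
    · exfalso
      have hp : IsPGroup p ↥(Q.map f) := (Cfsg.Lib.Core.pCore_isPGroup p Y).map f
      haveI : Nontrivial ↥M := (nontrivial_iff_ne_bot M).2 hMne
      obtain ⟨k, hk⟩ := (IsPGroup.iff_card.mp hMp)
      have hdvd : p ∣ Nat.card ↥M := by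
        rw [hk]; refine dvd_pow_self p fun hk0 => ?_
        rw [hk0, pow_zero] at hk
        exact (Finite.one_lt_card (α := ↥M)).ne' hk
      letI : MulAction ↥(Q.map f) ↥M := MulAction.compHom _ ((MulAut.conjNormal (H := M)).comp (Q.map f).subtype)
      obtain ⟨b, hb, hb1⟩ := hp.exists_fixed_point_of_prime_dvd_card_of_fixed_point ↥M hdvd
        (a := 1) (fun x => map_one (MulAut.conjNormal (H := M) (x : Y ⧸ V)))
      refine hb1 (Subtype.ext ?_).symm
      have hbF : (b : Y ⧸ V) ∈ F := mem_inf.2 ⟨b.2, mem_centralizer_iff.2 fun z hz => by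
        have := congrArg Subtype.val (hb ⟨z, hz⟩)
        exact mul_inv_eq_iff_eq_mul.1 (this : z * (b : Y ⧸ V) * z⁻¹ = b)⟩
      rw [h, mem_bot] at hbF
      exact hbF
    · intro q hq m hm
      rw [← h] at hm
      rw [mem_centralizer_iff.1 (mem_inf.1 hm).2 _ (mem_map_of_mem f hq), mul_inv_cancel_right]
  -- the abelian group `M` and the group `Y₁` of induced automorphisms
  have hcommM : ∀ a b : ↥M, a * b = b * a := fun a b => Subtype.ext (by
    obtain ⟨y, hy, hya⟩ := a.2
    have h1 := hQc y (hUQ hy) b b.2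
    rw [hya] at h1
    show (a : Y ⧸ V) * b = b * a
    calc (a : Y ⧸ V) * b = (a * b * (a : Y ⧸ V)⁻¹) * a := by group
      _ = b * a := by rw [h1])
  letI : CommGroup ↥M := { (inferInstance : Group ↥M) with mul_comm := hcommM }
  have hpow : ∀ x : ↥M, x ^ p = 1 := by
    have hB : (M ⊓ ((powMonoidHom p : ↥M →* ↥M).range.map M.subtype)) = ⊥ := by
      set B := (powMonoidHom p : ↥M →* ↥M).range.map M.subtype with hB
      haveI : B.Normal := by
        refine ⟨fun b hb z => ?_⟩
        obtain ⟨_, ⟨x, rfl⟩, rfl⟩ := hb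
        refine ⟨_, ⟨MulAut.conjNormal z x, rfl⟩, ?_⟩
        show ((MulAut.conjNormal z x : ↥M) ^ p : ↥M).1 = z * ((x ^ p : ↥M) : Y ⧸ V) * z⁻¹
        rw [← map_pow, MulAut.conjNormal_apply]
      rw [inf_eq_right.2 (map_subtype_le _)]
      refine (hMmin B inferInstance (map_subtype_le _)).resolve_right fun e => ?_
      have hsurj : Function.Surjective (powMonoidHom p : ↥M →* ↥M) := fun x => by
        obtain ⟨y, hy, hyx⟩ : (x : Y ⧸ V) ∈ B := e.symm ▸ x.2
        obtain ⟨w, rfl⟩ := hy
        exact ⟨w, Subtype.ext hyx⟩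
      haveI : Nontrivial ↥M := (nontrivial_iff_ne_bot M).2 hMne
      obtain ⟨k, hk⟩ := (IsPGroup.iff_card.mp hMp)
      have hdvd : p ∣ Nat.card ↥M := by
        rw [hk]; refine dvd_pow_self p fun hk0 => ?_
        rw [hk0, pow_zero] at hk
        exact (Finite.one_lt_card (α := ↥M)).ne' hk
      obtain ⟨x, hx⟩ := exists_prime_orderOf_dvd_card' p hdvd
      have hinj := Finite.injective_iff_surjective.2 hsurj
      have : x = 1 := hinj (by simp [← hx, pow_orderOf_eq_one])
      rw [this, orderOf_one] at hx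
      exact (Fact.out : p.Prime).one_lt.ne hx
    intro x
    have : ((x ^ p : ↥M) : Y ⧸ V) ∈ M ⊓ ((powMonoidHom p : ↥M →* ↥M).range.map M.subtype) :=
      mem_inf.2 ⟨(x ^ p).2, ⟨_, ⟨x, rfl⟩, rfl⟩⟩
    rw [hB, mem_bot] at this
    exact Subtype.ext this
  haveI : Nontrivial ↥M := (nontrivial_iff_ne_bot M).2 hMne
  set ρ : Y →* MulAut ↥M := (MulAut.conjNormal (H := M)).comp f with hρ
  set F := ρ.rangeRestrict with hFdef
  have hFs : Function.Surjective F := ρ.rangeRestrict_surjective
  haveI : Finite ↥ρ.range := Finite.of_surjective F hFs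
  have hval : ∀ (y : Y) (m : ↥M), ((ρ y m : ↥M) : Y ⧸ V) = f y * m * (f y)⁻¹ := fun y m =>
    MulAut.conjNormal_apply (f y) m
  have hY₁ : Cfsg.HasNormalPComplement p ↥ρ.range := by
    refine Fusion.hasNormalPComplement_of_surjective (QuotientGroup.lift Q F fun q hq => ?_) ?_ hquot
    · refine Subtype.ext (MulEquiv.ext fun m => Subtype.ext ?_)
      show ((ρ q m : ↥M) : Y ⧸ V) = m
      rw [hval, hQc q hq m m.2]
    · intro z
      obtain ⟨y, rfl⟩ := hFs z
      exact ⟨(y : Y ⧸ Q), rfl⟩
  have hcore : ∀ P : Subgroup ↥ρ.range, P.Normal → IsPGroup p ↥P → P = ⊥ := by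
    intro P hP hPp
    obtain ⟨k, hk⟩ := (IsPGroup.iff_card.mp hMp)
    have hdvd : p ∣ Nat.card ↥M := by
      rw [hk]; refine dvd_pow_self p fun hk0 => ?_
      rw [hk0, pow_zero] at hk
      exact (Finite.one_lt_card (α := ↥M)).ne' hk
    letI : MulAction ↥P ↥M := MulAction.compHom _ (ρ.range.subtype.comp P.subtype)
    obtain ⟨b, hb, hb1⟩ := hPp.exists_fixed_point_of_prime_dvd_card_of_fixed_point ↥M hdvd
      (a := 1) (fun x => map_one ((x : ↥ρ.range) : MulAut ↥M))
    let D : Subgroup ↥M :=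
      { carrier := {m | ∀ φ ∈ P, (φ : MulAut ↥M) m = m}
        one_mem' := fun φ _ => map_one _
        mul_mem' := fun ha hb φ hφ => by rw [map_mul, ha φ hφ, hb φ hφ]
        inv_mem' := fun ha φ hφ => by rw [map_inv, ha φ hφ] }
    haveI : (D.map M.subtype).Normal := by
      refine ⟨?_⟩
      rintro _ ⟨m, hm, rfl⟩ z
      obtain ⟨y, rfl⟩ := hfs z
      refine ⟨ρ y m, fun φ hφ => ?_, hval y m⟩
      have h1 := hm _ (Subgroup.Normal.conj_mem' hP φ hφ (F y))
      rw [Subgroup.coe_mul, Subgroup.coe_mul, Subgroup.coe_inv] at h1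
      have h2 := congrArg (ρ y) h1
      simpa [hFdef, MulAut.mul_apply] using h2
    rcases hMmin (D.map M.subtype) inferInstance (map_subtype_le _) with h | h
    · exfalso
      refine hb1 ?_
      have : (b : Y ⧸ V) ∈ D.map M.subtype := ⟨b, fun φ hφ => hb ⟨φ, hφ⟩, rfl⟩
      rw [h, mem_bot] at this
      exact (Subtype.ext this).symm
    · refine eq_bot_iff.2 fun φ hφ => mem_bot.2 (Subtype.ext (MulEquiv.ext fun m => ?_))
      obtain ⟨m', hm', e⟩ : (m : Y ⧸ V) ∈ D.map M.subtype := h.symm ▸ m.2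
      rw [← Subtype.ext e]
      exact hm' φ hφ
  -- the action of `g`
  set T₁ := (T : Subgroup Y).map F with hT₁def
  have hT₁p : IsPGroup p ↥T₁ := T.2.map F
  have hover : ∀ L : Subgroup ↥ρ.range, T₁ ≤ L → L = T₁ ∨ L = ⊤ := by
    intro L hL
    rcases eq_or_lt_of_le ((map_le_iff_le_comap.1 hL) : (T : Subgroup Y) ≤ L.comap F) with h | h
    · left; rw [hT₁def, h, map_comap_eq_self_of_surjective hFs]
    · right; rw [← map_comap_eq_self_of_surjective hFs L, hT.2 _ h, map_top_of_surjective _ hFs]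
  set K := Cfsg.pResidual p ↥ρ.range with hKdef
  have hKcop : (Nat.card ↥K).Coprime p := Fusion.hasNormalPComplement_iff_coprime.1 hY₁
  have hKT : ∀ x ∈ K, x ∈ T₁ → x = 1 := fun x hx hx' => by
    have := disjoint_of_isPGroup_coprime hT₁p hKcop
    exact mem_bot.1 (this ▸ mem_inf.2 ⟨hx', hx⟩)
  -- `K` is abelian
  have hKab : ∀ a ∈ K, ∀ b ∈ K, a * b = b * a := by
    by_cases hK1 : K = ⊥
    · intro a ha b hb
      rw [hK1, mem_bot] at ha; subst ha; simp
    haveI : Nontrivial ↥K := (nontrivial_iff_ne_bot K).2 hK1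
    obtain ⟨q, hq, hqd⟩ := Nat.exists_prime_and_dvd (Finite.one_lt_card (α := ↥K)).ne'
    haveI := Fact.mk hq
    obtain ⟨R₀⟩ : Nonempty (Sylow q ↥K) := inferInstance
    set R := (R₀ : Subgroup ↥K).map K.subtype with hRdef
    set N := normalizer (R : Set ↥ρ.range) with hN
    have hfrat : N ⊔ K = ⊤ := Sylow.normalizer_sup_eq_top R₀
    obtain ⟨T₂⟩ : Nonempty (Sylow p ↥N) := inferInstance
    have hT₂idx : ¬ p ∣ ((T₂ : Subgroup ↥N).map N.subtype).index := by
      rw [index_map_subtype]
      refine (Fact.out : p.Prime).not_dvd_mul T₂.not_dvd_index ?_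
      intro hd
      have h1 : N.index ∣ Nat.card ↥K := by
        have e1 : K.relIndex N = K.index := by
          rw [← relIndex_top_right, ← hfrat, relIndex_sup_right]
        have e2 := Cfsg.Lib.Core.card_mul_relIndex (inf_le_left : N ⊓ K ≤ N)
        rw [inf_relIndex_left, e1] at e2
        refine Dvd.intro (Nat.card ↥(N ⊓ K)) (Nat.eq_of_mul_eq_mul_left (n := K.index)
          (Nat.pos_of_ne_zero Subgroup.index_ne_zero_of_finite) ?_)
        calc K.index * (N.index * Nat.card ↥(N ⊓ K)) = Nat.card ↥N * N.index := by rw [← e2]; ring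
          _ = Nat.card ↥ρ.range := N.card_mul_index
          _ = K.index * Nat.card ↥K := K.index_mul_card.symm
      exact (Fact.out : p.Prime).coprime_iff_not_dvd.1 hKcop.symm (hd.trans h1)
    obtain ⟨x, hx⟩ := MulAction.exists_smul_eq ↥ρ.range ((T₂.2.map N.subtype).toSylow hT₂idx)
      (T.mapSurjective hFs)
    have hR₁ : T₁ ≤ normalizer ((R.map (MulAut.conj x).toMonoidHom : Subgroup ↥ρ.range) : Set ↥ρ.range) := by
      have h2 := congrArg (fun S : Sylow p ↥ρ.range => (S : Subgroup ↥ρ.range)) hx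
      simp only [Sylow.coe_mapSurjective] at h2
      rw [hT₁def, ← h2, ← map_conj_normalizer]
      exact map_mono (map_subtype_le _)
    set R₁ := R.map (MulAut.conj x).toMonoidHom with hR₁def
    have hR₁K : R₁ ≤ K := by
      rintro _ ⟨r, hr, rfl⟩
      exact (inferInstance : K.Normal).conj_mem r (map_subtype_le _ hr) x
    have hR₁q : IsPGroup q ↥R₁ := (R₀.2.map _).map _
    have hsplit : ∀ A : Subgroup ↥ρ.range, A ≤ K → T₁ ≤ normalizer (A : Set ↥ρ.range) →
        A = ⊥ ∨ A = K := by
      intro A hAK hTA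
      rcases hover (A ⊔ T₁) le_sup_right with h | h
      · left
        exact eq_bot_iff.2 fun z hz => mem_bot.2 (hKT z (hAK hz) (h.le (mem_sup_left hz)))
      · right
        refine le_antisymm hAK fun z hz => ?_
        have hz' : z ∈ ((T₁ ⊔ A : Subgroup ↥ρ.range) : Set ↥ρ.range) := by
          rw [sup_comm, h]; exact mem_top z
        rw [coe_mul_of_left_le_normalizer_right T₁ A hTA] at hz'
        obtain ⟨t, ht, a, ha, rfl⟩ := hz'
        have : t ∈ K := by simpa using mul_mem hz (inv_mem (hAK ha))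
        simpa [hKT t this ht] using ha
    have hKR : R₁ = K := by
      refine (hsplit R₁ hR₁K hR₁).resolve_left fun e => R₀.ne_bot_of_dvd_card hqd ?_
      rw [hR₁def, Subgroup.map_eq_bot_iff_of_injective _ (MulAut.conj x).injective, hRdef,
        Subgroup.map_eq_bot_iff_of_injective _ K.subtype_injective] at e
      exact e
    have hKq : IsPGroup q ↥K := hKR ▸ hR₁q
    haveI := hKq.isNilpotent
    haveI : ((commutator ↥K).map K.subtype).Normal := ConjAct.normal_of_characteristic_of_normal
    rcases hsplit ((commutator ↥K).map K.subtype) (map_subtype_le _)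
        (by rw [normalizer_eq_top_iff.2 inferInstance]; exact le_top) with h | h
    · intro a ha b hb
      have : ⁅(⟨a, ha⟩ : ↥K), (⟨b, hb⟩ : ↥K)⁆ ∈ commutator ↥K :=
        commutator_mem_commutator (mem_top _) (mem_top _)
      rw [Subgroup.map_eq_bot_iff_of_injective _ K.subtype_injective] at h
      rw [h, mem_bot, commutatorElement_eq_one_iff_mul_comm] at this
      exact congrArg Subtype.val this
    · exfalso
      haveI : Group.IsSolvable ↥K := inferInstance
      refine (Group.IsSolvable.commutator_lt_top_of_nontrivial ↥K).ne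
        (Subgroup.map_injective K.subtype_injective ?_)
      rw [h, ← MonoidHom.range_eq_map, range_subtype]
  set g₁ := F g with hg₁def
  have hcomm : ∀ k ∈ K, g₁ * k = k * g₁ := by
    intro k hk
    refine Subtype.ext (commute_of_small_degree hpow (ρ g) ?_ (K.map ρ.range.subtype)
      (Nat.Coprime.coprime_dvd_left (card_map_dvd _ _) hKcop) ?_ ?_ _ (mem_map_of_mem _ hk))
    · intro m
      have h : ∀ (i : ℕ) (m : ↥M), (((fun y => ρ g y * y⁻¹)^[i] m : ↥M) : Y ⧸ V) ∈
          (Cfsg.iterCommutator U (zpowers g) i).map f := by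
        intro i
        induction i with
        | zero => intro m; exact m.2
        | succ i ih =>
          intro m
          rw [Function.iterate_succ_apply']
          obtain ⟨u, hu, hum⟩ := ih m
          show _ ∈ (⁅Cfsg.iterCommutator U (zpowers g) i, zpowers g⁆).map f
          rw [commutator_comm]
          refine ⟨⁅g, u⁆, commutator_mem_commutator (mem_zpowers g) hu, ?_⟩
          rw [Subgroup.coe_mul, Subgroup.coe_inv, hval, ← hum]
          simp [commutatorElement_def]
      obtain ⟨u, hu, hum⟩ := h (p - 1) m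
      refine Subtype.ext (hum.symm.trans ?_)
      exact (QuotientGroup.eq_one_iff u).2 (hiter hu)
    · rintro _ ⟨a, ha, rfl⟩ _ ⟨b, hb, rfl⟩
      rw [← map_mul, hKab a ha b hb, map_mul]
    · rintro _ ⟨a, ha, rfl⟩
      exact ⟨g₁ * a * g₁⁻¹, (inferInstance : K.Normal).conj_mem a ha g₁, rfl⟩
  -- `g₁ = 1`
  set Z := T₁ ⊓ centralizer (K : Set ↥ρ.range) with hZ
  have hZn : Z.Normal := by
    refine normalizer_eq_top_iff.1 (eq_top_iff.2 ?_)
    have hsup : T₁ ⊔ K = ⊤ := by
      have := Fusion.sylow_sup_pResidual (T.mapSurjective hFs)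
      rwa [Sylow.coe_mapSurjective] at this
    rw [← hsup]
    refine sup_le (fun t ht => mem_normalizer_of_map_conj ?_) fun k hk => mem_normalizer_of_map_conj ?_
    · rw [hZ, map_inf _ _ _ (MulAut.conj t).injective, map_conj_centralizer,
        map_conj_eq_of_mem_normalizer (le_normalizer ht),
        map_conj_eq_of_mem_normalizer (H := K) (by
          rw [normalizer_eq_top_iff.2 (inferInstance : K.Normal)]; exact mem_top t)]
    · have h1 : ∀ z ∈ Z, k * z * k⁻¹ = z := fun z hz => by
        rw [mem_centralizer_iff.1 (mem_inf.1 hz).2 k hk, mul_inv_cancel_right]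
      ext z
      constructor
      · rintro ⟨w, hw, rfl⟩
        show k * w * k⁻¹ ∈ Z
        rw [h1 w hw]; exact hw
      · exact fun hz => ⟨z, hz, h1 z hz⟩
  have hg₁ : g₁ = 1 := by
    have := hcore Z hZn (hT₁p.to_le inf_le_left)
    rw [← mem_bot, ← this]
    exact mem_inf.2 ⟨mem_map_of_mem F hg,
      mem_centralizer_iff.2 fun k hk => (hcomm k hk).symm⟩
  rw [commutator_le]
  intro u hu w hw
  have hk : zpowers g ≤ ρ.ker := zpowers_le.2 (MonoidHom.mem_ker.2 (congrArg Subtype.val hg₁))
  rw [← hker, MonoidHom.mem_ker, map_commutatorElement, commutatorElement_eq_one_iff_mul_comm]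
  have h1 := hval w ⟨f u, mem_map_of_mem f hu⟩
  rw [MonoidHom.mem_ker.1 (hk hw)] at h1
  exact eq_mul_inv_iff_mul_eq.1 h1

end Cfsg.Lib.Sig
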