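import Cfsg.Agent.Lib.Thompson.Omega
import Cfsg.Agent.Lib.Fusion.Alperin

/-!
# A coprime element fixing the elements of small order along a central filtration
-/

set_option autoImplicit false

namespace Cfsg.Lib.Sig

open Subgroup

variable {G : Type*} [Group G] [Finite G] {p : ℕ} [Fact p.Prime]

/-- `a` has order dividing `p`, or `4` when `p = 2`. -/
def IsSmallElt (p : ℕ) (a : G) : Prop := a ^ p = 1 ∨ (p = 2 ∧ a ^ 4 = 1)

theorem isSmallElt_conj {a : G} (h : IsSmallElt p a) (x : G) : IsSmallElt p (x * a * x⁻¹) := by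
  rcases h with h | ⟨h1, h2⟩
  · exact Or.inl (by rw [conj_pow, h]; simp)
  · exact Or.inr ⟨h1, by rw [conj_pow, h2]; simp⟩

theorem mem_normalizer_of_conj_le {Q : Subgroup G} {x : G} (h : ∀ q ∈ Q, x * q * x⁻¹ ∈ Q) :
    x ∈ normalizer (Q : Set G) := by
  rw [mem_normalizer_iff_map_conj_eq]
  refine eq_of_le_of_card_ge ?_ (card_map_of_injective (MulAut.conj x).injective).ge
  rintro _ ⟨q, hq, rfl⟩
  exact h q hq

theorem conj_pow_eq_mul_pow {x a z : G} (hz : x * z * x⁻¹ = z) (ha : x * a * x⁻¹ = a * z) (k : ℕ) :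
    x ^ k * a * (x ^ k)⁻¹ = a * z ^ k := by
  induction k with
  | zero => simp
  | succ k ih =>
    have h1 : x * z ^ k * x⁻¹ = z ^ k := by rw [← conj_pow, hz]
    calc x ^ (k + 1) * a * (x ^ (k + 1))⁻¹ = x * (x ^ k * a * (x ^ k)⁻¹) * x⁻¹ := by
          rw [pow_succ']; group
      _ = x * a * x⁻¹ * (x * z ^ k * x⁻¹) := by rw [ih]; group
      _ = a * z ^ (k + 1) := by rw [ha, h1, mul_assoc, ← pow_succ']

/-- If `x` is a `p'`-element normalizing the `p`-group `Q` and each element `a` of small order of `Q`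
in the `i`-th term of a `Q`-invariant filtration is moved by `x` only modulo the previous term, then
`x` centralizes `Q`. -/
theorem mem_centralizer_of_small_filtration (Q : Subgroup G) (hQ : IsPGroup p Q) {x : G}
    (hx : x ∈ normalizer (Q : Set G)) (hco : (orderOf x).Coprime p) (Z : ℕ → Subgroup G) (hZ0 : Z 0 = ⊥)
    (hZn : ∀ i, ∀ q ∈ Q, ∀ z ∈ Z i, q * z * q⁻¹ ∈ Z i)
    (hmove : ∀ i, ∀ a ∈ Q, IsSmallElt p a → a ∈ Z (i + 1) →
      x * a * x⁻¹ ∈ Z (i + 1) ∧ a⁻¹ * (x * a * x⁻¹) ∈ Z i)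
    {n : ℕ} (htop : ∀ a ∈ Q, IsSmallElt p a → a ∈ Z n) : x ∈ centralizer (Q : Set G) := by
  classical
  have hcop : ∀ R : Subgroup G, R ≤ Q → (Nat.card (zpowers x)).Coprime (Nat.card R) := by
    intro R hR
    obtain ⟨k, hk⟩ := IsPGroup.iff_card.mp (hQ.to_le hR)
    rw [Nat.card_zpowers, hk]; exact hco.pow_right k
  have hcent : ∀ R : Subgroup G, R ≤ Q → (∀ q ∈ R, x * q * x⁻¹ ∈ R) →
      (∀ a ∈ R, IsSmallElt p a → x * a * x⁻¹ = a) → x ∈ centralizer (R : Set G) := by
    intro R hR hinv hfix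
    have hxR : x ∈ normalizer (R : Set G) := mem_normalizer_of_conj_le hinv
    refine Cfsg.Lib.Thompson.le_centralizer_of_centralizes_small (zpowers x) R (hQ.to_le hR)
      (zpowers_le.mpr hxR) (hcop R hR) ?_ (mem_zpowers x)
    intro a ha hs b hb
    obtain ⟨k, rfl⟩ := mem_zpowers_iff.mp hb
    have hc : Commute x a := by
      have := hfix a ha hs
      show x * a = a * x
      conv_rhs => rw [← this]
      group
    exact (hc.zpow_left k).eq
  have key : ∀ i, ∀ a ∈ Q, IsSmallElt p a → a ∈ Z i → x * a * x⁻¹ = a := by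
    intro i
    induction i with
    | zero =>
      intro a _ _ ha
      rw [hZ0, mem_bot] at ha; subst ha; simp
    | succ i ih =>
      set M := closure {a : G | a ∈ Q ∧ IsSmallElt p a ∧ a ∈ Z (i + 1)} with hM
      have hMQ : M ≤ Q := (closure_le _).mpr fun a ha => ha.1
      have hgen : ∀ a ∈ Q, IsSmallElt p a → a ∈ Z (i + 1) → x * a * x⁻¹ ∈ M := fun a h1 h2 h3 =>
        subset_closure ⟨(mem_normalizer_iff.mp hx a).mp h1, isSmallElt_conj h2 x, (hmove i a h1 h2 h3).1⟩
      have hMinv : ∀ d ∈ M, x * d * x⁻¹ ∈ M ∧ d⁻¹ * (x * d * x⁻¹) ∈ Z i := by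
        intro d hd
        induction hd using closure_induction with
        | mem a ha => exact ⟨hgen a ha.1 ha.2.1 ha.2.2, (hmove i a ha.1 ha.2.1 ha.2.2).2⟩
        | one => simp
        | mul d e _ he h1 h2 =>
          refine ⟨by simpa [mul_assoc] using mul_mem h1.1 h2.1, ?_⟩
          have h3 := hZn i e⁻¹ (inv_mem (hMQ he)) _ h1.2
          have h4 := mul_mem h3 h2.2
          simpa [mul_assoc] using h4
        | inv d hd h1 =>
          refine ⟨by simpa [mul_assoc] using inv_mem h1.1, ?_⟩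
          have h3 := hZn i d (hMQ hd) _ (inv_mem h1.2)
          simpa [mul_assoc] using h3
      have hfixN : x ∈ centralizer ((M ⊓ Z i : Subgroup G) : Set G) := by
        refine hcent _ (inf_le_left.trans hMQ) ?_ ?_
        · intro d hd
          refine ⟨(hMinv d hd.1).1, ?_⟩
          show x * d * x⁻¹ ∈ Z i
          simpa using (Z i).mul_mem hd.2 (hMinv d hd.1).2
        · exact fun a ha hs => ih a (hMQ ha.1) hs ha.2
      intro a h1 h2 h3
      have haM : a ∈ M := subset_closure ⟨h1, h2, h3⟩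
      set z := a⁻¹ * (x * a * x⁻¹) with hz
      have hzN : z ∈ M ⊓ Z i := ⟨M.mul_mem (M.inv_mem haM) (hMinv a haM).1, (hMinv a haM).2⟩
      have hxz : x * z * x⁻¹ = z := by
        rw [← mem_centralizer_iff.mp hfixN z hzN]; group
      have hxa : x * a * x⁻¹ = a * z := by rw [hz]; group
      have hk := conj_pow_eq_mul_pow hxz hxa (orderOf x)
      rw [pow_orderOf_eq_one] at hk
      have hz1 : z ^ orderOf x = 1 := by
        simpa using hk
      obtain ⟨j, hj⟩ := hQ ⟨z, hMQ hzN.1⟩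
      have hj' : z ^ p ^ j = 1 := congrArg Subtype.val hj
      have h5 : orderOf z ∣ 1 := by
        rw [← (Nat.Coprime.pow_right j hco)]
        exact Nat.dvd_gcd (orderOf_dvd_of_pow_eq_one hz1) (orderOf_dvd_of_pow_eq_one hj')
      have h6 : z = 1 := orderOf_eq_one_iff.mp (Nat.dvd_one.mp h5)
      rw [hxa, h6, mul_one]
  exact hcent Q le_rfl (fun q hq => (mem_normalizer_iff.mp hx q).mp hq)
    fun a ha hs => key n a ha hs (htop a ha hs)

/-- If a Sylow `p`-subgroup controls the fusion of its elements of order `p` (`4`), `G` has a normal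
`p`-complement. -/
theorem hasNormalPComplement_of_controls_small (P : Sylow p G)
    (h : ∀ a ∈ (P : Subgroup G), IsSmallElt p a → ∀ g : G, g * a * g⁻¹ ∈ (P : Subgroup G) →
      ∃ y ∈ (P : Subgroup G), g * a * g⁻¹ = y * a * y⁻¹) : HasNormalPComplement p G := by
  classical
  refine (Cfsg.Lib.Fusion.frobenius P).mpr ?_
  intro Q hQP x hx hco
  haveI : Group.IsNilpotent (P : Subgroup G) := P.2.isNilpotent
  obtain ⟨n, hn⟩ := (inferInstance : Group.IsNilpotent (P : Subgroup G)).nilpotent'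
  set Z : ℕ → Subgroup G := fun i =>
    (Subgroup.upperCentralSeries (P : Subgroup G) i).map (P : Subgroup G).subtype with hZ
  refine mem_centralizer_of_small_filtration Q (P.2.to_le hQP) hx hco Z (n := n) ?_ ?_ ?_ ?_
  · simp [hZ]
  · rintro i q hq _ ⟨z, hz, rfl⟩
    exact ⟨⟨q, hQP hq⟩ * z * ⟨q, hQP hq⟩⁻¹,
      (inferInstance : (Subgroup.upperCentralSeries (P : Subgroup G) i).Normal).conj_mem z hz _, rfl⟩
  · rintro i a ha hs ⟨w, hw, rfl⟩
    obtain ⟨y, hy, hya⟩ := h _ w.2 hs x (hQP ((mem_normalizer_iff.mp hx _).mp ha))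
    have h1 : x * (P : Subgroup G).subtype w * x⁻¹ = y * (P : Subgroup G).subtype w * y⁻¹ := hya
    rw [h1]
    refine ⟨⟨⟨y, hy⟩ * w * ⟨y, hy⟩⁻¹,
      (inferInstance : (Subgroup.upperCentralSeries (P : Subgroup G) (i + 1)).Normal).conj_mem w hw _, rfl⟩, ?_⟩
    refine ⟨w⁻¹ * (⟨y, hy⟩ * w * ⟨y, hy⟩⁻¹), ?_, rfl⟩
    have h2 := Subgroup.mem_upperCentralSeries_succ_iff.mp (inv_mem hw) ⟨y, hy⟩
    simpa [mul_assoc, commutatorElement_def] using h2
  · intro a ha _
    exact ⟨⟨a, hQP ha⟩, by rw [hn]; trivial, rfl⟩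

end Cfsg.Lib.Sig
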