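import Cfsg.Prelude.Def_Local
import Cfsg.Agent.Lib.Core.Basic
import Cfsg.Agent.Lib.Core.Smul

/-!
# Two conjugates of a tightly embedded subgroup
-/

set_option autoImplicit false
open Subgroup
open scoped commutatorElement

namespace Cfsg.Lib.Sig.TightPair

variable {G : Type*} [Group G] [Finite G]

theorem eq_bot_of_odd {X Y : Subgroup G} (hX : IsPGroup 2 X) (hXY : X ≤ Y) (hY : Odd (Nat.card Y)) : X = ⊥ := by
  haveI : Fact (Nat.Prime 2) := ⟨Nat.prime_two⟩
  obtain ⟨n, hn⟩ := hX.exists_card_eq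
  rcases Nat.eq_zero_or_pos n with h | h
  · rw [h, pow_zero] at hn; exact eq_bot_of_card_eq X hn
  · exfalso
    have h2 : 2 ∣ Nat.card Y := ((hn ▸ dvd_pow_self 2 h.ne' : 2 ∣ Nat.card X)).trans (card_dvd_of_le hXY)
    exact (Nat.not_even_iff_odd.mpr hY) (even_iff_two_dvd.mpr h2)

/-- Conjugates of a tightly embedded subgroup are tightly embedded. -/
theorem tight_map {Q : Subgroup G} (hQ : Cfsg.IsTightlyEmbedded Q) (g : G) :
    Cfsg.IsTightlyEmbedded (Q.map (MulAut.conj g).toMonoidHom) := by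
  refine ⟨?_, fun a ha => ?_⟩
  · rw [card_map_of_injective (MulAut.conj g).injective]; exact hQ.1
  · have hb : g⁻¹ * a * g ∉ normalizer (Q : Set G) := by
      intro hb
      refine ha (Cfsg.Lib.Core.mem_normalizer_iff_map_conj.mpr ?_)
      rw [← Cfsg.Lib.Core.map_conj_mul, show a * g = g * (g⁻¹ * a * g) by group, Cfsg.Lib.Core.map_conj_mul,
        Cfsg.Lib.Core.map_conj_eq_of_mem_normalizer hb]
    have h := hQ.2 _ hb
    rw [← card_map_of_injective (f := (MulAut.conj g).toMonoidHom) (MulAut.conj g).injective,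
      map_inf _ _ _ (MulAut.conj g).injective, ← Cfsg.Lib.Core.map_conj_mul] at h
    rw [← Cfsg.Lib.Core.map_conj_mul]
    rwa [show g * (g⁻¹ * a * g) = a * g by group] at h

/-- A nontrivial `2`-subgroup of `Q` and of a conjugate forces the conjugating element to normalise `Q`. -/
theorem mem_normalizer_of_le {Q X : Subgroup G} (hQ : Cfsg.IsTightlyEmbedded Q) (hX : IsPGroup 2 X) (hne : X ≠ ⊥)
    {a : G} (h1 : X ≤ Q) (h2 : X ≤ Q.map (MulAut.conj a).toMonoidHom) : a ∈ normalizer (Q : Set G) := by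
  by_contra ha
  exact hne (eq_bot_of_odd hX (le_inf h1 h2) (hQ.2 a ha))

theorem key {Q : Subgroup G} (hQ : Cfsg.IsTightlyEmbedded Q) {g : G} (hg : g ∉ normalizer (Q : Set G))
    {T : Subgroup G} (hT1 : T ≠ ⊥) (hTQ : T ≤ Q.map (MulAut.conj g).toMonoidHom)
    (hTN : T ≤ normalizer (Q : Set G)) (hT2 : IsPGroup 2 T) {S : Subgroup G} (hTS : T ≤ S) (hS : S ≤ Q ⊔ T)
    (hS2 : IsPGroup 2 S) (hSidx : ¬ 2 ∣ S.relIndex (Q ⊔ T)) :
    T ⊓ Q = ⊥ ∧ ⁅T, S ⊓ normalizer (T : Set G) ⊓ Q⁆ = ⊥ ∧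
      T ⊔ (S ⊓ normalizer (T : Set G) ⊓ Q) = S ⊓ normalizer (T : Set G) ∧
      S ⊓ normalizer (T : Set G) ⊓ Q ≤ normalizer ((Q.map (MulAut.conj g).toMonoidHom : Subgroup G) : Set G) ∧
      Nat.card T ≤ Nat.card ↥(S ⊓ normalizer (T : Set G) ⊓ Q) ∧
      (Nat.card T = Nat.card ↥(S ⊓ normalizer (T : Set G) ⊓ Q) →
        Nonempty (↥(S ⊓ normalizer (T : Set G) ⊓ Q) ≃* T)) := by
  classical
  haveI : Fact (Nat.Prime 2) := ⟨Nat.prime_two⟩
  set Q' := Q.map (MulAut.conj g).toMonoidHom with hQ'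
  set N := S ⊓ normalizer (T : Set G) with hN
  set R := N ⊓ Q with hR
  have hdisj : T ⊓ Q = ⊥ := eq_bot_of_odd (hT2.to_le inf_le_left)
    (le_inf inf_le_right (inf_le_left.trans hTQ)) (hQ.2 g hg)
  have hcomm : ∀ t ∈ T, ∀ r ∈ R, t * r = r * t := by
    intro t ht r hr
    have h1 : t * r * t⁻¹ * r⁻¹ ∈ T ⊓ Q :=
      ⟨by rw [mul_assoc t r, mul_assoc]; exact T.mul_mem ht
            ((mem_normalizer_iff.mp hr.1.2 _).mp (T.inv_mem ht)),
        Q.mul_mem ((mem_normalizer_iff.mp (hTN ht) r).mp hr.2) (Q.inv_mem hr.2)⟩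
    rw [hdisj, mem_bot] at h1
    calc t * r = (t * r * t⁻¹ * r⁻¹) * r * t := by group
      _ = r * t := by rw [h1, one_mul]
  have hsplit : ∀ s ∈ N, ∃ t ∈ T, ∃ r ∈ R, s = t * r := by
    intro s hs
    obtain ⟨t, ht, q, hq, rfl⟩ := (Cfsg.Lib.Core.mem_sup_of_le_normalizer hTN).mp
      (sup_comm Q T ▸ hS hs.1)
    refine ⟨t, ht, q, ⟨?_, hq⟩, rfl⟩
    have h2 := N.mul_mem (N.inv_mem (⟨hTS ht, le_normalizer ht⟩ : t ∈ N)) hs
    simpa using h2
  have hRN : R ≤ normalizer (Q' : Set G) := by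
    intro r hr
    refine mem_normalizer_of_le (tight_map hQ g) hT2 hT1 hTQ fun t ht => ?_
    rw [Cfsg.Lib.Core.mem_map_conj]
    rw [mul_assoc, hcomm t ht r hr, inv_mul_cancel_left]
    exact hTQ ht
  refine ⟨hdisj, ?_, le_antisymm (sup_le (le_inf hTS le_normalizer) inf_le_left) fun s hs => ?_, hRN, ?_⟩
  · rw [Cfsg.Lib.Core.commutator_eq_bot_iff_forall]
    exact hcomm
  · obtain ⟨t, ht, r, hr, rfl⟩ := hsplit s hs
    exact mul_mem_sup ht hr
  by_cases hNS : S ≤ normalizer (T : Set G)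
  · -- `R` is a Sylow `2`-subgroup of `Q`
    have hNeq : N = S := inf_eq_left.mpr hNS
    have hodd : ∃ j : ℕ, ¬ 2 ∣ j ∧ Nat.card Q = Nat.card R * j := by
      set X := Q ⊔ T with hX
      haveI : (Q.subgroupOf X).Normal := normal_subgroupOf_of_le_normalizer
        (sup_le le_normalizer hTN)
      set Qx := Q.subgroupOf X with hQx
      set Sx := S.subgroupOf X with hSx
      have hsup : Sx ⊔ Qx = ⊤ := by
        rw [hSx, hQx, ← subgroupOf_sup hS le_sup_left, subgroupOf_eq_top]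
        exact sup_le le_sup_right (hTS.trans le_sup_left)
      have h1 : Qx.relIndex Sx = Qx.index := by
        rw [← relIndex_sup_right Sx Qx, hsup, relIndex_top_right]
      have h2 : Nat.card ↥(Qx ⊓ Sx) * Qx.index = Nat.card Sx := by
        rw [← h1, ← inf_relIndex_right]
        exact Cfsg.Lib.Core.card_mul_relIndex inf_le_right
      have h3 : Nat.card ↥(Qx ⊓ Sx) = Nat.card R := by
        rw [hQx, hSx, subgroupOf, subgroupOf, ← comap_inf, ← subgroupOf, Nat.card_congr (subgroupOfEquivOfLe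
          (inf_le_left.trans le_sup_left : Q ⊓ S ≤ X)).toEquiv, hR, hNeq, inf_comm]
      have h4 : Nat.card Qx = Nat.card Q := Nat.card_congr (subgroupOfEquivOfLe (le_sup_left : Q ≤ X)).toEquiv
      refine ⟨Sx.index, hSidx, ?_⟩
      have h5 : Nat.card Qx * Qx.index = Nat.card Sx * Sx.index := by rw [card_mul_index, card_mul_index]
      rw [h4, ← h2, h3, mul_assoc, mul_comm Qx.index, ← mul_assoc] at h5
      exact Nat.eq_of_mul_eq_mul_right (Nat.pos_of_ne_zero index_ne_zero_of_finite) h5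
    obtain ⟨j, hj, hcard⟩ := hodd
    set T₀ := T.map (MulAut.conj g⁻¹).toMonoidHom with hT₀
    have hT₀Q : T₀ ≤ Q := by
      rintro _ ⟨t, ht, rfl⟩
      have := hTQ ht
      rw [hQ', Cfsg.Lib.Core.mem_map_conj] at this
      simpa using this
    have hT₀c : Nat.card T₀ = Nat.card T := card_map_of_injective (MulAut.conj g⁻¹).injective
    have hR2 : IsPGroup 2 R := hS2.to_le (inf_le_left.trans inf_le_left)
    refine ⟨?_, fun heq => ?_⟩
    · refine Nat.le_of_dvd Nat.card_pos ?_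
      obtain ⟨n, hn⟩ := hT2.exists_card_eq
      have hd : 2 ^ n ∣ Nat.card R * j := hcard ▸ hn ▸ hT₀c ▸ card_dvd_of_le hT₀Q
      rw [hn]
      exact ((Nat.prime_two.coprime_iff_not_dvd.mpr hj).pow_left n).dvd_of_dvd_mul_right hd
    · have hidx : ∀ A : Subgroup G, A ≤ Q → Nat.card A = Nat.card R → ¬ 2 ∣ (A.subgroupOf Q).index := by
        intro A hA hc
        have h := card_mul_index (A.subgroupOf Q)
        rw [Nat.card_congr (subgroupOfEquivOfLe hA).toEquiv, hc, hcard] at h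
        rw [Nat.eq_of_mul_eq_mul_left Nat.card_pos h]
        exact hj
      let P₁ : Sylow 2 Q := (hR2.comap_subtype (H := R) (K := Q)).toSylow (hidx R inf_le_right rfl)
      let P₂ : Sylow 2 Q := ((hT2.map (MulAut.conj g⁻¹).toMonoidHom).comap_subtype (K := Q)).toSylow
        (hidx T₀ hT₀Q (hT₀c.trans heq))
      exact ⟨(subgroupOfEquivOfLe inf_le_right).symm.trans ((P₁.equiv P₂).trans
        ((subgroupOfEquivOfLe hT₀Q).trans
          (T.equivMapOfInjective _ (MulAut.conj g⁻¹).injective).symm))⟩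
  · -- an element of `S` normalising `N` but not `T`
    obtain ⟨y, hyS, hyN, hyT⟩ : ∃ y ∈ S, y ∈ normalizer (N : Set G) ∧ y ∉ normalizer (T : Set G) := by
      haveI := hS2.isNilpotent
      have hlt : N.subgroupOf S < ⊤ := by
        rw [lt_top_iff_ne_top, Ne, subgroupOf_eq_top]
        exact fun h => hNS (h.trans inf_le_right)
      obtain ⟨y, hy, hyn⟩ := SetLike.exists_of_lt (normalizerCondition_of_isNilpotent (N.subgroupOf S) hlt)
      refine ⟨y, y.2, ?_, fun h => hyn (mem_subgroupOf.mpr ⟨y.2, h⟩)⟩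
      refine mem_normalizer_fintype fun n hn => ?_
      have h1 := (mem_normalizer_iff.mp hy ⟨n, hn.1⟩).mp (mem_subgroupOf.mpr hn)
      exact mem_subgroupOf.mp h1
    have hyQ : y ∈ normalizer (Q : Set G) := (hS.trans (sup_le le_normalizer hTN)) hyS
    have hQ'N : ∀ m ∈ N, m ∈ Q' → m ∈ T := by
      intro m hm hm'
      obtain ⟨t, ht, r, hr, rfl⟩ := hsplit m hm
      have hr' : r ∈ Q' := (Q'.mul_mem_cancel_left (hTQ ht)).mp hm'
      have hr1 : R ⊓ Q' = ⊥ := eq_bot_of_odd (hS2.to_le (inf_le_left.trans (inf_le_left.trans inf_le_left)))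
        (le_inf (inf_le_left.trans inf_le_right) inf_le_right) (hQ.2 g hg)
      have : r = 1 := mem_bot.mp (hr1 ▸ ⟨hr, hr'⟩)
      rw [this, mul_one]; exact ht
    have hmemN : ∀ t ∈ T, y * t * y⁻¹ ∈ N := fun t ht =>
      (mem_normalizer_iff.mp hyN t).mp ⟨hTS ht, le_normalizer ht⟩
    have huniq : ∀ t t' r r' : G, t ∈ T → t' ∈ T → r ∈ R → r' ∈ R → t * r = t' * r' → r = r' := by
      intro t t' r r' ht ht' hr hr' h
      have e : t'⁻¹ * t = r' * r⁻¹ := by
        calc t'⁻¹ * t = t'⁻¹ * (t * r) * r⁻¹ := by group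
          _ = r' * r⁻¹ := by rw [h]; group
      have : t'⁻¹ * t ∈ T ⊓ Q := ⟨T.mul_mem (T.inv_mem ht') ht, e ▸ Q.mul_mem hr'.2 (Q.inv_mem hr.2)⟩
      rw [hdisj, mem_bot, e] at this
      exact (mul_inv_eq_one.mp this).symm
    have hdec : ∀ t : T, ∃ r : R, ∃ t' ∈ T, y * t * y⁻¹ = t' * r := fun t => by
      obtain ⟨t', ht', r, hr, h⟩ := hsplit _ (hmemN t t.2)
      exact ⟨⟨r, hr⟩, t', ht', h⟩
    choose φ t' ht' hφ using hdec
    let f : T →* R := MonoidHom.mk' φ fun a b => Subtype.ext (by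
      refine huniq (t' (a * b)) (t' a * t' b) _ _ (ht' _) (T.mul_mem (ht' a) (ht' b)) (φ _).2
        (R.mul_mem (φ a).2 (φ b).2) ?_
      rw [← hφ, Subgroup.coe_mul]
      calc y * ((a : G) * b) * y⁻¹ = (y * a * y⁻¹) * (y * b * y⁻¹) := by group
        _ = t' a * (φ a : G) * (t' b * (φ b : G)) := by rw [hφ, hφ]
        _ = t' a * ((φ a : G) * t' b) * (φ b : G) := by group
        _ = t' a * t' b * ((φ a : G) * (φ b : G)) := by
          rw [← hcomm _ (ht' b) _ (φ a).2]; group)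
    have hinj : Function.Injective f := by
      rw [injective_iff_map_eq_one]
      intro a ha
      by_contra hne
      have h1 : y * (a : G) * y⁻¹ ∈ T := by
        have ha' : (φ a : G) = 1 := congrArg Subtype.val ha
        rw [hφ, ha', mul_one]; exact ht' a
      have hyQ' : y ∈ normalizer (Q' : Set G) := by
        refine mem_normalizer_of_le (tight_map hQ g) (X := zpowers (y * (a : G) * y⁻¹))
          (hT2.to_le (zpowers_le.mpr h1)) (fun h => hne ?_) ((zpowers_le.mpr h1).trans hTQ) (zpowers_le.mpr ?_)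
        · rw [zpowers_eq_bot, conj_eq_one_iff] at h
          exact Subtype.ext h
        · exact ⟨a, hTQ a.2, rfl⟩
      refine hyT (mem_normalizer_fintype fun t ht => ?_)
      exact hQ'N _ (hmemN t ht) ((mem_normalizer_iff.mp hyQ' t).mp (hTQ ht))
    exact ⟨Nat.card_le_card_of_injective f hinj, fun heq =>
      ⟨(MulEquiv.ofBijective f ((Nat.bijective_iff_injective_and_card f).mpr ⟨hinj, heq⟩)).symm⟩⟩

theorem card_le {Q : Subgroup G} (hQ : Cfsg.IsTightlyEmbedded Q) {g : G} (hg : g ∉ normalizer (Q : Set G))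
    {T : Subgroup G} (hT2 : IsPGroup 2 T)
    (hTidx : ¬ 2 ∣ T.relIndex (Q.map (MulAut.conj g).toMonoidHom ⊓ normalizer (Q : Set G)))
    (hT : T ≤ Q.map (MulAut.conj g).toMonoidHom ⊓ normalizer (Q : Set G))
    {R : Subgroup G} (hR2 : IsPGroup 2 R) (hR1 : R ≠ ⊥) (hRQ : R ≤ Q)
    (hRN : R ≤ normalizer ((Q.map (MulAut.conj g).toMonoidHom : Subgroup G) : Set G)) :
    Nat.card R ≤ Nat.card T := by
  haveI : Fact (Nat.Prime 2) := ⟨Nat.prime_two⟩
  set Q' := Q.map (MulAut.conj g).toMonoidHom with hQ'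
  have hback : Q'.map (MulAut.conj g⁻¹).toMonoidHom = Q := by
    rw [hQ', ← Cfsg.Lib.Core.map_conj_mul, inv_mul_cancel]
    ext x; simp [Cfsg.Lib.Core.mem_map_conj]
  have hg' : g⁻¹ ∉ normalizer (Q' : Set G) := by
    intro h
    have h1 := Cfsg.Lib.Core.map_conj_eq_of_mem_normalizer h
    rw [hback] at h1
    exact hg (Cfsg.Lib.Core.mem_normalizer_iff_map_conj.mpr h1.symm)
  -- a Sylow `2`-subgroup of `Q' ⊔ R` containing `R`
  obtain ⟨P, hP⟩ := (hR2.comap_subtype (K := Q' ⊔ R)).exists_le_sylow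
  set S := (P : Subgroup ↥(Q' ⊔ R)).map (Q' ⊔ R).subtype with hSdef
  have hRS : R ≤ S := fun r hr => ⟨⟨r, mem_sup_right hr⟩, hP (mem_subgroupOf.mpr hr), rfl⟩
  have hSidx : ¬ 2 ∣ S.relIndex (Q' ⊔ R) := by
    rw [hSdef, relIndex, subgroupOf, comap_map_eq_self_of_injective (Q' ⊔ R).subtype_injective]
    exact P.not_dvd_index
  obtain ⟨-, -, -, hN, hle, -⟩ := key (tight_map hQ g) hg' hR1 (hback.symm ▸ hRQ) hRN hR2 hRS
    (map_subtype_le _) (P.2.map _) hSidx
  rw [hback] at hN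
  refine hle.trans (Nat.le_of_dvd Nat.card_pos ?_)
  set R' := S ⊓ normalizer (R : Set G) ⊓ Q' with hR'
  have h1 : Nat.card R' ∣ Nat.card ↥(Q' ⊓ normalizer (Q : Set G)) := card_dvd_of_le (le_inf inf_le_right hN)
  rw [← Cfsg.Lib.Core.card_mul_relIndex hT] at h1
  obtain ⟨n, hn⟩ := ((P.2.map (Q' ⊔ R).subtype).to_le
    (inf_le_left.trans inf_le_left : R' ≤ S)).exists_card_eq
  rw [hn] at h1 ⊢
  exact ((Nat.prime_two.coprime_iff_not_dvd.mpr hTidx).pow_left n).dvd_of_dvd_mul_right h1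

end Cfsg.Lib.Sig.TightPair
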