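import Cfsg.Agent.Lib.Sig.CentralPair
import Cfsg.Agent.Lib.Sig.SmallDegreeGroup
import Cfsg.Prelude.Def_Amalgam

/-!
Conjugacy functors containing the centre control weak closure of central elements when Sylow
subgroups contain elements acting with small degree on the centre of `O_p`.
-/

set_option autoImplicit false
set_option linter.style.haveILetI false

namespace Cfsg.Lib.Sig

open Subgroup
open scoped commutatorElement

universe u

variable {p : ℕ} [Fact p.Prime]

/-- The functor induced on a subgroup by a functor on the ambient group. -/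
def restrictFunctor {G : Type u} [Group G] (H : Subgroup G) (W : Subgroup G → Subgroup G) :
    Subgroup ↥H → Subgroup ↥H := fun P => (W (P.map H.subtype)).comap H.subtype

theorem map_restrictFunctor {G : Type u} [Group G] [Finite G] {H : Subgroup G}
    {W : Subgroup G → Subgroup G} (hW : Cfsg.IsConjugacyFunctor p W) {P : Subgroup ↥H}
    (hP : IsPGroup p ↥P) : (restrictFunctor H W P).map H.subtype = W (P.map H.subtype) := by
  refine map_comap_eq_self ?_
  rw [range_subtype]
  exact (hW _ (hP.map _)).1.trans (map_subtype_le P)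

theorem isConjugacyFunctor_restrict {G : Type u} [Group G] [Finite G] (H : Subgroup G)
    {W : Subgroup G → Subgroup G} (hW : Cfsg.IsConjugacyFunctor p W) :
    Cfsg.IsConjugacyFunctor p (restrictFunctor H W) := by
  intro P hP
  refine ⟨?_, fun hne h => ?_, fun g => Subgroup.map_injective H.subtype_injective ?_⟩
  · rw [← map_le_map_iff_of_injective H.subtype_injective, map_restrictFunctor hW hP]
    exact (hW _ (hP.map _)).1
  · refine (hW _ (hP.map H.subtype)).2.1 (fun e => hne ?_) ?_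
    · exact (Subgroup.map_eq_bot_iff_of_injective _ H.subtype_injective).1 e
    · rw [← map_restrictFunctor hW hP, h, Subgroup.map_bot]
  · have e : ∀ X : Subgroup ↥H, (X.map (MulAut.conj g).toMonoidHom).map H.subtype =
        (X.map H.subtype).map (MulAut.conj (g : G)).toMonoidHom := fun X => by
      rw [Subgroup.map_map, Subgroup.map_map]; rfl
    rw [map_restrictFunctor hW (hP.map _), e, e, map_restrictFunctor hW hP]
    exact (hW _ (hP.map H.subtype)).2.2 g

theorem center_le_restrictFunctor {G : Type u} [Group G] [Finite G] (H : Subgroup G)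
    {W : Subgroup G → Subgroup G}
    (hWZ : ∀ P : Subgroup G, IsPGroup p ↥P → P ⊓ centralizer (P : Set G) ≤ W P) :
    ∀ P : Subgroup ↥H, IsPGroup p ↥P → P ⊓ centralizer (P : Set ↥H) ≤ restrictFunctor H W P := by
  intro P hP x hx
  refine hWZ _ (hP.map H.subtype) (mem_inf.2 ⟨mem_map_of_mem _ hx.1, mem_centralizer_iff.2 ?_⟩)
  rintro _ ⟨y, hy, rfl⟩
  exact congrArg Subtype.val (mem_centralizer_iff.1 hx.2 y hy)

/-! ### From normalizers of subgroups to the group -/

theorem mem_normalizer_set_iff {G : Type*} [Group G] {A : Set G} {g : G} :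
    g ∈ normalizer A ↔ ∀ a, a ∈ A ↔ g * a * g⁻¹ ∈ A := Iff.rfl

theorem image_conj_eq_of_mem_normalizer {G : Type*} [Group G] {A : Set G} {g : G}
    (hg : g ∈ normalizer A) : (fun a => g * a * g⁻¹) '' A = A := by
  ext b
  refine ⟨?_, fun hb => ⟨g⁻¹ * b * g, ?_, by group⟩⟩
  · rintro ⟨a, ha, rfl⟩; exact (mem_normalizer_set_iff.1 hg a).1 ha
  · refine (mem_normalizer_set_iff.1 hg _).2 ?_
    convert hb using 1
    group

theorem mem_normalizer_of_image_eq {G : Type*} [Group G] {A : Set G} {g : G}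
    (h : (fun a => g * a * g⁻¹) '' A = A) : g ∈ normalizer A := by
  refine mem_normalizer_set_iff.2 fun a => ⟨fun ha => h ▸ ⟨a, ha, rfl⟩, fun ha => ?_⟩
  obtain ⟨b, hb, e⟩ := h.symm ▸ ha
  have : b = a := by simpa using e
  exact this ▸ hb

/-- A set of central elements of `S` is weakly closed in `S` if it is stable under the normalizers
of the subgroups of `S` containing `Z(S)`, given stability under the normalizers of `W`. -/
theorem weaklyClosed_set_of_local {G : Type u} [Group G] [Finite G] (S : Sylow p G)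
    (W : Subgroup G → Subgroup G) (hW : Cfsg.IsConjugacyFunctor p W)
    (hWZ : ∀ P : Subgroup G, IsPGroup p ↥P → P ⊓ centralizer (P : Set G) ≤ W P) (A : Set G)
    (hA : A ⊆ (((S : Subgroup G) ⊓ centralizer ((S : Subgroup G) : Set G) : Subgroup G) : Set G))
    (hAN : normalizer (W (S : Subgroup G) : Set G) ≤ normalizer A)
    (hstep : ∀ V ∈ sylowNormalized S,
      (S : Subgroup G) ⊓ centralizer ((S : Subgroup G) : Set G) ≤ V →
      normalizer (W ((S : Subgroup G) ⊓ normalizer (V : Set G)) : Set G) ≤ normalizer A →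
      normalizer (V : Set G) ≤ normalizer A) :
    ∀ g : G, (fun a => g * a * g⁻¹) '' A ⊆ ((S : Subgroup G) : Set G) →
      (fun a => g * a * g⁻¹) '' A = A := by
  intro g hg
  let Rel : Set G → G → Prop := fun B h => A ⊆ B → h ∈ normalizer A
  let Loc : Subgroup G → Prop := fun V => CentIn p (S : Subgroup G) V → A ⊆ (V : Set G) →
    normalizer (V : Set G) ≤ normalizer A
  have hAS : A ⊆ ((S : Subgroup G) : Set G) := fun a ha => (mem_inf.1 (hA ha)).1
  have key : ∀ T : Subgroup G, T ≤ (S : Subgroup G) → ∀ h : G,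
      T.map (MulAut.conj h).toMonoidHom ≤ (S : Subgroup G) → Rel (T : Set G) h := by
    refine rel_of_local S {W} (by rintro _ rfl; exact hW) (sylowNormalized S) (fun U hU => hU)
      (fun T hT => exists_conj_sylowNormalized S hT) Rel Loc
      (fun hBC hC hAB => hC (hAB.trans hBC)) ?_ (fun h hAb => ?_) ?_ ?_ ?_
    · intro B x y hx hy hAB
      have hx' := hx hAB
      refine mul_mem (hy ?_) hx'
      rw [← image_conj_eq_of_mem_normalizer hx']
      exact Set.image_mono hAB
    · refine mem_normalizer_set_iff.2 fun a => ?_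
      have h1 : ∀ b ∈ A, b = 1 := fun b hb => mem_bot.1 (hAb hb)
      constructor
      · intro ha
        have h2 := h1 a ha
        subst h2
        simpa using ha
      · intro ha
        have h2 : a = 1 := by simpa using h1 _ ha
        subst h2
        simpa using ha
    · intro U hUt hU hU' hIH m hm hAU
      by_cases hc : CentIn p (S : Subgroup G) U
      · exact hU' hc hAU hm
      · obtain ⟨U', hUU', hU'S, hlt, m', hm', e⟩ := exists_larger_of_not_centIn S hU hUt.2 hc hm
        refine mem_normalizer_of_image_eq ?_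
        have h' := hIH U' hU'S hlt m' hm' (hAU.trans hUU')
        conv_rhs => rw [← image_conj_eq_of_mem_normalizer h']
        exact Set.image_congr fun a ha => (e a (hAU ha)).symm
    · intro V V' a hV hVV' ha hr _ hV' hc hAV x hx
      have haA := hr (fun b hb => mem_inf.2 ⟨hV (hAV hb), le_normalizer (hAV hb)⟩)
      have hAV' : A ⊆ (V' : Set G) := by
        rw [← image_conj_eq_of_mem_normalizer haA, ← hVV']
        rintro _ ⟨b, hb, rfl⟩
        exact conj_mem_map_conj (hAV hb)
      have hx' : a * x * a⁻¹ ∈ normalizer A := hV' (centIn_map hVV' ha hc) hAV' (by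
        rw [← hVV', ← map_conj_normalizer]; exact conj_mem_map_conj hx)
      have := mul_mem (mul_mem (inv_mem haA) hx') haA
      simpa [mul_assoc] using this
    · intro V hV hne hP hc hAV
      refine hstep V hV (center_le_of_centIn S.2 hc) ?_
      rcases hP with hP | hP
      · rw [hP]; exact hAN
      · refine hP W rfl (centIn_functor S W hW hWZ hV) fun a ha => ?_
        exact hWZ _ (S.2.to_le inf_le_left) (mem_inf.2 ⟨mem_inf.2 ⟨hAS ha, le_normalizer (hAV ha)⟩,
          centralizer_le inf_le_left (mem_inf.1 (hA ha)).2⟩)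
  refine image_conj_eq_of_mem_normalizer (key (closure A) ((closure_le _).2 hAS) g ?_ subset_closure)
  rw [MonoidHom.map_closure, closure_le]
  rintro _ ⟨a, ha, rfl⟩
  exact hg ⟨a, ha, rfl⟩

/-- The induction over subgroups. -/
theorem weaklyClosed_induction (Hyp : ∀ (Y : Type u) [Group Y], (Subgroup Y → Subgroup Y) → Prop)
    (hHyp : ∀ (Y : Type u) [Group Y] [Finite Y] (W : Subgroup Y → Subgroup Y) (H : Subgroup Y),
      Cfsg.IsConjugacyFunctor p W → Hyp Y W → Hyp ↥H (restrictFunctor H W))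
    (Adm : ∀ (Y : Type u) [Group Y], Sylow p Y → Set Y → Prop)
    (hAdm : ∀ (Y : Type u) [Group Y] [Finite Y] (S : Sylow p Y) (A : Set Y) (H : Subgroup Y)
      (P : Sylow p ↥H), Adm Y S A →
      (P : Subgroup ↥H).map H.subtype ≤ (S : Subgroup Y) →
      (S : Subgroup Y) ⊓ centralizer ((S : Subgroup Y) : Set Y) ≤ (P : Subgroup ↥H).map H.subtype →
      Adm ↥H P (H.subtype ⁻¹' A))
    (hfinal : ∀ (Y : Type u) [Group Y] [Finite Y] (W : Subgroup Y → Subgroup Y),
      Cfsg.IsConjugacyFunctor p W → Hyp Y W → ∀ (S : Sylow p Y) (A : Set Y), Adm Y S A →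
      A ⊆ (((S : Subgroup Y) ⊓ centralizer ((S : Subgroup Y) : Set Y) : Subgroup Y) : Set Y) →
      (S : Subgroup Y) ⊓ centralizer ((S : Subgroup Y) : Set Y) ≤ Cfsg.pCore p Y →
      normalizer (W (S : Subgroup Y) : Set Y) ≤ normalizer A →
      (∀ L : Subgroup Y, L ≠ ⊤ → (S : Subgroup Y) ≤ L → L ≤ normalizer A) →
      normalizer A = ⊤) :
    ∀ (n : ℕ) (Y : Type u) [Group Y] [Finite Y], Nat.card Y ≤ n →
      ∀ W : Subgroup Y → Subgroup Y, Cfsg.IsConjugacyFunctor p W →
      (∀ P : Subgroup Y, IsPGroup p ↥P → P ⊓ centralizer (P : Set Y) ≤ W P) → Hyp Y W →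
      ∀ (S : Sylow p Y) (A : Set Y), Adm Y S A →
      A ⊆ (((S : Subgroup Y) ⊓ centralizer ((S : Subgroup Y) : Set Y) : Subgroup Y) : Set Y) →
      normalizer (W (S : Subgroup Y) : Set Y) ≤ normalizer A →
      ∀ g : Y, (fun a => g * a * g⁻¹) '' A ⊆ ((S : Subgroup Y) : Set Y) →
        (fun a => g * a * g⁻¹) '' A = A := by
  intro n
  induction n with
  | zero => intro Y _ _ h; have : 0 < Nat.card Y := Nat.card_pos; omega
  | succ n ih =>
    intro Y _ _ hn W hW hWZ hY S A hAdmA hA hAN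
    -- the proper subgroups
    have hproper : ∀ (H : Subgroup Y), H ≠ ⊤ → ∀ P : Subgroup Y, P ≤ H → P ≤ (S : Subgroup Y) →
        ¬ p ∣ P.relIndex H → (S : Subgroup Y) ⊓ centralizer ((S : Subgroup Y) : Set Y) ≤ P →
        H ⊓ normalizer (W P : Set Y) ≤ normalizer A →
        ∀ h ∈ H, (fun a => h * a * h⁻¹) '' A ⊆ (P : Set Y) → h ∈ normalizer A := by
      intro H hH P hPH hPS hidx hZP hN h hh himg
      have hlt : Nat.card ↥H < Nat.card ↥(⊤ : Subgroup Y) := Fusion.card_lt_card_of_lt hH.lt_top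
      rw [card_top] at hlt
      have hP : IsPGroup p ↥P := S.2.to_le hPS
      let T : Sylow p ↥H := (hP.of_equiv (subgroupOfEquivOfLe hPH).symm).toSylow hidx
      have hTmap : (T : Subgroup ↥H).map H.subtype = P := map_subgroupOf_eq_of_le hPH
      have hAP : A ⊆ (P : Set Y) := fun a ha => hZP (hA ha)
      have hpre : ∀ y : ↥H, y ∈ H.subtype ⁻¹' A ↔ (y : Y) ∈ A := fun _ => Iff.rfl
      have key := ih ↥H (by omega) (restrictFunctor H W) (isConjugacyFunctor_restrict H hW)
        (center_le_restrictFunctor H hWZ) (hHyp Y W H hW hY) T (H.subtype ⁻¹' A)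
        (hAdm Y S A H T hAdmA (hTmap.trans_le hPS) (hZP.trans hTmap.ge)) ?_ ?_ ⟨h, hh⟩ ?_
      · refine mem_normalizer_of_image_eq ?_
        ext b
        constructor
        · rintro ⟨a, ha, rfl⟩
          have : (⟨h, hh⟩ : ↥H) * ⟨a, hPH (hAP ha)⟩ * (⟨h, hh⟩ : ↥H)⁻¹ ∈ H.subtype ⁻¹' A :=
            key.le ⟨⟨a, hPH (hAP ha)⟩, ha, rfl⟩
          exact this
        · intro hb
          obtain ⟨a, ha, e⟩ := key.ge (show (⟨b, hPH (hAP hb)⟩ : ↥H) ∈ H.subtype ⁻¹' A from hb)
          exact ⟨a, ha, congrArg Subtype.val e⟩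
      · intro a ha
        refine mem_inf.2 ⟨mem_subgroupOf.2 (hAP ha), mem_centralizer_iff.2 fun b hb => Subtype.ext ?_⟩
        exact mem_centralizer_iff.1 (mem_inf.1 (hA ha)).2 b (hPS (mem_subgroupOf.1 hb))
      · intro y hy
        have hy' : (y : Y) ∈ normalizer A := hN (mem_inf.2 ⟨y.2, by
          rw [← hTmap, ← map_restrictFunctor hW T.2]
          exact mem_normalizer_map_subgroup H.subtype hy⟩)
        exact mem_normalizer_set_iff.2 fun a => mem_normalizer_set_iff.1 hy' a
      · rintro _ ⟨a, ha, rfl⟩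
        exact mem_subgroupOf.2 (himg ⟨a, ha, rfl⟩)
    refine weaklyClosed_set_of_local S W hW hWZ A hA hAN fun V hV hZV hWN => ?_
    by_cases hVtop : normalizer (V : Set Y) = ⊤
    swap
    · intro h hh
      refine hproper _ hVtop _ inf_le_right inf_le_left hV.2
        (le_inf inf_le_left (hZV.trans le_normalizer)) (inf_le_right.trans hWN) h hh ?_
      rintro _ ⟨a, ha, rfl⟩
      have : h * a * h⁻¹ ∈ V := (mem_normalizer_iff.1 hh a).1 (hZV (hA ha))
      exact mem_inf.2 ⟨hV.1 this, le_normalizer this⟩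
    haveI : V.Normal := normalizer_eq_top_iff.1 hVtop
    have hVQ : V ≤ Cfsg.pCore p Y := Cfsg.Lib.Core.le_pCore' inferInstance (S.2.to_le hV.1)
    refine le_top.trans (hfinal Y W hW hY S A hAdmA hA (hZV.trans hVQ) hAN fun L hL hSL h hh => ?_).ge
    refine hproper L hL (S : Subgroup Y) hSL le_rfl
      (fun hd => S.not_dvd_index (hd.trans (relIndex_dvd_index_of_le hSL))) inf_le_left
      (inf_le_right.trans hAN) h hh ?_
    rintro _ ⟨a, ha, rfl⟩
    exact hV.1 (Subgroup.Normal.conj_mem inferInstance a (hZV (hA ha)) h)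

/-! ### The final steps -/

/-- A subgroup generated by a subset of a p-group is the whole group generated by a larger set if no
further element of that set normalizes it. -/
theorem exists_mem_normalizer_of_not_subset {G : Type*} [Group G] [Finite G] {D : Set G}
    (hD : IsPGroup p ↥(closure D)) (hconj : ∀ d ∈ D, ∀ e ∈ closure D, e * d * e⁻¹ ∈ D) {R : Subgroup G}
    (hR : R ≤ closure D) (hgen : R ≤ closure (D ∩ R)) (hne : ¬ D ⊆ (R : Set G)) :
    ∃ d ∈ D, d ∉ R ∧ d ∈ normalizer (R : Set G) := by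
  by_contra! hcon
  set J := closure D
  set N := J ⊓ normalizer (R : Set G) with hN
  by_cases hNJ : N = J
  · obtain ⟨d, hd, hdR⟩ := Set.not_subset.1 hne
    exact hcon d hd hdR (inf_eq_left.1 hNJ (subset_closure hd))
  · have hlt := Fusion.lt_inf_normalizer hD (lt_of_le_of_ne inf_le_left hNJ)
    obtain ⟨y, hy, hyN⟩ := SetLike.exists_of_lt hlt
    refine hyN (mem_inf.2 ⟨(mem_inf.1 hy).1, mem_normalizer_of_map_conj ?_⟩)
    refine eq_of_le_of_card_ge ((map_mono hgen).trans ?_) (card_map_conj _ _).ge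
    rw [MonoidHom.map_closure, closure_le]
    rintro _ ⟨e, ⟨heD, heR⟩, rfl⟩
    show y * e * y⁻¹ ∈ R
    by_contra hout
    have h1 : y * e * y⁻¹ ∈ D := hconj e heD y (mem_inf.1 hy).1
    have h2 : y * e * y⁻¹ ∈ N :=
      (mem_normalizer_iff.1 (mem_inf.1 hy).2 e).1 (mem_inf.2 ⟨hR heR, le_normalizer heR⟩)
    exact hcon _ h1 hout (mem_inf.1 h2).2

theorem conj_pow_eq_of_commutator {G : Type*} [Group G] {d z : G}
    (hc : Commute d (d * z * d⁻¹ * z⁻¹)) :
    ∀ n : ℕ, d ^ n * z * (d ^ n)⁻¹ = (d * z * d⁻¹ * z⁻¹) ^ n * z := by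
  intro n
  induction n with
  | zero => simp
  | succ n ih =>
    have h := (Commute.pow_right hc n).eq
    calc d ^ (n + 1) * z * (d ^ (n + 1))⁻¹ = d * (d ^ n * z * (d ^ n)⁻¹) * d⁻¹ := by
          rw [pow_succ' d n]; group
      _ = (d * (d * z * d⁻¹ * z⁻¹) ^ n) * (z * d⁻¹) := by rw [ih]; group
      _ = (d * z * d⁻¹ * z⁻¹) ^ n * (d * (z * d⁻¹)) := by rw [h]; group
      _ = _ := by rw [pow_succ]; group

/-- The quadratic final step. -/
theorem normalizer_eq_top_of_quadratic {Y : Type u} [Group Y] [Finite Y] (S : Sylow p Y) (A : Set Y)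
    (hroot : ∀ a ∈ A, ∃ z ∈ (S : Subgroup Y) ⊓ centralizer ((S : Subgroup Y) : Set Y), a = z ^ p)
    (hZQ : (S : Subgroup Y) ⊓ centralizer ((S : Subgroup Y) : Set Y) ≤ Cfsg.pCore p Y)
    (hLM : ∀ L : Subgroup Y, L ≠ ⊤ → (S : Subgroup Y) ≤ L → L ≤ normalizer A)
    (g : Y) (hg : g ∈ (S : Subgroup Y)) (hgQ : g ∉ Cfsg.pCore p Y)
    (hquad : ⁅⁅Cfsg.pCore p Y ⊓ centralizer (Cfsg.pCore p Y : Set Y), zpowers g⁆, zpowers g⁆ = ⊥) :
    normalizer A = ⊤ := by
  by_contra hcon
  set Q := Cfsg.pCore p Y with hQ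
  set V₀ := Q ⊓ centralizer (Q : Set Y) with hV₀
  set M := normalizer A with hM
  have hZV : (S : Subgroup Y) ⊓ centralizer ((S : Subgroup Y) : Set Y) ≤ V₀ :=
    le_inf hZQ (inf_le_right.trans (centralizer_le (Cfsg.Lib.Core.pCore_le_sylow S)))
  have hAS : A ⊆ ((S : Subgroup Y) : Set Y) := fun a ha => by
    obtain ⟨z, hz, rfl⟩ := hroot a ha
    exact pow_mem (mem_inf.1 hz).1 p
  have hSM : (S : Subgroup Y) ≤ M := fun s hs => by
    refine mem_normalizer_set_iff.2 fun a => ?_
    have hfix : ∀ b ∈ A, s * b * s⁻¹ = b := fun b hb => by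
      obtain ⟨z, hz, rfl⟩ := hroot b hb
      rw [mem_centralizer_iff.1 (pow_mem (mem_inf.1 hz).2 p) s hs, mul_inv_cancel_right]
    refine ⟨fun ha => (hfix a ha).symm ▸ ha, fun ha => ?_⟩
    have := hfix _ ha
    have e : s * a * s⁻¹ = a := by
      have h1 : s * (s * a * s⁻¹) = s * a := by
        conv_rhs => rw [← inv_mul_cancel_right (s * a) s, ← this]
        group
      exact mul_left_cancel h1
    rwa [e] at ha
  set D : Set Y := {d | d ∈ (S : Subgroup Y) ∧ ⁅⁅V₀, zpowers d⁆, zpowers d⁆ = ⊥} with hD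
  have hDpow : ∀ d ∈ D, ∀ k : ℕ, d ^ k ∈ D := fun d hd k => ⟨pow_mem hd.1 k, le_bot_iff.1
    (hd.2 ▸ commutator_mono (commutator_mono le_rfl (zpowers_le.2 (pow_mem (mem_zpowers d) k)))
      (zpowers_le.2 (pow_mem (mem_zpowers d) k)))⟩
  have hDconj : ∀ d ∈ D, ∀ y : Y, y * d * y⁻¹ ∈ (S : Subgroup Y) → y * d * y⁻¹ ∈ D := by
    refine fun d hd y hy => ⟨hy, ?_⟩
    have e := congrArg (Subgroup.map (MulAut.conj y).toMonoidHom) hd.2
    rwa [map_commutator, map_commutator, MonoidHom.map_zpowers, Subgroup.map_bot,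
      map_conj_eq_of_mem_normalizer (by rw [normalizer_eq_top_iff.2 (inferInstance : V₀.Normal)]; exact mem_top y)]
      at e
  set J := closure D with hJ
  have hJS : J ≤ (S : Subgroup Y) := (closure_le _).2 fun d hd => hd.1
  have hJp : IsPGroup p ↥J := S.2.to_le hJS
  have hDJ : ∀ d ∈ D, ∀ e ∈ J, e * d * e⁻¹ ∈ D := fun d hd e he =>
    hDconj d hd e (mul_mem (mul_mem (hJS he) hd.1) (inv_mem (hJS he)))
  -- every element of `D` centralizes every conjugate of `A`
  have hcl : ∀ h : Y, ∀ d ∈ D, ∀ a ∈ A, d * (h * a * h⁻¹) = h * a * h⁻¹ * d := by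
    intro h
    let E : ↥M → Set Y := fun m => {d | d ∈ D ∧ (h * m)⁻¹ * d * (h * m) ∈ (S : Subgroup Y)}
    obtain ⟨m, -, hmax⟩ := Set.exists_max_image (Set.univ : Set ↥M)
      (fun m => Nat.card ↥(closure (E m))) (Set.toFinite _) ⟨1, trivial⟩
    set k := h * (m : Y) with hk
    set R := closure (E m) with hR
    have hRJ : R ≤ J := closure_mono fun d hd => hd.1
    have hRS : R ≤ (S : Subgroup Y).map (MulAut.conj k).toMonoidHom :=
      (closure_le _).2 fun d hd => mem_map_conj_iff.2 hd.2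
    have hfix : ∀ r ∈ R, ∀ z ∈ (S : Subgroup Y) ⊓ centralizer ((S : Subgroup Y) : Set Y),
        r * (k * z * k⁻¹) = k * z * k⁻¹ * r := by
      intro r hr z hz
      have h1 := mem_centralizer_iff.1 (mem_inf.1 hz).2 _ (mem_map_conj_iff.1 (hRS hr))
      calc r * (k * z * k⁻¹) = k * (k⁻¹ * r * k * z) * k⁻¹ := by group
        _ = k * (z * (k⁻¹ * r * k)) * k⁻¹ := by rw [h1]
        _ = _ := by group
    have hrep : ∀ a ∈ A, ∃ z ∈ (S : Subgroup Y) ⊓ centralizer ((S : Subgroup Y) : Set Y),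
        h * a * h⁻¹ = (k * z * k⁻¹) ^ p := by
      intro a ha
      obtain ⟨z, hz, e⟩ := hroot _ ((mem_normalizer_set_iff.1 (inv_mem m.2) a).1 ha)
      refine ⟨z, hz, ?_⟩
      rw [conj_pow, ← e, hk]
      group
    by_cases hfull : D ⊆ (R : Set Y)
    · intro d hd a ha
      obtain ⟨z, hz, e⟩ := hrep a ha
      rw [e]
      exact ((show Commute d (k * z * k⁻¹) from hfix d (hfull hd) z hz).pow_right p).eq
    exfalso
    have hgen : R ≤ closure (D ∩ R) := closure_mono fun d hd => ⟨hd.1, subset_closure hd⟩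
    obtain ⟨d, hd, hdR, hdN⟩ := exists_mem_normalizer_of_not_subset hJp hDJ hRJ hgen hfull
    classical
    have hex : ∃ i : ℕ, d ^ p ^ i ∈ R := by
      obtain ⟨i, hi⟩ := hJp ⟨d, subset_closure hd⟩
      refine ⟨i, ?_⟩
      have := congrArg Subtype.val hi
      simp only [SubgroupClass.coe_pow, OneMemClass.coe_one] at this
      rw [this]; exact one_mem R
    set i := Nat.find hex with hi
    have hi0 : i ≠ 0 := fun e => hdR (by simpa [← hi, e] using Nat.find_spec hex)
    set e := d ^ p ^ (i - 1) with he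
    have heD : e ∈ D := hDpow d hd _
    have heR : e ∉ R := Nat.find_min hex (show i - 1 < i by omega)
    have hepR : e ^ p ∈ R := by
      have h1 := Nat.find_spec hex
      rwa [he, ← pow_mul, ← pow_succ, show i - 1 + 1 = i by omega]
    have hecomm : ∀ a ∈ A, e * (h * a * h⁻¹) = h * a * h⁻¹ * e := by
      intro a ha
      obtain ⟨z, hz, ea⟩ := hrep a ha
      set z' := k * z * k⁻¹ with hz'
      have hz'V : z' ∈ V₀ := Subgroup.Normal.conj_mem inferInstance z (hZV hz) k
      set c := e * z' * e⁻¹ * z'⁻¹ with hc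
      have hcin : c ∈ ⁅V₀, zpowers e⁆ := by
        rw [commutator_comm]
        exact commutator_mem_commutator (mem_zpowers e) hz'V
      have hec : Commute e c := by
        have h1 : ⁅c, e⁆ ∈ ⁅⁅V₀, zpowers e⁆, zpowers e⁆ :=
          commutator_mem_commutator hcin (mem_zpowers e)
        rw [heD.2, mem_bot, commutatorElement_eq_one_iff_mul_comm] at h1
        exact h1.symm
      have hp := conj_pow_eq_of_commutator hec p
      rw [hfix (e ^ p) hepR z hz, mul_inv_cancel_right, eq_comm, mul_eq_right] at hp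
      have hcV : c ∈ V₀ := mul_mem (Subgroup.Normal.conj_mem inferInstance _ hz'V e) (inv_mem hz'V)
      have hcz : Commute c z' :=
        (mem_centralizer_iff.1 (mem_inf.1 hcV).2 z' (mem_inf.1 hz'V).1).symm
      rw [ea]
      have : e * z' ^ p * e⁻¹ = z' ^ p := by
        rw [← conj_pow, show e * z' * e⁻¹ = c * z' by rw [hc]; group, hcz.mul_pow, hp, one_mul]
      exact mul_inv_eq_iff_eq_mul.1 this
    set R₂ := R ⊔ zpowers e with hR₂
    have hR₂J : R₂ ≤ J := sup_le hRJ (zpowers_le.2 (subset_closure heD))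
    have hR₂M : R₂ ≤ M.map (MulAut.conj h).toMonoidHom := by
      refine sup_le (hRS.trans ?_) (zpowers_le.2 ?_)
      · rw [hk, ← map_conj_map_conj]
        refine map_mono ?_
        refine (map_mono hSM).trans ?_
        rw [map_conj_eq_of_mem_normalizer (le_normalizer m.2)]
      · refine mem_map_conj_iff.2 ?_
        have hfix' : ∀ b ∈ A, h⁻¹ * e * h * b * (h⁻¹ * e * h)⁻¹ = b := fun b hb => by
          calc h⁻¹ * e * h * b * (h⁻¹ * e * h)⁻¹ = h⁻¹ * (e * (h * b * h⁻¹)) * e⁻¹ * h := by group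
            _ = b := by rw [hecomm b hb]; group
        refine mem_normalizer_of_image_eq (Set.ext fun b => ⟨?_, fun hb => ⟨b, hb, hfix' b hb⟩⟩)
        rintro ⟨c, hc, rfl⟩
        show h⁻¹ * e * h * c * (h⁻¹ * e * h)⁻¹ ∈ A
        rw [hfix' c hc]; exact hc
    obtain ⟨m₂, hm₂, hle⟩ := exists_conj_le_of_relIndex hSM S.2
      (fun hd => S.not_dvd_index (hd.trans (relIndex_dvd_index_of_le hSM)))
      (R := R₂.map (MulAut.conj h⁻¹).toMonoidHom)
      ((map_mono hR₂M).trans (map_conj_inv_map_conj M h).le) ((hJp.to_le hR₂J).map _)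
    rw [map_conj_map_conj] at hle
    have hsub : E m ∪ {e} ⊆ E ⟨m₂⁻¹, inv_mem hm₂⟩ := by
      intro d' hd'
      have hR' : d' ∈ R₂ := by
        rcases hd' with hd' | hd'
        · exact mem_sup_left (subset_closure hd')
        · rw [Set.mem_singleton_iff] at hd'; subst hd'
          exact mem_sup_right (mem_zpowers e)
      refine ⟨?_, ?_⟩
      · rcases hd' with hd' | hd'
        · exact hd'.1
        · rw [Set.mem_singleton_iff] at hd'; subst hd'; exact heD
      · have := hle (conj_mem_map_conj (g := m₂ * h⁻¹) hR')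
        simpa [mul_assoc] using this
    have hlt : Nat.card ↥(closure (E m)) < Nat.card ↥(closure (E ⟨m₂⁻¹, inv_mem hm₂⟩)) := by
      refine Fusion.card_lt_card_of_lt (SetLike.lt_iff_le_and_exists.2
        ⟨closure_mono (Set.subset_union_left.trans hsub), e, subset_closure (hsub (Or.inr rfl)), heR⟩)
    exact (hmax ⟨m₂⁻¹, inv_mem hm₂⟩ trivial).not_gt hlt
  -- conclusion by the Frattini argument
  set N₀ := normalClosure D with hN₀
  have hNM : N₀ ≤ M := by
    refine (closure_le _).2 fun y hy => ?_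
    obtain ⟨d, hd, hdy⟩ := Group.mem_conjugatesOfSet_iff.1 hy
    obtain ⟨c, rfl⟩ := isConj_iff.1 hdy
    have hfix' : ∀ b ∈ A, c * d * c⁻¹ * b * (c * d * c⁻¹)⁻¹ = b := fun b hb => by
      calc c * d * c⁻¹ * b * (c * d * c⁻¹)⁻¹
          = c * (d * (c⁻¹ * b * c⁻¹⁻¹)) * d⁻¹ * c⁻¹ := by group
        _ = b := by rw [hcl c⁻¹ d hd b hb]; group
    refine mem_normalizer_of_image_eq (Set.ext fun b => ⟨?_, fun hb => ⟨b, hb, hfix' b hb⟩⟩)
    rintro ⟨x, hx, rfl⟩
    show c * d * c⁻¹ * x * (c * d * c⁻¹)⁻¹ ∈ A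
    rw [hfix' x hx]; exact hx
  obtain ⟨R₀, hR₀⟩ := ((S.2.to_le inf_le_left : IsPGroup p ↥((S : Subgroup Y) ⊓ N₀)).of_equiv
    (subgroupOfEquivOfLe (inf_le_right : (S : Subgroup Y) ⊓ N₀ ≤ N₀)).symm).exists_le_sylow
  have hidx : ¬ p ∣ ((S : Subgroup Y) ⊓ N₀).relIndex N₀ := not_dvd_relIndex_inf
    (le_top (a := (S : Subgroup Y))) S.2 (by simpa using S.not_dvd_index) le_top
    fun y _ n hn => Subgroup.Normal.conj_mem inferInstance n hn y
  let R₁ : Sylow p ↥N₀ := ((S.2.to_le inf_le_left : IsPGroup p ↥((S : Subgroup Y) ⊓ N₀)).of_equiv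
    (subgroupOfEquivOfLe (inf_le_right : (S : Subgroup Y) ⊓ N₀ ≤ N₀)).symm).toSylow hidx
  have hR₁ : (R₁ : Subgroup ↥N₀).map N₀.subtype = (S : Subgroup Y) ⊓ N₀ :=
    map_subgroupOf_eq_of_le inf_le_right
  have hfr := Sylow.normalizer_sup_eq_top R₁
  rw [hR₁] at hfr
  have hSn : (S : Subgroup Y) ≤ normalizer (((S : Subgroup Y) ⊓ N₀ : Subgroup Y) : Set Y) :=
    fun s hs => mem_normalizer_of_map_conj (by
      rw [map_inf _ _ _ (MulAut.conj s).injective, map_conj_eq_of_mem_normalizer (le_normalizer hs),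
        map_conj_eq_of_mem_normalizer (by
          rw [normalizer_eq_top_iff.2 (normalClosure_normal : N₀.Normal)]; exact mem_top s)])
  have hprop : normalizer (((S : Subgroup Y) ⊓ N₀ : Subgroup Y) : Set Y) ≠ ⊤ := fun e =>
    hgQ (Cfsg.Lib.Core.le_pCore' (normalizer_eq_top_iff.1 e) (S.2.to_le inf_le_left)
      (mem_inf.2 ⟨hg, subset_normalClosure ⟨hg, hquad⟩⟩))
  refine hcon (eq_top_iff.2 ?_)
  rw [← hfr]
  exact sup_le (hLM _ hprop hSn) hNM

/-- In a transitive situation with a fixed-point-free p-group, norms vanish. -/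
theorem prod_eq_of_orbits {J : Type*} [Group J] [Finite J] (hJ : IsPGroup p J) {Ω : Type*} [Fintype Ω]
    [MulAction J Ω] {B : Type*} [CommGroup B] (act : J →* MulAut B) (f : Ω → B)
    (hf : ∀ (j : J) (ω : Ω), f (j • ω) = act j (f ω)) (D : Set J) (hD : closure D = ⊤)
    (hN : ∀ d ∈ D, ∀ b : B, ∏ i ∈ Finset.range p, act (d ^ i) b = 1) (ω₀ : Ω)
    (hfix : ∀ ω : Ω, (∀ j : J, j • ω = ω) → ω = ω₀) (hω₀ : ∀ j : J, j • ω₀ = ω₀) :
    ∏ ω, f ω = f ω₀ := by
  classical
  haveI := Fintype.ofFinite (MulAction.orbitRel.Quotient J Ω)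
  rw [← Finset.prod_fiberwise Finset.univ (fun ω => (Quotient.mk'' ω : MulAction.orbitRel.Quotient J Ω)) f,
    Finset.prod_eq_single (Quotient.mk'' ω₀ : MulAction.orbitRel.Quotient J Ω)]
  · rw [show (Finset.univ.filter fun ω => (Quotient.mk'' ω : MulAction.orbitRel.Quotient J Ω) =
        Quotient.mk'' ω₀) = {ω₀} from ?_, Finset.prod_singleton]
    ext ω
    simp only [Finset.mem_filter, Finset.mem_univ, true_and, Finset.mem_singleton]
    refine ⟨fun h => ?_, fun h => by rw [h]⟩
    obtain ⟨j, hj⟩ := MulAction.orbitRel_apply.1 (Quotient.exact' h)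
    rw [← hj]
    exact hω₀ j
  · intro o _ ho
    obtain ⟨ω, rfl⟩ := Quotient.mk''_surjective o
    have hne : MulAction.stabilizer J ω ≠ ⊤ := fun e => ho (by
      rw [hfix ω fun j => (e ▸ mem_top j : j ∈ MulAction.stabilizer J ω)])
    obtain ⟨C, hC, hCle⟩ := (eq_top_or_exists_le_coatom (MulAction.stabilizer J ω)).resolve_left hne
    haveI := hJ.isNilpotent
    haveI hCn : C.Normal :=
      Subgroup.NormalizerCondition.normal_of_coatom C Group.normalizerCondition_of_isNilpotent hC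
    obtain ⟨d, hd, hdC⟩ : ∃ d ∈ D, d ∉ C := by
      by_contra! hall
      exact hC.1 (top_le_iff.1 (hD ▸ (closure_le _).2 hall))
    set π := QuotientGroup.mk' C with hπ
    have hgen : zpowers (π d) = ⊤ := by
      have h1 : C < (zpowers (π d)).comap π := by
        refine SetLike.lt_iff_le_and_exists.2 ⟨?_, d, mem_zpowers _, hdC⟩
        exact (QuotientGroup.ker_mk' C).ge.trans (ker_le_comap π _)
      have := congrArg (Subgroup.map π) (hC.2 _ h1)
      rwa [map_comap_eq_self_of_surjective (QuotientGroup.mk'_surjective C),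
        map_top_of_surjective _ (QuotientGroup.mk'_surjective C)] at this
    have hcard : Nat.card (J ⧸ C) = p := by
      haveI : IsSimpleOrder (Subgroup (J ⧸ C)) := by
        haveI : Nontrivial (J ⧸ C) := QuotientGroup.nontrivial_iff.2 hC.1
        refine ⟨fun X => ?_⟩
        rcases eq_or_lt_of_le (ker_le_comap π X) with h | h
        · left
          rw [← map_comap_eq_self_of_surjective (QuotientGroup.mk'_surjective C) X, ← hπ, ← h,
            Subgroup.map_eq_bot_iff]
        · right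
          rw [← map_comap_eq_self_of_surjective (QuotientGroup.mk'_surjective C) X, ← hπ,
            hC.2 (X.comap π) (by rwa [hπ, QuotientGroup.ker_mk'] at h), map_top_of_surjective _ (QuotientGroup.mk'_surjective C)]
      obtain ⟨q, hq, hqd⟩ := Nat.exists_prime_and_dvd (show Nat.card (J ⧸ C) ≠ 1 from by
        haveI : Nontrivial (J ⧸ C) := QuotientGroup.nontrivial_iff.2 hC.1
        exact (Finite.one_lt_card).ne')
      haveI := Fact.mk hq
      obtain ⟨x, hx⟩ := exists_prime_orderOf_dvd_card' q hqd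
      have hx1 : zpowers x = ⊤ := (IsSimpleOrder.eq_bot_or_eq_top _).resolve_left fun e => by
        rw [zpowers_eq_bot] at e; rw [e, orderOf_one] at hx; exact hq.ne_one hx.symm
      have hc : Nat.card (J ⧸ C) = q := by rw [← card_top, ← hx1, Nat.card_zpowers, hx]
      obtain ⟨i, hi⟩ := IsPGroup.iff_card.mp (hJ.to_quotient C)
      rw [hc] at hi ⊢
      exact (Nat.prime_dvd_prime_iff_eq hq Fact.out).1 (hq.dvd_of_dvd_pow (show q ∣ p ^ i from ⟨1, by rw [mul_one]; exact hi.symm⟩))
    have hord : orderOf (π d) = p := by rw [← Nat.card_zpowers, hgen, card_top, hcard]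
    set O := Finset.univ.filter fun η =>
      (Quotient.mk'' η : MulAction.orbitRel.Quotient J Ω) = Quotient.mk'' ω with hO
    have hOmem : ∀ η, η ∈ O ↔ ∃ j : J, j • ω = η := fun η => by
      rw [hO, Finset.mem_filter, and_iff_right (Finset.mem_univ η)]
      exact ⟨fun h => MulAction.orbitRel_apply.1 (Quotient.exact' h),
        fun h => Quotient.sound' (MulAction.orbitRel_apply.2 h)⟩
    set F : ℕ → Finset Ω := fun i => O.filter fun η => ∃ c ∈ C, (d ^ i * c) • ω = η with hF
    have hdisj : ((Finset.range p : Finset ℕ) : Set ℕ).PairwiseDisjoint F := by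
      intro i hi i' hi' hne'
      rw [Function.onFun, Finset.disjoint_left]
      intro η h h'
      obtain ⟨c, hc, hcη⟩ := (Finset.mem_filter.1 h).2
      obtain ⟨c', hc', hc'η⟩ := (Finset.mem_filter.1 h').2
      have hst : (d ^ i * c)⁻¹ * (d ^ i' * c') ∈ C := hCle (by
        rw [MulAction.mem_stabilizer_iff, mul_smul, hc'η, inv_smul_eq_iff, hcη])
      have h1 : π (d ^ i * c) = π (d ^ i' * c') := by
        rw [hπ, QuotientGroup.mk'_apply, QuotientGroup.mk'_apply, QuotientGroup.eq]; exact hst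
      rw [map_mul, map_mul, map_pow, map_pow, show π c = 1 from (QuotientGroup.eq_one_iff c).2 hc,
        show π c' = 1 from (QuotientGroup.eq_one_iff c').2 hc', mul_one, mul_one] at h1
      refine hne' (pow_injOn_Iio_orderOf ?_ ?_ h1)
      · simpa [hord] using hi
      · simpa [hord] using hi'
    have hcover : O = (Finset.range p).biUnion F := by
      ext η
      refine ⟨fun hη => ?_, fun hη => ?_⟩
      · obtain ⟨j, rfl⟩ := (hOmem η).1 hη
        obtain ⟨i, hi⟩ : π j ∈ Submonoid.powers (π d) :=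
          mem_powers_iff_mem_zpowers.2 (hgen ▸ mem_top _)
        refine Finset.mem_biUnion.2 ⟨i % p, Finset.mem_range.2 (Nat.mod_lt _ (Fact.out : p.Prime).pos),
          Finset.mem_filter.2 ⟨hη, (d ^ (i % p))⁻¹ * j, ?_, by rw [mul_inv_cancel_left]⟩⟩
        rw [← QuotientGroup.eq_one_iff]
        show π ((d ^ (i % p))⁻¹ * j) = 1
        rw [map_mul, map_inv, map_pow, ← hord, pow_mod_orderOf]
        simp only at hi
        rw [hi, inv_mul_cancel]
      · obtain ⟨i, -, hi⟩ := Finset.mem_biUnion.1 hη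
        exact (Finset.mem_filter.1 hi).1
    have hFi : ∀ i, ∏ η ∈ F i, f η = act (d ^ i) (∏ η ∈ F 0, f η) := by
      intro i
      rw [map_prod]
      refine Finset.prod_bij' (fun η _ => (d ^ i)⁻¹ • η) (fun η _ => d ^ i • η) ?_ ?_
        (fun η _ => smul_inv_smul _ _) (fun η _ => inv_smul_smul _ _) (fun η _ => ?_)
      · intro η hη
        obtain ⟨h1, c, hc, rfl⟩ := Finset.mem_filter.1 hη
        refine Finset.mem_filter.2 ⟨(hOmem _).2 ⟨(d ^ i)⁻¹ * (d ^ i * c), by rw [mul_smul]⟩, c, hc, ?_⟩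
        rw [pow_zero, one_mul, ← mul_smul, inv_mul_cancel_left]
      · intro η hη
        obtain ⟨h1, c, hc, rfl⟩ := Finset.mem_filter.1 hη
        refine Finset.mem_filter.2 ⟨(hOmem _).2 ⟨d ^ i * (d ^ 0 * c), by rw [mul_smul]⟩, c, hc, ?_⟩
        rw [pow_zero, one_mul, mul_smul]
      · rw [← hf, smul_inv_smul]
    show ∏ η ∈ O, f η = 1
    rw [hcover, Finset.prod_biUnion hdisj]
    rw [Finset.prod_congr rfl fun i _ => hFi i]
    exact hN d hd _
  · intro h; exact absurd (Finset.mem_univ _) h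

theorem exists_chiefFactor_top {Y : Type*} [Group Y] [Finite Y] {x : Y} (hx : x ≠ 1) :
    ∃ V : Subgroup Y, x ∉ V ∧ Cfsg.IsChiefFactor (normalClosure ({x} : Set Y)) V := by
  set U := normalClosure ({x} : Set Y) with hU
  have hxU : x ∈ U := subset_normalClosure rfl
  obtain ⟨V, ⟨hVn, hVU, hxV⟩, hVmax⟩ := Set.exists_max_image
    {V : Subgroup Y | V.Normal ∧ V ≤ U ∧ x ∉ V} (fun V => Nat.card ↥V) (Set.toFinite _)
    ⟨⊥, inferInstance, bot_le, fun h => hx (mem_bot.1 h)⟩
  refine ⟨V, hxV, lt_of_le_of_ne hVU (fun e => hxV (e ▸ hxU)), normalClosure_normal, hVn,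
    fun N hN hVN hNU => ?_⟩
  by_cases hxN : x ∈ N
  · haveI := hN
    exact Or.inr (le_antisymm hNU (normalClosure_le_normal (Set.singleton_subset_iff.2 hxN)))
  · exact Or.inl (eq_of_le_of_card_ge hVN (hVmax N ⟨hN, hNU, hxN⟩)).symm

/-- An abelian minimal normal p-subgroup has exponent p. -/
theorem pow_eq_one_of_minimal {G : Type*} [Group G] [Finite G] (M : Subgroup G) [hMn : M.Normal]
    (hcomm : ∀ a b : ↥M, a * b = b * a) (hMp : IsPGroup p ↥M)
    (hmin : ∀ N : Subgroup G, N.Normal → N ≤ M → N = ⊥ ∨ N = M) : ∀ x : ↥M, x ^ p = 1 := by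
  let π : ↥M →* ↥M :=
    { toFun := fun a => a ^ p
      map_one' := one_pow p
      map_mul' := fun a b => (show Commute a b from hcomm a b).mul_pow p }
  haveI : (π.range.map M.subtype).Normal := by
    refine ⟨?_⟩
    rintro _ ⟨_, ⟨x, rfl⟩, rfl⟩ z
    refine ⟨π (MulAut.conjNormal z x), ⟨MulAut.conjNormal z x, rfl⟩, ?_⟩
    show ((MulAut.conjNormal z x : ↥M) ^ p : ↥M).1 = z * ((x ^ p : ↥M) : G) * z⁻¹
    rw [← map_pow, MulAut.conjNormal_apply]
  intro x
  rcases hmin _ inferInstance (map_subtype_le π.range) with h | h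
  · have : ((x ^ p : ↥M) : G) ∈ π.range.map M.subtype := mem_map_of_mem _ (show x ^ p ∈ π.range from ⟨x, rfl⟩)
    rw [h, mem_bot] at this
    exact Subtype.ext this
  · have hsurj : Function.Surjective π := fun a => by
      obtain ⟨y, hy, hya⟩ : (a : G) ∈ π.range.map M.subtype := h.symm ▸ a.2
      obtain ⟨w, rfl⟩ := hy
      exact ⟨w, Subtype.ext hya⟩
    have hinj := Finite.injective_iff_surjective.2 hsurj
    have hbij : ∀ (k : ℕ) (a : ↥M), a ^ p ^ k = 1 → a = 1 := by
      intro k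
      induction k with
      | zero => intro a ha; simpa using ha
      | succ k ih =>
        intro a ha
        refine ih a (hinj ?_)
        show (a ^ p ^ k) ^ p = (1 : ↥M) ^ p
        rw [← pow_mul, ← pow_succ, ha, one_pow]
    obtain ⟨k, hk⟩ := hMp x
    rw [hbij k x hk, one_pow]

theorem norm_eq_one_of_iterate {M : Type*} [CommGroup M] [Nontrivial M] (hM : ∀ x : M, x ^ p = 1)
    (g : MulAut M) (hg : ∀ x : M, (fun y => g y * y⁻¹)^[p - 1] x = 1) (a : M) :
    ∏ i ∈ Finset.range p, (g ^ i) a = 1 := by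
  haveI : Nontrivial (AddMonoid.End (Additive M)) := ⟨⟨0, 1, fun h => by
    obtain ⟨x, hx⟩ := exists_ne (1 : M)
    exact hx (congrArg (fun u : AddMonoid.End (Additive M) =>
      Additive.toMul (u (Additive.ofMul x))) h).symm⟩⟩
  haveI : CharP (AddMonoid.End (Additive M)) p := by
    refine (CharP.charP_iff_prime_eq_zero Fact.out).2 (AddMonoidHom.ext fun x => ?_)
    show (p : AddMonoid.End (Additive M)) x = 0
    rw [AddMonoid.End.natCast_apply]
    exact hM (Additive.toMul x)
  set E : AddMonoid.End (Additive M) := (autToUnits M g : AddMonoid.End (Additive M)) with hE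
  have hpow : ∀ (i : ℕ) (x : M),
      ((E - 1) ^ i) (Additive.ofMul x) = Additive.ofMul ((fun y => g y * y⁻¹)^[i] x) := by
    intro i
    induction i with
    | zero => intro x; rfl
    | succ i ih =>
      intro x
      rw [Function.iterate_succ_apply, ← ih, pow_succ]
      show ((E - 1) ^ i) ((E - 1) (Additive.ofMul x)) = _
      congr 1
      show Additive.ofMul (g x) - Additive.ofMul x = _
      rw [sub_eq_add_neg]
      rfl
  have h0 : (E - 1) ^ (p - 1) = 0 := AddMonoidHom.ext fun x => by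
    have := hpow (p - 1) (Additive.toMul x)
    rw [ofMul_toMul, hg] at this
    exact this
  rw [sub_one_pow_pred_eq_sum p] at h0
  have h1 : ∑ i ∈ Finset.range p, (E ^ i) (Additive.ofMul a) = 0 :=
    Eq.trans (AddMonoidHom.finsetSum_apply (fun i => E ^ i) (Finset.range p) (Additive.ofMul a)).symm
      (congrArg (fun u : AddMonoid.End (Additive M) => u (Additive.ofMul a)) h0)
  have h2 := congrArg Additive.toMul h1
  rw [toMul_sum, toMul_zero] at h2
  refine Eq.trans (Finset.prod_congr rfl fun i _ => ?_) h2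
  rw [hE, ← Units.val_pow_eq_pow_val, ← map_pow]
  rfl

theorem iterate_mem_map_iterCommutator {Y : Type*} [Group Y] {U V : Subgroup Y} [V.Normal]
    [(U.map (QuotientGroup.mk' V)).Normal] (d : Y) :
    ∀ (i : ℕ) (m : ↥(U.map (QuotientGroup.mk' V))),
      (((fun y => MulAut.conjNormal (H := U.map (QuotientGroup.mk' V)) (QuotientGroup.mk' V d) y * y⁻¹)^[i] m :
        ↥(U.map (QuotientGroup.mk' V))) : Y ⧸ V) ∈
      (Cfsg.iterCommutator U (zpowers d) i).map (QuotientGroup.mk' V) := by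
  intro i
  induction i with
  | zero => intro m; exact m.2
  | succ i ih =>
    intro m
    rw [Function.iterate_succ_apply']
    obtain ⟨u, hu, hum⟩ := ih m
    show _ ∈ (⁅Cfsg.iterCommutator U (zpowers d) i, zpowers d⁆).map _
    rw [commutator_comm]
    refine ⟨⁅d, u⁆, commutator_mem_commutator (mem_zpowers d) hu, ?_⟩
    rw [Subgroup.coe_mul, Subgroup.coe_inv, MulAut.conjNormal_apply, ← hum]
    simp [commutatorElement_def]

/-- The small degree final step. -/
theorem centralizer_eq_top_of_small_degree {Y : Type u} [Group Y] [Finite Y] (S : Sylow p Y) (x : Y)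
    (hx : x ∈ (S : Subgroup Y) ⊓ centralizer ((S : Subgroup Y) : Set Y))
    (hxQ : x ∈ Cfsg.pCore p Y)
    (hLM : ∀ L : Subgroup Y, L ≠ ⊤ → (S : Subgroup Y) ≤ L → L ≤ centralizer ({x} : Set Y))
    (g : Y) (hg : g ∈ (S : Subgroup Y)) (hgQ : g ∉ Cfsg.pCore p Y)
    (hsmall : ∀ U V : Subgroup Y, Cfsg.IsChiefFactor U V →
      U ≤ Cfsg.pCore p Y ⊓ centralizer (Cfsg.pCore p Y : Set Y) →
      Cfsg.iterCommutator U (zpowers g) (p - 1) ≤ V) :
    centralizer ({x} : Set Y) = ⊤ := by
  classical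
  by_contra hcon
  set Q := Cfsg.pCore p Y with hQ
  set V₀ := Q ⊓ centralizer (Q : Set Y) with hV₀
  set M := centralizer ({x} : Set Y) with hM
  have hxV : x ∈ V₀ :=
    mem_inf.2 ⟨hxQ, centralizer_le (Cfsg.Lib.Core.pCore_le_sylow S) (mem_inf.1 hx).2⟩
  have hSM : (S : Subgroup Y) ≤ M := fun s hs =>
    mem_centralizer_singleton_iff.2 (mem_centralizer_iff.1 (mem_inf.1 hx).2 s hs)
  haveI := Fintype.ofFinite (Y ⧸ M)
  letI : CommGroup ↥V₀ := { (inferInstance : Group ↥V₀) with
    mul_comm := fun a b => Subtype.ext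
      (mem_centralizer_iff.1 (mem_inf.1 b.2).2 a (mem_inf.1 a.2).1) }
  let x₀ : ↥V₀ := ⟨x, hxV⟩
  let φ : Y →* MulAut ↥V₀ := MulAut.conjNormal
  let f : Y ⧸ M → ↥V₀ := fun q => Quotient.liftOn' q (fun y => φ y x₀) fun a b hab => by
    have h := mem_centralizer_singleton_iff.1 (QuotientGroup.leftRel_apply.1 hab)
    refine Subtype.ext ?_
    rw [MulAut.conjNormal_apply, MulAut.conjNormal_apply]
    calc a * x * a⁻¹ = a * (x * (a⁻¹ * b)) * b⁻¹ := by group
      _ = a * (a⁻¹ * b * x) * b⁻¹ := by rw [h]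
      _ = b * x * b⁻¹ := by group
  have hf : ∀ (y : Y) (q : Y ⧸ M), f (y • q) = φ y (f q) := by
    intro y q
    obtain ⟨a, rfl⟩ := QuotientGroup.mk_surjective q
    show φ (y * a) x₀ = φ y (φ a x₀)
    rw [map_mul]; rfl
  set n := Nat.card (Y ⧸ M) with hn
  set z : ↥V₀ := ∏ q, f q with hz
  have hzfix : ∀ y : Y, φ y z = z := fun y => by
    rw [hz, map_prod]
    simp only [← hf]
    exact Equiv.prod_comp (MulAction.toPerm y) f
  let f' : Y ⧸ M → ↥V₀ := fun q => f q ^ n * z⁻¹
  have hf' : ∀ (y : Y) (q : Y ⧸ M), f' (y • q) = φ y (f' q) := fun y q => by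
    simp only [f', map_mul, map_pow, map_inv, hzfix, hf]
  have hprod : ∏ q, f' q = 1 := by
    simp only [f', Finset.prod_mul_distrib, Finset.prod_pow, Finset.prod_const, Finset.card_univ]
    rw [← hz, ← Nat.card_eq_fintype_card, ← hn, ← mul_pow, mul_inv_cancel, one_pow]
  set x₁ := f' ((1 : Y) : Y ⧸ M) with hx₁
  have hx₁ne : x₁ ≠ 1 := by
    intro e
    have h1 : x₀ ^ n = z := by
      have : f ((1 : Y) : Y ⧸ M) = x₀ := by
        show φ 1 x₀ = x₀
        rw [map_one]; rfl
      rw [hx₁] at e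
      simp only [f', this, mul_inv_eq_one] at e
      exact e
    have hcop : (orderOf x₀).Coprime n := by
      obtain ⟨k, hk⟩ := ((Cfsg.Lib.Core.pCore_isPGroup p Y).to_le inf_le_left :
        IsPGroup p ↥V₀).exists_orderOf_eq_pow x₀
      rw [hk]
      refine ((Fact.out : p.Prime).coprime_iff_not_dvd.2 ?_).pow_left k
      exact fun hd => S.not_dvd_index (hd.trans (index_dvd_of_le hSM))
    obtain ⟨m, hm⟩ := exists_pow_eq_self_of_coprime hcop.symm
    refine hcon (eq_top_iff.2 fun y _ => mem_centralizer_singleton_iff.2 ?_)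
    have h2 : φ y x₀ = x₀ := by rw [← hm, h1, map_pow, hzfix]
    have h3 := congrArg Subtype.val h2
    rw [MulAut.conjNormal_apply] at h3
    exact mul_inv_eq_iff_eq_mul.1 h3
  set x' : Y := (x₁ : Y) with hx'
  have hx'ne : x' ≠ 1 := fun e => hx₁ne (Subtype.ext e)
  obtain ⟨V, hx'V, hUV⟩ := exists_chiefFactor_top hx'ne
  set U := normalClosure ({x'} : Set Y) with hU
  have hUV₀ : U ≤ V₀ := normalClosure_le_normal (Set.singleton_subset_iff.2 x₁.2)
  set Dg : Set Y := {d | d ∈ (S : Subgroup Y) ∧ ∀ U' V' : Subgroup Y, Cfsg.IsChiefFactor U' V' →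
      U' ≤ V₀ → Cfsg.iterCommutator U' (zpowers d) (p - 1) ≤ V'} with hDg
  have hDconj : ∀ d ∈ Dg, ∀ y : Y, y * d * y⁻¹ ∈ (S : Subgroup Y) → y * d * y⁻¹ ∈ Dg := by
    intro d hd y hy
    refine ⟨hy, fun U' V' h hU' => ?_⟩
    have hfixn : ∀ N : Subgroup Y, N.Normal → N.map (MulAut.conj y).toMonoidHom = N := fun N hN =>
      map_conj_eq_of_mem_normalizer (by rw [normalizer_eq_top_iff.2 hN]; exact mem_top y)
    have e := map_mono (f := (MulAut.conj y).toMonoidHom) (hd.2 U' V' h hU')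
    rw [map_iterCommutator, MonoidHom.map_zpowers, hfixn U' h.2.1, hfixn V' h.2.2.1] at e
    exact e
  set J := closure Dg with hJ
  have hJS : J ≤ (S : Subgroup Y) := (closure_le _).2 fun d hd => hd.1
  have hgJ : g ∈ J := subset_closure ⟨hg, hsmall⟩
  have hJn : (S : Subgroup Y) ≤ normalizer (J : Set Y) := fun s hs => by
    refine mem_normalizer_of_map_conj (eq_of_le_of_card_ge ?_ (card_map_conj _ _).ge)
    rw [hJ, MonoidHom.map_closure, closure_le]
    rintro _ ⟨d, hd, rfl⟩
    exact subset_closure (hDconj d hd s (mul_mem (mul_mem hs hd.1) (inv_mem hs)))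
  have hNJ : normalizer (J : Set Y) ≤ M := hLM _ (fun e => hgQ
    (Cfsg.Lib.Core.le_pCore' (normalizer_eq_top_iff.1 e) (S.2.to_le hJS) hgJ)) hJn
  -- pass to the chief factor
  haveI : V.Normal := hUV.2.2.1
  haveI : U.Normal := hUV.2.1
  set mk := QuotientGroup.mk' V with hmk
  have hmks : Function.Surjective mk := QuotientGroup.mk'_surjective V
  set Ub := U.map mk with hUb
  haveI : Ub.Normal := (inferInstance : U.Normal).map mk hmks
  letI : CommGroup ↥Ub := { (inferInstance : Group ↥Ub) with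
    mul_comm := fun a b => Subtype.ext (by
      obtain ⟨a', ha', hae⟩ := a.2
      obtain ⟨b', hb', hbe⟩ := b.2
      show (a : Y ⧸ V) * b = b * a
      rw [← hae, ← hbe, ← map_mul, ← map_mul,
        mem_centralizer_iff.1 (mem_inf.1 (hUV₀ hb')).2 a' (mem_inf.1 (hUV₀ ha')).1]) }
  let act : Y →* MulAut ↥Ub := (MulAut.conjNormal (H := Ub)).comp mk
  let ρU : ↥(U.subgroupOf V₀) →* ↥Ub :=
    (mk.comp (V₀.subtype.comp (U.subgroupOf V₀).subtype)).codRestrict Ub
      fun a => mem_map_of_mem mk (mem_subgroupOf.1 a.2)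
  have hf'U : ∀ q, f' q ∈ U.subgroupOf V₀ := by
    intro q
    obtain ⟨y, rfl⟩ := QuotientGroup.mk_surjective q
    have e : f' (y : Y ⧸ M) = φ y x₁ := by
      rw [hx₁, ← hf', show y • ((1 : Y) : Y ⧸ M) = ((y * 1 : Y) : Y ⧸ M) from rfl, mul_one]
    rw [mem_subgroupOf, e, MulAut.conjNormal_apply]
    exact Subgroup.Normal.conj_mem inferInstance _ (subset_normalClosure (Set.mem_singleton x')) y
  let F : Y ⧸ M → ↥Ub := fun q => ρU ⟨f' q, hf'U q⟩
  have hF : ∀ (y : Y) (q : Y ⧸ M), F (y • q) = act y (F q) := by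
    intro y q
    refine Subtype.ext ?_
    show mk ((f' (y • q) : ↥V₀) : Y) = ((MulAut.conjNormal (mk y) (F q) : ↥Ub) : Y ⧸ V)
    rw [hf', MulAut.conjNormal_apply, MulAut.conjNormal_apply, map_mul, map_mul, map_inv]
    rfl
  haveI : Nontrivial ↥Ub := by
    refine ⟨⟨F ((1 : Y) : Y ⧸ M), 1, fun e => hx'V ?_⟩⟩
    exact (QuotientGroup.eq_one_iff x').1 (congrArg Subtype.val e)
  have hUp : IsPGroup p ↥Ub :=
    ((Cfsg.Lib.Core.pCore_isPGroup p Y).to_le (hUV₀.trans inf_le_left)).map mk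
  have hUexp : ∀ a : ↥Ub, a ^ p = 1 := by
    refine pow_eq_one_of_minimal Ub (fun a b => mul_comm a b) hUp fun N hN hNU => ?_
    have hker : mk.ker = V := QuotientGroup.ker_mk' V
    rcases hUV.2.2.2 (N.comap mk) (hN.comap mk) (hker.ge.trans (ker_le_comap mk N))
        ((comap_mono hNU).trans (by rw [hUb, comap_map_eq, hker]; exact sup_le le_rfl hUV.1.le))
      with h | h
    · left
      rw [← map_comap_eq_self_of_surjective hmks N, h, Subgroup.map_eq_bot_iff, hker]
    · right
      rw [← map_comap_eq_self_of_surjective hmks N, h]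
  have hnorm : ∀ d ∈ Dg, ∀ a : ↥Ub, ∏ i ∈ Finset.range p, act (d ^ i) a = 1 := by
    intro d hd a
    simp only [map_pow]
    refine norm_eq_one_of_iterate hUexp (act d) (fun b => ?_) a
    obtain ⟨v, hv, hve⟩ := iterate_mem_map_iterCommutator (U := U) (V := V) d (p - 1) b
    refine Subtype.ext (hve.symm.trans ?_)
    exact (QuotientGroup.eq_one_iff v).2 (hd.2 U V hUV hUV₀ hv)
  -- the contradiction
  have hJfix : ∀ q : Y ⧸ M, (∀ j : ↥J, (j : Y) • q = q) → q = ((1 : Y) : Y ⧸ M) := by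
    intro q hq
    obtain ⟨y, rfl⟩ := QuotientGroup.mk_surjective q
    have hle : J.map (MulAut.conj y⁻¹).toMonoidHom ≤ M := by
      rintro _ ⟨j, hj, rfl⟩
      have h1 := QuotientGroup.eq.1 (hq ⟨j, hj⟩ : ((j * y : Y) : Y ⧸ M) = (y : Y ⧸ M))
      have := inv_mem h1
      simpa [mul_assoc] using this
    obtain ⟨m, hm, hmle⟩ := exists_conj_le_of_relIndex hSM S.2
      (fun hd => S.not_dvd_index (hd.trans (relIndex_dvd_index_of_le hSM))) hle
      ((S.2.to_le hJS).map _)
    rw [map_conj_map_conj] at hmle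
    have hJ' : m * y⁻¹ ∈ normalizer (J : Set Y) := by
      refine mem_normalizer_of_map_conj (eq_of_le_of_card_ge ?_ (card_map_conj _ _).ge)
      rw [hJ, MonoidHom.map_closure, closure_le]
      rintro _ ⟨d, hd, rfl⟩
      exact subset_closure (hDconj d hd _ (hmle (conj_mem_map_conj (subset_closure hd))))
    have h2 : y⁻¹ ∈ M := by simpa using mul_mem (inv_mem hm) (hNJ hJ')
    exact QuotientGroup.eq.2 (by simpa using h2)
  letI : MulAction ↥J (Y ⧸ M) := MulAction.compHom _ J.subtype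
  have hgenJ : closure ((J.subtype) ⁻¹' Dg) = ⊤ := by
    refine Subgroup.map_injective J.subtype_injective ?_
    rw [MonoidHom.map_closure, ← MonoidHom.range_eq_map, range_subtype, hJ]
    congr 1
    ext d
    exact ⟨fun ⟨j, hj, e⟩ => e ▸ hj, fun hd => ⟨⟨d, subset_closure hd⟩, hd, rfl⟩⟩
  have key := prod_eq_of_orbits (S.2.to_le hJS) (act.comp J.subtype) F (fun j q => hF j q)
    ((J.subtype) ⁻¹' Dg) hgenJ (fun d hd a => by
      simpa using hnorm d hd a)
    ((1 : Y) : Y ⧸ M) hJfix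
    (fun j => QuotientGroup.eq.2 (by simpa using inv_mem (hSM (hJS j.2))))
  have h0 : ∏ q, (⟨f' q, hf'U q⟩ : ↥(U.subgroupOf V₀)) = 1 := by
    refine Subtype.ext ?_
    rw [SubmonoidClass.coe_finset_prod]
    exact hprod
  have hone : ∏ q, F q = 1 := by rw [← map_prod, h0, map_one]
  rw [hone] at key
  exact hx'V ((QuotientGroup.eq_one_iff x').1 (congrArg Subtype.val key).symm)

/-! ### Transport along an embedding -/

theorem pCoreOf_range {Y G : Type*} [Group Y] [Finite Y] [Group G] {f : Y →* G}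
    (hf : Function.Injective f) : Cfsg.pCoreOf p f.range = (Cfsg.pCore p Y).map f := by
  haveI : Finite ↥f.range := Finite.of_surjective f.rangeRestrict f.rangeRestrict_surjective
  unfold Cfsg.pCoreOf
  rw [← Cfsg.Lib.Core.map_pCore_equiv (MonoidHom.ofInjective hf), Subgroup.map_map]
  rfl

theorem normalizer_singleton_eq_centralizer {G : Type*} [Group G] (x : G) :
    normalizer ({x} : Set G) = centralizer ({x} : Set G) := by
  ext g
  rw [mem_centralizer_singleton_iff]
  refine ⟨fun h => ?_, fun h => mem_normalizer_of_image_eq ?_⟩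
  · have := (mem_normalizer_set_iff.1 h x).1 rfl
    exact mul_inv_eq_iff_eq_mul.1 this
  · rw [Set.image_singleton, Set.singleton_eq_singleton_iff]
    exact mul_inv_eq_iff_eq_mul.2 h

theorem le_normalizer_functor {G : Type*} [Group G] {W : Subgroup G → Subgroup G}
    (hW : Cfsg.IsConjugacyFunctor p W) {P : Subgroup G} (hP : IsPGroup p ↥P) :
    P ≤ normalizer (W P : Set G) := fun y hy => mem_normalizer_of_map_conj (by
  rw [← (hW P hP).2.2 y, map_conj_eq_of_mem_normalizer (le_normalizer hy)])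

/-- A group embedded in `G` compatibly with the functors. -/
def EmbedHyp {G : Type u} [Group G] (p : ℕ) (W₀ : Subgroup G → Subgroup G) (Y : Type u) [Group Y]
    (W : Subgroup Y → Subgroup Y) : Prop :=
  ∃ f : Y →* G, Function.Injective f ∧
    ∀ P : Subgroup Y, IsPGroup p ↥P → (W P).map f = W₀ (P.map f)

theorem embedHyp_self {G : Type u} [Group G] (W₀ : Subgroup G → Subgroup G) :
    EmbedHyp p W₀ G W₀ :=
  ⟨MonoidHom.id G, Function.injective_id, fun P _ => by rw [Subgroup.map_id, Subgroup.map_id]⟩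

theorem EmbedHyp.subgroup {G : Type u} [Group G] {W₀ : Subgroup G → Subgroup G} {Y : Type u}
    [Group Y] [Finite Y] {W : Subgroup Y → Subgroup Y} (H : Subgroup Y)
    (hW : Cfsg.IsConjugacyFunctor p W) (h : EmbedHyp p W₀ Y W) :
    EmbedHyp p W₀ ↥H (restrictFunctor H W) := by
  obtain ⟨f, hf, hfW⟩ := h
  refine ⟨f.comp H.subtype, hf.comp H.subtype_injective, fun P hP => ?_⟩
  rw [← Subgroup.map_map, map_restrictFunctor hW hP, hfW _ (hP.map _), Subgroup.map_map]

theorem embedHyp_sylow {G : Type u} [Group G] [Finite G] {Y : Type u} [Group Y] [Finite Y]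
    {W₀ : Subgroup G → Subgroup G} {W : Subgroup Y → Subgroup Y} {f : Y →* G}
    (hf : Function.Injective f) (hfW : ∀ P : Subgroup Y, IsPGroup p ↥P → (W P).map f = W₀ (P.map f))
    (S : Sylow p Y) (hS : normalizer (W (S : Subgroup Y) : Set Y) ≠ ⊤) :
    (S : Subgroup Y).map f ≤ f.range ∧ IsPGroup p ↥((S : Subgroup Y).map f) ∧
      ¬ p ∣ ((S : Subgroup Y).map f).relIndex f.range ∧
      ¬ f.range ≤ normalizer (W₀ ((S : Subgroup Y).map f) : Set G) := by
  refine ⟨map_le_range f _, S.2.map f, ?_, fun hle => hS (eq_top_iff.2 fun y _ => ?_)⟩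
  · rw [MonoidHom.range_eq_map, relIndex_map_map_of_injective _ _ hf, relIndex_top_right]
    exact S.not_dvd_index
  · have h1 : f y ∈ normalizer (W₀ ((S : Subgroup Y).map f) : Set G) :=
      hle (MonoidHom.mem_range.2 ⟨y, rfl⟩)
    rw [← hfW _ S.2] at h1
    refine mem_normalizer_iff.2 fun z => ?_
    have := mem_normalizer_iff.1 h1 (f z)
    rwa [← map_inv, ← map_mul, ← map_mul, mem_map_iff_mem hf, mem_map_iff_mem hf] at this

end Cfsg.Lib.Sig
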