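import Cfsg.Agent.Lib.Sig.SectionControl
import Cfsg.Agent.Lib.Sig.WeakClosure
import Cfsg.Agent.Lib.Sig.KInfDegree
import Cfsg.Agent.Lib.Sig.KInfTheorem
import Mathlib.GroupTheory.Transfer

/-!
Failure of a family of functors to control transfer: the structure of a minimal counterexample.
-/

set_option autoImplicit false
set_option linter.style.haveILetI false

namespace Cfsg.Lib.Sig

open Subgroup
open scoped commutatorElement

universe u

variable {p : ℕ} [Fact p.Prime]

/-- A central element of a Sylow subgroup in the derived group lies in the derived group of the Sylow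
subgroup. -/
theorem mem_commutator_sylow_of_central {Y : Type*} [Group Y] [Finite Y] (S : Sylow p Y) {z : Y}
    (hz : z ∈ (S : Subgroup Y)) (hc : ∀ y : Y, y * z = z * y) (hz' : z ∈ commutator Y) :
    z ∈ ⁅(S : Subgroup Y), (S : Subgroup Y)⁆ := by
  set φ := (Abelianization.of : ↥(S : Subgroup Y) →* Abelianization ↥(S : Subgroup Y)) with hφ
  have key : ∀ (k : ℕ) (g₀ : Y), g₀⁻¹ * z ^ k * g₀ ∈ (S : Subgroup Y) → g₀⁻¹ * z ^ k * g₀ = z ^ k := by
    intro k g₀ _
    rw [mul_assoc, ← ((show Commute g₀ z from hc g₀).pow_right k).eq, inv_mul_cancel_left]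
  have h1 : MonoidHom.transfer φ z = 1 := MonoidHom.mem_ker.1 (Abelianization.commutator_subset_ker _ hz')
  rw [MonoidHom.transfer_eq_pow φ z key] at h1
  have hn : (⟨z, hz⟩ : ↥(S : Subgroup Y)) ^ (S : Subgroup Y).index ∈ commutator ↥(S : Subgroup Y) := by
    rw [← Abelianization.ker_of, MonoidHom.mem_ker]
    exact (congrArg φ (Subtype.ext (by rfl))).trans h1
  obtain ⟨k, hk⟩ := S.2.exists_orderOf_eq_pow ⟨z, hz⟩
  obtain ⟨m, hm⟩ := exists_pow_eq_self_of_coprime (n := (S : Subgroup Y).index)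
    (x := (⟨z, hz⟩ : ↥(S : Subgroup Y))) (by
      rw [hk]
      exact (((Fact.out : p.Prime).coprime_iff_not_dvd.2 S.not_dvd_index).pow_left k).symm)
  have h2 : (⟨z, hz⟩ : ↥(S : Subgroup Y)) ∈ commutator ↥(S : Subgroup Y) := by
    rw [← hm]; exact pow_mem hn m
  have h3 := mem_map_of_mem (S : Subgroup Y).subtype h2
  rwa [_root_.commutator_def, map_commutator, ← MonoidHom.range_eq_map, range_subtype] at h3

/-- A subgroup of a Sylow subgroup and of the derived group which is central modulo `N` lies in the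
derived group of the Sylow subgroup modulo `N`. -/
theorem le_sup_commutator_of_central {Y : Type*} [Group Y] [Finite Y] (S : Sylow p Y) (N Z : Subgroup Y)
    [N.Normal] (hZS : Z ≤ (S : Subgroup Y)) (hZ : Z ≤ commutator Y)
    (hc : ⁅Z, (⊤ : Subgroup Y)⁆ ≤ N) : Z ≤ ⁅(S : Subgroup Y), (S : Subgroup Y)⁆ ⊔ N := by
  intro z hz
  set mk := QuotientGroup.mk' N with hmk
  have hs : Function.Surjective mk := QuotientGroup.mk'_surjective N
  have h1 : mk z ∈ commutator (Y ⧸ N) := by
    have := mem_map_of_mem mk (hZ hz)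
    rwa [_root_.commutator_def, map_commutator, map_top_of_surjective _ hs] at this
  have h2 := mem_commutator_sylow_of_central (S.mapSurjective (f := mk) hs)
    (z := mk z) (mem_map_of_mem mk (hZS hz)) (fun y => by
      obtain ⟨y, rfl⟩ := hs y
      have : mk ⁅z, y⁆ = 1 := (QuotientGroup.eq_one_iff _).2 (hc (commutator_mem_commutator hz (mem_top y)))
      rw [map_commutatorElement, commutatorElement_eq_one_iff_mul_comm] at this
      exact this.symm) h1
  rw [Sylow.coe_mapSurjective, ← map_commutator, ← mem_comap, comap_map_eq, hmk, QuotientGroup.ker_mk']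
    at h2
  exact h2

/-- Normalizing an equivariant map into a commutative group to have trivial product. -/
theorem normalized_product {Y Ω B : Type*} [Group Y] [Fintype Ω] [MulAction Y Ω] [CommGroup B]
    (act : Y →* MulAut B) (f : Ω → B) (hf : ∀ (y : Y) (q : Ω), f (y • q) = act y (f q)) :
    (∀ y : Y, act y (∏ q, f q) = ∏ q, f q) ∧
      (∀ (y : Y) (q : Ω), f (y • q) ^ Nat.card Ω * (∏ q, f q)⁻¹ =
        act y (f q ^ Nat.card Ω * (∏ q, f q)⁻¹)) ∧
      ∏ q, (f q ^ Nat.card Ω * (∏ q, f q)⁻¹) = 1 := by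
  have hfix : ∀ y : Y, act y (∏ q, f q) = ∏ q, f q := fun y => by
    rw [map_prod]
    simp only [← hf]
    exact Equiv.prod_comp (MulAction.toPerm y) f
  refine ⟨hfix, fun y q => ?_, ?_⟩
  · rw [map_mul, map_pow, map_inv, hfix, hf]
  · simp only [Finset.prod_mul_distrib, Finset.prod_pow, Finset.prod_const, Finset.card_univ]
    rw [← Nat.card_eq_fintype_card, ← mul_pow, mul_inv_cancel, one_pow]

variable {X : Type u} [Group X] [Finite X]

theorem transferSpan_le_sylow (𝓕 : Set (Subgroup X → Subgroup X)) (S : Subgroup X) :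
    transferSpan 𝓕 S ≤ S := iSup₂_le fun _ _ => inf_le_left

theorem sylow_le_normalizer_transferSpan {𝓕 : Set (Subgroup X → Subgroup X)}
    (h𝓕 : ∀ W ∈ 𝓕, Cfsg.IsConjugacyFunctor p W) (S : Sylow p X) :
    (S : Subgroup X) ≤ normalizer (transferSpan 𝓕 (S : Subgroup X) : Set X) := fun s hs =>
  mem_normalizer_of_map_conj (by
    unfold transferSpan
    rw [Subgroup.map_iSup]
    refine iSup_congr fun W => ?_
    rw [Subgroup.map_iSup]
    refine iSup_congr fun hW => ?_
    rw [map_inf _ _ _ (MulAut.conj s).injective, map_commutator,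
      map_conj_eq_of_mem_normalizer (le_normalizer hs),
      map_conj_eq_of_mem_normalizer (le_normalizer (le_normalizer_functor (h𝓕 W hW) S.2 hs))])

theorem commutator_sylow_le_transferSpan {𝓕 : Set (Subgroup X → Subgroup X)}
    (h𝓕 : ∀ W ∈ 𝓕, Cfsg.IsConjugacyFunctor p W) (hne : 𝓕.Nonempty) (S : Sylow p X) :
    ⁅(S : Subgroup X), (S : Subgroup X)⁆ ≤ transferSpan 𝓕 (S : Subgroup X) := by
  obtain ⟨W, hW⟩ := hne
  exact le_iSup₂_of_le W hW (le_inf (commutator_le_self _)
    (commutator_mono (le_normalizer_functor (h𝓕 W hW) S.2) (le_normalizer_functor (h𝓕 W hW) S.2)))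

/-- The subgroup `N(R ∩ O_p)` in a failure of control of transfer. -/
theorem transferFailure_maximal {𝓕 : Set (Subgroup X → Subgroup X)}
    (h𝓕 : ∀ W ∈ 𝓕, Cfsg.IsConjugacyFunctor p W) (hne : 𝓕.Nonempty) (S : Sylow p X)
    (hfrom : ∀ L : Subgroup X, L ≠ ⊤ → (S : Subgroup X) ≤ L →
      (S : Subgroup X) ⊓ ⁅L, L⁆ ≤ transferSpan 𝓕 (S : Subgroup X))
    (hfail : ¬ Cfsg.pCore p X ⊓ commutator X ≤ transferSpan 𝓕 (S : Subgroup X)) :
    let M := normalizer ((transferSpan 𝓕 (S : Subgroup X) ⊓ Cfsg.pCore p X : Subgroup X) : Set X)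
    (S : Subgroup X) ≤ M ∧ M ≠ ⊤ ∧
      (∀ H : Subgroup X, (S : Subgroup X) ≤ H → H ≠ ⊤ → H ≤ M) ∧
      ⁅Cfsg.pCore p X, M⁆ ≤ Cfsg.pCore p X ⊓ ⁅M, M⁆ ∧
      Cfsg.pCore p X ⊓ ⁅M, M⁆ ≤ Cfsg.pCore p X ⊓ transferSpan 𝓕 (S : Subgroup X) := by
  intro M
  set Q := Cfsg.pCore p X with hQ
  set R := transferSpan 𝓕 (S : Subgroup X) with hR
  have hQS : Q ≤ (S : Subgroup X) := Cfsg.Lib.Core.pCore_le_sylow S
  have hRS : R ≤ (S : Subgroup X) := transferSpan_le_sylow 𝓕 _
  have hS' := commutator_sylow_le_transferSpan h𝓕 hne S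
  have hSM : (S : Subgroup X) ≤ M := fun s hs => inf_normalizer_le_normalizer_inf R Q
    (mem_inf.2 ⟨sylow_le_normalizer_transferSpan h𝓕 S hs, by
      rw [normalizer_eq_top_iff.2 (inferInstance : Q.Normal)]; exact mem_top s⟩)
  have hQH : ∀ H : Subgroup X, (S : Subgroup X) ≤ H → H ≠ ⊤ → ⁅Q, H⁆ ≤ R ⊓ Q := fun H hH hne =>
    le_inf ((le_inf ((commutator_le_left Q H).trans hQS)
      (commutator_mono (hQS.trans hH) le_rfl)).trans (hfrom H hne hH)) (commutator_le_left Q H)
  have hover : ∀ H : Subgroup X, (S : Subgroup X) ≤ H → H ≠ ⊤ → H ≤ M := by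
    intro H hH hne h hh
    have key : ∀ h ∈ H, ∀ x ∈ R ⊓ Q, h * x * h⁻¹ ∈ R ⊓ Q := by
      intro h hh x hx
      have h1 : ⁅x, h⁆ ∈ R ⊓ Q := hQH H hH hne (commutator_mem_commutator hx.2 hh)
      have := mul_mem (inv_mem h1) hx
      simpa [commutatorElement_def, mul_assoc] using this
    refine mem_normalizer_iff.2 fun x => ⟨key h hh x, fun hx => ?_⟩
    simpa [mul_assoc] using key h⁻¹ (inv_mem hh) _ hx
  have hMtop : M ≠ ⊤ := by
    intro htop
    refine hfail ?_
    haveI : (R ⊓ Q).Normal := normalizer_eq_top_iff.1 htop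
    by_cases hSn : normalizer ((S : Subgroup X) : Set X) = ⊤
    · obtain ⟨W, hW⟩ := hne
      refine le_iSup₂_of_le W hW (le_inf (inf_le_left.trans hQS) (inf_le_right.trans ?_))
      have : normalizer (W (S : Subgroup X) : Set X) = ⊤ := eq_top_iff.2 fun y _ =>
        mem_normalizer_of_map_conj (by
          rw [← (h𝓕 W hW _ S.2).2.2 y, map_conj_eq_of_mem_normalizer (hSn ▸ mem_top y)])
      rw [this, ← _root_.commutator_def]
    · let C : Subgroup X :=
        { carrier := {y | ∀ q ∈ Q, y * q * y⁻¹ * q⁻¹ ∈ R ⊓ Q}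
          one_mem' := fun q _ => by simp
          mul_mem' := by
            intro y z hy hz q hq
            have := mul_mem ((inferInstance : (R ⊓ Q).Normal).conj_mem _ (hz q hq) y) (hy q hq)
            simpa [mul_assoc] using this
          inv_mem' := by
            intro y hy q hq
            have := (inferInstance : (R ⊓ Q).Normal).conj_mem _ (inv_mem (hy q hq)) y⁻¹
            simpa [mul_assoc] using this }
      haveI : C.Normal := ⟨fun y hy g q hq => by
        have := (inferInstance : (R ⊓ Q).Normal).conj_mem _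
          (hy _ ((inferInstance : Q.Normal).conj_mem q hq g⁻¹)) g
        simpa [mul_assoc] using this⟩
      have hmemC : ∀ H : Subgroup X, ⁅Q, H⁆ ≤ R ⊓ Q → H ≤ C := fun H h y hy q hq => by
        have := inv_mem (h (commutator_mem_commutator hq hy))
        simpa [commutatorElement_def, mul_assoc] using this
      have hSC : (S : Subgroup X) ≤ C := hmemC _ (le_inf ((commutator_mono hQS le_rfl).trans hS')
        (commutator_le_left Q _))
      have hNC : normalizer ((S : Subgroup X) : Set X) ≤ C := hmemC _ (hQH _ le_normalizer hSn)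
      have hCtop : C = ⊤ := by
        have := Sylow.normalizer_sup_eq_top (S.subtype hSC)
        rw [show ((S.subtype hSC : Sylow p ↥C) : Subgroup ↥C).map C.subtype = (S : Subgroup X) by
          rw [Sylow.coe_subtype, map_subgroupOf_eq_of_le hSC]] at this
        exact top_le_iff.1 (this.ge.trans (sup_le hNC le_rfl))
      refine (le_sup_commutator_of_central S (R ⊓ Q) _ (inf_le_left.trans hQS) inf_le_right ?_).trans
        (sup_le hS' inf_le_left)
      refine commutator_le.2 fun q hq y _ => ?_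
      have := inv_mem ((hCtop ▸ mem_top y : y ∈ C) q hq.1)
      simpa [commutatorElement_def, mul_assoc] using this
  exact ⟨hSM, hMtop, hover, le_inf (commutator_le_left Q M) (commutator_mono (hQS.trans hSM) le_rfl),
    le_inf inf_le_left ((inf_le_inf_right _ hQS).trans (hfrom M hMtop hSM))⟩

/-- In a failure of control of transfer every element of the Sylow subgroup outside `O_p` has large
degree on some chief factor. -/
theorem transferFailure_degree {𝓕 : Set (Subgroup X → Subgroup X)}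
    (h𝓕 : ∀ W ∈ 𝓕, Cfsg.IsConjugacyFunctor p W) (hne : 𝓕.Nonempty) (S : Sylow p X)
    (hfrom : ∀ L : Subgroup X, L ≠ ⊤ → (S : Subgroup X) ≤ L →
      (S : Subgroup X) ⊓ ⁅L, L⁆ ≤ transferSpan 𝓕 (S : Subgroup X))
    (hfail : ¬ Cfsg.pCore p X ⊓ commutator X ≤ transferSpan 𝓕 (S : Subgroup X))
    (g : X) (hg : g ∈ (S : Subgroup X)) (hgQ : g ∉ Cfsg.pCore p X) :
    ∃ U V : Subgroup X, Cfsg.IsChiefFactor U V ∧ U ≤ Cfsg.pCore p X ∧
      ¬ Cfsg.iterCommutator U (zpowers g) (p - 1) ≤ V := by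
  classical
  by_contra! hsmall
  obtain ⟨hSM, hMtop, hover, hQM, hM'R⟩ := transferFailure_maximal h𝓕 hne S hfrom hfail
  set Q := Cfsg.pCore p X with hQ
  set R := transferSpan 𝓕 (S : Subgroup X) with hR
  set M := normalizer ((R ⊓ Q : Subgroup X) : Set X) with hM
  have hQS : Q ≤ (S : Subgroup X) := Cfsg.Lib.Core.pCore_le_sylow S
  have hS' := commutator_sylow_le_transferSpan h𝓕 hne S
  -- a chief factor `U / V` with `V ≤ R`, `U ⊄ R`
  obtain ⟨U, ⟨hUn, hUQ, hUR⟩, hUmin⟩ := (Set.toFinite {U : Subgroup X | U.Normal ∧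
    U ≤ Q ⊓ commutator X ∧ ¬ U ≤ R}).exists_minimal ⟨Q ⊓ commutator X, inferInstance, le_rfl, hfail⟩
  haveI := hUn
  obtain ⟨V, hUV⟩ := exists_chiefFactor_below (M := U) (fun e => hUR (e ▸ bot_le))
  haveI : V.Normal := hUV.2.2.1
  have hVR : V ≤ R := by_contra fun h =>
    hUV.1.not_ge (hUmin ⟨hUV.2.2.1, hUV.1.le.trans hUQ, h⟩ hUV.1.le)
  set mk := QuotientGroup.mk' V with hmk
  have hmks : Function.Surjective mk := QuotientGroup.mk'_surjective V
  have hker : mk.ker = V := QuotientGroup.ker_mk' V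
  set Ub := U.map mk with hUb
  haveI : Ub.Normal := hUn.map mk hmks
  have hUp : IsPGroup p ↥U := (Cfsg.Lib.Core.pCore_isPGroup p X).to_le (hUQ.trans inf_le_left)
  have hab : ⁅U, U⁆ ≤ V := (commutator_mono le_rfl (hUQ.trans inf_le_left)).trans
    (commutator_chiefFactor_le hUV hUp (Cfsg.Lib.Core.pCore_isPGroup p X))
  letI : CommGroup ↥Ub := { (inferInstance : Group ↥Ub) with
    mul_comm := fun a b => Subtype.ext (by
      obtain ⟨a', ha', hae⟩ := a.2
      obtain ⟨b', hb', hbe⟩ := b.2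
      show (a : X ⧸ V) * b = b * a
      rw [← hae, ← hbe]
      refine commutatorElement_eq_one_iff_mul_comm.1 ?_
      rw [← map_commutatorElement]
      exact (QuotientGroup.eq_one_iff _).2 (hab (commutator_mem_commutator ha' hb'))) }
  haveI : Nontrivial ↥Ub := (nontrivial_iff_ne_bot Ub).2 (by
    rw [Ne, hUb, Subgroup.map_eq_bot_iff, hker]; exact hUV.1.not_ge)
  have hexp : ∀ a : ↥Ub, a ^ p = 1 := by
    refine pow_eq_one_of_minimal Ub (fun a b => mul_comm a b) (hUp.map mk) fun N hN hNU => ?_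
    rcases hUV.2.2.2 (N.comap mk) (hN.comap mk) (hker.ge.trans (ker_le_comap mk N))
        ((comap_mono hNU).trans (by rw [hUb, comap_map_eq, hker]; exact sup_le le_rfl hUV.1.le))
      with h | h
    · left
      rw [← map_comap_eq_self_of_surjective hmks N, h, Subgroup.map_eq_bot_iff, hker]
    · right
      rw [← map_comap_eq_self_of_surjective hmks N, h]
  -- the functional
  set W₀ := ((U ⊓ R).map mk).subgroupOf Ub with hW₀
  let π₀ : ↥Ub →* ↥Ub ⧸ W₀ := QuotientGroup.mk' W₀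
  let cU : X →* MulAut ↥Ub := (MulAut.conjNormal (H := Ub)).comp mk
  have hcU : ∀ a b : X, ∀ u, cU (a * b) u = cU a (cU b u) := fun a b u => by rw [map_mul]; rfl
  let act : X →* MulAut (↥Ub →* ↥Ub ⧸ W₀) :=
    { toFun := fun y =>
        { toFun := fun π => π.comp (cU y⁻¹).toMonoidHom
          invFun := fun π => π.comp (cU y).toMonoidHom
          left_inv := fun π => MonoidHom.ext fun u => by
            show π (cU y⁻¹ (cU y u)) = π u
            rw [← hcU, inv_mul_cancel, map_one]; rfl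
          right_inv := fun π => MonoidHom.ext fun u => by
            show π (cU y (cU y⁻¹ u)) = π u
            rw [← hcU, mul_inv_cancel, map_one]; rfl
          map_mul' := fun _ _ => rfl }
      map_one' := MulEquiv.ext fun π => MonoidHom.ext fun u => by
        show π (cU 1⁻¹ u) = π u
        rw [inv_one, map_one]; rfl
      map_mul' := fun a b => MulEquiv.ext fun π => MonoidHom.ext fun u => by
        show π (cU (a * b)⁻¹ u) = π (cU b⁻¹ (cU a⁻¹ u))
        rw [mul_inv_rev, hcU] }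
  have hπM : ∀ m ∈ M, act m π₀ = π₀ := by
    intro m hm
    refine MonoidHom.ext fun u => (QuotientGroup.eq).2 (mem_subgroupOf.2 ?_)
    obtain ⟨x, hx, hxu⟩ := u.2
    show ((cU m⁻¹ u : ↥Ub) : X ⧸ V)⁻¹ * u ∈ (U ⊓ R).map mk
    rw [show ((cU m⁻¹ u : ↥Ub) : X ⧸ V) = mk (m⁻¹ * x * m⁻¹⁻¹) by
      rw [map_conj_mem, hxu]; exact MulAut.conjNormal_apply _ _, ← hxu, ← map_inv, ← map_mul]
    have h1 : ⁅x⁻¹, m⁻¹⁆ ∈ R :=
      ((hQM (commutator_mem_commutator (inv_mem (hUQ hx).1) (inv_mem hm))) |> hM'R).2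
    have h2 : m⁻¹ * x⁻¹ * m⁻¹⁻¹ * x = ⁅x⁻¹, m⁻¹⁆⁻¹ := by simp only [commutatorElement_def]; group
    refine mem_map_of_mem mk (mem_inf.2 ⟨?_, ?_⟩)
    · exact mul_mem (inv_mem (hUn.conj_mem x hx m⁻¹)) hx
    · have e : (m⁻¹ * x * m⁻¹⁻¹)⁻¹ * x = ⁅x⁻¹, m⁻¹⁆⁻¹ := by simp only [commutatorElement_def]; group
      rw [e]; exact inv_mem h1
  haveI := Fintype.ofFinite (X ⧸ M)
  let f : X ⧸ M → (↥Ub →* ↥Ub ⧸ W₀) := fun q => Quotient.liftOn' q (fun y => act y π₀) fun a b hab => by
    have h := hπM _ (QuotientGroup.leftRel_apply.1 hab)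
    have e : b = a * (a⁻¹ * b) := by group
    rw [e, map_mul, MulAut.mul_apply, h]
  have hf : ∀ (y : X) (q : X ⧸ M), f (y • q) = act y (f q) := by
    intro y q
    obtain ⟨a, rfl⟩ := QuotientGroup.mk_surjective q
    show act (y * a) π₀ = act y (act a π₀)
    rw [map_mul]; rfl
  set n := Nat.card (X ⧸ M) with hn
  set z := ∏ q, f q with hz
  obtain ⟨hzfix, hf0, hprod0⟩ := normalized_product act f hf
  let f' : X ⧸ M → (↥Ub →* ↥Ub ⧸ W₀) := fun q => f q ^ n * z⁻¹
  have hf' : ∀ (y : X) (q : X ⧸ M), f' (y • q) = act y (f' q) := hf0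
  have hprod : ∏ q, f' q = 1 := hprod0
  -- the elements of small degree
  set Dg : Set X := {d | d ∈ (S : Subgroup X) ∧ ∀ U' V' : Subgroup X, Cfsg.IsChiefFactor U' V' →
      U' ≤ Q → Cfsg.iterCommutator U' (zpowers d) (p - 1) ≤ V'} with hDg
  have hDconj : ∀ d ∈ Dg, ∀ y : X, y * d * y⁻¹ ∈ (S : Subgroup X) → y * d * y⁻¹ ∈ Dg := by
    intro d hd y hy
    refine ⟨hy, fun U' V' h hU' => ?_⟩
    have hfixn : ∀ N : Subgroup X, N.Normal → N.map (MulAut.conj y).toMonoidHom = N := fun N hN =>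
      map_conj_eq_of_mem_normalizer (by rw [normalizer_eq_top_iff.2 hN]; exact mem_top y)
    have e := map_mono (f := (MulAut.conj y).toMonoidHom) (hd.2 U' V' h hU')
    rw [map_iterCommutator, MonoidHom.map_zpowers, hfixn U' h.2.1, hfixn V' h.2.2.1] at e
    exact e
  set J := closure Dg with hJ
  have hJS : J ≤ (S : Subgroup X) := (closure_le _).2 fun d hd => hd.1
  have hgJ : g ∈ J := subset_closure ⟨hg, hsmall⟩
  have hJn : (S : Subgroup X) ≤ normalizer (J : Set X) := fun s hs => by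
    refine mem_normalizer_of_map_conj (eq_of_le_of_card_ge ?_ (card_map_conj _ _).ge)
    rw [hJ, MonoidHom.map_closure, closure_le]
    rintro _ ⟨d, hd, rfl⟩
    exact subset_closure (hDconj d hd s (mul_mem (mul_mem hs hd.1) (inv_mem hs)))
  have hNJ : normalizer (J : Set X) ≤ M := hover _ hJn fun e => hgQ
    (Cfsg.Lib.Core.le_pCore' (normalizer_eq_top_iff.1 e) (S.2.to_le hJS) hgJ)
  have hnorm : ∀ d ∈ Dg, ∀ π : ↥Ub →* ↥Ub ⧸ W₀, ∏ i ∈ Finset.range p, act (d ^ i) π = 1 := by
    intro d hd π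
    refine MonoidHom.ext fun u => ?_
    rw [MonoidHom.finsetProd_apply, MonoidHom.one_apply]
    show ∏ i ∈ Finset.range p, π (cU (d ^ i)⁻¹ u) = 1
    rw [← map_prod]
    have : ∏ i ∈ Finset.range p, cU (d ^ i)⁻¹ u = 1 := by
      simp only [← inv_pow, map_pow]
      refine norm_eq_one_of_iterate hexp (cU d⁻¹) (fun b => ?_) u
      obtain ⟨v, hv, hve⟩ := iterate_mem_map_iterCommutator (U := U) (V := V) d⁻¹ (p - 1) b
      refine Subtype.ext (hve.symm.trans ?_)
      rw [zpowers_inv] at hv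
      exact (QuotientGroup.eq_one_iff v).2 (hd.2 U V hUV (hUQ.trans inf_le_left) hv)
    rw [this, map_one]
  have hJfix : ∀ q : X ⧸ M, (∀ j : ↥J, (j : X) • q = q) → q = ((1 : X) : X ⧸ M) := by
    intro q hq
    obtain ⟨y, rfl⟩ := QuotientGroup.mk_surjective q
    have hle : J.map (MulAut.conj y⁻¹).toMonoidHom ≤ M := by
      rintro _ ⟨j, hj, rfl⟩
      have h1 := QuotientGroup.eq.1 (hq ⟨j, hj⟩ : ((j * y : X) : X ⧸ M) = (y : X ⧸ M))
      have := inv_mem h1
      simpa [mul_assoc] using this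
    obtain ⟨m, hm, hmle⟩ := exists_conj_le_of_relIndex hSM S.2
      (fun hd => S.not_dvd_index (hd.trans (relIndex_dvd_index_of_le hSM))) hle
      ((S.2.to_le hJS).map _)
    rw [map_conj_map_conj] at hmle
    have hJ' : m * y⁻¹ ∈ normalizer (J : Set X) := by
      refine mem_normalizer_of_map_conj (eq_of_le_of_card_ge ?_ (card_map_conj _ _).ge)
      rw [hJ, MonoidHom.map_closure, closure_le]
      rintro _ ⟨d, hd, rfl⟩
      exact subset_closure (hDconj d hd _ (hmle (conj_mem_map_conj (subset_closure hd))))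
    have h2 : y⁻¹ ∈ M := by simpa using mul_mem (inv_mem hm) (hNJ hJ')
    exact QuotientGroup.eq.2 (by simpa using h2)
  letI : MulAction ↥J (X ⧸ M) := MulAction.compHom _ J.subtype
  have hgenJ : closure ((J.subtype) ⁻¹' Dg) = ⊤ := by
    refine Subgroup.map_injective J.subtype_injective ?_
    rw [MonoidHom.map_closure, ← MonoidHom.range_eq_map, range_subtype, hJ]
    congr 1
    ext d
    exact ⟨fun ⟨j, hj, e⟩ => e ▸ hj, fun hd => ⟨⟨d, subset_closure hd⟩, hd, rfl⟩⟩
  have key := prod_eq_of_orbits (S.2.to_le hJS) (act.comp J.subtype) f' (fun j q => by exact hf' (j : X) q)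
    ((J.subtype) ⁻¹' Dg) hgenJ (fun d hd a => by
      simpa using hnorm d hd a)
    ((1 : X) : X ⧸ M) hJfix
    (fun j => QuotientGroup.eq.2 (by simpa using inv_mem (hSM (hJS j.2))))
  rw [hprod] at key
  -- so the functional is invariant
  have hf1 : f ((1 : X) : X ⧸ M) = π₀ := by
    show act 1 π₀ = π₀
    rw [map_one]; rfl
  have hpow : π₀ ^ n = z := by
    refine mul_inv_eq_one.1 ?_
    rw [← hf1]
    exact key.symm
  have hπX : ∀ y : X, act y π₀ = π₀ := by
    have hexp' : π₀ ^ p = 1 := MonoidHom.ext fun u => by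
      rw [MonoidHom.pow_apply, ← map_pow, hexp, map_one]; rfl
    have hcop : (orderOf π₀).Coprime n := by
      refine Nat.Coprime.coprime_dvd_left (orderOf_dvd_of_pow_eq_one hexp') ?_
      exact (Fact.out : p.Prime).coprime_iff_not_dvd.2
        fun hd => S.not_dvd_index (hd.trans (index_dvd_of_le hSM))
    obtain ⟨m, hm⟩ := exists_pow_eq_self_of_coprime hcop.symm
    intro y
    rw [← hm, hpow, map_pow, hzfix]
  -- hence `[U, X] ≤ R`
  have hUX : ⁅U, (⊤ : Subgroup X)⁆ ≤ R := by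
    refine commutator_le.2 fun x hx y _ => ?_
    have h1 : π₀ (cU y⁻¹⁻¹ ⟨mk x, mem_map_of_mem mk hx⟩) = π₀ ⟨mk x, mem_map_of_mem mk hx⟩ :=
      congrArg (fun π : ↥Ub →* ↥Ub ⧸ W₀ => π ⟨mk x, mem_map_of_mem mk hx⟩) (hπX y⁻¹)
    rw [inv_inv] at h1
    have h2 := mem_subgroupOf.1 (QuotientGroup.eq.1 h1.symm)
    obtain ⟨w, hw, hwe⟩ := h2
    have h3 : mk w = mk (x⁻¹ * (y * x * y⁻¹)) := by
      rw [hwe, map_mul mk, map_inv mk, map_conj_mem]
      show (mk x)⁻¹ * ((cU y ⟨mk x, mem_map_of_mem mk hx⟩ : ↥Ub) : X ⧸ V) = _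
      exact congrArg _ (MulAut.conjNormal_apply _ _)
    have h4 : w⁻¹ * (x⁻¹ * (y * x * y⁻¹)) ∈ V := QuotientGroup.eq.1 h3
    have h5 : x⁻¹ * (y * x * y⁻¹) ∈ R := by simpa using mul_mem hw.2 (hVR h4)
    have h6 : ⁅x, y⁆ = x * (x⁻¹ * (y * x * y⁻¹))⁻¹ * x⁻¹ := by simp only [commutatorElement_def]; group
    rw [h6]
    exact (mem_normalizer_iff.1 (sylow_le_normalizer_transferSpan h𝓕 S (hQS (hUQ hx).1)) _).1 (inv_mem h5)
  rcases hUV.2.2.2 (⁅U, (⊤ : Subgroup X)⁆ ⊔ V) inferInstance le_sup_right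
      (sup_le (commutator_le_left U _) hUV.1.le) with h | h
  · exact hUR ((le_sup_commutator_of_central S V U ((hUQ.trans inf_le_left).trans hQS)
      (hUQ.trans inf_le_right) (le_sup_left.trans h.le)).trans (sup_le hS' hVR))
  · exact hUR (h.ge.trans (sup_le hUX hVR))

end Cfsg.Lib.Sig
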